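import Cfsg.Agent.Omega.HOne.SplitP
import Cfsg.Agent.Omega.IId.Pair
import Cfsg.Agent.Omega.SQT.Rank

/-!
# II.d, `C_V(O²(P)) ≠ 1`: `k` natural factors, `V = V_P`, `D = C_V(O²(P))`

`M : NatK F S P V D k`, `N = [V, O²(P)] = vx S P`.

* `vx_surj` : `N` covers `V / D`; `sup_eq` : `V = N D`;
* `comm_of_quot` : an element of `S` (a 2-element of `P`, an element of `O²(P)`) which centralises `V / D`
  centralises `V`;
* split (`N ∩ D = 1`): `cv_le_zc` : `D ≤ Z(S)`, `le_centralizer_cv` : `P` centralises `D`;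
  `natK` : `N` with its coordinates is a `NatK F S P N ⊥ k`.
-/

set_option autoImplicit false
set_option linter.unusedSectionVars false

namespace Cfsg.Agent.Omega.IId.Cv

open Subgroup Cfsg Cfsg.Agent.ZN Cfsg.Agent.ZN.ChoiceSit Cfsg.Agent.ZN.ChoiceBase Cfsg.Agent.Omega.MinPar
open Cfsg.Agent.Omega.FrameFF Cfsg.Agent.Omega.FFThm Cfsg.Agent.Lib.SL2Mat
open Cfsg.Agent.Omega.NatPair (ap ap_add ap_mul ap_one ap_inj ext2 ap_zero' ap_one')
open Cfsg.Agent.MinSimple.VModule (oddGen oddGen_le mem_oddGen zl_comm zl_sq le_normalizer_zl le_normalizer_oddGen)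
open Cfsg.Agent.MinSimple
open Cfsg.Agent.ZN.CaseTwo (syl_of_sylow)
open Cfsg.Agent.Omega.HOne (cv_le conj_mem_zl conj_mem_cv le_normalizer_vx conj_mem_vx vx_le comm_mem_vx three
  exists_ap_three_sub)
open Cfsg.Agent.Omega.HOne.Main (vx SplitPar)
open Cfsg.Agent.Omega.NoFF.LinesPlug (oddGen_sup)
open Cfsg.Agent.Omega.SQT.Rank (pAct)
open scoped commutatorElement

universe u

variable {G : Type u} [Group G]

section one

variable {F : Type} [Field F] {S P : Subgroup G} {k : ℕ} (M : NatK F S P (zl S P) (cv S P) k)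

include M in
theorem e_one : M.e 1 = 0 := (M.ker 1 (one_mem _)).2 (one_mem _)

theorem e_inv {v : G} (hv : v ∈ zl S P) : M.e v⁻¹ = - M.e v := by
  have := M.mul v⁻¹ (inv_mem hv) v hv
  rw [inv_mul_cancel, e_one] at this
  exact eq_neg_of_add_eq_zero_left this.symm

theorem e_div {v w : G} (hv : v ∈ zl S P) (hw : w ∈ zl S P) : M.e (v * w⁻¹) = M.e v - M.e w := by
  rw [M.mul v hv _ (inv_mem hw), e_inv M hw, sub_eq_add_neg]

theorem eq_iff {v w : G} (hv : v ∈ zl S P) (hw : w ∈ zl S P) : M.e v = M.e w ↔ v * w⁻¹ ∈ cv S P := by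
  rw [← M.ker _ (mul_mem hv (inv_mem hw)), e_div M hv hw, sub_eq_zero]

theorem e_cv {d : G} (hd : d ∈ cv S P) : M.e d = 0 := (M.ker d (cv_le _ _ hd)).2 hd

theorem e_mul_cv {v d : G} (hv : v ∈ zl S P) (hd : d ∈ cv S P) : M.e (v * d) = M.e v := by
  rw [M.mul v hv d (cv_le _ _ hd), e_cv M hd, add_zero]

/-- the action on the coordinates is determined by the coordinates -/
theorem e_conj_congr {g v w : G} (hg : g ∈ P) (hv : v ∈ zl S P) (hw : w ∈ zl S P) (h : M.e v = M.e w) :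
    M.e (g * v * g⁻¹) = M.e (g * w * g⁻¹) := by
  rw [eq_iff M (conj_mem_zl hg hv) (conj_mem_zl hg hw)]
  have h1 := conj_mem_cv hg ((eq_iff M hv hw).1 h)
  have e : g * (v * w⁻¹) * g⁻¹ = g * v * g⁻¹ * (g * w * g⁻¹)⁻¹ := by group
  rwa [e] at h1

variable [Finite G] [CharP F 2]

/-- an element of odd order of `P` which centralises `D` and acts on `V / D` without fixed points -/
theorem exists_odd : ∃ g ∈ P, Odd (orderOf g) ∧ ∃ a : ℕ,
    ActsSL M.e (zl S P) (cv S P) g (fun _ => three F ^ 2 ^ a) := by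
  obtain ⟨g₀, hg₀, h0⟩ := M.lift (fun _ => three F)
  obtain ⟨a, m, hm, ha⟩ := Nat.exists_eq_pow_mul_and_not_dvd (orderOf_pos g₀).ne' 2 (by norm_num)
  have hm0 : 0 < m := Nat.pos_of_ne_zero (by rintro rfl; simp at hm)
  refine ⟨g₀ ^ 2 ^ a, pow_mem hg₀ _, ?_, a, ?_⟩
  · have h2 : orderOf (g₀ ^ 2 ^ a) = m := by
      rw [orderOf_pow_of_dvd (by positivity) (ha ▸ Dvd.intro _ rfl), ha, Nat.mul_div_cancel_left _ (by positivity)]
    rw [h2]
    exact Nat.not_even_iff_odd.1 fun h => hm h.two_dvd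
  · have key : ∀ n : ℕ, ActsSL M.e (zl S P) (cv S P) (g₀ ^ n) (fun _ => three F ^ n) := by
      intro n
      induction n with
      | zero =>
        have h1 := (pAct M).one 1 (one_mem _) (one_mem _)
        simp only [pow_zero]
        exact h1
      | succ n ih =>
        have h1 := (pAct M).mul (g₀ ^ n) (pow_mem hg₀ n) g₀ hg₀ _ _ ih h0
        rw [pow_succ]
        exact h1
    exact key _

/-- `[V, O²(P)]` covers `V / D` -/
theorem vx_surj (x : Fin k → Fin 2 → F) : ∃ n ∈ vx S P, M.e n = x := by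
  obtain ⟨g, hg, ho, a, hI⟩ := exists_odd M
  choose y hy using fun i => exists_ap_three_sub a (x i)
  obtain ⟨v, hv, hvy⟩ := M.surj y
  refine ⟨g * v * g⁻¹ * v⁻¹, comm_mem_vx hv (mem_oddGen hg ho), ?_⟩
  rw [e_div M (conj_mem_zl hg hv) hv]
  funext i
  rw [Pi.sub_apply, hI.1 v hv i, hvy]
  exact hy i

include M in
/-- `V = N D` -/
theorem exists_mul {v : G} (hv : v ∈ zl S P) : ∃ n ∈ vx S P, ∃ d ∈ cv S P, v = n * d := by
  obtain ⟨n, hn, he⟩ := vx_surj M (M.e v)
  refine ⟨n, hn, n⁻¹ * v, ?_, by group⟩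
  have hnV := vx_le S P hn
  rw [← M.ker _ (mul_mem (inv_mem hnV) hv), M.mul _ (inv_mem hnV) _ hv, e_inv M hnV, he, neg_add_cancel]

include M in
theorem sup_eq : vx S P ⊔ cv S P = zl S P := by
  apply le_antisymm (sup_le (vx_le S P) (cv_le S P))
  intro v hv
  obtain ⟨n, hn, d, hd, rfl⟩ := exists_mul M hv
  exact mul_mem (le_sup_left (a := vx S P) hn) (le_sup_right (a := vx S P) hd)

end one

/-! ### The kernel on `V / D` -/

section kernel

variable {F : Type} [Field F] {S P : Subgroup G} {k : ℕ} (M : NatK F S P (zl S P) (cv S P) k)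

/-- the elements of `P` which centralise `V / D` -/
def kern : Subgroup G where
  carrier := {g | g ∈ P ∧ ∀ v ∈ zl S P, M.e (g * v * g⁻¹) = M.e v}
  one_mem' := ⟨one_mem _, fun v _ => by
    have e : (1 : G) * v * 1⁻¹ = v := by group
    rw [e]⟩
  mul_mem' := by
    rintro a b ⟨ha, ha'⟩ ⟨hb, hb'⟩
    refine ⟨mul_mem ha hb, fun v hv => ?_⟩
    have e : a * b * v * (a * b)⁻¹ = a * (b * v * b⁻¹) * a⁻¹ := by group
    rw [e, ha' _ (conj_mem_zl hb hv), hb' v hv]
  inv_mem' := by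
    rintro a ⟨ha, ha'⟩
    refine ⟨inv_mem ha, fun v hv => ?_⟩
    have h1 := ha' _ (conj_mem_zl (inv_mem ha) hv)
    have e : a * (a⁻¹ * v * a⁻¹⁻¹) * a⁻¹ = v := by group
    rw [e] at h1
    exact h1.symm

theorem mem_kern {g : G} : g ∈ kern M ↔ g ∈ P ∧ ∀ v ∈ zl S P, M.e (g * v * g⁻¹) = M.e v := Iff.rfl

theorem kern_le : kern M ≤ P := fun _ h => h.1

theorem mem_kern_iff {g : G} (hg : g ∈ P) : g ∈ kern M ↔ ∀ v ∈ zl S P, g * v * g⁻¹ * v⁻¹ ∈ cv S P := by
  rw [mem_kern]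
  constructor
  · rintro ⟨-, h⟩ v hv
    exact (eq_iff M (conj_mem_zl hg hv) hv).1 (h v hv)
  · intro h
    exact ⟨hg, fun v hv => (eq_iff M (conj_mem_zl hg hv) hv).2 (h v hv)⟩

theorem kern_conj {g x : G} (hg : g ∈ P) (hx : x ∈ kern M) : g * x * g⁻¹ ∈ kern M := by
  refine ⟨mul_mem (mul_mem hg hx.1) (inv_mem hg), fun v hv => ?_⟩
  have hw : g⁻¹ * v * g ∈ zl S P := by
    have := conj_mem_zl (inv_mem hg) hv
    rwa [inv_inv] at this
  have h1 := e_conj_congr M hg (conj_mem_zl hx.1 hw) hw (hx.2 _ hw)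
  have e1 : g * (x * (g⁻¹ * v * g) * x⁻¹) * g⁻¹ = g * x * g⁻¹ * v * (g * x * g⁻¹)⁻¹ := by group
  have e2 : g * (g⁻¹ * v * g) * g⁻¹ = v := by group
  rw [e1, e2] at h1
  exact h1

theorem kern_norm : P ≤ normalizer (kern M : Set G) := by
  intro g hg
  rw [mem_normalizer_iff]
  intro x
  refine ⟨kern_conj M hg, fun h => ?_⟩
  have h1 := kern_conj M (inv_mem hg) h
  have e : g⁻¹ * (g * x * g⁻¹) * g⁻¹⁻¹ = x := by group
  rwa [e] at h1

end kernel

section kernelS

variable [Finite G] (hG : IsCharacteristicTwoType G) (S : Sylow 2 G) {P : Subgroup G}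
  (h : IsParS (S : Subgroup G) P) {F : Type} [Field F] [CharP F 2] {k : ℕ}
  (M : NatK F (S : Subgroup G) P (zl (S : Subgroup G) P) (cv (S : Subgroup G) P) k)

include h in
theorem kern_sup_ne (hk : 0 < k) : kern M ⊔ (S : Subgroup G) ≠ P := by
  intro h1
  obtain ⟨g, hg, ho, a, hI⟩ := exists_odd M
  -- a power of `g` of exponent a power of two lies in the kernel
  have hSn : (S : Subgroup G) ≤ normalizer (kern M : Set G) := h.le.trans (kern_norm M)
  have h4 : g ∈ ((kern M ⊔ (S : Subgroup G) : Subgroup G) : Set G) := by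
    rw [h1]; exact hg
  rw [coe_mul_of_right_le_normalizer_left _ _ hSn] at h4
  obtain ⟨c, hc, s, hs, hcs⟩ := h4
  have key : ∀ n : ℕ, ∃ c' ∈ kern M, g ^ n = c' * s ^ n := by
    intro n
    induction n with
    | zero => exact ⟨1, one_mem _, by simp⟩
    | succ n ih =>
      obtain ⟨c', hc', h5⟩ := ih
      refine ⟨c' * (s ^ n * c * (s ^ n)⁻¹), mul_mem hc' (kern_conj M (pow_mem (h.le hs) n) hc), ?_⟩
      rw [pow_succ, h5, ← hcs]
      group
  obtain ⟨r, hr⟩ := S.isPGroup' ⟨s, hs⟩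
  have hs' : s ^ 2 ^ r = 1 := congrArg Subtype.val hr
  obtain ⟨c', hc', h5⟩ := key (2 ^ r)
  rw [hs', mul_one] at h5
  have h6 : g ^ 2 ^ r ∈ kern M := by rw [h5]; exact hc'
  -- so `g` itself, which has odd order
  obtain ⟨n, hn⟩ : ∃ n : ℕ, (g ^ 2 ^ r) ^ n = g := by
    have hco : Nat.Coprime (orderOf g) (2 ^ r) := Nat.Coprime.pow_right r (Nat.Coprime.symm (Nat.coprime_two_left.2 ho))
    exact exists_pow_eq_self_of_coprime hco.symm
  have h7 : g ∈ kern M := by rw [← hn]; exact pow_mem h6 n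
  obtain ⟨y, hy⟩ := exists_ap_three_sub (F := F) a ![1, 0]
  obtain ⟨v, hv, hvy⟩ := M.surj (fun _ => y)
  have h8 := congrFun (h7.2 v hv) ⟨0, hk⟩
  rw [hI.1 v hv, hvy] at h8
  rw [h8, sub_self] at hy
  have := congrFun hy 0
  simp at this

include hG h in
/-- an element of `S` which centralises `V / D` centralises `V` -/
theorem comm_of_quot (hk : 0 < k) {a : G} (ha : a ∈ (S : Subgroup G)) (hc : a ∈ kern M) :
    ∀ v ∈ zl (S : Subgroup G) P, a * v = v * a := by
  have hP := h.toIsPar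
  have h1 : (S : Subgroup G) ⊓ kern M ≤ o2 P := by
    rcases hP.sup_eq_or_inf_le S (kern_le M) (kern_norm M) with h2 | h2
    · exact absurd h2 (kern_sup_ne S h M hk)
    · exact h2
  have h2 : a ∈ o2 P := h1 ⟨ha, hc⟩
  rw [← IsParS.inf_centralizer S hG h] at h2
  intro v hv
  exact (mem_centralizer_iff.1 h2.2 v hv).symm

include hG h in
/-- a 2-element of `P` which centralises `V / D` centralises `V` -/
theorem comm_of_quot_two (hk : 0 < k) {u : G} (hu : u ∈ kern M) (hu2 : ∃ a : ℕ, u ^ 2 ^ a = 1) :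
    ∀ v ∈ zl (S : Subgroup G) P, u * v = v * u := by
  obtain ⟨a, ha⟩ := hu2
  have hz : IsPGroup 2 (zpowers u) := by
    rintro ⟨x, n, rfl⟩
    refine ⟨a, Subtype.ext ?_⟩
    change (u ^ n) ^ 2 ^ a = 1
    rw [← zpow_natCast, ← zpow_mul, mul_comm, zpow_mul, zpow_natCast, ha, one_zpow]
  obtain ⟨p, hp, h1⟩ := FFThm.exists_conj_le S h.le hz (zpowers_le.2 (kern_le M hu))
  have h2 : p * u * p⁻¹ ∈ (S : Subgroup G) := h1 ⟨u, mem_zpowers u, rfl⟩
  have h4 := comm_of_quot hG S h M hk h2 (kern_conj M hp hu)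
  intro v hv
  have h5 := h4 _ (conj_mem_zl hp hv)
  have e : u * v = p⁻¹ * (p * u * p⁻¹ * (p * v * p⁻¹)) * p := by group
  rw [e, h5]
  group

include hG h in
theorem sq_zl {v : G} (hv : v ∈ zl (S : Subgroup G) P) : v * v = 1 := by
  have := VModule.zc_sq _ _ (h.isLoc.zl_le S hG hv)
  rwa [pow_two] at this

include hG h in
/-- an element of `P` which centralises `V / D` and `D` centralises `V` -/
theorem comm_of_kern (hk : 0 < k) {g : G} (hg : g ∈ kern M) (hD : ∀ d ∈ cv (S : Subgroup G) P, g * d = d * g) :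
    ∀ v ∈ zl (S : Subgroup G) P, g * v = v * g := by
  have h1 := (mem_kern_iff M (kern_le M hg)).1 hg
  set C : Subgroup G := centralizer (zl (S : Subgroup G) P : Set G) with hC
  -- the square
  have hsq : g ^ 2 ∈ C := by
    rw [hC, mem_centralizer_iff]
    intro v hv
    have h2 := h1 v hv
    have h3 : g * (g * v * g⁻¹ * v⁻¹) = (g * v * g⁻¹ * v⁻¹) * g := hD _ h2
    have h4 : g ^ 2 * v * (g ^ 2)⁻¹ = v := by
      calc g ^ 2 * v * (g ^ 2)⁻¹ = g * (g * v * g⁻¹ * v⁻¹) * v * g⁻¹ := by rw [pow_two]; group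
        _ = (g * v * g⁻¹ * v⁻¹) * (g * v * g⁻¹ * v⁻¹) * v := by rw [h3]; group
        _ = v := by rw [sq_zl hG S h (cv_le _ _ h2), one_mul]
    rw [mul_inv_eq_iff_eq_mul] at h4
    exact h4.symm
  -- the power of 2-power order
  obtain ⟨a, m, hm, ha⟩ := Nat.exists_eq_pow_mul_and_not_dvd (orderOf_pos g).ne' 2 (by norm_num)
  have hgm : g ^ m ∈ C := by
    rw [hC, mem_centralizer_iff]
    intro v hv
    refine (comm_of_quot_two hG S h M hk (pow_mem hg m) ⟨a, ?_⟩ v hv).symm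
    rw [← pow_mul, mul_comm, ← ha, pow_orderOf_eq_one]
  have hodd : Odd m := Nat.not_even_iff_odd.1 fun h => hm h.two_dvd
  obtain ⟨j, hj⟩ := hodd
  have h2 : g = g ^ m * ((g ^ 2) ^ j)⁻¹ := by
    rw [hj, pow_succ', ← pow_mul, mul_inv_cancel_right]
  have h3 : g ∈ C := by
    rw [h2]
    exact mul_mem hgm (inv_mem (pow_mem hsq j))
  intro v hv
  exact (mem_centralizer_iff.1 h3 v hv).symm

end kernelS

/-! ### Split -/

section splitS

variable [Finite G] (hG : IsCharacteristicTwoType G) (S : Sylow 2 G) {P : Subgroup G}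
  (h : IsParS (S : Subgroup G) P) {F : Type} [Field F] [CharP F 2] {k : ℕ}
  (M : NatK F (S : Subgroup G) P (zl (S : Subgroup G) P) (cv (S : Subgroup G) P) k)
  (hs : SplitPar (S : Subgroup G) P)

include hG h M hs in
/-- `D ≤ Z(S)` -/
theorem cv_le_zc : cv (S : Subgroup G) P ≤ zc (S : Subgroup G) := by
  have hSP := h.le
  have hZle : zc (S : Subgroup G) ≤ zl (S : Subgroup G) P := VModule.zc_le_zl _ _
  have hzlS : zl (S : Subgroup G) P ≤ (S : Subgroup G) :=
    ((h.isLoc.zl_le S hG).trans (VModule.zc_le _)).trans (h.isLoc.o2_le S)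
  set D₁ : Subgroup G := cv (S : Subgroup G) P ⊓ zc (S : Subgroup G) with hD₁
  -- `P` centralises `D₁`
  have hPD : ∀ p ∈ P, ∀ d ∈ D₁, p * d = d * p := by
    intro p hp d hd
    have h1 : P ≤ centralizer ({d} : Set G) := by
      conv_lhs => rw [← oddGen_sup hSP (MinSimple.Basic.not_dvd_relIndex S hSP)]
      refine sup_le (fun y hy => ?_) (fun y hy => ?_)
      · rw [mem_centralizer_singleton_iff]
        exact mem_centralizer_iff.1 hd.1.2 y hy
      · rw [mem_centralizer_singleton_iff]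
        exact (VModule.mem_zc.1 hd.2).2.1 y hy
    exact mem_centralizer_singleton_iff.1 (h1 hp)
  have hK : zl (S : Subgroup G) P ≤ vx (S : Subgroup G) P ⊔ D₁ := by
    apply VModule.zl_le
    · intro z hz
      obtain ⟨n, hn, d, hd, rfl⟩ := exists_mul M (hZle hz)
      have hz' := (VModule.mem_zc.1 hz).2.1
      have hdz : d ∈ zc (S : Subgroup G) := by
        rw [VModule.mem_zc]
        refine ⟨hzlS (cv_le _ _ hd), fun s hs' => ?_, VModule.zc_sq _ _ (h.isLoc.zl_le S hG (cv_le _ _ hd))⟩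
        have h1 : n⁻¹ * (s * n * s⁻¹) = d * (s * d * s⁻¹)⁻¹ := by
          have h2 : s * (n * d) * s⁻¹ = n * d := by rw [hz' s hs', mul_inv_cancel_right]
          have h3 : s * n * s⁻¹ * (s * d * s⁻¹) = n * d := by rw [← h2]; group
          rw [inv_mul_eq_iff_eq_mul, ← mul_assoc, ← h3]
          group
        have h2 : d * (s * d * s⁻¹)⁻¹ ∈ vx (S : Subgroup G) P ⊓ cv (S : Subgroup G) P := by
          refine mem_inf.2 ⟨?_, mul_mem hd (inv_mem (conj_mem_cv (hSP hs') hd))⟩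
          rw [← h1]
          exact mul_mem (inv_mem hn) (conj_mem_vx (hSP hs') hn)
        rw [hs, mem_bot, mul_inv_eq_one] at h2
        nth_rewrite 2 [h2]
        group
      exact mul_mem (le_sup_left (a := vx (S : Subgroup G) P) hn)
        (le_sup_right (a := vx (S : Subgroup G) P) ⟨hd, hdz⟩)
    · refine le_trans (le_inf (le_normalizer_vx _ _) ?_) (normalizer_inf_normalizer_le_normalizer_sup _ _)
      intro p hp
      rw [mem_normalizer_iff]
      intro d
      constructor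
      · intro hd
        rw [hPD p hp d hd, mul_inv_cancel_right]; exact hd
      · intro hd
        have := hPD p⁻¹ (inv_mem hp) _ hd
        have e : p⁻¹ * (p * d * p⁻¹) * p = d := by group
        rw [← e, this]
        simpa using hd
  intro d hd
  have hd' := hK (cv_le _ _ hd)
  have hcomm : vx (S : Subgroup G) P ≤ normalizer (D₁ : Set G) := by
    intro n hn
    rw [mem_normalizer_iff]
    have hnP : n ∈ P := hSP (hzlS (vx_le _ _ hn))
    intro x
    constructor
    · intro hx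
      rw [hPD n hnP x hx, mul_inv_cancel_right]; exact hx
    · intro hx
      have := hPD n⁻¹ (inv_mem hnP) _ hx
      have e : n⁻¹ * (n * x * n⁻¹) * n = x := by group
      rw [← e, this]
      simpa using hx
  rw [← SetLike.mem_coe, coe_mul_of_left_le_normalizer_right _ _ hcomm, Set.mem_mul] at hd'
  obtain ⟨n, hn, d₁, hd₁, rfl⟩ := hd'
  have h1 : n ∈ vx (S : Subgroup G) P ⊓ cv (S : Subgroup G) P := by
    refine mem_inf.2 ⟨hn, ?_⟩
    have := mul_mem hd (inv_mem hd₁.1)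
    rwa [mul_inv_cancel_right] at this
  rw [hs, mem_bot] at h1
  rw [h1, one_mul]
  exact hd₁.2

include hG h M hs in
/-- `P` centralises `D` -/
theorem le_centralizer_cv : P ≤ centralizer (cv (S : Subgroup G) P : Set G) := by
  conv_lhs => rw [← oddGen_sup h.le (MinSimple.Basic.not_dvd_relIndex S h.le)]
  refine sup_le (fun y hy => ?_) (fun y hy => ?_)
  · rw [mem_centralizer_iff]
    exact fun d hd => (mem_centralizer_iff.1 hd.2 y hy).symm
  · rw [mem_centralizer_iff]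
    exact fun d hd => ((VModule.mem_zc.1 (cv_le_zc hG S h M hs hd)).2.1 y hy).symm

end splitS

/-! ### `N` as a sum of natural modules -/

section card

theorem card_of_mul {X D W : Subgroup G} (h1 : ∀ w ∈ W, ∃ x ∈ X, ∃ d ∈ D, w = x * d) (h2 : X ≤ W) (h3 : D ≤ W)
    (h4 : X ⊓ D = ⊥) : Nat.card W = Nat.card X * Nat.card D := by
  rw [← Nat.card_prod]
  symm
  refine Nat.card_congr (Equiv.ofBijective (fun p : X × D => (⟨p.1 * p.2, mul_mem (h2 p.1.2) (h3 p.2.2)⟩ : W))
    ⟨?_, ?_⟩)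
  · rintro ⟨x, d⟩ ⟨x', d'⟩ he
    have he' : (x : G) * d = x' * d' := congrArg Subtype.val he
    have h5 : (x' : G)⁻¹ * x = d' * (d : G)⁻¹ := by
      rw [inv_mul_eq_iff_eq_mul, ← mul_assoc, ← he']
      group
    have h6 : (x' : G)⁻¹ * x ∈ X ⊓ D :=
      mem_inf.2 ⟨mul_mem (inv_mem x'.2) x.2, by rw [h5]; exact mul_mem d'.2 (inv_mem d.2)⟩
    rw [h4, mem_bot] at h6
    have h7 : (x : G) = x' := by
      have := congrArg (fun y => (x' : G) * y) h6
      simpa using this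
    have h8 : (d : G) = d' := by
      rw [h7] at he'
      exact mul_left_cancel he'
    rw [Subtype.ext h7, Subtype.ext h8]
  · rintro ⟨w, hw⟩
    obtain ⟨x, hx, d, hd, rfl⟩ := h1 w hw
    exact ⟨⟨⟨x, hx⟩, ⟨d, hd⟩⟩, rfl⟩

end card

section nat

variable {F : Type} [Field F] {S P : Subgroup G} {k : ℕ} (M : NatK F S P (zl S P) (cv S P) k)

theorem acts_res {g : G} {A : Fin k → Matrix.SpecialLinearGroup (Fin 2) F}
    (hA : ActsSL M.e (zl S P) (cv S P) g A) : ActsSL M.e (vx S P) ⊥ g A :=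
  ⟨fun v hv i => hA.1 v (vx_le S P hv) i, fun d hd => by rw [mem_bot] at hd; rw [hd, mul_one, one_mul]⟩

/-- an element which acts linearly on `N` acts so on `V / D` -/
theorem acts_of_vx [Finite G] [CharP F 2] {g : G} (hg : g ∈ P) {A : Fin k → Matrix.SpecialLinearGroup (Fin 2) F}
    (hA : ∀ v ∈ vx S P, ∀ i, M.e (g * v * g⁻¹) i = ap (A i) (M.e v i)) :
    ∀ v ∈ zl S P, ∀ i, M.e (g * v * g⁻¹) i = ap (A i) (M.e v i) := by
  intro v hv i
  obtain ⟨n, hn, d, hd, rfl⟩ := exists_mul M hv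
  have hnV := vx_le S P hn
  have e : g * (n * d) * g⁻¹ = g * n * g⁻¹ * (g * d * g⁻¹) := by group
  rw [e, e_mul_cv M (conj_mem_zl hg hnV) (conj_mem_cv hg hd), e_mul_cv M hnV hd, hA n hn i]

include M in
/-- an offender on `N` which centralises `D` is an offender on `V` -/
theorem off_of_vx [Finite G] [CharP F 2] (hs : SplitPar S P) {A : Subgroup G}
    (hD : ∀ a ∈ A, ∀ d ∈ cv S P, a * d = d * a) (h : Off (vx S P) A) : Off (zl S P) A := by
  refine ⟨h.elem, fun h1 => h.ne (h1.trans (centralizer_le (vx_le S P))), ?_⟩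
  have e1 : A ⊓ centralizer (zl S P : Set G) = A ⊓ centralizer (vx S P : Set G) := by
    apply le_antisymm (inf_le_inf_left _ (centralizer_le (vx_le S P)))
    rintro a ⟨ha, hc⟩
    refine mem_inf.2 ⟨ha, mem_centralizer_iff.2 fun v hv => ?_⟩
    have hc' := mem_centralizer_iff.1 hc
    obtain ⟨n, hn, d, hd, rfl⟩ := exists_mul M hv
    rw [mul_assoc, ← hD a ha d hd, ← mul_assoc, hc' n hn, mul_assoc]
  have e2 : Nat.card (zl S P) = Nat.card (vx S P) * Nat.card (cv S P) :=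
    card_of_mul (fun v hv => exists_mul M hv) (vx_le S P) (cv_le S P) hs
  have e3 : Nat.card ↥(zl S P ⊓ centralizer (A : Set G)) =
      Nat.card ↥(vx S P ⊓ centralizer (A : Set G)) * Nat.card (cv S P) := by
    refine card_of_mul ?_ (inf_le_inf_right _ (vx_le S P)) (le_inf (cv_le S P) ?_) ?_
    · rintro v ⟨hv, hc⟩
      obtain ⟨n, hn, d, hd, rfl⟩ := exists_mul M hv
      refine ⟨n, mem_inf.2 ⟨hn, mem_centralizer_iff.2 fun a ha => ?_⟩, d, hd, rfl⟩
      have h2 := mem_centralizer_iff.1 hc a ha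
      rw [← mul_assoc] at h2
      have h3 : a * n * d = n * a * d := by rw [h2, mul_assoc, ← hD a ha d hd, ← mul_assoc]
      exact mul_right_cancel h3
    · intro d hd
      rw [mem_centralizer_iff]
      exact fun a ha => hD a ha d hd
    · rw [eq_bot_iff, ← hs]
      exact inf_le_inf_right _ inf_le_left
  rw [e1, e2, e3]
  have h4 := h.le
  calc Nat.card (vx S P) * Nat.card (cv S P) * Nat.card ↥(A ⊓ centralizer (vx S P : Set G))
      = Nat.card (vx S P) * Nat.card ↥(A ⊓ centralizer (vx S P : Set G)) * Nat.card (cv S P) := by ring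
    _ ≤ Nat.card A * Nat.card ↥(vx S P ⊓ centralizer (A : Set G)) * Nat.card (cv S P) :=
        Nat.mul_le_mul_right _ h4
    _ = _ := by ring

/-- **Split: `N` is the sum of `k` natural modules** -/
noncomputable def natK [Finite G] [CharP F 2] (hs : SplitPar S P) (hD : ∀ s ∈ S, ∀ d ∈ cv S P, s * d = d * s) :
    NatK F S P (vx S P) ⊥ k where
  e := M.e
  mul v hv w hw := M.mul v (vx_le S P hv) w (vx_le S P hw)
  surj x := vx_surj M x
  ker v hv := by
    rw [M.ker v (vx_le S P hv), mem_bot]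
    constructor
    · intro h
      have : v ∈ vx S P ⊓ cv S P := ⟨hv, h⟩
      rwa [hs, mem_bot] at this
    · rintro rfl
      exact one_mem _
  lift A := by
    obtain ⟨g, hg, hA⟩ := M.lift A
    exact ⟨g, hg, acts_res M hA⟩
  norm g hg h hh A hA := by
    obtain ⟨B, hB⟩ := M.norm g hg h hh A (acts_of_vx M hh hA)
    exact ⟨B, fun v hv i => hB v (vx_le S P hv) i⟩
  perm g hg := by
    obtain ⟨σ, hσ⟩ := M.perm g hg
    exact ⟨σ, fun v hv i => hσ v (vx_le S P hv) i⟩
  trans i j := by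
    obtain ⟨t, ht, h1⟩ := M.trans i j
    exact ⟨t, ht, fun v hv => h1 v (vx_le S P hv)⟩
  line t ht := by
    obtain ⟨σ, hσ⟩ := M.line t ht
    exact ⟨σ, fun v hv i => hσ v (vx_le S P hv) i⟩
  unip b := by
    obtain ⟨t, ht, h1⟩ := M.unip b
    exact ⟨t, ht, acts_res M h1⟩
  gen K hTK hK := M.gen K hTK fun h hh A hA => hK h hh A (acts_res M hA)
  off A hA ho := by
    obtain ⟨I, h1, h2⟩ := M.off A hA (off_of_vx M hs (fun a ha d hd => hD a (hA ha) d hd) ho)
    refine ⟨I, fun a ha => ?_, fun b hb => ?_⟩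
    · obtain ⟨b, hb, h3⟩ := h1 a ha
      exact ⟨b, hb, acts_res M h3⟩
    · obtain ⟨a, ha, h3⟩ := h2 b hb
      exact ⟨a, ha, acts_res M h3⟩

end nat

end Cfsg.Agent.Omega.IId.Cv
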