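import Cfsg.Agent.Omega.IId.Cv.SymPlug
import Cfsg.Agent.Omega.F4Leaf.NoWrFree

/-!
# II.d: `TTPair K` (`Cv/SymPlug.lean`) from the exit `PosExit` and (H2) (helper856)
-/

set_option autoImplicit false

namespace Cfsg.Agent.Omega.IId.Cv

open Cfsg Cfsg.Agent.Omega.MinPar Cfsg.Agent.Omega.Frame Cfsg.Agent.Omega.FrameMulti

universe u

/-- **`TTPair`**: LeafF4 for two members of type `S_{2^m+1}`, without `NoWr`. -/
theorem ttPair_of {K : Cls.{u}} (hX : F4Leaf.Cen.Main.PosExit.{u}) (h2 : F4Leaf.NoWrFree.MemH2 K) : TTPair K :=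
  fun G _ _ hG hcl S hF hI hT P₁ P₂ x hm hnf m m' h h' hS hS' =>
    F4Leaf.NoWrFree.tt_known hX h2 G hG hcl S hF hI hT P₁ P₂ x hm hnf m m' h h' hS hS'

end Cfsg.Agent.Omega.IId.Cv
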