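import Cfsg.Agent.Omega.MixOne.QTwoSide
import Cfsg.Agent.Omega.IId.M4.Mixed

/-!
# Mixed pairs over a 2-group `T`, `q = 2`: an element `z ≠ 1` of `C(X₁) ∩ C(X₂) ∩ C_G(W₁ W₂)` with
`r ∈ Z(O₂(C_G(z)))` is impossible (helper994 #17943 (2), after `MixOne.TwoQ.inf_D` of helper176)
-/

set_option autoImplicit false
set_option linter.unusedSectionVars false

namespace Cfsg.Agent.Omega.IId.M4

open Subgroup Cfsg.Agent.Lib.SL2Mat Cfsg.Agent.Omega.BTwo Cfsg.Agent.Omega.Mix Cfsg.Agent.Omega.MixOne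
open Cfsg.Agent.Omega.NatPair (ap ap_mul ap_one exists_ap)

variable {G : Type*} [Group G]

theorem mul_cmt {a b g : G} (h1 : g * a = a * g) (h2 : g * b = b * g) : g * (a * b) = a * b * g := by
  rw [← mul_assoc, h1, mul_assoc, h2, mul_assoc]

theorem inv_cmt {a g : G} (h : a * g = g * a) : a⁻¹ * g = g * a⁻¹ := by
  rw [inv_mul_eq_iff_eq_mul, ← mul_assoc, h, mul_inv_cancel_right]

/-- `⟨r^L⟩` -/
def ur (L : Subgroup G) (r : G) : Subgroup G := closure {g | ∃ l ∈ L, g = l * r * l⁻¹}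

theorem mem_ur {L : Subgroup G} {r l : G} (hl : l ∈ L) : l * r * l⁻¹ ∈ ur L r := subset_closure ⟨l, hl, rfl⟩

theorem r_mem_ur (L : Subgroup G) (r : G) : r ∈ ur L r := by
  have := mem_ur (r := r) (one_mem L)
  rwa [one_mul, inv_one, mul_one] at this

theorem ur_conj {L : Subgroup G} {r g : G} (hg : g ∈ L) : ∀ u ∈ ur L r, g * u * g⁻¹ ∈ ur L r := by
  intro u hu
  have h1 : ur L r ≤ (ur L r).comap (MulAut.conj g).toMonoidHom := by
    rw [ur, closure_le]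
    rintro _ ⟨l, hl, rfl⟩
    have h2 : g * (l * r * l⁻¹) * g⁻¹ = (g * l) * r * (g * l)⁻¹ := by group
    change g * (l * r * l⁻¹) * g⁻¹ ∈ ur L r
    rw [h2]
    exact mem_ur (mul_mem hg hl)
  exact h1 hu

/-- `⟨r^L⟩ ≤ Z(O₂(L))` if `r ∈ Z(O₂(L))` -/
theorem ur_center [Finite G] {L : Subgroup G} {r : G} (hr1 : r ∈ O2 L ∧ ∀ q ∈ O2 L, r * q = q * r) :
    ∀ u ∈ ur L r, u ∈ O2 L ∧ ∀ q ∈ O2 L, u * q = q * u := by
  let Zc : Subgroup G :=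
    { carrier := {u | u ∈ O2 L ∧ ∀ q ∈ O2 L, u * q = q * u}
      one_mem' := ⟨one_mem _, fun q _ => by rw [one_mul, mul_one]⟩
      mul_mem' := by
        rintro a b ⟨a1, a2⟩ ⟨b1, b2⟩
        exact ⟨mul_mem a1 b1, fun q hq => (mul_cmt (a2 q hq).symm (b2 q hq).symm).symm⟩
      inv_mem' := by
        rintro a ⟨a1, a2⟩
        exact ⟨inv_mem a1, fun q hq => inv_cmt (a2 q hq)⟩ }
  have h2 : ur L r ≤ Zc := by
    rw [ur, closure_le]
    rintro _ ⟨l, hl, rfl⟩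
    have hlN := le_normalizer_O2 L hl
    refine ⟨conj_mem_of_normalizer hlN hr1.1, fun q hq => ?_⟩
    have h3 := hr1.2 _ (conj_inv_mem_of_normalizer hlN hq)
    calc l * r * l⁻¹ * q = l * (r * (l⁻¹ * q * l)) * l⁻¹ := by group
      _ = l * (l⁻¹ * q * l * r) * l⁻¹ := by rw [h3]
      _ = q * (l * r * l⁻¹) := by group
  exact fun u hu => h2 hu

namespace TwoT

variable {ι κ : Type*} {V₁ V₂ : Subgroup G} {R₁ B₁ C₁ : ι → Subgroup G} {R₂ B₂ C₂ : κ → Subgroup G} {i : ι} {j : κ}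
  {T : Subgroup G} [Finite G] (t : TwoT V₁ V₂ R₁ B₁ C₁ R₂ B₂ C₂ i j T)
include t

/-- `Y = R D₁` at all points -/
theorem hRD : ∀ k, ∀ y ∈ YY (B₁ k) (C₁ k), ∃ ρ ∈ R₁ k, ∃ d ∈ ⨅ m, YY (B₁ m) (C₁ m), y = ρ * d := by
  intro k y hy
  obtain ⟨m, -, -, x, hx, e⟩ := t.s₁.trans_B i k
  have hy' : x⁻¹ * y * x ∈ YY (B₁ i) (C₁ i) := by
    rw [← t.s₁.cY e] at hy
    exact mem_cj.1 hy
  obtain ⟨ρ, hρ, d, hd, h⟩ := t.exists_RD hy'
  refine ⟨x * ρ * x⁻¹, by rw [← e]; exact conj_mem_cj hρ, x * d * x⁻¹,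
    conj_mem_of_normalizer (t.s₁.nD (t.s₁.B_le_ST m hx)) hd, ?_⟩
  calc y = x * (x⁻¹ * y * x) * x⁻¹ := by group
    _ = x * (ρ * d) * x⁻¹ := by rw [h]
    _ = x * ρ * x⁻¹ * (x * d * x⁻¹) := by group

/-- **`q = 2`**: no `z ∈ D₁ ∩ D₂` with `r ∈ Z(O₂(C_G(z)))`. -/
theorem false_of_z {r : G} (r1 : r ≠ 1) (mem_R : ∀ g, g ∈ R₁ i ↔ g = 1 ∨ g = r) (c₁ : Nat.card V₁ = 4)
    (c₂ : Nat.card V₂ = 4) {z : G} (hzD : z ∈ ⨅ m, YY (B₁ m) (C₁ m)) (hzD' : z ∈ ⨅ m, YY (B₂ m) (C₂ m))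
    (hr : r ∈ O2 (centralizer ({z} : Set G)) ∧ ∀ q ∈ O2 (centralizer ({z} : Set G)), r * q = q * r) : False := by
  have mem_R' : ∀ g, g ∈ R₂ j ↔ g = 1 ∨ g = r := by rw [← t.hR]; exact mem_R
  have hle : (⨅ m, YY (B₁ m) (C₁ m)) ≤ YY (B₁ i) (C₁ i) := iInf_le _ i
  have hzY := hle hzD
  set L := centralizer ({z} : Set G) with hL
  have hmem : ∀ {g : G}, g ∈ L ↔ g * z = z * g := mem_centralizer_singleton_iff
  have hU := ur_center hr
  have hC : ∀ y ∈ YY (B₁ i) (C₁ i), (∀ c ∈ C₁ i, y * c = c * y) ∧ ∀ b ∈ B₁ i, y * b = b * y := fun y hy =>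
    ⟨(mem_YY.1 hy).2, (mem_YY.1 hy).1⟩
  have h1 : C₁ i ≤ ur L r ⊔ YY (B₁ i) (C₁ i) := by
    refine t.s₁.C_le t.hRD c₁ r1 mem_R (fun g hg => ur_conj hg) (fun k b hb => ?_) (fun g hg => ?_)
      (r_mem_ur L r) t.gen₁
    · exact hmem.2 (SideW.D_comm hzD k b hb).symm
    · exact hmem.2 (mem_centralizer_iff.1 hg z hzY).symm
  have h2 : C₂ j ≤ ur L r ⊔ YY (B₁ i) (C₁ i) := by
    rw [t.YY_eq_YY]
    refine t.symm.s₁.C_le t.symm.hRD c₂ r1 mem_R' (fun g hg => ur_conj hg) (fun k b hb => ?_)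
      (fun g hg => ?_) (r_mem_ur L r) t.symm.gen₁
    · exact hmem.2 (SideW.D_comm hzD' k b hb).symm
    · refine hmem.2 (mem_centralizer_iff.1 hg z ?_).symm
      have h3 := hzY
      rw [t.YY_eq_YY] at h3
      exact h3
  have rR : r ∈ R₁ i := (mem_R r).2 (Or.inr rfl)
  -- `W₁` and `W₂` commute
  have hYn : ur L r ≤ normalizer (YY (B₁ i) (C₁ i) : Set G) := by
    intro u hu
    apply t.s₁.nY i
    refine mem_normalizer_of_conj fun x hx => ?_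
    rcases (mem_R x).1 hx with rfl | rfl
    · have e : u * 1 * u⁻¹ = 1 := by group
      rw [e]; exact one_mem _
    · have h3 := (hU _ (r_mem_ur L x)).2 u (hU u hu).1
      rw [← h3, mul_inv_cancel_right]
      exact rR
  have dec : ∀ x ∈ ur L r ⊔ YY (B₁ i) (C₁ i), ∃ u ∈ ur L r, ∃ y ∈ YY (B₁ i) (C₁ i), x = u * y := by
    intro x hx
    have h3 : x ∈ ((ur L r ⊔ YY (B₁ i) (C₁ i) : Subgroup G) : Set G) := hx
    rw [coe_mul_of_left_le_normalizer_right _ _ hYn] at h3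
    obtain ⟨u, hu, y, hy, rfl⟩ := h3
    exact ⟨u, hu, y, hy, rfl⟩
  obtain ⟨k, hk, -⟩ := t.s₁.third i i
  obtain ⟨b, hb, hbV⟩ := t.s₁.exists_move (Ne.symm hk)
  apply hbV
  intro v hv
  obtain ⟨u, hu, y, hy, e1⟩ := dec v (h1 (t.s₁.V_C i hv))
  have hb' : b ∈ C₂ j := by rw [← t.hB]; exact hb
  obtain ⟨u', hu', y', hy', e2⟩ := dec b (h2 hb')
  have a1 : y * b = b * y := (hC y hy).2 b hb
  have a2 : y' * v = v * y' := (hC y' hy').1 v (t.s₁.V_C i hv)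
  have a3 : y * y' = y' * y := t.Y_comm hy hy'
  have a4 : u * u' = u' * u := (hU u hu).2 u' (hU u' hu').1
  -- `u = v y⁻¹` commutes with `y'`, `u' = b y'⁻¹`
  have a5 : y' * u = u * y' := by
    have e : u = v * y⁻¹ := by rw [e1]; group
    rw [e]
    exact mul_cmt a2 (inv_cmt a3).symm
  have a6 : u * b = b * u := by
    rw [e2]
    exact mul_cmt a4 a5.symm
  rw [e1]
  exact mul_cmt a6.symm a1.symm

end TwoT

namespace MixedT

variable [Finite G] {F₁ F₂ : Type*} [Field F₁] [Field F₂] [Finite F₁] [Finite F₂] [CharP F₁ 2] [CharP F₂ 2]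
  {V₁ V₂ N₁ N₂ : Subgroup G} {M₁ : RMod F₁ V₁ N₁} {M₂ : RMod F₂ V₂ N₂} {R T : Subgroup G} (m : MixedT M₁ M₂ R T)
include m

/-- an element centralised by `T` and by a group which induces `SL₂` on `V₁` lies in `D₁` -/
theorem mem_iInf {L : Subgroup G} (hL : ∀ A, ∃ g ∈ L, M₁.Ind g A) {z : G} (hzT : ∀ t ∈ T, t * z = z * t)
    (hzL : ∀ g ∈ L, g * z = z * g) : z ∈ ⨅ p, YY (LL V₂ R (pt M₁ p)) (LL V₁ R (pt M₁ p)) := by
  obtain ⟨w, hw, hR⟩ := m.line₁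
  have h0 : z ∈ YY (LL V₂ R R) (LL V₁ R R) := by
    rw [mem_YY]
    exact ⟨fun b hb => (hzT b (m.QQ_le_T (m.symm.C_le_QQ hb))).symm,
      fun c hc => (hzT c (m.QQ_le_T (m.C_le_QQ hc))).symm⟩
  rw [Subgroup.mem_iInf]
  rintro ⟨R', u, hu, rfl⟩
  obtain ⟨A, hA⟩ := exists_ap hw hu
  obtain ⟨g, hgL, hg⟩ := hL A
  have h1 : cj g R = M₁.line u := by
    rw [hR, ← hA]
    exact RMod.cj_line_of_ind M₁ hg w
  have h2 : cj g (LL V₂ R R) = LL V₂ R (M₁.line u) := cj_LL h1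
  have h3 : cj g (LL V₁ R R) = LL V₁ R (M₁.line u) := cj_LL h1
  change z ∈ YY (LL V₂ R (M₁.line u)) (LL V₁ R (M₁.line u))
  rw [← h2, ← h3, mem_YY]
  have key : ∀ {K : Subgroup G}, (∀ b ∈ K, z * b = b * z) → ∀ b ∈ cj g K, z * b = b * z := by
    intro K hK b hb
    rw [mem_cj] at hb
    have h4 := hK _ hb
    have h5 := hzL g hgL
    have e : g⁻¹ * z = z * g⁻¹ := by
      calc g⁻¹ * z = g⁻¹ * (z * g) * g⁻¹ := by group
        _ = g⁻¹ * (g * z) * g⁻¹ := by rw [h5]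
        _ = z * g⁻¹ := by group
    calc z * b = (z * g) * (g⁻¹ * b * g) * g⁻¹ := by group
      _ = (g * z) * (g⁻¹ * b * g) * g⁻¹ := by rw [h5]
      _ = g * (z * (g⁻¹ * b * g)) * g⁻¹ := by group
      _ = g * (g⁻¹ * b * g * z) * g⁻¹ := by rw [h4]
      _ = b * g * (z * g⁻¹) := by group
      _ = b * g * (g⁻¹ * z) := by rw [e]
      _ = b * z := by group
  rw [mem_YY] at h0
  exact ⟨key h0.1, key h0.2⟩

end MixedT

end Cfsg.Agent.Omega.IId.M4
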