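import Cfsg.Agent.Omega.Half.Basic
import Cfsg.Agent.Omega.IId.Two

/-!
# HALF LEMMA without orders

`S` a Sylow 2-subgroup of `G`, `So ≤ S` of index 2, `So ≤ L ≤ H`, `So` a Sylow 2-subgroup of `L`,
`C_H(O₂(H)) ≤ O₂(H)`, `V ≤ So` normal in `L`, irreducible for `L`, centralised by `O₂(L)`.  If every `w` which
normalises `So` and acts on `V` `L`-equivariantly, with `[V, V^w] = 1`, satisfies `V ∩ V^w ≠ 1`, then
`V ≤ Z(O₂(H))` (`half_of`).

`nx x f = f · f^x · f^(x²)` : the norm of an element of order three.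
-/

set_option autoImplicit false

namespace Cfsg.Agent.Omega.IId.NV

open Subgroup Cfsg Cfsg.Agent.ZN Cfsg.Agent.MinSimple.VModule Cfsg.Agent.Omega.Half
open Cfsg.Agent.MinSimple.MinParabolic Cfsg.Agent.MinSimple.Basic

universe u

variable {G : Type u} [Group G]

/-- **HALF LEMMA without orders.** -/
theorem half_of [Finite G] (S : Sylow 2 G) {So L H V : Subgroup G}
    (hSo : So ≤ (S : Subgroup G)) (hidx : Nat.card (S : Subgroup G) = 2 * Nat.card So)
    (hH : H ⊓ centralizer (o2 H : Set G) ≤ o2 H)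
    (hSL : So ≤ L) (hLH : L ≤ H) (hSyl : ¬ 2 ∣ So.relIndex L)
    (hVS : V ≤ So) (hLV : L ≤ normalizer (V : Set G))
    (hcomm : ∀ a ∈ V, ∀ b ∈ V, a * b = b * a)
    (hirr : ∀ X : Subgroup G, X ≤ V → L ≤ normalizer (X : Set G) → X = ⊥ ∨ X = V)
    (hO : o2 L ≤ centralizer (V : Set G))
    (hB : ∀ w : G, (∀ s ∈ So, w * s * w⁻¹ ∈ So) → (∀ s ∈ So, w⁻¹ * s * w ∈ So) →
      (∀ g ∈ L, ∀ v ∈ V, g * (w * v * w⁻¹) * g⁻¹ = w * (g * v * g⁻¹) * w⁻¹) →
      (∀ u ∈ V, ∀ v ∈ V, u * (w * v * w⁻¹) = (w * v * w⁻¹) * u) →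
      ∃ v ∈ V, v ≠ 1 ∧ w * v * w⁻¹ ∈ V) :
    V ≤ o2 H ∧ o2 H ≤ centralizer (V : Set G) := by
  have : Fact (Nat.Prime 2) := ⟨Nat.prime_two⟩
  have hSo2 : IsPGroup 2 So := S.isPGroup'.to_le hSo
  have hVH : V ≤ H := (hVS.trans hSL).trans hLH
  have hVL : V ≤ L := hVS.trans hSL
  have hV2 : IsPGroup 2 V := hSo2.to_le hVS
  -- it is enough that `O₂(H)` centralises `V`
  suffices hW : o2 H ≤ centralizer (V : Set G) from
    ⟨fun v hv => hH ⟨hVH hv, mem_centralizer_iff.mpr fun x hx =>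
      (mem_centralizer_iff.mp (hW hx) v hv).symm⟩, hW⟩
  have hLW : L ≤ normalizer (o2 H : Set G) := hLH.trans (le_normalizer_o2 H)
  have hWL : L ≤ normalizer ((o2 H ⊓ L : Subgroup G) : Set G) :=
    Half.le_normalizer_inf hLW le_normalizer
  have hWL2 : o2 H ⊓ L ≤ o2 L :=
    le_o2 inf_le_right ((o2_isPGroup H).to_le inf_le_left) hWL
  have hWLSo : o2 H ⊓ L ≤ So := hWL2.trans (o2_le_of_sylow hSo2 hSyl)
  by_cases hWS : o2 H ≤ So
  · exact fun x hx => hO (hWL2 ⟨hx, hSL (hWS hx)⟩)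
  obtain ⟨w, hwW, hwS⟩ := SetLike.not_le_iff_exists.mp hWS
  obtain ⟨T, hSoT, hTH, hT2, hTS⟩ := Half.exists_sylow_le hSo2 (hSL.trans hLH)
  have hWT : o2 H ≤ T := o2_le_of_sylow hT2 hTS
  have hTle : Nat.card T ≤ 2 * Nat.card So := hidx ▸ Half.card_le_sylow S hT2
  have hrel : Nat.card So * So.relIndex T = Nat.card T := Half.card_mul_relIndex hSoT
  have hne : So.relIndex T ≠ 1 := fun h => hwS ((relIndex_eq_one.mp h) (hWT hwW))
  have hne0 : So.relIndex T ≠ 0 := fun h => by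
    rw [h, mul_zero] at hrel
    exact Nat.card_pos.ne hrel
  have hrel2 : So.relIndex T = 2 := by
    have h1 : So.relIndex T ≤ 2 := by
      by_contra h
      push Not at h
      have h3 : 2 * Nat.card So < Nat.card So * So.relIndex T := by
        rw [mul_comm]
        exact Nat.mul_lt_mul_of_pos_left h Nat.card_pos
      omega
    omega
  have htwo : ∀ a ∈ T, ∀ b ∈ T, a ∉ So → b ∉ So → a⁻¹ * b ∈ So := by
    intro a ha b hb ha1 hb1
    have h1 : (So.subgroupOf T).index = 2 := hrel2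
    have h2 := mul_mem_iff_of_index_two h1 (a := (⟨a, ha⟩ : T)⁻¹) (b := ⟨b, hb⟩)
    rw [inv_mem_iff] at h2
    have h3 := h2.mpr (iff_of_false (fun h => ha1 (mem_subgroupOf.mp h))
      (fun h => hb1 (mem_subgroupOf.mp h)))
    exact mem_subgroupOf.mp h3
  have hW0c : o2 H ⊓ So ≤ centralizer (V : Set G) := fun x hx => hO (hWL2 ⟨hx.1, hSL hx.2⟩)
  have hw : ∀ g ∈ L, w⁻¹ * (g * w * g⁻¹) ∈ o2 H ⊓ So := by
    intro g hg
    have h1 : g * w * g⁻¹ ∈ o2 H := (mem_normalizer_iff.mp (hLW hg) w).mp hwW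
    have h2 : g * w * g⁻¹ ∉ So := by
      intro h
      have h3 := (mem_normalizer_iff.mp (hWL hg) w).mpr ⟨h1, hSL h⟩
      exact hwS (hWLSo h3)
    exact ⟨(o2 H).mul_mem ((o2 H).inv_mem hwW) h1, htwo _ (hWT hwW) _ (hWT h1) hwS h2⟩
  -- it is enough that `w` centralises `V`
  suffices hwV : ∀ v ∈ V, w * v = v * w by
    intro x hx
    by_cases hxS : x ∈ So
    · exact hW0c ⟨hx, hxS⟩
    · have h1 : w⁻¹ * x ∈ centralizer (V : Set G) :=
        hW0c ⟨(o2 H).mul_mem ((o2 H).inv_mem hwW) hx, htwo _ (hWT hwW) _ (hWT hx) hwS hxS⟩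
      have h2 : w ∈ centralizer (V : Set G) :=
        mem_centralizer_iff.mpr fun v hv => (hwV v hv).symm
      have := mul_mem h2 h1
      rwa [mul_inv_cancel_left] at this
  have hcomm' : ∀ u ∈ V, ∀ v ∈ V, u * (w * v * w⁻¹) = (w * v * w⁻¹) * u :=
    fun u hu v hv => Half.comm_conj hLV hVL hw hW0c hcomm hu hv
  rcases hirr _ inf_le_left (Half.inf_invariant hLV hw hW0c) with h0 | h0
  · -- `V ∩ V^w = 1`
    exfalso
    have hn1 : ∀ s ∈ So, w * s * w⁻¹ ∈ So := fun s hs =>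
      Two.conj_mem_of_two hSoT htwo (hWT hwW) hs
    have hn2 : ∀ s ∈ So, w⁻¹ * s * w ∈ So := fun s hs => by
      have := Two.conj_mem_of_two hSoT htwo (inv_mem (hWT hwW)) hs
      rwa [inv_inv] at this
    obtain ⟨v, hv, hv1, hvV⟩ := hB w hn1 hn2 (fun g hg v hv => Half.equivariant hLV hw hW0c hg hv) hcomm'
    have h1 : w * v * w⁻¹ ∈ V ⊓ V.map (MulAut.conj w).toMonoidHom := mem_inf.2 ⟨hvV, v, hv, by simp⟩
    rw [h0, mem_bot] at h1
    apply hv1
    have e : v = w⁻¹ * (w * v * w⁻¹) * w := by group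
    rw [e, h1]
    group
  · -- `V^w = V`
    have hnorm : w ∈ normalizer (V : Set G) := by
      have h1 : V ≤ V.map (MulAut.conj w).toMonoidHom := h0.symm.le.trans inf_le_right
      have h2 : V = V.map (MulAut.conj w).toMonoidHom :=
        eq_of_le_of_card_ge h1 (card_map_of_injective (MulAut.conj w).injective).le
      exact mem_normalizer_of_map_le h2.symm.le
    rcases hirr _ inf_le_left (Half.cent_invariant hLV hw hW0c) with h1 | h1
    · by_cases hVb : V = ⊥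
      · intro v hv
        rw [hVb, mem_bot] at hv
        rw [hv, mul_one, one_mul]
      obtain ⟨v, hv, hv1, hvw⟩ := Half.exists_fixed hV2 hVb
        ((o2_isPGroup H).to_le (zpowers_le.mpr hwW)) (zpowers_le.mpr hnorm)
      exfalso
      have h2 : v ∈ V ⊓ centralizer ({w} : Set G) := by
        refine ⟨hv, mem_centralizer_iff.mpr ?_⟩
        intro y hy
        rw [Set.mem_singleton_iff.mp hy]
        have := hvw w (mem_zpowers w)
        calc w * v = (w * v * w⁻¹) * w := by group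
          _ = v * w := by rw [this]
      rw [h1, mem_bot] at h2
      exact hv1 h2
    · intro v hv
      have h2 : v ∈ V ⊓ centralizer ({w} : Set G) := by rw [h1]; exact hv
      exact mem_centralizer_iff.mp h2.2 w rfl

/-! ### The norm of an element of order three -/

/-- `f · f^x · f^(x²)` -/
def nx (x f : G) : G := f * (x * f * x⁻¹) * (x * (x * f * x⁻¹) * x⁻¹)

theorem nx_one (x : G) : nx x 1 = 1 := by
  rw [nx]
  group

/-- conjugation -/
theorem nx_conj (s x f : G) : s * nx x f * s⁻¹ = nx (s * x * s⁻¹) (s * f * s⁻¹) := by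
  rw [nx, nx]
  group

/-- an element which commutes with `x` -/
theorem nx_of_comm {x f : G} (h : x * f = f * x) (h2 : f * f = 1) : nx x f = f := by
  have e : x * f * x⁻¹ = f := by rw [h]; group
  rw [nx, e, e, h2, one_mul]

section ab

variable {A : Subgroup G} (hA : ∀ a ∈ A, ∀ b ∈ A, a * b = b * a)

theorem nx_mem {x f : G} (hx : x ∈ normalizer (A : Set G)) (hf : f ∈ A) : nx x f ∈ A := by
  have h1 : x * f * x⁻¹ ∈ A := (mem_normalizer_iff.1 hx f).1 hf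
  exact mul_mem (mul_mem hf h1) ((mem_normalizer_iff.1 hx _).1 h1)

include hA in
theorem nx_mul {x f g : G} (hx : x ∈ normalizer (A : Set G)) (hf : f ∈ A) (hg : g ∈ A) :
    nx x (f * g) = nx x f * nx x g := by
  have h1 : x * f * x⁻¹ ∈ A := (mem_normalizer_iff.1 hx f).1 hf
  have h2 : x * g * x⁻¹ ∈ A := (mem_normalizer_iff.1 hx g).1 hg
  have h3 : x * (x * f * x⁻¹) * x⁻¹ ∈ A := (mem_normalizer_iff.1 hx _).1 h1
  have h4 : x * (x * g * x⁻¹) * x⁻¹ ∈ A := (mem_normalizer_iff.1 hx _).1 h2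
  have e1 : x * (f * g) * x⁻¹ = (x * f * x⁻¹) * (x * g * x⁻¹) := by group
  have e2 : x * (x * f * x⁻¹ * (x * g * x⁻¹)) * x⁻¹ =
      (x * (x * f * x⁻¹) * x⁻¹) * (x * (x * g * x⁻¹) * x⁻¹) := by group
  rw [nx, nx, nx, e1, e2]
  generalize x * (x * f * x⁻¹) * x⁻¹ = f2 at *
  generalize x * (x * g * x⁻¹) * x⁻¹ = g2 at *
  generalize x * f * x⁻¹ = f1 at *
  generalize x * g * x⁻¹ = g1 at *
  calc f * g * (f1 * g1) * (f2 * g2) = f * (g * f1) * (g1 * f2) * g2 := by group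
    _ = f * (f1 * g) * (f2 * g1) * g2 := by rw [hA g hg f1 h1, hA g1 h2 f2 h3]
    _ = f * f1 * (g * f2) * g1 * g2 := by group
    _ = f * f1 * (f2 * g) * g1 * g2 := by rw [hA g hg f2 h3]
    _ = f * f1 * f2 * (g * g1 * g2) := by group

/-- a homomorphism commuting with `x` -/
theorem nx_map {x : G} (φ : G → G) {B : Subgroup G} (hφ : ∀ a ∈ B, ∀ b ∈ B, φ (a * b) = φ a * φ b)
    (hx : x ∈ normalizer (B : Set G)) (hc : ∀ a ∈ B, x * φ a * x⁻¹ = φ (x * a * x⁻¹)) {f : G} (hf : f ∈ B) :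
    nx x (φ f) = φ (nx x f) := by
  have h1 : x * f * x⁻¹ ∈ B := (mem_normalizer_iff.1 hx f).1 hf
  have h3 : x * (x * f * x⁻¹) * x⁻¹ ∈ B := (mem_normalizer_iff.1 hx _).1 h1
  rw [nx, nx, hc f hf, hc _ h1, hφ _ (mul_mem hf h1) _ h3, hφ _ hf _ h1]

/-- the norms of `x` and `y` commute if `x` and `y` commute on `A` -/
theorem nx_nx {x y : G} (hA : ∀ a ∈ A, ∀ b ∈ A, a * b = b * a) (hx : x ∈ normalizer (A : Set G))
    (hy : y ∈ normalizer (A : Set G))
    (hxy : ∀ a ∈ A, x * (y * a * y⁻¹) * x⁻¹ = y * (x * a * x⁻¹) * y⁻¹) {f : G} (hf : f ∈ A) :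
    nx x (nx y f) = nx y (nx x f) := by
  -- `φ = conjugation by x` commutes with the norm of `y`
  have key : ∀ a ∈ A, x * nx y a * x⁻¹ = nx y (x * a * x⁻¹) := by
    intro a ha
    have h1 : y * a * y⁻¹ ∈ A := (mem_normalizer_iff.1 hy a).1 ha
    rw [nx, nx]
    have e : x * (a * (y * a * y⁻¹) * (y * (y * a * y⁻¹) * y⁻¹)) * x⁻¹ =
        (x * a * x⁻¹) * (x * (y * a * y⁻¹) * x⁻¹) * (x * (y * (y * a * y⁻¹) * y⁻¹) * x⁻¹) := by group
    rw [e, hxy _ h1, hxy _ ha]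
  have h1 : x * f * x⁻¹ ∈ A := (mem_normalizer_iff.1 hx f).1 hf
  have h3 : x * (x * f * x⁻¹) * x⁻¹ ∈ A := (mem_normalizer_iff.1 hx _).1 h1
  conv_lhs => rw [nx]
  rw [key f hf, key _ h1]
  conv_rhs => rw [show nx x f = f * (x * f * x⁻¹) * (x * (x * f * x⁻¹) * x⁻¹) from rfl]
  rw [nx_mul hA hy (mul_mem hf h1) h3, nx_mul hA hy hf h1]

end ab

end Cfsg.Agent.Omega.IId.NV
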