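import Cfsg.Agent.Omega.IId.Cv.Fac
import Cfsg.Agent.Omega.IId.Cv.HalfGen
import Cfsg.Agent.Omega.IId.Cv.Split
import Cfsg.Agent.Omega.IId.LFour.CenO2

/-!
# II.d, `V_P = V × D`, `V` a sum of `k` natural modules, `D ≤ Z(P)`: the HALF LEMMA

`M : NatD F S P V D k` : `V_P = V × D`, `P` centralises `D`, `V` is the sum of `k` natural `SL₂(F)`-modules.
`ofSplit` : the case `V = [V_P, O²(P)]`, `D = C_{V_P}(O²(P))`, `V ∩ D = 1`; `ofFree` : the case `D = 1`.

`Blk M B` : `B` is one of two blocks of `S` on the factors; `stb M B = N_S(part M B)`.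

* `mem_part_of_norm` : `f ∈ Ω₁Z(stb M B)` with `f f^x f^(x²) = 1` lies in `part M B`;
* `half` : **HALF LEMMA**: for every `H ≥ ⟨grp M B, stb M B⟩` with `C_H(O₂(H)) ≤ O₂(H)`:
  `part M B ≤ Z(O₂(H))`.
(helper51, helper994, helper882; all `q`, all `k`, any `D`)
-/

set_option autoImplicit false
set_option linter.unusedSectionVars false

namespace Cfsg.Agent.Omega.IId

open Subgroup Cfsg Cfsg.Agent.ZN Cfsg.Agent.ZN.ChoiceBase
open Cfsg.Agent.Omega.MinPar Cfsg.Agent.Omega.FFThm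
open Cfsg.Agent.Lib.SL2Mat
open Cfsg.Agent.Omega.NatPair (ap ap_mul ap_one ap_inv_ap ap_ap_inv exists_ap ap_add ext2)
open Cfsg.Agent.MinSimple.VModule (zc_le zc_comm zc_sq zc_le_zl le_normalizer_o2 o2_isPGroup o2_le
  normalizer_le_normalizer_zc le_normalizer_zl)
open Cfsg.Agent.Omega.HOne.Main (vx SplitPar)
open Cfsg.Agent.Omega.FrameFF (cv Free)
open Cfsg.Agent.MinSimple

universe u

/-- `V_P = V × D`, `P` centralises `D`, `V` is the sum of `k` natural modules. -/
structure NatD {G : Type u} [Group G] [Finite G] (F : Type) [Field F] (S : Sylow 2 G) (P V D : Subgroup G)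
    (k : ℕ) extends NatV F (S : Subgroup G) P V k where
  hG : IsCharacteristicTwoType G
  star : IsParS (S : Subgroup G) P
  V_le : V ≤ zl (S : Subgroup G) P
  D_le : D ≤ zl (S : Subgroup G) P
  dec : ∀ v ∈ zl (S : Subgroup G) P, ∃ n ∈ V, ∃ d ∈ D, v = n * d
  inf : V ⊓ D = ⊥
  cD : P ≤ centralizer (D : Set G)

namespace NV

section blk

variable {G : Type u} [Group G] {F : Type} [Field F] {S P V : Subgroup G} {k : ℕ}
  (M : NatV F S P V k)

theorem part_inj {I J : Set (Fin k)} (h : part M I = part M J) : I = J := by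
  have key : ∀ (i : Fin k) (J : Set (Fin k)), i ∈ J ↔ fac M i ≤ part M J := by
    intro i J
    constructor
    · intro hi
      exact part_mono M (Set.singleton_subset_iff.2 hi)
    · intro hle
      by_contra hi
      obtain ⟨v, hv, h1⟩ := exists_fac M i ![1, 0]
      have h2 := (hle hv).2 i hi
      rw [h1] at h2
      have := congrFun h2 0
      simp at this
  ext i
  rw [key, key, h]

/-- `B` is one of two blocks. -/
structure Blk (B : Set (Fin k)) : Prop where
  SP : S ≤ P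
  ne : B.Nonempty
  ne' : Bᶜ.Nonempty
  mv : ∀ t (ht : t ∈ S), sg M (SP ht) '' B = B ∨ sg M (SP ht) '' B = Bᶜ

/-- The stabiliser of the block. -/
def stb (B : Set (Fin k)) : Subgroup G := S ⊓ normalizer (part M B : Set G)

theorem stb_le (B : Set (Fin k)) : stb M B ≤ S := inf_le_left

variable {M} {B : Set (Fin k)}

theorem mem_stb (hSP : S ≤ P) {t : G} (ht : t ∈ S) : t ∈ stb M B ↔ sg M (hSP ht) '' B = B := by
  rw [← mem_normalizer_part_iff M (hSP ht)]
  exact ⟨fun h => h.2, fun h => ⟨ht, h⟩⟩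

theorem Blk.not_mem (h : Blk M B) {t : G} (ht : t ∈ S) : t ∉ stb M B ↔ sg M (h.SP ht) '' B = Bᶜ := by
  rw [mem_stb h.SP ht]
  constructor
  · intro h1
    exact (h.mv t ht).resolve_left h1
  · intro h1 h2
    rw [h1] at h2
    obtain ⟨i, hi⟩ := h.ne
    exact (Set.ext_iff.1 h2 i).2 hi hi

theorem Blk.compl (h : Blk M B) : Blk M Bᶜ where
  SP := h.SP
  ne := h.ne'
  ne' := by rw [compl_compl]; exact h.ne
  mv t ht := by
    rw [Set.image_compl_eq (sg M (h.SP ht)).bijective, compl_compl]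
    rcases h.mv t ht with h1 | h1
    · left; rw [h1]
    · right; rw [h1, compl_compl]

theorem Blk.stb_compl (h : Blk M B) : stb M Bᶜ = stb M B := by
  ext t
  constructor
  · intro ht
    have h1 := (mem_stb (M := M) h.SP ht.1).1 ht
    rw [Set.image_compl_eq (sg M (h.SP ht.1)).bijective] at h1
    exact (mem_stb h.SP ht.1).2 (compl_injective h1)
  · intro ht
    have h1 := (mem_stb (M := M) h.SP ht.1).1 ht
    refine (mem_stb h.SP ht.1).2 ?_
    rw [Set.image_compl_eq (sg M (h.SP ht.1)).bijective, h1]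

/-- an element of `S` outside `stb M B` swaps the two parts -/
theorem Blk.swap (h : Blk M B) {s : G} (hs : s ∈ S) (hs1 : s ∉ stb M B) {v : G} (hv : v ∈ part M B) :
    s * v * s⁻¹ ∈ part M Bᶜ := by
  have h1 := (h.not_mem hs).1 hs1
  have h2 := (mem_part_conj M (h.SP hs) (I := B) hv.1).2 hv
  rwa [h1] at h2

theorem Blk.swap' (h : Blk M B) {s : G} (hs : s ∈ S) (hs1 : s ∉ stb M B) {v : G} (hv : v ∈ part M Bᶜ) :
    s * v * s⁻¹ ∈ part M B := by
  have h1 : s ∉ stb M Bᶜ := by rwa [h.stb_compl]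
  have := h.compl.swap hs h1 hv
  rwa [compl_compl] at this

theorem Blk.exists_swap (h : Blk M B) : ∃ s ∈ S, s ∉ stb M B := by
  obtain ⟨i, hi⟩ := h.ne
  obtain ⟨j, hj⟩ := h.ne'
  obtain ⟨t, ht, h1⟩ := exists_trans M h.SP i j
  refine ⟨t, ht, fun h2 => ?_⟩
  have h3 := (mem_stb (M := M) h.SP ht).1 h2
  have h4 := (sg_eq_iff M (h.SP ht)).2 h1
  apply hj
  rw [← h3, ← h4]
  exact ⟨i, hi, rfl⟩

/-- `|S| = 2 |stb M B|` -/
theorem Blk.card (h : Blk M B) : Nat.card S = 2 * Nat.card (stb M B) := by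
  obtain ⟨s, hs, hs1⟩ := h.exists_swap
  have hidx : ((stb M B).subgroupOf S).index = 2 := by
    rw [Subgroup.index_eq_two_iff]
    refine ⟨⟨s, hs⟩, fun b => ?_⟩
    have hbs : (b : G) * s ∈ S := mul_mem b.2 hs
    have key : (b : G) * s ∈ stb M B ↔ (b : G) ∉ stb M B := by
      have e : cj ((b : G) * s) (part M B) = part M (sg M (h.SP b.2) '' Bᶜ) := by
        rw [← cj_cj, conj_part M (h.SP hs), (h.not_mem hs).1 hs1, conj_part M (h.SP b.2)]
      have e2 : (b : G) * s ∈ stb M B ↔ cj ((b : G) * s) (part M B) = part M B := by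
        rw [← mem_normalizer_iff_cj]
        exact ⟨fun h => h.2, fun h => ⟨hbs, h⟩⟩
      rw [e2, e, h.not_mem b.2, Set.image_compl_eq (sg M (h.SP b.2)).bijective]
      constructor
      · intro h3
        exact (compl_compl _).symm.trans (congrArg (fun X : Set (Fin k) => Xᶜ) (part_inj M h3))
      · intro h3
        rw [h3, compl_compl]
    change Xor ((b : G) * s ∈ stb M B) ((b : G) ∈ stb M B)
    by_cases hb : (b : G) ∈ stb M B
    · right
      exact ⟨hb, fun h3 => key.1 h3 hb⟩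
    · left
      exact ⟨key.2 hb, hb⟩
  have h1 := Half.card_mul_relIndex (stb_le M B)
  rw [relIndex, hidx] at h1
  rw [← h1, mul_comm]

theorem grp_le_normalizer_part (B : Set (Fin k)) : grp M B ⊔ stb M B ≤ normalizer (part M B : Set G) :=
  sup_le (grp_normalizes M B B) inf_le_right

/-- `stb M B` is transitive on the block -/
theorem Blk.trans (h : Blk M B) {i j : Fin k} (hi : i ∈ B) (hj : j ∈ B) :
    ∃ t ∈ stb M B, cj t (fac M i) = fac M j := by
  obtain ⟨t, ht, h1⟩ := exists_trans M h.SP i j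
  refine ⟨t, ?_, h1⟩
  by_contra h2
  have h3 := (h.not_mem ht).1 h2
  have h4 := (sg_eq_iff M (h.SP ht)).2 h1
  have h5 : j ∈ Bᶜ := by
    rw [← h3, ← h4]
    exact ⟨i, hi, rfl⟩
  exact h5 hj

open Classical in
/-- `part M B` is irreducible for `grp M B ⊔ stb M B`. -/
theorem Blk.irr (h : Blk M B) {X : Subgroup G} (hX : X ≤ part M B)
    (hn : grp M B ⊔ stb M B ≤ normalizer (X : Set G)) : X = ⊥ ∨ X = part M B := by
  by_cases h0 : X = ⊥
  · exact Or.inl h0
  right
  obtain ⟨x, hx, hx1⟩ : ∃ x ∈ X, x ≠ 1 := by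
    by_contra hcon
    push Not at hcon
    exact h0 ((eq_bot_iff_forall X).2 hcon)
  have hxV : x ∈ V := (hX hx).1
  -- a nontrivial coordinate
  obtain ⟨i, hi⟩ : ∃ i, M.e x i ≠ 0 := by
    by_contra hcon
    push Not at hcon
    exact hx1 ((e_eq_zero M hxV).1 (funext hcon))
  have hiB : i ∈ B := by
    by_contra h1
    exact hi ((hX hx).2 i h1)
  -- `X` contains `fac M i`
  have hfi : fac M i ≤ X := by
    obtain ⟨y, hy0, hyx⟩ : ∃ y : Fin 2 → F, y ≠ 0 ∧ y ≠ M.e x i := by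
      by_cases hx0 : M.e x i 0 = 0
      · refine ⟨![1, 0], fun h => one_ne_zero (congrFun h 0), fun h => ?_⟩
        have := congrFun h 0
        rw [hx0] at this
        exact one_ne_zero this
      · refine ⟨![0, 1], fun h => one_ne_zero (congrFun h 1), fun h => ?_⟩
        exact hx0 (congrFun h 0).symm
    obtain ⟨A, hA⟩ := exists_ap hi hy0
    obtain ⟨g, hg, h1⟩ := M.lift (Function.update 1 i A)
    have hg' : g ∈ grp M {i} := ⟨hg, _, h1, fun j hj => Function.update_of_ne hj _ _⟩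
    have hgB : g ∈ grp M B := grp_mono M (Set.singleton_subset_iff.2 hiB) hg'
    have hgx : g * x * g⁻¹ ∈ X := (mem_normalizer_iff.1 (hn (mem_sup_left hgB)) x).1 hx
    have hz : g * x * g⁻¹ * x⁻¹ ∈ X := mul_mem hgx (inv_mem hx)
    have hgV : g * x * g⁻¹ ∈ V := cj_mem M hg hxV
    have hez : ∀ j, M.e (g * x * g⁻¹ * x⁻¹) j = if j = i then ap A (M.e x i) - M.e x i else 0 := by
      intro j
      rw [M.mul _ hgV _ (inv_mem hxV), e_inv M hxV, Pi.add_apply, Pi.neg_apply, h1.1 x hxV j]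
      by_cases hj : j = i
      · rw [hj, if_pos rfl, Function.update_self, sub_eq_add_neg]
      · rw [if_neg hj, Function.update_of_ne hj, Pi.one_apply, ap_one, add_neg_cancel]
    have hzf : g * x * g⁻¹ * x⁻¹ ∈ fac M i :=
      ⟨(hX hz).1, fun j hj => by rw [hez j]; exact if_neg fun h => hj h⟩
    have hz1 : g * x * g⁻¹ * x⁻¹ ≠ 1 := by
      intro h2
      have h3 := hez i
      rw [h2, e_one, if_pos rfl, hA] at h3
      exact hyx (sub_eq_zero.1 h3.symm)
    intro v hv
    by_cases hv1 : v = 1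
    · rw [hv1]; exact one_mem _
    obtain ⟨l, hl, h2⟩ := exists_grp M hzf hv hz1 hv1
    rw [← h2]
    exact (mem_normalizer_iff.1 (hn (mem_sup_left (grp_mono M (Set.singleton_subset_iff.2 hiB) hl))) _).1 hz
  -- `X` contains all `fac M j`, `j ∈ B`
  have hfj : ∀ j ∈ B, fac M j ≤ X := by
    intro j hj
    obtain ⟨t, ht, h1⟩ := h.trans hiB hj
    rw [← h1]
    rintro _ ⟨v, hv, rfl⟩
    exact (mem_normalizer_iff.1 (hn (mem_sup_right ht)) v).1 (hfi hv)
  -- `part M B` is generated by them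
  refine le_antisymm hX fun v hv => ?_
  have key : ∀ (s : Finset (Fin k)), ∀ v ∈ V, (∀ j, j ∉ B → M.e v j = 0) → (∀ j, j ∉ s → M.e v j = 0) → v ∈ X := by
    intro s
    induction s using Finset.induction_on with
    | empty =>
      intro v hv _ h2
      have : v = 1 := (e_eq_zero M hv).1 (funext fun j => h2 j (Finset.notMem_empty j))
      rw [this]
      exact one_mem _
    | insert i s his ih =>
      intro v hv h1 h2
      obtain ⟨a, ha, hea⟩ := exists_fac M i (M.e v i)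
      have haX : a ∈ X := by
        by_cases hi : i ∈ B
        · exact hfj i hi ha
        · have : a = 1 := (fac_eq_one M ha).1 (by rw [hea, h1 i hi])
          rw [this]
          exact one_mem _
      have h3 : a⁻¹ * v ∈ X := by
        have hav : a⁻¹ * v ∈ V := mul_mem (inv_mem ha.1) hv
        have he : ∀ j, M.e (a⁻¹ * v) j = - M.e a j + M.e v j := by
          intro j
          rw [M.mul _ (inv_mem ha.1) _ hv, e_inv M ha.1]
          rfl
        refine ih _ hav (fun j hj => ?_) (fun j hj => ?_)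
        · rw [he, h1 j hj, add_zero]
          by_cases hji : j = i
          · rw [hji, hea, h1 i (hji ▸ hj), neg_zero]
          · rw [ha.2 j hji, neg_zero]
        · rw [he]
          by_cases hji : j = i
          · rw [hji, hea, neg_add_cancel]
          · rw [ha.2 j hji, neg_zero, zero_add]
            exact h2 j fun h4 => (Finset.mem_insert.1 h4).elim hji hj
      have e : v = a * (a⁻¹ * v) := by group
      rw [e]
      exact mul_mem haX h3
  exact key Finset.univ v hv.1 hv.2 fun j hj => (hj (Finset.mem_univ j)).elim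

end blk

/-! ### `V_P = V × D` -/

section natD

variable {G : Type u} [Group G] [Finite G] {F : Type} [Field F] {S : Sylow 2 G} {P V D : Subgroup G} {k : ℕ}
  (M : NatD F S P V D k)

include M in
theorem SP : (S : Subgroup G) ≤ P := M.star.le

include M in
theorem zl_le_zz : zl (S : Subgroup G) P ≤ zc (o2 P) := M.star.isLoc.zl_le S M.hG

include M in
theorem V_le_zz : V ≤ zc (o2 P) := M.V_le.trans (zl_le_zz M)

include M in
theorem o2_le_S : o2 P ≤ (S : Subgroup G) := M.star.isLoc.o2_le S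

include M in
theorem V_le_S : V ≤ (S : Subgroup G) := (V_le_zz M).trans ((zc_le _).trans (o2_le_S M))

theorem zz_nor (P : Subgroup G) : P ≤ normalizer (zc (o2 P) : Set G) :=
  (le_normalizer_o2 P).trans (normalizer_le_normalizer_zc _)

theorem zz_mem {P : Subgroup G} {g z : G} (hg : g ∈ P) (hz : z ∈ zc (o2 P)) : g * z * g⁻¹ ∈ zc (o2 P) :=
  (mem_normalizer_iff.1 (zz_nor P hg) z).1 hz

theorem mul_self_zc {B : Subgroup G} {z : G} (hz : z ∈ zc B) : z * z = 1 := by
  rw [← pow_two]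
  exact zc_sq B z hz

include M in
/-- `C_P(V)` centralises `Ω₁(Z(O₂(P)))`: an element which commutes with `V` and `D`. -/
theorem comm_zz {c : G} (hc : c ∈ P) (hV : ∀ v ∈ V, c * v = v * c) {z : G} (hz : z ∈ zc (o2 P)) :
    c * z = z * c := by
  have h1 : c ∈ P ⊓ centralizer (zl (S : Subgroup G) P : Set G) := by
    refine mem_inf.2 ⟨hc, mem_centralizer_iff.2 fun v hv => ?_⟩
    obtain ⟨n, hn, d, hd, rfl⟩ := M.dec v hv
    have h2 : c * d = d * c := (mem_centralizer_iff.1 (M.cD hc) d hd).symm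
    calc n * d * c = n * (c * d) := by rw [h2, mul_assoc]
      _ = (n * c) * d := by rw [mul_assoc]
      _ = c * (n * d) := by rw [← hV n hn, mul_assoc]
  exact (mem_centralizer_iff.1 (LFour.le_centralizer_zc_o2 M.hG S M.star h1) z hz).symm

variable {B : Set (Fin k)}

include M in
theorem o2_le_stb : o2 P ≤ stb M.toNatV B := by
  refine le_inf (o2_le_S M) fun x hx => ?_
  have h1 : ∀ v ∈ V, x * v * x⁻¹ = v := fun v hv => by
    have := (VModule.mem_zc.1 (V_le_zz M hv)).2.1 x hx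
    rw [this, mul_inv_cancel_right]
  rw [mem_normalizer_iff]
  intro v
  constructor
  · intro hv
    rw [h1 v hv.1]
    exact hv
  · intro hv
    have h2 := h1 _ hv.1
    have e : x * v * x⁻¹ = v := by
      have h3 : x * (x * v * x⁻¹) = (x * v * x⁻¹) * x := by
        calc x * (x * v * x⁻¹) = x * (x * v * x⁻¹) * x⁻¹ * x := by group
          _ = _ := by rw [h2]
      have h4 : x * v * x⁻¹ * x = x * v := by group
      rw [h4] at h3
      exact mul_left_cancel h3
    rwa [e] at hv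

include M in
/-- `Ω₁(Z(stb M B)) ≤ Ω₁(Z(O₂(P)))` -/
theorem zc_stb_le : zc (stb M.toNatV B) ≤ zc (o2 P) := by
  intro f hf
  obtain ⟨h1, h2, h3⟩ := VModule.mem_zc.1 hf
  have h4 : f ∈ o2 P := by
    refine M.star.isLoc.char2 S M.hG (mem_inf.2 ⟨SP M (stb_le _ _ h1), mem_centralizer_iff.2 fun x hx => ?_⟩)
    exact h2 x (o2_le_stb M hx)
  exact VModule.mem_zc.2 ⟨h4, fun x hx => h2 x (o2_le_stb M hx), h3⟩

/-- an element of order three -/
theorem exists_three [CharP F 2] (N : NatV F (S : Subgroup G) P V k) (B : Set (Fin k)) :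
    ∃ x ∈ grp N B, ∀ a ∈ part N B, nx x a = 1 := by
  classical
  obtain ⟨A, hA3, hA1⟩ : ∃ A : Fin k → Matrix.SpecialLinearGroup (Fin 2) F,
      (∀ i ∈ B, A i = HOne.three F) ∧ ∀ i, i ∉ B → A i = 1 :=
    ⟨fun i => if i ∈ B then HOne.three F else 1, fun i hi => if_pos hi, fun i hi => if_neg hi⟩
  obtain ⟨x, hx, hA⟩ := N.lift A
  refine ⟨x, ⟨hx, A, hA, hA1⟩, fun a ha => ?_⟩
  have h1 : x * a * x⁻¹ ∈ V := cj_mem N hx ha.1
  have h2 : x * (x * a * x⁻¹) * x⁻¹ ∈ V := cj_mem N hx h1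
  rw [nx, ← e_eq_zero N (mul_mem (mul_mem ha.1 h1) h2), N.mul _ (mul_mem ha.1 h1) _ h2, N.mul _ ha.1 _ h1]
  funext i
  rw [Pi.add_apply, Pi.add_apply, hA.1 _ h1, hA.1 _ ha.1]
  have h3 : (1 : F) + 1 = 0 := CharTwo.add_self_eq_zero 1
  by_cases hi : i ∈ B
  · rw [hA3 i hi]
    refine ext2 ?_ ?_
    · simp only [Pi.add_apply, Pi.zero_apply, NatPair.ap_zero', NatPair.ap_one', HOne.three, mk_00, mk_01, mk_10, mk_11]
      linear_combination (N.e a i 0 + N.e a i 1) * h3
    · simp only [Pi.add_apply, Pi.zero_apply, NatPair.ap_zero', NatPair.ap_one', HOne.three, mk_00, mk_01, mk_10, mk_11]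
      linear_combination (N.e a i 0 + 2 * N.e a i 1) * h3
  · rw [hA1 i hi, ap_one, ap_one, ha.2 i hi, add_zero, add_zero]
    rfl

section main

variable {M} (hB : Blk M.toNatV B)

include hB

/-- the product of two components -/
theorem split_eq {v : G} (hv : v ∈ zl (S : Subgroup G) P) :
    ∃ a ∈ part M.toNatV B, ∃ b ∈ part M.toNatV Bᶜ, ∃ d ∈ D, v = a * b * d := by
  obtain ⟨n, hn, d, hd, rfl⟩ := M.dec v hv
  obtain ⟨a, ha, b, hb, rfl⟩ := exists_comp M.toNatV hn B
  exact ⟨a, ha, b, hb, d, hd, rfl⟩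

omit hB in
include M in
theorem part_inf_compl {v : G} (h1 : v ∈ part M.toNatV B) (h2 : v ∈ part M.toNatV Bᶜ) : v = 1 := by
  refine (e_eq_zero M.toNatV h1.1).1 (funext fun i => ?_)
  by_cases hi : i ∈ B
  · exact h2.2 i fun h => h hi
  · exact h1.2 i hi

omit hB in
include M in
theorem inf_D {v : G} (h1 : v ∈ V) (h2 : v ∈ D) : v = 1 := by
  have : v ∈ V ⊓ D := mem_inf.2 ⟨h1, h2⟩
  rwa [M.inf, mem_bot] at this

/-- the stabiliser of the block is normal in `S` -/
theorem stb_conj {s t : G} (hs : s ∈ (S : Subgroup G)) (ht : t ∈ stb M.toNatV B) : s * t * s⁻¹ ∈ stb M.toNatV B :=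
  Two.conj_mem_of_two (stb_le _ _) (Two.two_cosets (stb_le _ _) hB.card) hs ht

theorem mul_self_stb {s : G} (hs : s ∈ (S : Subgroup G)) (hs1 : s ∉ stb M.toNatV B) : s * s ∈ stb M.toNatV B := by
  have h := Two.two_cosets (stb_le M.toNatV B) hB.card s⁻¹ (inv_mem hs) s hs
    (fun h => hs1 (inv_mem_iff.1 h)) hs1
  rwa [inv_inv] at h

/-- `f · f^s` for `f ∈ Z(stb M B)` is centralised by `S`. -/
theorem mul_cj_mem_zc {s f : G} (hs : s ∈ (S : Subgroup G)) (hs1 : s ∉ stb M.toNatV B)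
    (hf : f ∈ zc (stb M.toNatV B)) : f * (s * f * s⁻¹) ∈ zc (S : Subgroup G) := by
  obtain ⟨f1, f2, f3⟩ := VModule.mem_zc.1 hf
  have hfs : s * f * s⁻¹ ∈ stb M.toNatV B := stb_conj hB hs f1
  have hg2 : ∀ t ∈ stb M.toNatV B, t * (s * f * s⁻¹) = (s * f * s⁻¹) * t := by
    intro t ht
    have h1 : s⁻¹ * t * s ∈ stb M.toNatV B := by
      have := stb_conj hB (inv_mem hs) ht
      rwa [inv_inv] at this
    have h2 := f2 _ h1
    calc t * (s * f * s⁻¹) = s * (s⁻¹ * t * s * f) * s⁻¹ := by group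
      _ = s * (f * (s⁻¹ * t * s)) * s⁻¹ := by rw [h2]
      _ = (s * f * s⁻¹) * t := by group
  have hfg : f * (s * f * s⁻¹) = (s * f * s⁻¹) * f := hg2 f f1
  have hp : ∀ t ∈ stb M.toNatV B, t * (f * (s * f * s⁻¹)) = f * (s * f * s⁻¹) * t := by
    intro t ht
    calc t * (f * (s * f * s⁻¹)) = (t * f) * (s * f * s⁻¹) := by group
      _ = f * (t * (s * f * s⁻¹)) := by rw [f2 t ht, mul_assoc]
      _ = f * (s * f * s⁻¹) * t := by rw [hg2 t ht, ← mul_assoc]
  have hsp : s * (f * (s * f * s⁻¹)) = f * (s * f * s⁻¹) * s := by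
    have h1 := f2 _ (mul_self_stb hB hs hs1)
    calc s * (f * (s * f * s⁻¹)) = (s * f * s⁻¹) * (s * s * f) * s⁻¹ := by group
      _ = (s * f * s⁻¹) * (f * (s * s)) * s⁻¹ := by rw [h1]
      _ = (s * f * s⁻¹) * f * s := by group
      _ = f * (s * f * s⁻¹) * s := by rw [← hfg]
  refine VModule.mem_zc.2 ⟨mul_mem (stb_le _ _ f1) (stb_le _ _ hfs), fun t ht => ?_, ?_⟩
  · by_cases ht1 : t ∈ stb M.toNatV B
    · exact hp t ht1
    · have h1 : s⁻¹ * t ∈ stb M.toNatV B :=
        Two.two_cosets (stb_le M.toNatV B) hB.card s hs t ht hs1 ht1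
      have h2 := hp _ h1
      calc t * (f * (s * f * s⁻¹)) = s * ((s⁻¹ * t) * (f * (s * f * s⁻¹))) := by group
        _ = s * (f * (s * f * s⁻¹)) * (s⁻¹ * t) := by rw [h2]; group
        _ = f * (s * f * s⁻¹) * t := by rw [hsp]; group
  · rw [pow_two] at f3 ⊢
    calc f * (s * f * s⁻¹) * (f * (s * f * s⁻¹)) = f * ((s * f * s⁻¹) * f) * (s * f * s⁻¹) := by group
      _ = f * (f * (s * f * s⁻¹)) * (s * f * s⁻¹) := by rw [hfg]
      _ = (f * f) * (s * (f * f) * s⁻¹) := by group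
      _ = 1 := by rw [f3]; group

/-- an element of `Z(stb M B)` which commutes with an element of `S - stb M B` -/
theorem mem_zc_of_comm {s f : G} (hs : s ∈ (S : Subgroup G)) (hs1 : s ∉ stb M.toNatV B)
    (hf : f ∈ zc (stb M.toNatV B)) (hsf : s * f * s⁻¹ = f) : f ∈ zc (S : Subgroup G) := by
  obtain ⟨f1, f2, f3⟩ := VModule.mem_zc.1 hf
  refine VModule.mem_zc.2 ⟨stb_le _ _ f1, fun t ht => ?_, f3⟩
  by_cases ht1 : t ∈ stb M.toNatV B
  · exact f2 t ht1
  · have h1 : s⁻¹ * t ∈ stb M.toNatV B :=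
      Two.two_cosets (stb_le M.toNatV B) hB.card s hs t ht hs1 ht1
    have h2 := f2 _ h1
    calc t * f = s * ((s⁻¹ * t) * f) := by group
      _ = (s * f * s⁻¹) * t := by rw [h2]; group
      _ = f * t := by rw [hsf]

/-- **An element of `Ω₁(Z(stb M B))` with trivial norm lies in `part M B`.** -/
theorem mem_part_of_norm {x f : G} (hx : x ∈ grp M.toNatV B) (hx1 : ∀ a ∈ part M.toNatV B, nx x a = 1)
    (hf : f ∈ zc (stb M.toNatV B)) (hn : nx x f = 1) : f ∈ part M.toNatV B := by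
  obtain ⟨s, hs, hs1⟩ := hB.exists_swap
  have hsP : s ∈ P := SP M hs
  have hxP : x ∈ P := grp_le _ _ hx
  have hcomm := zc_comm (o2 P)
  have hxz : x ∈ normalizer (zc (o2 P) : Set G) := zz_nor P hxP
  set y := s * x * s⁻¹ with hy
  have hyP : y ∈ P := mul_mem (mul_mem hsP hxP) (inv_mem hsP)
  have hyz : y ∈ normalizer (zc (o2 P) : Set G) := zz_nor P hyP
  -- `y ∈ grp M Bᶜ`
  have hyB : y ∈ grp M.toNatV Bᶜ := by
    have h1 : cj s (grp M.toNatV B) = grp M.toNatV Bᶜ := by
      rw [conj_grp M.toNatV hsP, (hB.not_mem hs).1 hs1]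
    rw [← h1, mem_cj, hy]
    have e : s⁻¹ * (s * x * s⁻¹) * s = x := by group
    rwa [e]
  have hdj : Disjoint B Bᶜ := disjoint_compl_right
  have hxb : ∀ b ∈ part M.toNatV Bᶜ, x * b = b * x := fun b hb => grp_comm M.toNatV hdj hx hb
  have hya : ∀ a ∈ part M.toNatV B, y * a = a * y := fun a ha => grp_comm M.toNatV hdj.symm hyB ha
  have hxd : ∀ d ∈ D, x * d = d * x := fun d hd => (mem_centralizer_iff.1 (M.cD hxP) d hd).symm
  have hyd : ∀ d ∈ D, y * d = d * y := fun d hd => (mem_centralizer_iff.1 (M.cD hyP) d hd).symm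
  have hVz := V_le_zz M
  have hDz : D ≤ zc (o2 P) := M.D_le.trans (zl_le_zz M)
  have hyb : ∀ b ∈ part M.toNatV Bᶜ, nx y b = 1 := by
    intro b hb
    have h1 : s⁻¹ * b * s ∈ part M.toNatV B := by
      have := hB.swap' (inv_mem hs) (fun h => hs1 (inv_mem_iff.1 h)) hb
      rwa [inv_inv] at this
    have h2 := nx_conj s x (s⁻¹ * b * s)
    have e : s * (s⁻¹ * b * s) * s⁻¹ = b := by group
    rw [hx1 _ h1, e, ← hy] at h2
    rw [← h2]
    group
  -- norms of elements of `V_P`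
  have nxv : ∀ a ∈ part M.toNatV B, ∀ b ∈ part M.toNatV Bᶜ, ∀ d ∈ D, nx x (a * b * d) = b * d := by
    intro a ha b hb d hd
    rw [nx_mul hcomm hxz (mul_mem (hVz ha.1) (hVz hb.1)) (hDz hd), nx_mul hcomm hxz (hVz ha.1) (hVz hb.1),
      hx1 a ha, nx_of_comm (hxb b hb) (mul_self_zc (hVz hb.1)), nx_of_comm (hxd d hd) (mul_self_zc (hDz hd)),
      one_mul]
  have nyv : ∀ a ∈ part M.toNatV B, ∀ b ∈ part M.toNatV Bᶜ, ∀ d ∈ D, nx y (a * b * d) = a * d := by
    intro a ha b hb d hd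
    rw [nx_mul hcomm hyz (mul_mem (hVz ha.1) (hVz hb.1)) (hDz hd), nx_mul hcomm hyz (hVz ha.1) (hVz hb.1),
      hyb b hb, nx_of_comm (hya a ha) (mul_self_zc (hVz ha.1)), nx_of_comm (hyd d hd) (mul_self_zc (hDz hd)),
      mul_one]
  -- `f`, `g = f^s`, `p = f g`
  have hfz : f ∈ zc (o2 P) := zc_stb_le M hf
  set g := s * f * s⁻¹ with hg
  have hgz : g ∈ zc (o2 P) := zz_mem hsP hfz
  have hyg : nx y g = 1 := by
    have h2 := nx_conj s x f
    rw [hn, ← hy, ← hg] at h2
    rw [← h2]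
    group
  have hpz := mul_cj_mem_zc hB hs hs1 hf
  rw [← hg] at hpz
  obtain ⟨a, ha, b, hb, d, hd, hp⟩ := split_eq hB (zc_le_zl _ P hpz)
  have hxg : nx x g = b * d := by
    rw [← nxv a ha b hb d hd, ← hp, nx_mul hcomm hxz hfz hgz, hn, one_mul]
  -- the two norms commute
  have hxy : ∀ z ∈ zc (o2 P), x * (y * z * y⁻¹) * x⁻¹ = y * (x * z * x⁻¹) * y⁻¹ := by
    intro z hz
    have hc : (y * x)⁻¹ * (x * y) ∈ P := mul_mem (inv_mem (mul_mem hyP hxP)) (mul_mem hxP hyP)
    have hcV : ∀ v ∈ V, (y * x)⁻¹ * (x * y) * v = v * ((y * x)⁻¹ * (x * y)) := by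
      intro v hv
      obtain ⟨a, ha, b, hb, rfl⟩ := exists_comp M.toNatV hv B
      have hxa : x * a * x⁻¹ ∈ part M.toNatV B := (mem_normalizer_iff.1 (grp_normalizes _ B B hx) a).1 ha
      have hyb' : y * b * y⁻¹ ∈ part M.toNatV Bᶜ := (mem_normalizer_iff.1 (grp_normalizes _ Bᶜ Bᶜ hyB) b).1 hb
      have e1 : x * y * (a * b) * (x * y)⁻¹ = (x * a * x⁻¹) * (y * b * y⁻¹) := by
        calc x * y * (a * b) * (x * y)⁻¹ = x * ((y * a) * b) * y⁻¹ * x⁻¹ := by group
          _ = (x * a * x⁻¹) * (x * (y * b * y⁻¹)) * x⁻¹ := by rw [hya a ha]; group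
          _ = (x * a * x⁻¹) * (y * b * y⁻¹) := by rw [hxb _ hyb']; group
      have e2 : y * x * (a * b) * (y * x)⁻¹ = (x * a * x⁻¹) * (y * b * y⁻¹) := by
        calc y * x * (a * b) * (y * x)⁻¹ = y * (x * a * x⁻¹) * (x * b) * x⁻¹ * y⁻¹ := by group
          _ = (y * (x * a * x⁻¹)) * b * y⁻¹ := by rw [hxb b hb]; group
          _ = (x * a * x⁻¹) * (y * b * y⁻¹) := by rw [hya _ hxa]; group
      have e3 : x * y * (a * b) * (x * y)⁻¹ = y * x * (a * b) * (y * x)⁻¹ := e1.trans e2.symm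
      calc (y * x)⁻¹ * (x * y) * (a * b) = (y * x)⁻¹ * (x * y * (a * b) * (x * y)⁻¹) * (x * y) := by group
        _ = (y * x)⁻¹ * (y * x * (a * b) * (y * x)⁻¹) * (x * y) := by rw [e3]
        _ = a * b * ((y * x)⁻¹ * (x * y)) := by group
    have h1 := comm_zz M hc hcV hz
    calc x * (y * z * y⁻¹) * x⁻¹ = (y * x) * ((y * x)⁻¹ * (x * y) * z) * (x * y)⁻¹ := by group
      _ = (y * x) * (z * ((y * x)⁻¹ * (x * y))) * (x * y)⁻¹ := by rw [h1]
      _ = y * (x * z * x⁻¹) * y⁻¹ := by group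
  have hd1 : d = 1 := by
    have h1 := nx_nx hcomm hxz hyz hxy hgz
    rw [hyg, nx_one, hxg] at h1
    have h2 := nyv 1 (one_mem _) b hb d hd
    rw [one_mul, one_mul] at h2
    rw [← h2, ← h1]
  rw [hd1, mul_one] at hp
  -- `a^s = b`, `b^s = a`
  have hps : s * (f * g) = f * g * s := (VModule.mem_zc.1 hpz).2.1 s hs
  have hab : s * a * s⁻¹ = b ∧ s * b * s⁻¹ = a := by
    have h1 : s * a * s⁻¹ ∈ part M.toNatV Bᶜ := hB.swap hs hs1 ha
    have h2 : s * b * s⁻¹ ∈ part M.toNatV B := hB.swap' hs hs1 hb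
    have h3 : (s * b * s⁻¹) * (s * a * s⁻¹) = a * b := by
      have h4 : s * (a * b) * s⁻¹ = a * b := by
        rw [← hp, hps]
        group
      rw [← NV.comm M.toNatV h1.1 h2.1]
      calc s * a * s⁻¹ * (s * b * s⁻¹) = s * (a * b) * s⁻¹ := by group
        _ = a * b := h4
    have h5 : a⁻¹ * (s * b * s⁻¹) = b * (s * a * s⁻¹)⁻¹ := by
      rw [eq_mul_inv_iff_mul_eq, mul_assoc, h3]
      group
    have h6 : a⁻¹ * (s * b * s⁻¹) = 1 :=
      part_inf_compl (M := M) (mul_mem (inv_mem ha) h2) (h5 ▸ mul_mem hb (inv_mem h1))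
    constructor
    · rw [h6] at h5
      exact (mul_inv_eq_one.1 h5.symm).symm
    · exact (inv_mul_eq_one.1 h6).symm
  -- `a` is centralised by `stb M B`
  have haz : a ∈ zc (stb M.toNatV B) := by
    refine VModule.mem_zc.2 ⟨?_, fun t ht => ?_, ?_⟩
    · refine mem_inf.2 ⟨V_le_S M ha.1, mem_normalizer_iff.2 fun v => ?_⟩
      constructor
      · intro hv
        have : a * v * a⁻¹ = v := by rw [NV.comm M.toNatV ha.1 hv.1]; group
        rwa [this]
      · intro hv
        have h1 := NV.comm M.toNatV ha.1 hv.1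
        have h2 : a * (a * v * a⁻¹) = a * v := by rw [h1]; group
        have h3 : a * v * a⁻¹ = v := mul_left_cancel h2
        rwa [h3] at hv
    · have htS := stb_le _ _ ht
      have htP : t ∈ P := SP M htS
      have h1 : t * a * t⁻¹ ∈ part M.toNatV B := (mem_normalizer_iff.1 ht.2 a).1 ha
      have h2 : t * b * t⁻¹ ∈ part M.toNatV Bᶜ := by
        have h3 : t ∈ stb M.toNatV Bᶜ := by rwa [hB.stb_compl]
        exact (mem_normalizer_iff.1 h3.2 b).1 hb
      have h3 : (t * a * t⁻¹) * (t * b * t⁻¹) = a * b := by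
        have h4 : t * (f * g) = f * g * t := (VModule.mem_zc.1 hpz).2.1 t htS
        calc t * a * t⁻¹ * (t * b * t⁻¹) = t * (a * b) * t⁻¹ := by group
          _ = a * b := by rw [← hp, h4]; group
      have h5 : a⁻¹ * (t * a * t⁻¹) = b * (t * b * t⁻¹)⁻¹ := by
        rw [eq_mul_inv_iff_mul_eq, mul_assoc, h3]
        group
      have h6 : a⁻¹ * (t * a * t⁻¹) = 1 :=
        part_inf_compl (M := M) (mul_mem (inv_mem ha) h1) (h5 ▸ mul_mem hb (inv_mem h2))
      have h7 := inv_mul_eq_one.1 h6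
      calc t * a = t * a * t⁻¹ * t := by group
        _ = a * t := by rw [← h7]
    · exact (VModule.mem_zc.1 (hVz ha.1)).2.2
  -- `f' = f a`
  have hf' : f * a ∈ zc (stb M.toNatV B) := mul_mem hf haz
  have hpp : f * g * (f * g) = 1 := mul_self_zc hpz
  have hfa : f * a = a * f := hcomm f hfz a (hVz ha.1)
  have hga : g * a = a * g := hcomm g hgz a (hVz ha.1)
  have hff : f * a * (f * a) = 1 := mul_self_zc hf'
  have hfs : s * (f * a) * s⁻¹ = f * a := by
    have e1 : s * (f * a) * s⁻¹ = g * b := by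
      rw [← hab.1, hg]
      group
    have e2 : f * a * (g * b) = 1 := by
      calc f * a * (g * b) = f * (a * g) * b := by group
        _ = f * g * (a * b) := by rw [← hga]; group
        _ = 1 := by rw [← hp, hpp]
    rw [e1]
    exact mul_left_cancel (e2.trans hff.symm)
  have hf'z := mem_zc_of_comm hB hs hs1 hf' hfs
  obtain ⟨a', ha', b', hb', d', hd', hp'⟩ := split_eq hB (zc_le_zl _ P hf'z)
  have k1 : b' * d' = 1 := by
    rw [← nxv a' ha' b' hb' d' hd', ← hp', nx_mul hcomm hxz hfz (hVz ha.1), hn, hx1 a ha, one_mul]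
  have k2 : a' * d' = 1 := by
    have h1 : nx y f = a := by
      have h2 := nyv a ha b hb 1 (one_mem _)
      rw [mul_one, mul_one, ← hp, nx_mul hcomm hyz hfz hgz, hyg, mul_one] at h2
      exact h2
    rw [← nyv a' ha' b' hb' d' hd', ← hp', nx_mul hcomm hyz hfz (hVz ha.1), h1,
      nx_of_comm (hya a ha) (mul_self_zc (hVz ha.1)), mul_self_zc (hVz ha.1)]
  have hd'1 : d' = 1 := by
    have h1 : b' = d'⁻¹ := eq_inv_of_mul_eq_one_left k1
    have h2 : d'⁻¹ ∈ V := h1 ▸ hb'.1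
    exact inf_D (M := M) (inv_mem_iff.1 h2) hd'
  rw [hd'1, mul_one] at k1 k2
  rw [k1, k2, hd'1, one_mul, one_mul] at hp'
  have h1 : f = a⁻¹ := eq_inv_of_mul_eq_one_left hp'
  rw [h1]
  exact inv_mem ha

/-- `part M B ≤ stb M B` -/
theorem part_le_stb : V ≤ stb M.toNatV B := by
  refine le_inf (V_le_S M) fun a ha => ?_
  rw [mem_normalizer_iff]
  intro v
  constructor
  · intro hv
    have : a * v * a⁻¹ = v := by rw [NV.comm M.toNatV ha hv.1]; group
    rwa [this]
  · intro hv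
    have h1 := NV.comm M.toNatV ha hv.1
    have h2 : a * (a * v * a⁻¹) = a * v := by rw [h1]; group
    rwa [mul_left_cancel h2] at hv

/-- a fixed element of a part -/
theorem exists_fixed_part : ∃ z ∈ part M.toNatV B, z ≠ 1 ∧ ∀ t ∈ stb M.toNatV B, t * z = z * t := by
  have h2 : IsPGroup 2 (stb M.toNatV B) := S.isPGroup'.to_le (stb_le _ _)
  obtain ⟨i, hi⟩ := hB.ne
  have hne : part M.toNatV B ≠ ⊥ := by
    intro h0
    obtain ⟨v, hv, h1⟩ := exists_fac M.toNatV i ![1, 0]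
    have h2 := part_mono M.toNatV (Set.singleton_subset_iff.2 hi) hv
    rw [h0, mem_bot] at h2
    rw [h2, e_one] at h1
    have := congrFun h1 0
    simp at this
  have hle : part M.toNatV B ≤ stb M.toNatV B := (part_le _ _).trans (part_le_stb hB)
  obtain ⟨z, hz, hz1, hc⟩ := Half.exists_fixed (h2.to_le hle) hne h2 inf_le_right
  exact ⟨z, hz, hz1, fun t ht => mul_inv_eq_iff_eq_mul.1 (hc t ht)⟩

/-- `stb M B` is a Sylow 2-subgroup of `⟨grp M B, stb M B⟩`. -/
theorem not_dvd_sup : ¬ 2 ∣ (stb M.toNatV B).relIndex (grp M.toNatV B ⊔ stb M.toNatV B) := by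
  obtain ⟨z, hz, hz1, hc⟩ := exists_fixed_part hB.compl
  rw [hB.stb_compl] at hc
  refine Half.not_dvd_of_fus S (P := P) (z := z) (SP M) (stb_le _ _) hB.card le_sup_right
    (sup_le (grp_le _ _) ((stb_le _ _).trans (SP M))) ?_ ?_
  · have h1 : grp M.toNatV B ⊔ stb M.toNatV B ≤ centralizer ({z} : Set G) := by
      refine sup_le (fun g hg => ?_) (fun g hg => ?_)
      · exact mem_centralizer_singleton_iff.2 (grp_comm M.toNatV disjoint_compl_right hg hz)
      · exact mem_centralizer_singleton_iff.2 (hc g hg)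
    exact fun x hx => mem_centralizer_singleton_iff.1 (h1 hx)
  · intro g hg hcon
    obtain ⟨i, hi⟩ := hB.ne
    have h1 : M.e (g * z * g⁻¹) (sg M.toNatV hg i) = 0 := (sg_spec M.toNatV hg hz.1 i).2 (hz.2 i fun h => h hi)
    have h2 := eq_one_of_cent M.toNatV (cj_mem M.toNatV hg hz.1) hcon h1
    apply hz1
    have e : z = g⁻¹ * (g * z * g⁻¹) * g := by group
    rw [e, h2]
    group

/-- `O₂(⟨grp M B, stb M B⟩)` centralises `part M B`. -/
theorem o2_sup_le : o2 (grp M.toNatV B ⊔ stb M.toNatV B) ≤ centralizer (part M.toNatV B : Set G) := by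
  set L := grp M.toNatV B ⊔ stb M.toNatV B with hL
  have hLU : L ≤ normalizer (part M.toNatV B : Set G) := grp_le_normalizer_part B
  have h2 : IsPGroup 2 (stb M.toNatV B) := S.isPGroup'.to_le (stb_le _ _)
  have hU2 : IsPGroup 2 (part M.toNatV B) := h2.to_le ((part_le _ _).trans (part_le_stb hB))
  obtain ⟨z, hz, hz1, -⟩ := exists_fixed_part hB
  have hU : part M.toNatV B ≠ ⊥ := fun h => hz1 (by rw [h, mem_bot] at hz; exact hz)
  obtain ⟨v, hv, hv1, hvc⟩ := Half.exists_fixed hU2 hU (o2_isPGroup L) ((o2_le L).trans hLU)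
  have hinv : L ≤ normalizer ((part M.toNatV B ⊓ centralizer (o2 L : Set G) : Subgroup G) : Set G) := by
    refine Half.le_normalizer_inf hLU ?_
    apply Two.le_normalizer_of
    intro k hk v hv
    rw [mem_centralizer_iff] at hv ⊢
    intro y hy
    have h2 := (mem_normalizer_iff.1 (inv_mem (le_normalizer_o2 _ hk)) y).1 hy
    have h3 := hv _ h2
    rw [inv_inv] at h3
    calc y * (k * v * k⁻¹) = k * (k⁻¹ * y * k * v) * k⁻¹ := by group
      _ = k * (v * (k⁻¹ * y * k)) * k⁻¹ := by rw [h3]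
      _ = k * v * k⁻¹ * y := by group
  rcases hB.irr inf_le_left hinv with h1 | h1
  · exfalso
    apply hv1
    have h2 : v ∈ part M.toNatV B ⊓ centralizer (o2 L : Set G) := by
      refine mem_inf.2 ⟨hv, mem_centralizer_iff.2 fun t ht => ?_⟩
      exact mul_inv_eq_iff_eq_mul.1 (hvc t ht)
    rwa [h1, mem_bot] at h2
  · intro x hx
    rw [mem_centralizer_iff]
    intro y hy
    rw [SetLike.mem_coe, ← h1] at hy
    exact (mem_centralizer_iff.1 (mem_inf.1 hy).2 x hx).symm

/-- **HALF LEMMA.** -/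
theorem half [CharP F 2] {H : Subgroup G} (hH : H ⊓ centralizer (o2 H : Set G) ≤ o2 H)
    (hS : stb M.toNatV B ≤ H) (hL : grp M.toNatV B ≤ H) :
    part M.toNatV B ≤ o2 H ∧ o2 H ≤ centralizer (part M.toNatV B : Set G) := by
  have hVSo := part_le_stb hB
  refine half_of S (stb_le _ _) hB.card hH le_sup_right (sup_le hL hS) (not_dvd_sup hB)
    ((part_le _ _).trans hVSo) (grp_le_normalizer_part B) (fun a ha b hb => NV.comm M.toNatV ha.1 hb.1)
    (fun X hX hn => hB.irr hX hn) (o2_sup_le hB) ?_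
  intro w hw hw' heq hc
  obtain ⟨z, hz, hz1, hzc⟩ := exists_fixed_part hB
  obtain ⟨x, hx, hx1⟩ := exists_three M.toNatV B
  refine ⟨z, hz, hz1, ?_⟩
  have hzs : z * z = 1 := mul_self_zc (V_le_zz M hz.1)
  have hz2 : w * z * w⁻¹ ∈ stb M.toNatV B := hw z (hVSo hz.1)
  have hfz : z * (w * z * w⁻¹) ∈ zc (stb M.toNatV B) := by
    refine VModule.mem_zc.2 ⟨mul_mem (hVSo hz.1) hz2, fun t ht => ?_, ?_⟩
    · have h1 := hzc _ (hw' t ht)
      have h2 : t * (w * z * w⁻¹) = (w * z * w⁻¹) * t := by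
        calc t * (w * z * w⁻¹) = w * (w⁻¹ * t * w * z) * w⁻¹ := by group
          _ = w * (z * (w⁻¹ * t * w)) * w⁻¹ := by rw [h1]
          _ = (w * z * w⁻¹) * t := by group
      calc t * (z * (w * z * w⁻¹)) = (t * z) * (w * z * w⁻¹) := by group
        _ = z * (t * (w * z * w⁻¹)) := by rw [hzc t ht, mul_assoc]
        _ = z * (w * z * w⁻¹) * t := by rw [h2, ← mul_assoc]
    · have h1 := hc z hz z hz
      rw [pow_two]
      calc z * (w * z * w⁻¹) * (z * (w * z * w⁻¹)) = z * ((w * z * w⁻¹) * z) * (w * z * w⁻¹) := by group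
        _ = z * (z * (w * z * w⁻¹)) * (w * z * w⁻¹) := by rw [h1]
        _ = (z * z) * (w * (z * z) * w⁻¹) := by group
        _ = 1 := by rw [hzs]; group
  have hnorm : nx x (z * (w * z * w⁻¹)) = 1 := by
    have h1 := nx_map (x := x) (fun a => a * (w * a * w⁻¹)) (B := part M.toNatV B)
      (fun a ha b hb => by
        have h2 := hc b hb a ha
        change a * b * (w * (a * b) * w⁻¹) = a * (w * a * w⁻¹) * (b * (w * b * w⁻¹))
        calc a * b * (w * (a * b) * w⁻¹) = a * (b * (w * a * w⁻¹)) * (w * b * w⁻¹) := by group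
          _ = a * ((w * a * w⁻¹) * b) * (w * b * w⁻¹) := by rw [h2]
          _ = _ := by group)
      (grp_normalizes _ B B hx)
      (fun a ha => by
        rw [← heq x (mem_sup_left hx) a ha]
        group) hz
    rw [hx1 z hz] at h1
    rw [h1]
    group
  have h1 := mem_part_of_norm hB hx hx1 hfz hnorm
  have h2 := mul_mem (inv_mem hz) h1
  rwa [inv_mul_cancel_left] at h2

end main

end natD

end NV

/-! ### Constructors -/

section ctor

variable {G : Type u} [Group G] [Finite G] {F : Type} [Field F] [CharP F 2] {S : Sylow 2 G} {P : Subgroup G} {k : ℕ}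

/-- `C_{V_P}(O²(P)) = 1` -/
def NatD.ofFree (hG : IsCharacteristicTwoType G) (h : IsParS (S : Subgroup G) P)
    (M : NatK F (S : Subgroup G) P (zl (S : Subgroup G) P) ⊥ k) :
    NatD F S P (zl (S : Subgroup G) P) ⊥ k where
  toNatK := M
  nV := le_normalizer_zl _ _
  hG := hG
  star := h
  V_le := le_rfl
  D_le := bot_le
  dec v hv := ⟨v, hv, 1, one_mem _, (mul_one v).symm⟩
  inf := inf_bot_eq _
  cD := by
    intro p _
    rw [mem_centralizer_iff]
    intro d hd
    rw [SetLike.mem_coe, mem_bot] at hd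
    rw [hd, one_mul, mul_one]

/-- `V_P = [V_P, O²(P)] × C_{V_P}(O²(P))` -/
noncomputable def NatD.ofSplit (hG : IsCharacteristicTwoType G) (h : IsParS (S : Subgroup G) P)
    (M : NatK F (S : Subgroup G) P (zl (S : Subgroup G) P) (cv (S : Subgroup G) P) k)
    (hs : SplitPar (S : Subgroup G) P) :
    NatD F S P (vx (S : Subgroup G) P) (cv (S : Subgroup G) P) k where
  toNatK := Cv.natK M hs fun s hs' d hd =>
    (VModule.mem_zc.1 (Cv.cv_le_zc hG S h M hs hd)).2.1 s hs'
  nV := HOne.le_normalizer_vx _ _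
  hG := hG
  star := h
  V_le := HOne.vx_le _ _
  D_le := HOne.cv_le _ _
  dec v hv := Cv.exists_mul M hv
  inf := hs
  cD := Cv.le_centralizer_cv hG S h M hs

end ctor

end Cfsg.Agent.Omega.IId
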