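import Cfsg.Agent.Omega.IId.Cv.LineAct
import Cfsg.Agent.Omega.IId.Cv.Half

/-!
# II.d, `V_P = V × D`: `O₂` of the 2-locals over `N_S(part M B)`

* `no_swap` : no Sylow 2-subgroup centralises `a ≠ b` if an element of `G` swaps `a` and `b`;
* `o2_le_stb` : `O₂(H) ≤ N_S(part M B)` for `⟨grp M Bᶜ, stb M B⟩ ≤ H ≤ N(R)`, `1 ≠ R ≤ part M B`, `H` of
  characteristic 2 (helper994 #16867 (2), all `q`, `k`, `D`);
* `not_local`, `nonLoc` : nonlocality (helper114);
* `k = 2`: `blk_two`, `half_two`, `o2_line_le`, `nonLoc_two`, `o2_cent_line`, `cent_D`.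
-/

set_option autoImplicit false
set_option linter.unusedSectionVars false

namespace Cfsg.Agent.Omega.IId.NV

open Subgroup Cfsg Cfsg.Agent.ZN Cfsg.Agent.ZN.ChoiceBase
open Cfsg.Agent.Omega.MinPar Cfsg.Agent.Omega.FFThm
open Cfsg.Agent.Lib.SL2Mat
open Cfsg.Agent.MinSimple
open Cfsg.Agent.MinSimple.VModule (zc_le zc_comm zc_sq zc_le_zl le_normalizer_o2 o2_isPGroup o2_le
  normalizer_le_normalizer_zc le_normalizer_zl)

universe u

section swap

variable {G : Type u} [Group G] [Finite G]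

/-- **No Sylow 2-subgroup centralises `a ≠ b` if some element of `G` swaps `a` and `b`.** -/
theorem no_swap (T : Sylow 2 G) {a b s : G} (ha : ∀ t ∈ (T : Subgroup G), t * a = a * t)
    (hb : ∀ t ∈ (T : Subgroup G), t * b = b * t) (hne : a ≠ b) (h1 : s * a * s⁻¹ = b) (h2 : s * b * s⁻¹ = a) :
    False := by
  -- the stabiliser of `{a, b}`
  let Γ : Subgroup G :=
    { carrier := {g | (g * a * g⁻¹ = a ∧ g * b * g⁻¹ = b) ∨ (g * a * g⁻¹ = b ∧ g * b * g⁻¹ = a)}
      one_mem' := Or.inl ⟨by group, by group⟩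
      mul_mem' := by
        intro x y hx hy
        have e : ∀ z, x * y * z * (x * y)⁻¹ = x * (y * z * y⁻¹) * x⁻¹ := fun z => by group
        change (x * y * a * (x * y)⁻¹ = a ∧ x * y * b * (x * y)⁻¹ = b) ∨
          (x * y * a * (x * y)⁻¹ = b ∧ x * y * b * (x * y)⁻¹ = a)
        rw [e, e]
        rcases hx with ⟨x1, x2⟩ | ⟨x1, x2⟩ <;> rcases hy with ⟨y1, y2⟩ | ⟨y1, y2⟩ <;> rw [y1, y2]
        · exact Or.inl ⟨x1, x2⟩
        · exact Or.inr ⟨x2, x1⟩
        · exact Or.inr ⟨x1, x2⟩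
        · exact Or.inl ⟨x2, x1⟩
      inv_mem' := by
        intro x hx
        have e : ∀ z w, x * z * x⁻¹ = w → x⁻¹ * w * x⁻¹⁻¹ = z := fun z w h => by
          rw [← h]; group
        rcases hx with ⟨x1, x2⟩ | ⟨x1, x2⟩
        · exact Or.inl ⟨e _ _ x1, e _ _ x2⟩
        · exact Or.inr ⟨e _ _ x2, e _ _ x1⟩ }
  have hΓ : ∀ g, g ∈ Γ ↔ (g * a * g⁻¹ = a ∧ g * b * g⁻¹ = b) ∨ (g * a * g⁻¹ = b ∧ g * b * g⁻¹ = a) :=
    fun g => Iff.rfl
  set K : Subgroup G := centralizer ({a} : Set G) ⊓ centralizer ({b} : Set G) with hK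
  have hKm : ∀ g, g ∈ K ↔ g * a * g⁻¹ = a ∧ g * b * g⁻¹ = b := by
    intro g
    rw [hK, mem_inf, mem_centralizer_singleton_iff, mem_centralizer_singleton_iff, mul_inv_eq_iff_eq_mul,
      mul_inv_eq_iff_eq_mul]
  have hKΓ : K ≤ Γ := fun g hg => Or.inl ((hKm g).1 hg)
  have hTK : (T : Subgroup G) ≤ K := fun t ht => (hKm t).2
    ⟨mul_inv_eq_iff_eq_mul.2 (ha t ht), mul_inv_eq_iff_eq_mul.2 (hb t ht)⟩
  have hsΓ : s ∈ Γ := Or.inr ⟨h1, h2⟩
  have hidx : K.relIndex Γ = 2 := by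
    rw [relIndex, Subgroup.index_eq_two_iff]
    refine ⟨⟨s, hsΓ⟩, fun g => ?_⟩
    change Xor ((g : G) * s ∈ K) ((g : G) ∈ K)
    have e : ∀ z, (g : G) * s * z * ((g : G) * s)⁻¹ = g * (s * z * s⁻¹) * (g : G)⁻¹ := fun z => by group
    rw [hKm, hKm, e, e, h1, h2]
    rcases (hΓ g).1 g.2 with ⟨g1, g2⟩ | ⟨g1, g2⟩
    · right
      exact ⟨⟨g1, g2⟩, fun h => hne (g2.symm.trans h.1).symm⟩
    · left
      exact ⟨⟨g2, g1⟩, fun h => hne (h.1.symm.trans g1)⟩
  have h3 := Subgroup.relIndex_mul_relIndex _ _ _ hTK hKΓ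
  have h4 := MinSimple.Basic.not_dvd_relIndex T (hTK.trans hKΓ)
  apply h4
  rw [← h3, hidx]
  exact Dvd.intro_left _ rfl

end swap

section main

variable {G : Type u} [Group G] [Finite G] {F : Type} [Field F] [CharP F 2] {S : Sylow 2 G}
  {P V D : Subgroup G} {k : ℕ} {M : NatD F S P V D k} {B : Set (Fin k)} (hB : Blk M.toNatV B)

include hB

/-- **`O₂(H) ≤ stb M B`.** -/
theorem o2_le_stb' {H R : Subgroup G} (hR : R ≤ part M.toNatV B) (hR1 : R ≠ ⊥) (hRn : H ≤ normalizer (R : Set G))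
    (hH : H ⊓ centralizer (o2 H : Set G) ≤ o2 H) (hS : stb M.toNatV B ≤ H) (hL : grp M.toNatV Bᶜ ≤ H) :
    o2 H ≤ stb M.toNatV B := by
  have hfact : Fact (Nat.Prime 2) := ⟨Nat.prime_two⟩
  by_contra hcon
  obtain ⟨w, hw, hwS⟩ := SetLike.not_le_iff_exists.1 hcon
  have hhalf := half hB.compl hH (by rw [hB.stb_compl]; exact hS) hL
  have hSo2 : IsPGroup 2 (stb M.toNatV B) := S.isPGroup'.to_le (stb_le _ _)
  obtain ⟨T', h1, h2, h3, h4⟩ := Half.exists_sylow_le hSo2 hS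
  have hQT : o2 H ≤ T' := VModule.o2_le_of_sylow h3 h4
  -- `T'` is a Sylow 2-subgroup of `G`
  obtain ⟨Q, hQ⟩ := h3.exists_le_sylow
  have hcQ : Nat.card (Q : Subgroup G) ≤ Nat.card (S : Subgroup G) := Half.card_le_sylow S Q.isPGroup'
  have hrel := Half.card_mul_relIndex h1
  have hne : (stb M.toNatV B).relIndex T' ≠ 1 := fun h => hwS ((relIndex_eq_one.mp h) (hQT hw))
  have hne0 : (stb M.toNatV B).relIndex T' ≠ 0 := fun h => by
    rw [h, mul_zero] at hrel
    exact Nat.card_pos.ne hrel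
  have hge : 2 * Nat.card (stb M.toNatV B) ≤ Nat.card T' := by
    rw [← hrel, mul_comm]
    exact Nat.mul_le_mul_left _ (by omega)
  have hTQ : T' = (Q : Subgroup G) := by
    refine eq_of_le_of_card_ge hQ (hcQ.trans ?_)
    rw [hB.card]
    exact hge
  have hcard : Nat.card T' = 2 * Nat.card (stb M.toNatV B) := by
    refine le_antisymm ?_ hge
    rw [← hB.card, hTQ]
    exact hcQ
  have htwo := Two.two_cosets h1 hcard
  -- a fixed element
  have hR2 : IsPGroup 2 R := S.isPGroup'.to_le (hR.trans ((part_le _ _).trans (V_le_S M)))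
  obtain ⟨a, haR, ha1, hac⟩ := Half.exists_fixed hR2 hR1 h3 (h2.trans hRn)
  obtain ⟨s, hs, hs1⟩ := hB.exists_swap
  have haB := hR haR
  have hbB : s * a * s⁻¹ ∈ part M.toNatV Bᶜ := hB.swap hs hs1 haB
  have hba : s * (s * a * s⁻¹) * s⁻¹ = a := by
    have h5 := hac _ (h1 (mul_self_stb hB hs hs1))
    calc s * (s * a * s⁻¹) * s⁻¹ = s * s * a * (s * s)⁻¹ := by group
      _ = a := h5
  have hac' : ∀ t ∈ T', t * a = a * t := fun t ht => mul_inv_eq_iff_eq_mul.1 (hac t ht)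
  have hbSo : ∀ t ∈ stb M.toNatV B, t * (s * a * s⁻¹) = (s * a * s⁻¹) * t := by
    intro t ht
    have h5 : s⁻¹ * t * s ∈ stb M.toNatV B := by
      have := stb_conj hB (inv_mem hs) ht
      rwa [inv_inv] at this
    have h6 := hac' _ (h1 h5)
    calc t * (s * a * s⁻¹) = s * (s⁻¹ * t * s * a) * s⁻¹ := by group
      _ = s * (a * (s⁻¹ * t * s)) * s⁻¹ := by rw [h6]
      _ = (s * a * s⁻¹) * t := by group
  have hbw : w * (s * a * s⁻¹) = (s * a * s⁻¹) * w :=
    (mem_centralizer_iff.1 (hhalf.2 hw) _ hbB).symm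
  have hbT : ∀ t ∈ T', t * (s * a * s⁻¹) = (s * a * s⁻¹) * t := by
    intro t ht
    by_cases ht1 : t ∈ stb M.toNatV B
    · exact hbSo t ht1
    · have h5 := hbSo _ (htwo w (hQT hw) t ht hwS ht1)
      calc t * (s * a * s⁻¹) = w * (w⁻¹ * t * (s * a * s⁻¹)) := by group
        _ = w * (s * a * s⁻¹) * (w⁻¹ * t) := by rw [h5]; group
        _ = (s * a * s⁻¹) * t := by rw [hbw]; group
  refine no_swap Q (a := a) (b := s * a * s⁻¹) (s := s) (fun t ht => hac' t (hTQ ▸ ht))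
    (fun t ht => hbT t (hTQ ▸ ht)) ?_ rfl hba
  intro h5
  rw [← h5] at hbB
  exact ha1 (part_inf_compl (M := M) haB hbB)

/-- `V ≤ Z(O₂(H))` for `⟨grp M B, grp M Bᶜ, stb M B⟩ ≤ H`. -/
theorem V_le_o2 {H : Subgroup G} (hH : H ⊓ centralizer (o2 H : Set G) ≤ o2 H) (hS : stb M.toNatV B ≤ H)
    (hL : grp M.toNatV B ≤ H) (hL' : grp M.toNatV Bᶜ ≤ H) : V ≤ o2 H ∧ o2 H ≤ centralizer (V : Set G) := by
  have h1 := half hB hH hS hL
  have h2 := half hB.compl hH (by rw [hB.stb_compl]; exact hS) hL'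
  constructor
  · intro v hv
    obtain ⟨a, ha, b, hb, rfl⟩ := exists_comp M.toNatV hv B
    exact mul_mem (h1.1 ha) (h2.1 hb)
  · intro x hx
    rw [mem_centralizer_iff]
    intro v hv
    obtain ⟨a, ha, b, hb, rfl⟩ := exists_comp M.toNatV hv B
    have h3 := mem_centralizer_iff.1 (h1.2 hx) a ha
    have h4 := mem_centralizer_iff.1 (h2.2 hx) b hb
    calc a * b * x = a * (b * x) := by group
      _ = (a * x) * b := by rw [h4]; group
      _ = x * (a * b) := by rw [h3]; group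

/-- **Nonlocality**: no `H` of characteristic 2 contains `grp M B`, `grp M Bᶜ`, `stb M B` and an element `c`
with `[V, V^c] ≠ 1`. -/
theorem not_local {H : Subgroup G} (hH : H ⊓ centralizer (o2 H : Set G) ≤ o2 H) (hS : stb M.toNatV B ≤ H)
    (hL : grp M.toNatV B ≤ H) (hL' : grp M.toNatV Bᶜ ≤ H) {c v w : G} (hc : c ∈ H) (hv : v ∈ V) (hw : w ∈ V)
    (hne : v * (c * w * c⁻¹) ≠ c * w * c⁻¹ * v) : False := by
  obtain ⟨h1, h2⟩ := V_le_o2 hB hH hS hL hL'
  have h3 : c * w * c⁻¹ ∈ o2 H := (mem_normalizer_iff.1 (le_normalizer_o2 H hc) w).1 (h1 hw)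
  exact hne (mem_centralizer_iff.1 (h2 h3) v hv)

/-- **Nonlocality** of `⟨N_G(part M B), N_G(R)⟩`, `[V, V^c] ≠ 1` for an element `c ∈ N_G(R)`. -/
theorem nonLoc {R : Subgroup G} {c v w : G} (hc : c ∈ normalizer (R : Set G)) (hv : v ∈ V) (hw : w ∈ V)
    (hne : v * (c * w * c⁻¹) ≠ c * w * c⁻¹ * v) :
    NonLoc (normalizer (part M.toNatV B : Set G)) (normalizer (R : Set G)) := by
  intro T₀ hT₀ hVT hRT
  by_contra h0
  have hH := MinSimple.Basic.char2_normalizer M.hG hT₀ h0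
  have h1 : grp M.toNatV B ≤ normalizer (T₀ : Set G) := (grp_normalizes _ B B).trans hVT
  have h2 : grp M.toNatV Bᶜ ≤ normalizer (T₀ : Set G) := (grp_normalizes _ Bᶜ B).trans hVT
  have h3 : stb M.toNatV B ≤ normalizer (T₀ : Set G) := inf_le_right.trans hVT
  exact not_local hB hH h3 h1 h2 (hRT hc) hv hw hne

end main

/-! ### Two factors -/

section two

variable {G : Type u} [Group G] [Finite G] {F : Type} [Field F] [CharP F 2] {S : Sylow 2 G}
  {P V D : Subgroup G} (M : NatD F S P V D 2) {i j : Fin 2} (hij : i ≠ j)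

include M in
theorem blk_two (i : Fin 2) : Blk M.toNatV {i} where
  SP := SP M
  ne := ⟨i, rfl⟩
  ne' := by
    obtain ⟨j, hj⟩ := exists_ne i
    exact ⟨j, hj⟩
  mv t ht := by
    rw [Set.image_singleton]
    obtain ⟨j, hj⟩ := exists_ne i
    rw [compl_eq hj.symm, Set.singleton_eq_singleton_iff, Set.singleton_eq_singleton_iff]
    generalize sg M.toNatV (SP M ht) i = x
    clear ht
    revert i j x
    decide

theorem stb_eq (i : Fin 2) : stb M.toNatV {i} = stab M.toNatV i := rfl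

include hij

/-- **HALF LEMMA, `k = 2`** -/
theorem half_two {H : Subgroup G} (hH : H ⊓ centralizer (o2 H : Set G) ≤ o2 H) (hS : stab M.toNatV i ≤ H)
    (hL : grp M.toNatV {j} ≤ H) : fac M.toNatV j ≤ o2 H ∧ o2 H ≤ centralizer (fac M.toNatV j : Set G) :=
  half (blk_two M j) hH (by rw [stb_eq, stab_eq M.toNatV (SP M) hij.symm]; exact hS) hL

/-- **`O₂(H) ≤ stab M i`** for `H ≤ N(R)`, `1 ≠ R ≤ fac M i`. -/
theorem o2_le_stab {H R : Subgroup G} (hR : R ≤ fac M.toNatV i) (hR1 : R ≠ ⊥) (hRn : H ≤ normalizer (R : Set G))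
    (hH : H ⊓ centralizer (o2 H : Set G) ≤ o2 H) (hS : stab M.toNatV i ≤ H) (hL : grp M.toNatV {j} ≤ H) :
    o2 H ≤ stab M.toNatV i :=
  o2_le_stb' (blk_two M i) hR hR1 hRn hH hS (by rw [compl_eq hij]; exact hL)

omit hij in
theorem line_ne_bot (i : Fin 2) : line M.toNatV i ≠ ⊥ := by
  obtain ⟨v, hv, h1⟩ := exists_fac M.toNatV i ![1, 0]
  intro h0
  have h2 : v ∈ line M.toNatV i := (mem_line _).2 ⟨hv, by rw [h1]; rfl⟩
  rw [h0, mem_bot] at h2
  rw [h2, e_one] at h1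
  have := congrFun h1 0
  simp at this

omit hij in
include M in
theorem isPGroup_V : IsPGroup 2 V := S.isPGroup'.to_le (V_le_S M)

omit hij in
/-- `N_G(line M i)` has characteristic 2. -/
theorem char2_line (i : Fin 2) :
    normalizer (line M.toNatV i : Set G) ⊓ centralizer (o2 (normalizer (line M.toNatV i : Set G)) : Set G) ≤
      o2 (normalizer (line M.toNatV i : Set G)) :=
  MinSimple.Basic.char2_normalizer M.hG
    ((isPGroup_V M).to_le ((line_le _ _).trans (fac_le _ _))) (line_ne_bot M i)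

/-- `grp M {j} ≤ N_G(line M i)` -/
theorem grp_le_line : grp M.toNatV {j} ≤ normalizer (line M.toNatV i : Set G) := by
  have h1 : grp M.toNatV {j} ≤ centralizer (fac M.toNatV i : Set G) :=
    grp_le_centralizer M.toNatV (by simpa using hij.symm)
  exact (h1.trans (centralizer_le (line_le M.toNatV i))).trans (centralizer_le_normalizer _)

/-- `O₂(N_G(line M i)) ≤ stab M i` -/
theorem o2_line_le : o2 (normalizer (line M.toNatV i : Set G)) ≤ stab M.toNatV i :=
  o2_le_stab M hij (line_le _ _) (line_ne_bot M i) le_rfl (char2_line M i)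
    (stab_normalizes_line M.toNatV (SP M) i) (grp_le_line M hij)

/-- `fac M j ≤ Z(O₂(N_G(line M i)))` -/
theorem fac_le_o2_line : fac M.toNatV j ≤ o2 (normalizer (line M.toNatV i : Set G)) ∧
    o2 (normalizer (line M.toNatV i : Set G)) ≤ centralizer (fac M.toNatV j : Set G) :=
  half_two M hij (char2_line M i) (stab_normalizes_line M.toNatV (SP M) i) (grp_le_line M hij)

/-- an element of `Ω₁(Z(stab M i))` lies in `Z(O₂(N_G(line M i)))` -/
theorem zc_stab_le_o2_line {x : G} (hx : x ∈ zc (stab M.toNatV i)) :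
    x ∈ o2 (normalizer (line M.toNatV i : Set G)) ∧
      ∀ y ∈ o2 (normalizer (line M.toNatV i : Set G)), y * x = x * y := by
  obtain ⟨h1, h2, -⟩ := VModule.mem_zc.1 hx
  have h3 := o2_line_le M hij
  refine ⟨char2_line M i (mem_inf.2 ⟨stab_normalizes_line M.toNatV (SP M) i h1, ?_⟩), fun y hy => h2 y (h3 hy)⟩
  exact mem_centralizer_iff.2 fun y hy => h2 y (h3 hy)

/-- `O₂(N_G(line M i))` centralises `line M i` -/
theorem o2_cent_line : o2 (normalizer (line M.toNatV i : Set G)) ≤ centralizer (line M.toNatV i : Set G) := by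
  set Q := o2 (normalizer (line M.toNatV i : Set G)) with hQ
  have h2 : IsPGroup 2 (line M.toNatV i) := (isPGroup_V M).to_le ((line_le _ _).trans (fac_le _ _))
  obtain ⟨a, ha, ha1, hac⟩ := Half.exists_fixed h2 (line_ne_bot M i) (o2_isPGroup _)
    (o2_le (normalizer (line M.toNatV i : Set G)))
  intro y hy
  rw [mem_centralizer_iff]
  intro r hr
  by_cases hr1 : r = 1
  · rw [hr1, one_mul, mul_one]
  obtain ⟨g, -, hgn, hgr⟩ := exists_tor M.toNatV ha hr ha1 hr1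
  have h3 : g⁻¹ * y * g ∈ Q := by
    have := (mem_normalizer_iff.1 (le_normalizer_o2 _ (inv_mem hgn)) y).1 hy
    rwa [inv_inv] at this
  have h4 : g⁻¹ * y * g * a = a * (g⁻¹ * y * g) := mul_inv_eq_iff_eq_mul.1 (hac _ h3)
  rw [← hgr]
  calc g * a * g⁻¹ * y = g * (a * (g⁻¹ * y * g)) * g⁻¹ := by group
    _ = g * (g⁻¹ * y * g * a) * g⁻¹ := by rw [h4]
    _ = y * (g * a * g⁻¹) := by group

/-- **Nonlocality, `k = 2`** -/
theorem nonLoc_two {c v w : G} (hc : c ∈ normalizer (line M.toNatV i : Set G)) (hv : v ∈ V) (hw : w ∈ V)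
    (hne : v * (c * w * c⁻¹) ≠ c * w * c⁻¹ * v) :
    NonLoc (normalizer (fac M.toNatV i : Set G)) (normalizer (line M.toNatV i : Set G)) :=
  nonLoc (blk_two M i) hc hv hw hne

end two

end Cfsg.Agent.Omega.IId.NV
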