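import Cfsg.Agent.Omega.IId.Main
import Cfsg.Agent.Omega.IId.Cv.Loc
import Cfsg.Agent.Omega.IId.M4.HypCj

/-!
# II.d, `C_V(O²(P)) ≠ 1` or `C_{V'}(O²(P')) ≠ 1` : the cut of `WrCv` (head: helper958)

`HypN K S` : `Hyp K S`, and (NF) no mutual pair with a member with `k ≥ 2` natural factors has both members `Free`
(`leafWrN` : the pair of `LeafWr` is chosen with both members `Free` if there is such a pair).
`WrCvN K` : `WrCv` with `HypN` for `Hyp`.

For a pair in normal position, natural factors on both sides, `V_P = V × D`, `V_{P'} = V' × D'` (`NatD`):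

* `CvSym` : `P'` of type `S_{2^m+1}`;
* `CvNonsplit` : `D ∩ [V, O²(P)] ≠ 1` on one side;
* `CvBig` : `k > 2` or `k' > 2`;
* `CvLine` : `k = 2`, `k' ≤ 2` : `LineD M M' i i'` (`|I| = 1`);
* `CvMix` : `LineD`, neither `V_i` nor `V'_{i'}` is unmixed;
* `UnM M i` : `V_i` is unmixed: `[V_i, V_i^g] ≠ 1` for some `g ∈ N_G(R)`; then, with `T = N_S(V_i)`, `D ≠ 1`:
  `CvOneA2`, `CvOneA4` : CASE 1 (`T` Sylow in `N_G(R)`), `q = 2`, `q ≥ 4`; `CvTwoA` : CASE 2a, `T` is Sylow in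
  `N_G(V_i)` and not in `N_G(R)`; `CvTwoB` : CASE 2b, `V_i` and `R` are normalised by a Sylow 2-subgroup of `G`;
* `CvOne` : `k' = 1`, `V'` is unmixed.
-/

set_option autoImplicit false
set_option linter.unusedSectionVars false

namespace Cfsg.Agent.Omega.IId.Cv

open Subgroup Pointwise Cfsg Cfsg.Agent.ZN Cfsg.Agent.ZN.ChoiceBase
open Cfsg.Agent.Omega.MinPar Cfsg.Agent.Omega.Frame Cfsg.Agent.Omega.FFThm Cfsg.Agent.Omega.FrameMulti
open Cfsg.Agent.Omega.FrameLE (AllIn)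
open Cfsg.Agent.Omega.FrameFF (cv Free)
open Cfsg.Agent.Omega.HOne.Main (vx SplitPar)
open Cfsg.Agent.Omega.IId.NV

universe u

/-- (NF): no mutual pair with a member with `k ≥ 2` natural factors has both members `Free`. -/
def NoFree {G : Type u} [Group G] (S : Subgroup G) : Prop :=
  ∀ (Q₁ Q₂ : Subgroup G) (x : G), Mutual S Q₁ Q₂ x → ∀ k, 2 ≤ k → IsNat S Q₁ k → ¬ (Free S Q₁ ∧ Free S Q₂)

/-- The standing hypotheses. -/
structure HypN (K : Cls.{u}) {G : Type u} [Group G] [Finite G] (S : Sylow 2 G) : Prop extends Hyp K S where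
  nf : NoFree (S : Subgroup G)

/-! ### The data -/

section data

variable {G : Type u} [Group G] [Finite G] {F F' : Type} [Field F] [Field F'] {S S' : Sylow 2 G}
  {P P' V V' D D' : Subgroup G} {k k' : ℕ}

/-- `V_i` is unmixed: it does not commute with all its conjugates under `N_G(R)`, `R` the line of `V_i`. -/
def UnM (M : NatD F S P V D k) (i : Fin k) : Prop :=
  ∃ g ∈ normalizer (NV.line M.toNatV i : Set G), ∃ v ∈ NV.fac M.toNatV i, ∃ w ∈ NV.fac M.toNatV i,
    v * (g * w * g⁻¹) ≠ g * w * g⁻¹ * v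

/-- `[V_P, V_{P'}] = R` is a line of `V_i` and of `V'_{i'}`. -/
structure LineD (M : NatD F S P V D k) (M' : NatD F' S' P' V' D' k') (i : Fin k) (i' : Fin k') : Prop where
  eq : ⁅zl (S : Subgroup G) P, zl (S' : Subgroup G) P'⁆ = NV.line M.toNatV i
  eq' : NV.line M.toNatV i = NV.line M'.toNatV i'
  card : Nat.card F' = Nat.card F
  le : NV.fac M.toNatV i ≤ o2 (normalizer (NV.line M.toNatV i : Set G))
  le' : NV.fac M'.toNatV i' ≤ o2 (normalizer (NV.line M.toNatV i : Set G))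
  ne : ∃ v ∈ NV.fac M.toNatV i, ∃ w ∈ NV.fac M'.toNatV i', v * w ≠ w * v

end data

/-! ### The sockets -/

section sockets

variable (K : Cls.{u})

/-- `WrCv` under (NF). -/
def WrCvN : Prop :=
  ∀ (G : Type u) [Group G] [Finite G] (S S' : Sylow 2 G), HypN K S → ∀ (P P' : Subgroup G), Pair S S' P P' →
    ∀ k, 2 ≤ k → IsNat (S : Subgroup G) P k →
      ¬ (Free (S : Subgroup G) P ∧ Free (S' : Subgroup G) P') → IsKnownSimple' G

/-- `P'` of type `S_{2^m+1}`. (helper994) -/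
def CvSym : Prop :=
  ∀ (G : Type u) [Group G] [Finite G] (S S' : Sylow 2 G), HypN K S → ∀ (P P' : Subgroup G), Pair S S' P P' →
    ∀ k, 2 ≤ k → IsNat (S : Subgroup G) P k →
      ¬ (Free (S : Subgroup G) P ∧ Free (S' : Subgroup G) P') →
      ∀ k' m', 1 ≤ k' → 2 ≤ m' → IsSym (S' : Subgroup G) P' k' m' → IsKnownSimple' G

/-- One side is not split (`q ≥ 4`). (helper882) -/
def CvNonsplit : Prop :=
  ∀ (G : Type u) [Group G] [Finite G] (S S' : Sylow 2 G), HypN K S → ∀ (P P' : Subgroup G), Pair S S' P P' →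
    ∀ k k', 2 ≤ k → 1 ≤ k' → IsNat (S : Subgroup G) P k → IsNat (S' : Subgroup G) P' k' →
      ¬ (SplitPar (S : Subgroup G) P ∧ SplitPar (S' : Subgroup G) P') → IsKnownSimple' G

/-- Both sides split, more than two factors on one side. (helper479) -/
def CvBig : Prop :=
  ∀ (G : Type u) [Group G] [Finite G] (S S' : Sylow 2 G), HypN K S → ∀ (P P' : Subgroup G), Pair S S' P P' →
    ∀ (F F' : Type) [Field F] [Finite F] [CharP F 2] [Field F'] [Finite F'] [CharP F' 2]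
      (V V' D D' : Subgroup G) (k k' : ℕ) (_ : NatD F S P V D k) (_ : NatD F' S' P' V' D' k'), 2 ≤ k → 1 ≤ k' →
      D ≠ ⊥ ∨ D' ≠ ⊥ → 2 < k ∨ 2 < k' → IsKnownSimple' G

/-- `|I| = 1` and the entry. (helper51) -/
def CvLine : Prop :=
  ∀ (G : Type u) [Group G] [Finite G] (S S' : Sylow 2 G), HypN K S → ∀ (P P' : Subgroup G), Pair S S' P P' →
    ∀ (F F' : Type) [Field F] [Finite F] [CharP F 2] [Field F'] [Finite F'] [CharP F' 2]
      (V V' D D' : Subgroup G) (k' : ℕ) (M : NatD F S P V D 2) (M' : NatD F' S' P' V' D' k'), 1 ≤ k' → k' ≤ 2 →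
      ∃ i i', LineD M M' i i'

/-- Neither `V_i` nor `V'_{i'}` is unmixed. (helper994) -/
def CvMix : Prop :=
  ∀ (G : Type u) [Group G] [Finite G] (S S' : Sylow 2 G), HypN K S → ∀ (P P' : Subgroup G), Pair S S' P P' →
    ∀ (F F' : Type) [Field F] [Finite F] [CharP F 2] [Field F'] [Finite F'] [CharP F' 2]
      (V V' D D' : Subgroup G) (k' : ℕ) (M : NatD F S P V D 2) (M' : NatD F' S' P' V' D' k'), 1 ≤ k' → k' ≤ 2 →
      D ≠ ⊥ ∨ D' ≠ ⊥ → ∀ i i', LineD M M' i i' → ¬ UnM M i → ¬ UnM M' i' → IsKnownSimple' G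

/-- CASE 1, `q = 2`. -/
def CvOneA2 : Prop :=
  ∀ (G : Type u) [Group G] [Finite G] (S : Sylow 2 G), HypN K S → ∀ (P : Subgroup G)
    (F : Type) [Field F] [Finite F] [CharP F 2] (V D : Subgroup G) (M : NatD F S P V D 2) (i : Fin 2),
      D ≠ ⊥ → UnM M i → ¬ 2 ∣ (NV.stab M.toNatV i).relIndex (normalizer (NV.line M.toNatV i : Set G)) →
        Nat.card F = 2 → False

/-- CASE 1, `q ≥ 4`. -/
def CvOneA4 : Prop :=
  ∀ (G : Type u) [Group G] [Finite G] (S : Sylow 2 G), HypN K S → ∀ (P : Subgroup G)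
    (F : Type) [Field F] [Finite F] [CharP F 2] (V D : Subgroup G) (M : NatD F S P V D 2) (i : Fin 2),
      D ≠ ⊥ → UnM M i → ¬ 2 ∣ (NV.stab M.toNatV i).relIndex (normalizer (NV.line M.toNatV i : Set G)) →
        4 ≤ Nat.card F → False

/-- CASE 2a: `T = N_S(V_i)` is Sylow in `N_G(V_i) ∩ N_G(R)`, but not in `N_G(R)`.
(`q = 2`: #17371 helper440, #17699 helper994) -/
def CvTwoA : Prop :=
  ∀ (G : Type u) [Group G] [Finite G] (S : Sylow 2 G), HypN K S → ∀ (P : Subgroup G)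
    (F : Type) [Field F] [Finite F] [CharP F 2] (V D : Subgroup G) (M : NatD F S P V D 2) (i : Fin 2),
      D ≠ ⊥ → UnM M i → 2 ∣ (NV.stab M.toNatV i).relIndex (normalizer (NV.line M.toNatV i : Set G)) →
        (¬ ∃ T₁ : Sylow 2 G, NV.stab M.toNatV i ≤ T₁ ∧
          (T₁ : Subgroup G) ≤ normalizer (NV.fac M.toNatV i : Set G) ⊓ normalizer (NV.line M.toNatV i : Set G)) → False

/-- CASE 2b: `V_i` and `R` are normalised by a Sylow 2-subgroup of `G`. -/
def CvTwoB : Prop :=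
  ∀ (G : Type u) [Group G] [Finite G] (S : Sylow 2 G), HypN K S → ∀ (P : Subgroup G)
    (F : Type) [Field F] [Finite F] [CharP F 2] (V D : Subgroup G) (M : NatD F S P V D 2) (i : Fin 2),
      D ≠ ⊥ → UnM M i → ∀ T₁ : Sylow 2 G, NV.stab M.toNatV i ≤ T₁ →
        (T₁ : Subgroup G) ≤ normalizer (NV.fac M.toNatV i : Set G) ⊓ normalizer (NV.line M.toNatV i : Set G) →
          IsKnownSimple' G

/-- `k' = 1`, `V'` is unmixed. -/
def CvOne : Prop :=
  ∀ (G : Type u) [Group G] [Finite G] (S S' : Sylow 2 G), HypN K S → ∀ (P P' : Subgroup G), Pair S S' P P' →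
    ∀ (F F' : Type) [Field F] [Finite F] [CharP F 2] [Field F'] [Finite F'] [CharP F' 2]
      (V V' D D' : Subgroup G) (M : NatD F S P V D 2) (M' : NatD F' S' P' V' D' 1),
      D ≠ ⊥ ∨ D' ≠ ⊥ → ∀ i i', LineD M M' i i' → UnM M' i' → IsKnownSimple' G

end sockets

/-! ### Conjugation -/

section conj

variable {G : Type u} [Group G]

theorem free_cj {S P : Subgroup G} (y : G) : Free (cj y S) (cj y P) ↔ Free S P := by
  unfold Free
  rw [cv_cj]
  constructor
  · intro h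
    have h1 := congrArg (cj y⁻¹) h
    rw [cj_inv_cj] at h1
    rw [h1]
    exact Subgroup.map_bot _
  · intro h
    rw [h]
    exact Subgroup.map_bot _

theorem NoFree.conj {S S' : Subgroup G} {y : G} (hS : cj y S = S') (h : NoFree S) : NoFree S' := by
  intro Q₁ Q₂ x hm k hk hN hf
  have e1 : cj y⁻¹ S' = S := by rw [← hS, cj_inv_cj]
  refine h _ _ _ (mutual_cj hS hm) k hk ?_ ⟨?_, ?_⟩
  · have := isNat_cj hN y⁻¹
    rwa [e1] at this
  · have := (free_cj (S := S') (P := Q₁) y⁻¹).2 hf.1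
    rwa [e1] at this
  · have := (free_cj (S := S') (P := Q₂) y⁻¹).2 hf.2
    rwa [e1] at this

theorem HypN.conj [Finite G] {K : Cls.{u}} {S : Sylow 2 G} (h : HypN K S) (S' : Sylow 2 G) : HypN K S' := by
  have : Fact (Nat.Prime 2) := ⟨Nat.prime_two⟩
  obtain ⟨y, hy⟩ := MulAction.exists_smul_eq G S S'
  have hS : cj y (S : Subgroup G) = (S' : Subgroup G) := by
    rw [← hy]; rfl
  exact { h.toHyp.conj S' with nf := h.nf.conj hS }

end conj

/-! ### `WrCvN` from the sockets -/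

section assembly

variable {G : Type u} [Group G] [Finite G] {F : Type} [Field F] [CharP F 2] {S : Sylow 2 G}
  {P V D : Subgroup G} (M : NatD F S P V D 2) {i : Fin 2}

/-- `V_P ≤ O₂(N_G(R))` -/
theorem zl_le_o2_line (hle : NV.fac M.toNatV i ≤ o2 (normalizer (NV.line M.toNatV i : Set G))) :
    zl (S : Subgroup G) P ≤ o2 (normalizer (NV.line M.toNatV i : Set G)) := by
  obtain ⟨j, hji⟩ := exists_ne i
  have hj := (fac_le_o2_line M hji.symm).1
  have hV : V ≤ o2 (normalizer (NV.line M.toNatV i : Set G)) :=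
    (NV.sup_fac M.toNatV hji.symm).ge.trans (sup_le hle hj)
  have hSP := SP M
  intro v hv
  obtain ⟨n, hn, d, hd, rfl⟩ := M.dec v hv
  refine mul_mem (hV hn) (zc_stab_le_o2_line M hji.symm ?_).1
  have hdP : ∀ p ∈ P, p * d = d * p := fun p hp => (mem_centralizer_iff.1 (M.cD hp) d hd).symm
  have hdS : d ∈ (S : Subgroup G) :=
    ((zl_le_zz M).trans ((MinSimple.VModule.zc_le _).trans (o2_le_S M))) (M.D_le hd)
  rw [MinSimple.VModule.mem_zc]
  refine ⟨mem_inf.2 ⟨hdS, ?_⟩, fun t ht => hdP t (hSP (NV.stab_le _ _ ht)), ?_⟩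
  · refine centralizer_le_normalizer _ (mem_centralizer_iff.2 fun v hv => ?_)
    exact hdP v (hSP ((V_le_S M) (NV.fac_le _ _ hv)))
  · rw [pow_two]
    exact mul_self_zc ((zl_le_zz M) (M.D_le hd))

/-- An unmixed `V_i` gives a mutual pair `(V_P, V_P^g)`. -/
theorem mutual_of_unM (hle : NV.fac M.toNatV i ≤ o2 (normalizer (NV.line M.toNatV i : Set G))) (hu : UnM M i) :
    ∃ g, Mutual (S : Subgroup G) P P g := by
  obtain ⟨g, hg, v, hv, w, hw, hne⟩ := hu
  obtain ⟨j, hji⟩ := exists_ne i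
  have hle' := zl_le_o2_line M hle
  have hQ := o2_line_le M hji.symm
  have hSP := SP M
  have hz : P ≤ normalizer (zl (S : Subgroup G) P : Set G) := MinSimple.VModule.le_normalizer_zl _ _
  have hQP : o2 (normalizer (NV.line M.toNatV i : Set G)) ≤ P := (hQ.trans (NV.stab_le _ _)).trans hSP
  have hgQ : cj g (o2 (normalizer (NV.line M.toNatV i : Set G))) = o2 (normalizer (NV.line M.toNatV i : Set G)) :=
    cj_eq_of_mem_normalizer (MinSimple.VModule.le_normalizer_o2 _ hg)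
  refine ⟨g, M.star, M.star, ?_, ?_, ?_⟩
  · change _ ≤ normalizer ((cj g (zl (S : Subgroup G) P) : Subgroup G) : Set G)
    rw [← cj_normalizer]
    refine hle'.trans ?_
    rw [← hgQ]
    exact cj_mono g (hQP.trans hz)
  · change cj g (zl (S : Subgroup G) P) ≤ _
    have := cj_mono g hle'
    rw [hgQ] at this
    exact this.trans (hQP.trans hz)
  · intro h0
    rw [commutator_eq_bot_iff_le_centralizer] at h0
    have h1 : g * w * g⁻¹ ∈ cj g (zl (S : Subgroup G) P) := by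
      rw [mem_cj_iff]
      have e : g⁻¹ * (g * w * g⁻¹) * g = w := by group
      rw [e]
      exact M.V_le (NV.fac_le _ _ hw)
    exact hne (mem_centralizer_iff.1 (h0 (M.V_le (NV.fac_le _ _ hv))) _ h1).symm

end assembly

/-- `V_i` unmixed implies `D ≠ 1`. -/
theorem cv_ne_bot {K : Cls.{u}} {G : Type u} [Group G] [Finite G] {F : Type} [Field F] [CharP F 2] {S : Sylow 2 G}
    {P V : Subgroup G} {i : Fin 2} (hH : HypN K S) (hN : IsNat (S : Subgroup G) P 2)
    (M : NatD F S P V (cv (S : Subgroup G) P) 2)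
    (hle : NV.fac M.toNatV i ≤ o2 (normalizer (NV.line M.toNatV i : Set G))) (hu : UnM M i) :
    cv (S : Subgroup G) P ≠ ⊥ := by
  obtain ⟨g, hg⟩ := mutual_of_unM M hle hu
  exact fun h0 => hH.nf P P g hg 2 le_rfl hN ⟨h0, h0⟩

/-- The unmixed case, two factors. -/
theorem unM_known {K : Cls.{u}} (h1 : CvOneA2 K) (h2 : CvOneA4 K) (h3 : CvTwoA K) (h4 : CvTwoB K) {G : Type u}
    [Group G] [Finite G] {S : Sylow 2 G} (hH : HypN K S) {P : Subgroup G} {F : Type} [Field F] [Finite F]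
    [CharP F 2] {V D : Subgroup G} (M : NatD F S P V D 2) (i : Fin 2) (hD : D ≠ ⊥) (hu : UnM M i) :
    IsKnownSimple' G := by
  by_cases hd : 2 ∣ (NV.stab M.toNatV i).relIndex (normalizer (NV.line M.toNatV i : Set G))
  · by_cases hT : ∃ T₁ : Sylow 2 G, NV.stab M.toNatV i ≤ T₁ ∧
        (T₁ : Subgroup G) ≤ normalizer (NV.fac M.toNatV i : Set G) ⊓ normalizer (NV.line M.toNatV i : Set G)
    · obtain ⟨T₁, h5, h6⟩ := hT
      exact h4 G S hH P F V D M i hD hu T₁ h5 h6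
    · exact (h3 G S hH P F V D M i hD hu hd hT).elim
  · rcases FrameFF.two_le_card (F := F) with hq | hq
    · exact (h1 G S hH P F V D M i hD hu hd hq).elim
    · exact (h2 G S hH P F V D M i hD hu hd hq).elim

/-- **`WrCvN` from its sockets.** -/
theorem wrCvN_of {K : Cls.{u}} (hS : CvSym K) (hN : CvNonsplit K) (hB : CvBig K) (hL : CvLine K) (hM : CvMix K)
    (h1 : CvOneA2 K) (h2 : CvOneA4 K) (h3 : CvTwoA K) (h4 : CvTwoB K) (hO : CvOne K) : WrCvN K := by
  intro G _ _ S S' hH P P' hp k hk hk2 hf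
  obtain ⟨t, t'⟩ := hH.toHyp.typed' hp
  rcases t'.cases with ⟨k', hk', hN'⟩ | ⟨k', m', hk', hm', hS'⟩
  · by_cases hs : SplitPar (S : Subgroup G) P ∧ SplitPar (S' : Subgroup G) P'
    · obtain ⟨F, _, _, _, ⟨M₀⟩⟩ := hk2
      obtain ⟨F', _, _, _, ⟨M₀'⟩⟩ := hN'
      have hc := hH.ctx.char2
      have M := NatD.ofSplit hc hp.star M₀ hs.1
      have M' := NatD.ofSplit hc hp.star' M₀' hs.2
      have hD : cv (S : Subgroup G) P ≠ ⊥ ∨ cv (S' : Subgroup G) P' ≠ ⊥ := by
        by_contra hcon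
        push Not at hcon
        exact hf hcon
      by_cases hb : 2 < k ∨ 2 < k'
      · exact hB G S S' hH P P' hp F F' _ _ _ _ k k' M M' hk hk' hD hb
      push Not at hb
      obtain rfl : k = 2 := le_antisymm hb.1 hk
      obtain ⟨i, i', L⟩ := hL G S S' hH P P' hp F F' _ _ _ _ k' M M' hk' hb.2
      by_cases hu : UnM M i
      · exact unM_known h1 h2 h3 h4 hH M i
          (cv_ne_bot hH ⟨F, inferInstance, inferInstance, inferInstance, ⟨M₀⟩⟩ M L.le hu) hu
      by_cases hu' : UnM M' i'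
      · rcases (show k' = 1 ∨ k' = 2 by omega) with rfl | rfl
        · exact hO G S S' hH P P' hp F F' _ _ _ _ M M' hD i i' L hu'
        · have hle' := L.le'
          rw [L.eq'] at hle'
          exact unM_known h1 h2 h3 h4 (hH.conj S') M' i'
            (cv_ne_bot (hH.conj S') ⟨F', inferInstance, inferInstance, inferInstance, ⟨M₀'⟩⟩ M' hle' hu') hu'
      exact hM G S S' hH P P' hp F F' _ _ _ _ k' M M' hk' hb.2 hD i i' L hu hu'
    · exact hN G S S' hH P P' hp k k' hk hk' hk2 hN' hs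
  · exact hS G S S' hH P P' hp k hk hk2 hf k' m' hk' hm' hS'

/-! ### `LeafWr` from `WrCvN` -/

section leaf

variable {K : Cls.{u}}

/-- **II.d, natural factors**, with `WrCvN` for `WrCv` (`WrMain4` must not use `MinWr`: `WrMain4N`). -/
def WrMain4N (K : Cls.{u}) : Prop :=
  ∀ (G : Type u) [Group G] [Finite G] (S S' : Sylow 2 G), Hyp K S → ∀ (P P' : Subgroup G), Pair S S' P P' →
    ∀ (F F' : Type) [Field F] [Finite F] [CharP F 2] [Field F'] [Finite F'] [CharP F' 2] (k' : ℕ)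
      (M : NatK F (S : Subgroup G) P (zl (S : Subgroup G) P) ⊥ 2)
      (_ : NatK F' (S' : Subgroup G) P' (zl (S' : Subgroup G) P') ⊥ k'), 1 ≤ k' → k' ≤ 2 →
      ∀ i, ⁅zl (S : Subgroup G) P, zl (S' : Subgroup G) P'⁆ = IId.line M i →
        ¬ 2 ∣ (IId.stab M i).relIndex (normalizer (IId.line M i : Set G)) → 4 ≤ Nat.card F → False

/-- The pair is chosen with both members `Free` if possible. -/
theorem leafWrN (h1 : WrCvN K) (h2 : WrSym K) (h3 : WrTwo K) (h4 : WrBig K) (h5 : WrTri K) (h6 : WrMain2 K)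
    (h7 : WrMain4N K) : LeafWr K := by
  intro G _ _ hG hcl S hF hLE hAT Q₁ Q₂ y₀ hm₀ k₀ hk₀ hN₀
  have hH : Hyp K S := ⟨hG, hcl, hF, hLE, hAT⟩
  by_cases hnf : NoFree (S : Subgroup G)
  · obtain ⟨y, hm', hp⟩ := exists_pair hG.char2 S hm₀
    refine h1 G S (sy y S) { hH with nf := hnf } Q₁ (cj y Q₂) hp k₀ hk₀ hN₀ fun hf => ?_
    refine hnf Q₁ Q₂ y₀ hm₀ k₀ hk₀ hN₀ ⟨hf.1, ?_⟩
    have h := hf.2
    rw [sy_coe] at h
    exact (free_cj y).1 h
  unfold NoFree at hnf
  push Not at hnf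
  obtain ⟨P₁, P₂, x, hm, k, hk, hN, f1, f2'⟩ := hnf
  obtain ⟨y, hm', hp⟩ := exists_pair hG.char2 S hm
  have f2 : Free ((sy y S : Sylow 2 G) : Subgroup G) (cj y P₂) := by
    rw [sy_coe]
    exact (free_cj y).2 f2'
  have hT2 : Typed (S : Subgroup G) P₂ := (hAT P₁ P₂ x hm).2
  have hT2' : Typed ((sy y S : Sylow 2 G) : Subgroup G) (cj y P₂) := by
    rw [sy_coe]
    exact typed_cj hT2 y
  rcases hT2'.cases with ⟨k', hk', hN'⟩ | ⟨k', m', hk', hm', hS'⟩
  · obtain ⟨F, i1, i2, i3, ⟨M⟩⟩ := hN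
    obtain ⟨F', i1', i2', i3', ⟨M'⟩⟩ := hN'
    rw [show cv (S : Subgroup G) P₁ = ⊥ from f1] at M
    rw [show cv ((sy y S : Sylow 2 G) : Subgroup G) (cj y P₂) = ⊥ from f2] at M'
    by_cases hc : Nat.card ↥⁅zl (S : Subgroup G) P₁, zl ((sy y S : Sylow 2 G) : Subgroup G) (cj y P₂)⁆ =
        Nat.card F
    · by_cases hb : 2 < k ∨ 2 < k'
      · exact h4 G S (sy y S) hH P₁ (cj y P₂) hp F F' k k' M M' hk hk' hb hc
      · push Not at hb
        obtain rfl : k = 2 := le_antisymm hb.1 hk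
        obtain ⟨I, hI⟩ := IId.exists_ind M hp.le (hp.off hG.char2 hT2'.noOver)
        obtain ⟨i, -, hi⟩ := hI.eq_line (hp.le.trans hm.star₁.le) hc
        by_cases hd : 2 ∣ (IId.stab M i).relIndex (normalizer (IId.line M i : Set G))
        · exact h5 G S (sy y S) hH P₁ (cj y P₂) hp F F' k' M M' hk' hb.2 i hi hd
        · rcases FrameFF.two_le_card (F := F) with hq | hq
          · exact (h6 G S (sy y S) hH P₁ (cj y P₂) hp F F' k' M M' hk' hb.2 i hi hd hq).elim
          · exact (h7 G S (sy y S) hH P₁ (cj y P₂) hp F F' k' M M' hk' hb.2 i hi hd hq).elim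
    · exact (h3 G S (sy y S) hH P₁ (cj y P₂) hp F F' k k' M M' hk hk' hc).elim
  · exact h2 G S (sy y S) hH P₁ (cj y P₂) hp k hk hN f1 f2 k' m' hk' hm' hS'

end leaf

end Cfsg.Agent.Omega.IId.Cv
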