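import Cfsg.Agent.Omega.IId.Cv.Sit
import Cfsg.Agent.Omega.IId.M4.IdOf

/-!
# II.d, `V_P = V × D`: the identification socket `IdT`

`idT : IdT` from THEOREM ID (`M4.idM4`).
-/

set_option autoImplicit false

namespace Cfsg.Agent.Omega.IId.Cv

open Subgroup Cfsg

universe u

/-- **The identification with the K-facts.** -/
theorem idT : IdT.{u} := by
  intro G _ _ _ T G₀ U R v h _
  rcases M4.idM4 G T G₀ U R v h with h1 | h1
  · exact Or.inl h1
  · exact Or.inr h1.fk

end Cfsg.Agent.Omega.IId.Cv
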