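import Cfsg.Agent.Omega.IId.Cv.MixEnd

/-!
# `k = 2`, `k' = 1`: `D ≠ 1` or `D' ≠ 1` implies `D' ≠ 1`, any `q` (helper958; typed by helper468)

`T = stab M i`, `R = line M i = line M' i'`: `S'` is a Sylow 2-subgroup of `N_G(R) ≥ T`, so `|C_R(S')| ≤ |C_R(T)|`.
If `D' = 1` then `Ω₁(Z(S')) ≤ C_R(S')`; but `|Ω₁(Z(S))| ≥ |C_R(T)| |D|`.

* `NV.card_zc_ge` : `|C_R(T)| |D| ≤ |Ω₁(Z(S))|`;
* `Cv.dNe_lit` : the literal statement `Cv.DNe`.
-/

set_option autoImplicit false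
set_option linter.unusedSectionVars false

namespace Cfsg.Agent.Omega.IId.NV

open Subgroup Cfsg Cfsg.Agent.Lib.SL2Mat Cfsg.Agent.MinSimple
open Cfsg.Agent.ZN (o2 zc zl)
open Cfsg.Agent.Omega.MinPar Cfsg.Agent.Omega.FFThm
open Cfsg.Agent.Omega.BTwo (cj mem_cj cj_mono cj_eq_self_iff conj_mem_cj card_cj)
open Cfsg.Agent.Omega.IId.M4 (exists_cj_eq)
open Cfsg.Agent.Omega.IId.Cv (LineD)

universe u

/-- `|C_R(T)| |D| ≤ |Ω₁(Z(S))|`, `k = 2`, `T = stab M i`, `R = line M i` -/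
theorem card_zc_ge {G : Type u} [Group G] [Finite G] {F : Type} [Field F] [Finite F] [CharP F 2] {S : Sylow 2 G}
    {P V D : Subgroup G} (M : NatD F S P V D 2) (i : Fin 2) :
    Nat.card (line M.toNatV i ⊓ centralizer (stab M.toNatV i : Set G) : Subgroup G) * Nat.card D ≤
      Nat.card (zc (S : Subgroup G)) := by
  obtain ⟨j, hji⟩ := exists_ne i
  have hij : i ≠ j := hji.symm
  obtain ⟨s, hs, hs1⟩ := (blk_two M i).exists_swap
  have hf : ∀ f ∈ line M.toNatV i ⊓ centralizer (stab M.toNatV i : Set G), f ∈ zc (stb M.toNatV {i}) := by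
    rintro f ⟨hf1, hf2⟩
    have h1 : f ∈ V := fac_le _ _ (line_le _ _ hf1)
    rw [VModule.mem_zc]
    refine ⟨part_le_stb (blk_two M i) h1, fun t ht => mem_centralizer_iff.1 hf2 t ht, ?_⟩
    rw [pow_two]
    exact sq M.toNatV h1
  have hsw : ∀ f ∈ line M.toNatV i, s * f * s⁻¹ ∈ fac M.toNatV j := by
    intro f hf
    have h1 := (blk_two M i).swap hs hs1 (line_le _ _ hf)
    rwa [compl_eq hij] at h1
  rw [← Nat.card_prod]
  refine Nat.card_le_card_of_injective (fun p => (⟨(p.1 : G) * (s * p.1 * s⁻¹) * p.2,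
    mul_mem (mul_cj_mem_zc (blk_two M i) hs hs1 (hf _ p.1.2)) (D_le_zc M p.2.2)⟩ : zc (S : Subgroup G))) ?_
  rintro ⟨⟨p, hp⟩, ⟨q, hq⟩⟩ ⟨⟨p', hp'⟩, ⟨q', hq'⟩⟩ heq
  have h4 : p * (s * p * s⁻¹) * q = p' * (s * p' * s⁻¹) * q' := congrArg Subtype.val heq
  have f1 : ∀ f ∈ line M.toNatV i ⊓ centralizer (stab M.toNatV i : Set G), f * (s * f * s⁻¹) ∈ V := fun f hf =>
    mul_mem (fac_le _ _ (line_le _ _ hf.1)) (fac_le _ _ (hsw f hf.1))
  have h5 : (p' * (s * p' * s⁻¹))⁻¹ * (p * (s * p * s⁻¹)) = q' * q⁻¹ := by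
    calc (p' * (s * p' * s⁻¹))⁻¹ * (p * (s * p * s⁻¹)) =
          (p' * (s * p' * s⁻¹))⁻¹ * (p * (s * p * s⁻¹) * q) * q⁻¹ := by group
      _ = (p' * (s * p' * s⁻¹))⁻¹ * (p' * (s * p' * s⁻¹) * q') * q⁻¹ := by rw [h4]
      _ = q' * q⁻¹ := by group
  have h6 : (p' * (s * p' * s⁻¹))⁻¹ * (p * (s * p * s⁻¹)) = 1 := inf_D (M := M)
    (mul_mem (inv_mem (f1 p' hp')) (f1 p hp)) (by rw [h5]; exact mul_mem hq' (inv_mem hq))
  have h7 : q' = q := by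
    rw [h6] at h5
    exact mul_inv_eq_one.1 h5.symm
  have h8 : p' * (s * p' * s⁻¹) = p * (s * p * s⁻¹) := inv_mul_eq_one.1 h6
  have h9 : p⁻¹ * p' = s * p * s⁻¹ * (s * p' * s⁻¹)⁻¹ := by
    calc p⁻¹ * p' = p⁻¹ * (p' * (s * p' * s⁻¹)) * (s * p' * s⁻¹)⁻¹ := by group
      _ = p⁻¹ * (p * (s * p * s⁻¹)) * (s * p' * s⁻¹)⁻¹ := by rw [h8]
      _ = s * p * s⁻¹ * (s * p' * s⁻¹)⁻¹ := by group
  have h10 : p⁻¹ * p' ∈ fac M.toNatV i ⊓ fac M.toNatV j := by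
    refine mem_inf.2 ⟨mul_mem (inv_mem (line_le _ _ hp.1)) (line_le _ _ hp'.1), ?_⟩
    rw [h9]
    exact mul_mem (hsw p hp.1) (inv_mem (hsw p' hp'.1))
  rw [fac_inf M.toNatV hij, mem_bot, inv_mul_eq_one] at h10
  subst h10 h7
  rfl

/-- **`D' ≠ 1`** for `k = 2`, `k' = 1` -/
theorem D'_ne_bot {G : Type u} [Group G] [Finite G] {F F' : Type} [Field F] [Finite F] [CharP F 2] [Field F']
    [Finite F'] [CharP F' 2] {S S' : Sylow 2 G} {P V D P' V' D' : Subgroup G} (M : NatD F S P V D 2)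
    (M' : NatD F' S' P' V' D' 1) {i : Fin 2} {i' : Fin 1} (hl : line M.toNatV i = line M'.toNatV i')
    (hD : D ≠ ⊥ ∨ D' ≠ ⊥) : D' ≠ ⊥ := by
  have : Fact (Nat.Prime 2) := ⟨Nat.prime_two⟩
  intro hD'
  have hD1 : D ≠ ⊥ := hD.resolve_right fun h => h hD'
  have hS'R : (S' : Subgroup G) ≤ normalizer (line M.toNatV i : Set G) := by
    rw [hl]; exact S_le_line M' i'
  have hT2 : IsPGroup 2 (stab M.toNatV i) := S.isPGroup'.to_le (stab_le _ _)
  obtain ⟨Q, hTQ, hQN⟩ := exists_sylow_over (T₁ := S') hT2 (stab_normalizes_line M.toNatV (SP M) i) hS'R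
  obtain ⟨g, hg, hgQ⟩ := exists_cj_eq hS'R hQN S'.isPGroup' Q.isPGroup' (MinSimple.Basic.not_dvd_relIndex S' hS'R)
    (MinSimple.Basic.not_dvd_relIndex Q hQN)
  have hgR : cj g (line M.toNatV i) = line M.toNatV i := cj_eq_self_iff.2 hg
  -- `Ω₁(Z(S')) ≤ (C_R(T))^g`
  have h1 : zc (S' : Subgroup G) ≤ cj g (line M.toNatV i ⊓ centralizer (stab M.toNatV i : Set G)) := by
    intro z hz
    have hzV : z ∈ V' := by
      obtain ⟨n, hn, d, hd, rfl⟩ := M'.dec z (VModule.zc_le_zl _ _ hz)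
      rw [hD', mem_bot] at hd
      subst hd
      rwa [mul_one]
    have hzR : z ∈ line M.toNatV i := by
      rw [hl]
      refine fix_le_line M'.toNatV (SP M') (by rwa [fac_one M' i']) fun t ht => ?_
      exact (VModule.mem_zc.1 hz).2.1 t (stab_le _ _ ht)
    rw [mem_cj]
    refine mem_inf.2 ⟨?_, mem_centralizer_iff.2 fun t ht => ?_⟩
    · rw [← mem_cj, hgR]; exact hzR
    · have h2 : g * t * g⁻¹ ∈ (S' : Subgroup G) := by
        rw [← hgQ]; exact conj_mem_cj (hTQ ht)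
      have h3 := (VModule.mem_zc.1 hz).2.1 _ h2
      calc t * (g⁻¹ * z * g) = g⁻¹ * (g * t * g⁻¹ * z) * g := by group
        _ = g⁻¹ * (z * (g * t * g⁻¹)) * g := by rw [h3]
        _ = g⁻¹ * z * g * t := by group
  have h2 := Subgroup.card_le_of_le h1
  rw [card_cj] at h2
  have h3 := card_zc_ge M i
  have h4 : Nat.card (zc (S' : Subgroup G)) = Nat.card (zc (S : Subgroup G)) :=
    Half.card_zc_of_card_eq S S'.isPGroup' (by rw [S.card_eq_multiplicity, S'.card_eq_multiplicity])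
  have h5 : 1 < Nat.card D := (Subgroup.one_lt_card_iff_ne_bot _).2 hD1
  have h6 : 0 < Nat.card (line M.toNatV i ⊓ centralizer (stab M.toNatV i : Set G) : Subgroup G) := Nat.card_pos
  nlinarith

end Cfsg.Agent.Omega.IId.NV

namespace Cfsg.Agent.Omega.IId.Cv

open Subgroup Cfsg Cfsg.Agent.Omega.IId.NV

universe u

/-- `DNe`, literally. -/
theorem dNe_lit : ∀ (G : Type u) [Group G] [Finite G] (S S' : Sylow 2 G) (P P' : Subgroup G) (F F' : Type) [Field F]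
    [Finite F] [CharP F 2] [Field F'] [Finite F'] [CharP F' 2] (V V' D D' : Subgroup G) (M : NatD F S P V D 2)
    (M' : NatD F' S' P' V' D' 1) (i : Fin 2) (i' : Fin 1), LineD M M' i i' → D ≠ ⊥ ∨ D' ≠ ⊥ → D' ≠ ⊥ := by
  intro G _ _ S S' P P' F F' _ _ _ _ _ _ V V' D D' M M' i i' L hD
  exact D'_ne_bot M M' L.eq' hD

end Cfsg.Agent.Omega.IId.Cv
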