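import Cfsg.Agent.Omega.IId.Cv.Loc
import Cfsg.Agent.Omega.IId.M4.Mixed

/-!
# `M : NatV F S P V k`: the factor `fac M i` as a module for `SL₂(F)`

* `pre M i : PreMod F (fac M i)`, `pre_e`, `pre_line`;
* `Nm_stab`, `stab_le_nmG`, `grp_le_nmG`, `other_le_nmG` : `stab M i`, `grp M {i}`, `grp M {j}` lie in `nmG (pre M i)`.
-/

set_option autoImplicit false
set_option linter.unusedSectionVars false

namespace Cfsg.Agent.Omega.IId.NV

open Subgroup Cfsg Cfsg.Agent.ZN Cfsg.Agent.ZN.ChoiceBase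
open Cfsg.Agent.Omega.MinPar Cfsg.Agent.Omega.FFThm
open Cfsg.Agent.Lib.SL2Mat
open Cfsg.Agent.Omega.NatPair (ap ap_mul ap_one ap_inv_ap ap_ap_inv exists_ap ap_add PreMod)
open Cfsg.Agent.Omega.IId.M4 (nmG ind_mem_nmG toRMod)

universe u

section pre

variable {G : Type u} [Group G] {F : Type} [Field F] {S P V : Subgroup G} {k : ℕ}

theorem exists_lift (M : NatV F S P V k) (i : Fin k) (A : Matrix.SpecialLinearGroup (Fin 2) F) :
    ∃ g ∈ grp M {i}, ∀ v ∈ V, M.e (g * v * g⁻¹) i = ap A (M.e v i) := by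
  classical
  obtain ⟨g, hg, h1⟩ := M.lift (Function.update 1 i A)
  refine ⟨g, ⟨hg, _, h1, fun j hj => Function.update_of_ne hj _ _⟩, fun v hv => ?_⟩
  rw [h1.1 v hv i, Function.update_self]

theorem grp_act {M : NatV F S P V k} {i : Fin k} {g : G} (hg : g ∈ grp M {i}) :
    ∃ A : Matrix.SpecialLinearGroup (Fin 2) F, ∀ v ∈ V, M.e (g * v * g⁻¹) i = ap A (M.e v i) := by
  obtain ⟨-, A, hA, -⟩ := hg
  exact ⟨A i, fun v hv => hA.1 v hv i⟩

theorem grp_conj_fac {M : NatV F S P V k} {i : Fin k} {g v : G} (hg : g ∈ grp M {i}) (hv : v ∈ fac M i) :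
    g * v * g⁻¹ ∈ fac M i := (mem_normalizer_iff.1 (grp_normalizes M {i} {i} hg) v).1 hv

/-- `fac M i` as a module for `SL₂(F)`. -/
noncomputable def pre (M : NatV F S P V k) (i : Fin k) : PreMod F (fac M i) where
  e x := (exists_fac M i x).choose
  e_add x y := by
    refine ext_fac M (exists_fac M i _).choose_spec.1
      (mul_mem (exists_fac M i x).choose_spec.1 (exists_fac M i y).choose_spec.1) ?_
    rw [M.mul _ (exists_fac M i x).choose_spec.1.1 _ (exists_fac M i y).choose_spec.1.1, Pi.add_apply,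
      (exists_fac M i x).choose_spec.2, (exists_fac M i y).choose_spec.2, (exists_fac M i (x + y)).choose_spec.2]
  e_inj x y h := by
    rw [← (exists_fac M i x).choose_spec.2, ← (exists_fac M i y).choose_spec.2]
    exact congrArg (fun g => M.e g i) h
  mem_iff g := by
    constructor
    · intro hg
      exact ⟨M.e g i, ext_fac M (exists_fac M i _).choose_spec.1 hg (exists_fac M i _).choose_spec.2⟩
    · rintro ⟨x, rfl⟩
      exact (exists_fac M i x).choose_spec.1
  lift A := by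
    obtain ⟨g, hg, hA⟩ := exists_lift M i A
    refine ⟨g, fun x => ext_fac M (grp_conj_fac hg (exists_fac M i x).choose_spec.1)
      (exists_fac M i _).choose_spec.1 ?_⟩
    rw [hA _ (exists_fac M i x).choose_spec.1.1, (exists_fac M i x).choose_spec.2,
      (exists_fac M i (ap A x)).choose_spec.2]

theorem pre_e (M : NatV F S P V k) (i : Fin k) (x : Fin 2 → F) : M.e ((pre M i).e x) i = x :=
  (exists_fac M i x).choose_spec.2

theorem pre_line (M : NatV F S P V k) (i : Fin k) : (pre M i).line ![1, 0] = line M i := by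
  ext g
  rw [PreMod.mem_line, mem_line]
  constructor
  · rintro ⟨c, rfl⟩
    refine ⟨(pre M i).e_mem _, ?_⟩
    rw [pre_e]
    simp
  · rintro ⟨hg, hg1⟩
    refine ⟨M.e g i 0, ext_fac M ((pre M i).e_mem _) hg ?_⟩
    rw [pre_e]
    apply NatPair.ext2
    · simp
    · rw [hg1]; simp

/-- `stab M i` normalises the `SL₂(F)` on `fac M i`. -/
theorem Nm_stab (hSP : S ≤ P) (M : NatV F S P V k) (i : Fin k) : ∀ t ∈ stab M i, (pre M i).Nm t := by
  intro t ht h A hA
  obtain ⟨g, hg, hgA⟩ := exists_lift M i A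
  -- `g` and `h` act in the same way
  have hgi : (pre M i).Ind g A := by
    intro x
    refine ext_fac M (grp_conj_fac hg ((pre M i).e_mem x)) ((pre M i).e_mem _) ?_
    rw [hgA _ ((pre M i).e_mem x).1, pre_e, pre_e]
  have htg : t * g * t⁻¹ ∈ grp M {i} := (mem_normalizer_iff.1 (stab_normalizes_grp M hSP i ht) g).1 hg
  obtain ⟨B, hB⟩ := grp_act htg
  refine ⟨B, fun x => ?_⟩
  have htn := stab_normalizes M i ht
  -- `t⁻¹ v t ∈ fac M i`
  obtain ⟨y, hy⟩ := ((pre M i).mem_iff _).1 ((mem_normalizer_iff.1 (inv_mem htn) _).1 ((pre M i).e_mem x))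
  rw [inv_inv] at hy
  have e1 : t * h * t⁻¹ * (pre M i).e x * (t * h * t⁻¹)⁻¹ = t * g * t⁻¹ * (pre M i).e x * (t * g * t⁻¹)⁻¹ := by
    calc t * h * t⁻¹ * (pre M i).e x * (t * h * t⁻¹)⁻¹ = t * (h * (t⁻¹ * (pre M i).e x * t) * h⁻¹) * t⁻¹ := by
          group
      _ = t * (g * (t⁻¹ * (pre M i).e x * t) * g⁻¹) * t⁻¹ := by rw [← hy, hA, hgi]
      _ = t * g * t⁻¹ * (pre M i).e x * (t * g * t⁻¹)⁻¹ := by group
  rw [e1]
  refine ext_fac M (grp_conj_fac htg ((pre M i).e_mem x)) ((pre M i).e_mem _) ?_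
  rw [hB _ ((pre M i).e_mem x).1, pre_e, pre_e]

theorem stab_le_nmG (hSP : S ≤ P) (M : NatV F S P V k) (i : Fin k) : stab M i ≤ nmG (pre M i) := fun t ht =>
  ⟨stab_normalizes M i ht, Nm_stab hSP M i t ht, Nm_stab hSP M i _ (inv_mem ht)⟩

variable [Finite G]

theorem grp_le_nmG (M : NatV F S P V k) (i : Fin k) : grp M {i} ≤ nmG (pre M i) := by
  intro g hg
  obtain ⟨B, hB⟩ := grp_act hg
  refine ind_mem_nmG (A := B) fun x => ?_
  refine ext_fac M (grp_conj_fac hg ((pre M i).e_mem x)) ((pre M i).e_mem _) ?_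
  rw [hB _ ((pre M i).e_mem x).1, pre_e, pre_e]

theorem cent_le_nmG (M : NatV F S P V k) (i : Fin k) : centralizer (fac M i : Set G) ≤ nmG (pre M i) :=
  (toRMod (pre M i)).cent

theorem other_le_nmG (M : NatV F S P V k) {I : Set (Fin k)} {i : Fin k} (hi : i ∉ I) : grp M I ≤ nmG (pre M i) :=
  (grp_le_centralizer M (J := {i}) (by simpa using hi)).trans (cent_le_nmG M i)

end pre

end Cfsg.Agent.Omega.IId.NV
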