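import Cfsg.Agent.Omega.IId.Cv.Entry
import Cfsg.Agent.Omega.IId.Cv.Pre
import Cfsg.Agent.Omega.IId.BtsOf
import Cfsg.Agent.Omega.IId.ExcKill
import Cfsg.Agent.Omega.IId.FourSide
import Cfsg.Agent.Omega.NatPair.NormSub

/-!
# II.d, `V_P = V × D`, `k = 2`: `BTS (fac M i)` for an unmixed factor

`UnMx M i` : `fac M i` does not commute with all its conjugates under `N_G(line M i)` (= `Cv.UnM`).

* `nm_two` : `q = 2`: `N_G(V₁)` normalises `SL₂(F)`;
* `nm_four` : `q ≥ 4`, `stab M i` a Sylow 2-subgroup of `N_G(fac M i)`: the same;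
* `BtsD M i j N` : `N : NatMod F (fac M i)` has the coordinates of `M`, `BTS (fac M i) (pt N)`, and `fac M j`, `D`, `DT M`
  centralise `X`;
* `bts_of`, `bts_two`, `bts_four`.
-/

set_option autoImplicit false
set_option linter.unusedSectionVars false

namespace Cfsg.Agent.Omega.IId.NV

open Subgroup Pointwise Cfsg Cfsg.Agent.ZN Cfsg.Agent.ZN.ChoiceBase
open Cfsg.Agent.Omega.MinPar Cfsg.Agent.Omega.FFThm
open Cfsg.Agent.Lib.SL2Mat
open Cfsg.Agent.MinSimple
open Cfsg.Agent.Omega.NatPair (ap ap_mul ap_one ap_inv_ap ap_ap_inv exists_ap ap_add NatMod PreMod)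
open Cfsg.Agent.MinSimple.VModule (zc_le zc_comm zc_sq zc_le_zl le_normalizer_o2 o2_isPGroup o2_le
  normalizer_le_normalizer_zc le_normalizer_zl)
open scoped commutatorElement

universe u

/-! ### `N_G(V₁)` normalises `SL₂(F)` -/

theorem nm_two {G : Type*} [Group G] {F : Type*} [Field F] [Finite F] [CharP F 2] {V : Subgroup G}
    (N : PreMod F V) (h2 : Nat.card F = 2) : ∀ g ∈ normalizer (V : Set G), N.Nm g := by
  intro g hg
  obtain ⟨A, hA⟩ := (N.mem_E_iff ⟨g, hg⟩).1 (N.toCo.mem_E_of_two h2 _)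
  exact PreMod.Nm.of_ind N hA

section up

variable {G : Type u} [Group G] {F : Type} [Field F] {S P V : Subgroup G} {k : ℕ} {M : NatV F S P V k}

/-- An element which centralises `line M i` and `fac M i / line M i` acts as `up b` on `fac M i`. -/
theorem exists_up {i : Fin k} {w : G} (hw : w ∈ P) (h1 : ∀ r ∈ line M i, w * r * w⁻¹ = r)
    (h2 : ∀ v ∈ fac M i, w * v * w⁻¹ * v⁻¹ ∈ line M i) :
    ∃ b : F, ∀ v ∈ fac M i, M.e (w * v * w⁻¹) i = ap (up b) (M.e v i) := by
  have hwf : ∀ v ∈ fac M i, w * v * w⁻¹ ∈ fac M i := fun v hv => by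
    have := mul_mem (line_le M i (h2 v hv)) hv
    rwa [inv_mul_cancel_right] at this
  obtain ⟨g, hg, hgA⟩ := exists_lift M i (wm 1 one_ne_zero)
  have hg0 := hg
  obtain ⟨hgP, A, hA, -⟩ := hg
  obtain ⟨B, hB⟩ := M.norm w hw g hgP A hA.1
  refine ⟨- ent (B i) 0 0, fun v hv => ?_⟩
  obtain ⟨r, hr, her⟩ := exists_fac M i ![- M.e v i 1, 0]
  have hrl : r ∈ line M i := (mem_line M).2 ⟨hr, by rw [her]; rfl⟩
  have hu : g * r * g⁻¹ ∈ fac M i := grp_conj_fac hg0 hr
  have heu : M.e (g * r * g⁻¹) i = ![0, M.e v i 1] := by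
    rw [hgA r hr.1, her]
    apply NatPair.ext2
    · rw [NatPair.ap_zero', wm_00, wm_01]; simp
    · rw [NatPair.ap_one', wm_10, wm_11]; simp
  -- `w (g r g⁻¹) w⁻¹`
  have hwu : M.e (w * (g * r * g⁻¹) * w⁻¹) i 0 = ent (B i) 0 0 * (- M.e v i 1) := by
    have h3 := hB r hr.1 i
    have h4 : w⁻¹ * r * w = r := by
      calc w⁻¹ * r * w = w⁻¹ * (w * r * w⁻¹) * w := by rw [h1 r hrl]
        _ = r := by group
    have e : w * g * w⁻¹ * r * (w * g * w⁻¹)⁻¹ = w * (g * (w⁻¹ * r * w) * g⁻¹) * w⁻¹ := by group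
    rw [e, h4, her] at h3
    rw [h3, NatPair.ap_zero']
    simp
  -- `v` and `g r g⁻¹` agree modulo `line M i`
  have h5 : v * (g * r * g⁻¹)⁻¹ ∈ line M i := by
    rw [mem_line]
    refine ⟨mul_mem hv (inv_mem hu), ?_⟩
    rw [M.mul _ hv.1 _ (inv_mem hu.1), e_inv M hu.1, Pi.add_apply, Pi.add_apply, Pi.neg_apply,
      Pi.neg_apply, heu]
    simp
  have e6 : w * v * w⁻¹ = v * (g * r * g⁻¹)⁻¹ * (w * (g * r * g⁻¹) * w⁻¹) := by
    have h7 := h1 _ h5
    calc w * v * w⁻¹ = w * (v * (g * r * g⁻¹)⁻¹) * w⁻¹ * (w * (g * r * g⁻¹) * w⁻¹) := by group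
      _ = _ := by rw [h7]
  apply NatPair.ext2
  · rw [e6, M.mul _ (mul_mem hv.1 (inv_mem hu.1)) _ (hwf _ hu).1, M.mul _ hv.1 _ (inv_mem hu.1),
      e_inv M hu.1, Pi.add_apply, Pi.add_apply, Pi.add_apply, Pi.add_apply, Pi.neg_apply, Pi.neg_apply,
      heu, hwu, NatPair.ap_zero', up_00, up_01]
    simp
  · have h8 := ((mem_line M).1 (h2 v hv)).2
    rw [M.mul _ (hwf v hv).1 _ (inv_mem hv.1), e_inv M hv.1, Pi.add_apply, Pi.add_apply, Pi.neg_apply,
      Pi.neg_apply] at h8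
    rw [NatPair.ap_one', up_10, up_11]
    linear_combination h8

/-- `[V₁, w] = R` for an element `w` acting as `up b`, `b ≠ 0`. -/
theorem line_le_comm {i : Fin k} {w : G}
    (hw : ∃ b : F, ∀ v ∈ fac M i, M.e (w * v * w⁻¹) i = ap (up b) (M.e v i))
    (hwn : w ∈ normalizer (fac M i : Set G)) (hne : ∃ v ∈ fac M i, v * w ≠ w * v) {r : G} (hr : r ∈ line M i) :
    ∃ v ∈ fac M i, ⁅v, w⁆ = r := by
  obtain ⟨b, hb⟩ := hw
  have hb0 : b ≠ 0 := by
    rintro rfl
    obtain ⟨v, hv, hvw⟩ := hne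
    apply hvw
    have h1 : w * v * w⁻¹ = v := by
      refine ext_fac M ((mem_normalizer_iff.1 hwn v).1 hv) hv ?_
      rw [hb v hv, up_zero, NatPair.ap_one]
    calc v * w = w * v * w⁻¹ * w := by rw [h1]
      _ = w * v := by group
  obtain ⟨v, hv, hev⟩ := exists_fac M i ![0, - M.e r i 0 / b]
  have hwv := (mem_normalizer_iff.1 hwn _).1 (inv_mem hv)
  refine ⟨v, hv, ?_⟩
  have e : ⁅v, w⁆ = v * (w * v⁻¹ * w⁻¹) := by rw [commutatorElement_def]; group
  rw [e]
  refine ext_fac M (mul_mem hv hwv) (line_le M i hr) ?_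
  rw [M.mul _ hv.1 _ hwv.1, Pi.add_apply, hb _ (inv_mem hv), e_inv M hv.1, Pi.neg_apply, hev]
  apply NatPair.ext2
  · rw [Pi.add_apply, NatPair.ap_zero', up_00, up_01]
    simp only [Matrix.cons_val_zero, Matrix.cons_val_one, Pi.neg_apply]
    field_simp
    ring
  · rw [Pi.add_apply, NatPair.ap_one', up_10, up_11, ((mem_line M).1 hr).2]
    simp only [Matrix.cons_val_zero, Matrix.cons_val_one, Pi.neg_apply]
    ring

end up

section upD

variable {G : Type u} [Group G] [Finite G] {F : Type} [Field F] [CharP F 2] {S : Sylow 2 G} {P V D : Subgroup G}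
  {k : ℕ}

/-- **The elements of `O₂(N_G(R))` act on `V₁` as `up b`.** -/
theorem o2_up (M : NatD F S P V D k) (hk : k = 1 ∨ k = 2) {i : Fin k} {w : G}
    (hw : w ∈ o2 (normalizer (line M.toNatV i : Set G))) :
    ∃ b : F, ∀ v ∈ fac M.toNatV i, M.e (w * v * w⁻¹) i = ap (up b) (M.e v i) := by
  have hws := o2_line_le' M hk i hw
  have hwc : ∀ r ∈ line M.toNatV i, w * r = r * w := fun r hr =>
    (mem_centralizer_iff.1 (o2_cent_line' M i hw) r hr).symm
  refine exists_up (SP M (stab_le _ _ hws)) (fun r hr => ?_) fun v hv => ?_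
  · rw [hwc r hr, mul_inv_cancel_right]
  · obtain ⟨n, hn⟩ := o2_isPGroup (normalizer (line M.toNatV i : Set G)) ⟨w, hw⟩
    exact comm_line M.toNatV (SP M) hws ⟨n, congrArg Subtype.val hn⟩ hwc hv

end upD

section unm

variable {G : Type u} [Group G] [Finite G] {F : Type} [Field F] {S : Sylow 2 G} {P V D : Subgroup G} {k : ℕ}

/-- `V_i` does not commute with all its conjugates under `N_G(R)`, `R` the line of `V_i`. -/
def UnMx (M : NatD F S P V D k) (i : Fin k) : Prop :=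
  ∃ g ∈ normalizer (line M.toNatV i : Set G), ∃ v ∈ fac M.toNatV i, ∃ w ∈ fac M.toNatV i,
    v * (g * w * g⁻¹) ≠ g * w * g⁻¹ * v

end unm

section main

variable {G : Type u} [Group G] [Finite G] {F : Type} [Field F] [Finite F] [CharP F 2] {S : Sylow 2 G}
  {P V D : Subgroup G} (M : NatD F S P V D 2) {i j : Fin 2} (hij : i ≠ j)

/-- The data of an unmixed factor. -/
structure BtsD (M : NatD F S P V D 2) (i j : Fin 2) (N : NatMod F (fac M.toNatV i)) : Prop where
  ne : i ≠ j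
  /-- the coordinates -/
  e : ∀ x, M.e (N.e x) i = x
  line : N.line ![1, 0] = NV.line M.toNatV i
  bts : BTwo.BTS (fac M.toNatV i) (BTwo.pt N)
  cen : fac M.toNatV j ≤ BTwo.CenX (fac M.toNatV i) (BTwo.pt N)
  cenDT : DT M ≤ BTwo.CenX (fac M.toNatV i) (BTwo.pt N)
  cenD : D ≤ BTwo.CenX (fac M.toNatV i) (BTwo.pt N)

include hij

/-- `[V₁, V₁^c] = R` -/
theorem line_le_commutator {c : G} (hc : c ∈ normalizer (line M.toNatV i : Set G))
    (hne : ∃ v ∈ fac M.toNatV i, ∃ w ∈ fac M.toNatV i, v * (c * w * c⁻¹) ≠ c * w * c⁻¹ * v) :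
    line M.toNatV i ≤ ⁅fac M.toNatV i, NatPair.cj c (fac M.toNatV i)⁆ := by
  have hVQ := fac_le_o2 M (Or.inr rfl) i
  intro r hr
  obtain ⟨v, hv, w, hw, hvw⟩ := hne
  have hw' : c * w * c⁻¹ ∈ NatPair.cj c (fac M.toNatV i) := by
    rw [NatPair.mem_cj]
    have e : c⁻¹ * (c * w * c⁻¹) * c = w := by group
    rwa [e]
  have hwQ : c * w * c⁻¹ ∈ ZN.o2 (normalizer (line M.toNatV i : Set G)) :=
    (mem_normalizer_iff.1 (ZN.le_normalizer_o2 _ hc) _).1 (hVQ hw)
  obtain ⟨v', hv', e⟩ := line_le_comm (M := M.toNatV) (i := i) (o2_up M (Or.inr rfl) hwQ)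
    (stab_normalizes _ i (o2_line_le M hij hwQ)) ⟨v, hv, hvw⟩ hr
  rw [← e]
  exact commutator_mem_commutator hv' hw'

/-- **`N_G(V₁)` normalises `SL₂(F)`**, `q ≥ 4`, `stab M i` a Sylow 2-subgroup of `N_G(V₁)` -/
theorem nm_four (hS1 : ¬ 2 ∣ (stab M.toNatV i).relIndex (normalizer (fac M.toNatV i : Set G))) (hu : UnMx M i) :
    ∀ g ∈ normalizer (fac M.toNatV i : Set G), (pre M.toNatV i).Nm g := by
  have hT2 : IsPGroup 2 (stab M.toNatV i) := S.isPGroup'.to_le (stab_le _ _)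
  rcases (pre M.toNatV i).dich_sub hT2 (stab_normalizes _ i) hS1 (Nm_stab (SP M) M.toNatV i) with hall | hE
  · exact hall
  exfalso
  obtain ⟨c, hc, hne⟩ := hu
  have hline := pre_line M.toNatV i
  refine ExcKill.exc_false (pre M.toNatV i) M.hG hT2 hE FourSide.vec_ne (c := c) ?_ ?_ ?_ ?_
  · rw [hline]
    exact stab_normalizes_line M.toNatV (SP M) i
  · intro r hr hr1 hrS
    have hr2 : r ^ 2 = 1 := by
      rw [pow_two]
      exact NV.sq M.toNatV hr.1
    have hn : centralizer ({r} : Set G) ≤ normalizer (zpowers r : Set G) := by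
      rw [← Subgroup.centralizer_closure, ← zpowers_eq_closure]
      exact centralizer_le_normalizer _
    refine o2_le_stab M hij (R := zpowers r) (zpowers_le.2 hr) (by rwa [Ne, zpowers_eq_bot]) hn
      (MinSimple.Basic.char2_centralizer M.hG hr2 hr1) ?_ ?_
    · exact fun t ht => mem_centralizer_singleton_iff.2 (hrS t ht)
    · intro g hg
      exact mem_centralizer_singleton_iff.2 (grp_comm M.toNatV (by simpa using hij.symm) hg hr)
  · rw [hline]
    exact hc
  · rw [hline]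
    exact line_le_commutator M hij hc hne

/-- **`BTS (fac M i)`** for an unmixed factor such that `N_G(V₁)` normalises `SL₂(F)` -/
theorem bts_of (hall : ∀ g ∈ normalizer (fac M.toNatV i : Set G), (pre M.toNatV i).Nm g) (hu : UnMx M i) :
    ∃ N : NatMod F (fac M.toNatV i), BtsD M i j N := by
  obtain ⟨c, hc, hne⟩ := hu
  have hQT := o2_line_le M hij
  have hVQ := fac_le_o2 M (Or.inr rfl) i
  -- `V₁ ^ c ≤ Q`
  have hcQ : NatPair.cj c (fac M.toNatV i) ≤ ZN.o2 (normalizer (line M.toNatV i : Set G)) := by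
    intro x hx
    rw [NatPair.mem_cj] at hx
    have h1 := (mem_normalizer_iff.1 (ZN.le_normalizer_o2 _ hc) _).1 (hVQ hx)
    have e : c * (c⁻¹ * x * c) * c⁻¹ = x := by group
    rwa [e] at h1
  set N : NatMod F (fac M.toNatV i) := (pre M.toNatV i).toNatMod hall with hN
  have hNe : ∀ x, M.e (N.e x) i = x := fun x => pre_e M.toNatV i x
  have hline : N.line ![1, 0] = line M.toNatV i := by
    rw [← pre_line M.toNatV i]
    rfl
  have hmut : NatPair.Mutual (fac M.toNatV i) (NatPair.cj c (fac M.toNatV i)) := by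
    refine ⟨hcQ.trans (hQT.trans (stab_normalizes _ i)), ?_, ?_⟩
    · intro x hx
      rw [NatPair.mem_normalizer_cj]
      apply stab_normalizes _ i
      apply hQT
      have := (mem_normalizer_iff.1 (inv_mem (ZN.le_normalizer_o2 _ hc)) x).1 (hVQ hx)
      rwa [inv_inv] at this
    · obtain ⟨v, hv, w, hw, hvw⟩ := hne
      refine ⟨v, hv, _, ?_, hvw⟩
      rw [NatPair.mem_cj]
      have e : c⁻¹ * (c * w * c⁻¹) * c = w := by group
      rwa [e]
  have hinf : fac M.toNatV i ⊓ NatPair.cj c (fac M.toNatV i) = line M.toNatV i := by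
    obtain ⟨-, w, w', hw, -, hl, -⟩ := NatPair.pair N (N.conj c) hmut
    have h1 : line M.toNatV i ≤ fac M.toNatV i ⊓ NatPair.cj c (fac M.toNatV i) := by
      refine le_inf (line_le _ i) fun x hx => ?_
      rw [NatPair.mem_cj]
      apply line_le _ i
      have := (mem_normalizer_iff.1 (inv_mem hc) x).1 hx
      rwa [inv_inv] at this
    refine (Subgroup.eq_of_le_of_card_ge h1 ?_).symm
    rw [hl, N.card_line hw.ne, card_line]
  have a : BTwo.At (fac M.toNatV i) (N.line ![1, 0]) c := by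
    rw [hline]
    exact ⟨hc, hmut, hinf, hVQ⟩
  have hQ₀ : BTwo.QQ (N.line ![1, 0]) ≤ normalizer (fac M.toNatV i : Set G) := by
    rw [hline]
    exact hQT.trans (stab_normalizes _ i)
  have hnl : NonLoc (normalizer (fac M.toNatV i : Set G)) (normalizer (N.line ![1, 0] : Set G)) := by
    rw [hline]
    obtain ⟨v, hv, w, hw, hvw⟩ := hne
    exact nonLoc_two M hij hc hv.1 hw.1 hvw
  have b := BtsOf.bts_of_at N M.hG FourSide.vec_ne a hQ₀ hnl
  have hind : ∀ B, ∃ l ∈ grp M.toNatV {i}, N.Ind l B := by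
    intro B
    obtain ⟨l, hl, hlB⟩ := exists_lift M.toNatV i B
    refine ⟨l, hl, fun x => ?_⟩
    refine ext_fac M.toNatV (grp_conj_fac hl (N.e_mem x)) (N.e_mem _) ?_
    rw [hlB _ (N.e_mem x).1, hNe, hNe]
  have hcen : ∀ A : Subgroup G, (∀ y ∈ o2 (normalizer (line M.toNatV i : Set G)), ∀ a ∈ A, y * a = a * y) →
      (∀ l ∈ grp M.toNatV {i}, ∀ a ∈ A, l * a = a * l) → A ≤ BTwo.CenX (fac M.toNatV i) (BTwo.pt N) := by
    intro A h1 h2
    refine BtsOf.le_CenX N FourSide.vec_ne b.toBT ?_ ?_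
    · rw [hline]
      intro a ha
      exact mem_centralizer_iff.2 fun y hy => h1 y hy a ha
    · intro B
      obtain ⟨l, hl, hlB⟩ := hind B
      exact ⟨l, hlB, fun a ha => h2 l hl a ha⟩
  have hDT : DT M ≤ BTwo.CenX (fac M.toNatV i) (BTwo.pt N) := by
    refine hcen _ (fun y hy a ha => ?_) fun l hl a ha => DT_comm_grp M hij ha hl
    exact (zc_stab_le_o2_line M hij ((mem_DT M (i := i)).1 ha).1).2 y hy
  refine ⟨N, hij, hNe, hline, b, ?_, hDT, (D_le_DT M).trans hDT⟩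
  refine hcen _ (fun y hy a ha => ?_) fun l hl a ha => ?_
  · exact (mem_centralizer_iff.1 ((fac_le_o2_line M hij).2 hy) a ha).symm
  · exact grp_comm M.toNatV (by simpa using hij) hl ha

/-- `q = 2` -/
theorem bts_two (h2 : Nat.card F = 2) (hu : UnMx M i) : ∃ N : NatMod F (fac M.toNatV i), BtsD M i j N :=
  bts_of M hij (nm_two _ h2) hu

/-- `stab M i` is a Sylow 2-subgroup of `N_G(V₁)` -/
theorem bts_four (hS1 : ¬ 2 ∣ (stab M.toNatV i).relIndex (normalizer (fac M.toNatV i : Set G))) (hu : UnMx M i) :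
    ∃ N : NatMod F (fac M.toNatV i), BtsD M i j N :=
  bts_of M hij (nm_four M hij hS1 hu) hu

end main

end Cfsg.Agent.Omega.IId.NV
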