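import Cfsg.Agent.Omega.IId.Cv.Bts

/-!
# II.d, `V_P = V × D`, `k = 1`: `BTS (fac M i)` if `V` is unmixed

* `fac_one` : `fac M i = V`;
* `nonLoc_one` : `⟨N_G(V), N_G(R)⟩` is not in a 2-local subgroup;
* `BtsD1 M i N`, `bts_of_one` : `BTS (fac M i) (pt N)`, `D` centralises `X`;
* `bts_of_line` : the common part of `bts_of` and `bts_of_one` (`k = 1, 2`).
-/

set_option autoImplicit false
set_option linter.unusedSectionVars false

namespace Cfsg.Agent.Omega.IId.NV

open Subgroup Pointwise Cfsg Cfsg.Agent.ZN Cfsg.Agent.ZN.ChoiceBase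
open Cfsg.Agent.Omega.MinPar Cfsg.Agent.Omega.FFThm
open Cfsg.Agent.Lib.SL2Mat
open Cfsg.Agent.MinSimple
open Cfsg.Agent.Omega.NatPair (ap ap_mul ap_one ap_inv_ap ap_ap_inv exists_ap ap_add NatMod PreMod)
open Cfsg.Agent.MinSimple.VModule (zc_le zc_comm zc_sq zc_le_zl o2_isPGroup o2_le
  normalizer_le_normalizer_zc le_normalizer_zl)
open scoped commutatorElement

universe u

section common

variable {G : Type u} [Group G] [Finite G] {F : Type} [Field F] [Finite F] [CharP F 2] {S : Sylow 2 G}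
  {P V D : Subgroup G} {k : ℕ} (M : NatD F S P V D k) (hk : k = 1 ∨ k = 2) {i : Fin k}

include hk

/-- **`BTS (fac M i)`**, from nonlocality, `k = 1, 2` -/
theorem bts_of_line (hall : ∀ g ∈ normalizer (fac M.toNatV i : Set G), (pre M.toNatV i).Nm g)
    (hnl : NonLoc (normalizer (fac M.toNatV i : Set G)) (normalizer (line M.toNatV i : Set G))) (hu : UnMx M i) :
    ∃ N : NatMod F (fac M.toNatV i), (∀ x, M.e (N.e x) i = x) ∧ N.line ![1, 0] = line M.toNatV i ∧
      BTwo.BTS (fac M.toNatV i) (BTwo.pt N) ∧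
      ∀ A : Subgroup G, (∀ y ∈ o2 (normalizer (line M.toNatV i : Set G)), ∀ a ∈ A, y * a = a * y) →
        (∀ l ∈ grp M.toNatV {i}, ∀ a ∈ A, l * a = a * l) → A ≤ BTwo.CenX (fac M.toNatV i) (BTwo.pt N) := by
  obtain ⟨c, hc, hne⟩ := hu
  have hQT := o2_line_le' M hk i
  have hVQ := fac_le_o2 M hk i
  -- `V₁ ^ c ≤ Q`
  have hcQ : NatPair.cj c (fac M.toNatV i) ≤ ZN.o2 (normalizer (line M.toNatV i : Set G)) := by
    intro x hx
    rw [NatPair.mem_cj] at hx
    have h1 := (mem_normalizer_iff.1 (ZN.le_normalizer_o2 _ hc) _).1 (hVQ hx)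
    have e : c * (c⁻¹ * x * c) * c⁻¹ = x := by group
    rwa [e] at h1
  set N : NatMod F (fac M.toNatV i) := (pre M.toNatV i).toNatMod hall with hN
  have hNe : ∀ x, M.e (N.e x) i = x := fun x => pre_e M.toNatV i x
  have hline : N.line ![1, 0] = line M.toNatV i := by
    rw [← pre_line M.toNatV i]
    rfl
  have hmut : NatPair.Mutual (fac M.toNatV i) (NatPair.cj c (fac M.toNatV i)) := by
    refine ⟨hcQ.trans (hQT.trans (stab_normalizes _ i)), ?_, ?_⟩
    · intro x hx
      rw [NatPair.mem_normalizer_cj]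
      apply stab_normalizes _ i
      apply hQT
      have := (mem_normalizer_iff.1 (inv_mem (ZN.le_normalizer_o2 _ hc)) x).1 (hVQ hx)
      rwa [inv_inv] at this
    · obtain ⟨v, hv, w, hw, hvw⟩ := hne
      refine ⟨v, hv, _, ?_, hvw⟩
      rw [NatPair.mem_cj]
      have e : c⁻¹ * (c * w * c⁻¹) * c = w := by group
      rwa [e]
  have hinf : fac M.toNatV i ⊓ NatPair.cj c (fac M.toNatV i) = line M.toNatV i := by
    obtain ⟨-, w, w', hw, -, hl, -⟩ := NatPair.pair N (N.conj c) hmut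
    have h1 : line M.toNatV i ≤ fac M.toNatV i ⊓ NatPair.cj c (fac M.toNatV i) := by
      refine le_inf (line_le _ i) fun x hx => ?_
      rw [NatPair.mem_cj]
      apply line_le _ i
      have := (mem_normalizer_iff.1 (inv_mem hc) x).1 hx
      rwa [inv_inv] at this
    refine (Subgroup.eq_of_le_of_card_ge h1 ?_).symm
    rw [hl, N.card_line hw.ne, card_line]
  have a : BTwo.At (fac M.toNatV i) (N.line ![1, 0]) c := by
    rw [hline]
    exact ⟨hc, hmut, hinf, hVQ⟩
  have hQ₀ : BTwo.QQ (N.line ![1, 0]) ≤ normalizer (fac M.toNatV i : Set G) := by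
    rw [hline]
    exact hQT.trans (stab_normalizes _ i)
  rw [← hline] at hnl
  have b := BtsOf.bts_of_at N M.hG FourSide.vec_ne a hQ₀ hnl
  refine ⟨N, hNe, hline, b, fun A h1 h2 => ?_⟩
  refine BtsOf.le_CenX N FourSide.vec_ne b.toBT ?_ ?_
  · rw [hline]
    intro a ha
    exact mem_centralizer_iff.2 fun y hy => h1 y hy a ha
  · intro B
    obtain ⟨l, hl, hlB⟩ := exists_lift M.toNatV i B
    refine ⟨l, fun x => ?_, fun a ha => h2 l hl a ha⟩
    refine ext_fac M.toNatV (grp_conj_fac hl (N.e_mem x)) (N.e_mem _) ?_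
    rw [hlB _ (N.e_mem x).1, hNe, hNe]

end common

section one

variable {G : Type u} [Group G] [Finite G] {F : Type} [Field F] [Finite F] [CharP F 2] {S : Sylow 2 G}
  {P V D : Subgroup G} (M : NatD F S P V D 1) {i : Fin 1}

theorem fac_one (i : Fin 1) : fac M.toNatV i = V := by
  have h3 : ({i} : Set (Fin 1)) = Set.univ := by
    ext x
    simp [Subsingleton.elim x i]
  rw [fac, h3, part_univ]

theorem P_le_fac (i : Fin 1) : P ≤ normalizer (fac M.toNatV i : Set G) := by
  rw [fac_one M i]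
  exact M.nV

theorem stab_one (i : Fin 1) : stab M.toNatV i = (S : Subgroup G) :=
  le_antisymm (stab_le _ _) (le_inf le_rfl ((SP M).trans (P_le_fac M i)))

/-- `S` normalises `R` -/
theorem S_le_line (i : Fin 1) : (S : Subgroup G) ≤ normalizer (line M.toNatV i : Set G) :=
  (stab_one M i).ge.trans (stab_normalizes_line M.toNatV (SP M) i)

/-- **Nonlocality, `k = 1`** -/
theorem nonLoc_one {c v w : G} (hc : c ∈ normalizer (line M.toNatV i : Set G)) (hv : v ∈ V) (hw : w ∈ V)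
    (hne : v * (c * w * c⁻¹) ≠ c * w * c⁻¹ * v) :
    NonLoc (normalizer (fac M.toNatV i : Set G)) (normalizer (line M.toNatV i : Set G)) := by
  intro T₀ hT₀ hVT hRT
  by_contra h0
  exact hne (not_local_P M hT₀ h0 ((P_le_fac M i).trans hVT) (hRT hc) (M.V_le hv) (M.V_le hw))

/-- The data of an unmixed `V`, `k = 1`. -/
structure BtsD1 (M : NatD F S P V D 1) (i : Fin 1) (N : NatMod F (fac M.toNatV i)) : Prop where
  e : ∀ x, M.e (N.e x) i = x
  line : N.line ![1, 0] = NV.line M.toNatV i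
  bts : BTwo.BTS (fac M.toNatV i) (BTwo.pt N)
  cenD : D ≤ BTwo.CenX (fac M.toNatV i) (BTwo.pt N)

theorem bts_of_one (hall : ∀ g ∈ normalizer (fac M.toNatV i : Set G), (pre M.toNatV i).Nm g) (hu : UnMx M i) :
    ∃ N : NatMod F (fac M.toNatV i), BtsD1 M i N := by
  obtain ⟨c, hc, v, hv, w, hw, hne⟩ := id hu
  obtain ⟨N, h1, h2, h3, h4⟩ := bts_of_line M (Or.inl rfl) hall (nonLoc_one M hc hv.1 hw.1 hne) hu
  have hQ := o2_line_le' M (Or.inl rfl) i
  refine ⟨N, h1, h2, h3, h4 D (fun y hy d hd => ?_) fun l hl d hd => ?_⟩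
  · exact D_comm M (SP M (stab_le _ _ (hQ hy))) hd
  · exact D_comm M (grp_le _ _ hl) hd

/-- `q = 2` -/
theorem bts_one_two (h2 : Nat.card F = 2) (hu : UnMx M i) : ∃ N : NatMod F (fac M.toNatV i), BtsD1 M i N :=
  bts_of_one M (nm_two _ h2) hu

end one

end Cfsg.Agent.Omega.IId.NV
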