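import Cfsg.Agent.Omega.IId.Cv.Loc
import Cfsg.Agent.Omega.Half.AppNat

/-!
# II.d, `V_P = V × D`: `Ω₁(Z(N_S(V₁)))` and the centralisers of the elements of `D`

* `zl_le_of_loc` : `V_P ≤ V_H ≤ Ω₁(Z(O₂(H)))` for `P ≤ H ∈ L(S)`; `comm_of_loc` : `[V_P, V_P^g] = 1` for `g ∈ H`;
* `comm_of_D` : the same for `H = C_G(d)`, `1 ≠ d ∈ D`; `inf_D_eq_bot` : `D ∩ D' = 1` for a noncommuting pair;
* `q = 2`, `k = 2`: `DT M` := `C(grp M {0}, grp M {1}) ∩ Ω₁(Z(stab M i))`; `zc_stab_eq` : every element of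
  `Ω₁(Z(stab M i))` is a product `a b c` with `a ∈ V₁ ∩ Z`, `b ∈ V₂ ∩ Z`, `c ∈ DT M`; `DT_inf_zc`;
* `cent_half` : `fac M i ≤ Z(O₂(C_G(e)))` for `e ∈ Ω₁(Z(stab M i))` centralised by `grp M {i}`.
-/

set_option autoImplicit false
set_option linter.unusedSectionVars false

namespace Cfsg.Agent.Omega.IId.NV

open Subgroup Cfsg Cfsg.Agent.ZN Cfsg.Agent.ZN.ChoiceBase
open Cfsg.Agent.Omega.MinPar Cfsg.Agent.Omega.FFThm
open Cfsg.Agent.Lib.SL2Mat
open Cfsg.Agent.MinSimple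
open Cfsg.Agent.MinSimple.VModule (zc_le zc_comm zc_sq zc_le_zl le_normalizer_o2 o2_isPGroup o2_le
  normalizer_le_normalizer_zc le_normalizer_zl)
open Cfsg.Agent.Omega.NatPair (ap ap_mul ap_one ap_inv_ap ap_ap_inv exists_ap ap_add ext2)

universe u

/-! ### Locals over `P` -/

section loc

variable {G : Type u} [Group G] [Finite G] (hG : IsCharacteristicTwoType G) (S : Sylow 2 G) {P H : Subgroup G}

theorem zl_mono {T A B : Subgroup G} (h : A ≤ B) : zl T A ≤ zl T B :=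
  MinSimple.VModule.zl_le (zc_le_zl T B) (h.trans (le_normalizer_zl T B))

include hG in
/-- `V_P ≤ V_H ≤ Ω₁(Z(O₂(H)))` -/
theorem zl_le_of_loc (hH : IsLoc (S : Subgroup G) H) (hPH : P ≤ H) :
    zl (S : Subgroup G) P ≤ zc (o2 H) := (zl_mono hPH).trans (hH.zl_le S hG)

include hG in
/-- `[V_P, V_P^g] = 1` for `g ∈ H ≥ P` -/
theorem comm_of_loc (hH : IsLoc (S : Subgroup G) H) (hPH : P ≤ H) {g v w : G} (hg : g ∈ H)
    (hv : v ∈ zl (S : Subgroup G) P) (hw : w ∈ zl (S : Subgroup G) P) : v * (g * w * g⁻¹) = g * w * g⁻¹ * v := by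
  have h1 := zl_le_of_loc hG S hH hPH hv
  have h2 := zl_le_of_loc hG S hH hPH hw
  have h3 : g * w * g⁻¹ ∈ zc (o2 H) := zz_mem hg h2
  exact zc_comm _ _ h1 _ h3

/-- the modules `V_H` for two Sylow 2-subgroups of `G` in `H` -/
theorem zl_eq_of_sylow (S' : Sylow 2 G) (h : (S : Subgroup G) ≤ H) (h' : (S' : Subgroup G) ≤ H) :
    zl (S : Subgroup G) H = zl (S' : Subgroup G) H := by
  have key : ∀ (A B : Sylow 2 G), (A : Subgroup G) ≤ H → (B : Subgroup G) ≤ H →
      zl (A : Subgroup G) H ≤ zl (B : Subgroup G) H := by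
    intro A B hA hB
    obtain ⟨g, hg⟩ := MulAction.exists_smul_eq H (A.subtype hA) (B.subtype hB)
    refine MinSimple.VModule.zl_le ?_ (le_normalizer_zl _ _)
    intro z hz
    have h1 : (g : G) * z * (g : G)⁻¹ ∈ zc (B : Subgroup G) := by
      obtain ⟨z1, z2, z3⟩ := VModule.mem_zc.1 hz
      have hmem : ∀ x : G, x ∈ (A : Subgroup G) → (g : G) * x * (g : G)⁻¹ ∈ (B : Subgroup G) := by
        intro x hx
        have h2 : g * (⟨x, hA hx⟩ : H) * g⁻¹ ∈ ((g • A.subtype hA : Sylow 2 H) : Subgroup H) := by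
          rw [Sylow.coe_subgroup_smul, Subgroup.mem_pointwise_smul_iff_inv_smul_mem]
          have e : (MulAut.conj g)⁻¹ • (g * (⟨x, hA hx⟩ : H) * g⁻¹) = ⟨x, hA hx⟩ := by
            rw [← map_inv, MulAut.smul_def, MulAut.conj_apply]
            group
          rw [e]
          exact hx
        rw [hg] at h2
        exact h2
      have hmem' : ∀ x : G, x ∈ (B : Subgroup G) → (g : G)⁻¹ * x * (g : G) ∈ (A : Subgroup G) := by
        intro x hx
        have h2 : (⟨x, hB hx⟩ : H) ∈ ((g • A.subtype hA : Sylow 2 H) : Subgroup H) := by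
          rw [hg]
          exact hx
        rw [Sylow.coe_subgroup_smul, Subgroup.mem_pointwise_smul_iff_inv_smul_mem] at h2
        have e : (MulAut.conj g)⁻¹ • (⟨x, hB hx⟩ : H) = g⁻¹ * ⟨x, hB hx⟩ * g := by
          rw [← map_inv, MulAut.smul_def, MulAut.conj_apply, inv_inv]
        rw [e] at h2
        exact h2
      refine VModule.mem_zc.2 ⟨hmem z z1, fun y hy => ?_, ?_⟩
      · have h2 := z2 _ (hmem' y hy)
        calc y * ((g : G) * z * (g : G)⁻¹) = g * (((g : G)⁻¹ * y * g) * z) * (g : G)⁻¹ := by group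
          _ = g * (z * ((g : G)⁻¹ * y * g)) * (g : G)⁻¹ := by rw [h2]
          _ = (g : G) * z * (g : G)⁻¹ * y := by group
      · rw [pow_two] at z3 ⊢
        calc (g : G) * z * (g : G)⁻¹ * ((g : G) * z * (g : G)⁻¹) = g * (z * z) * (g : G)⁻¹ := by group
          _ = 1 := by rw [z3]; group
    have h2 := zc_le_zl _ H h1
    have h3 := (mem_normalizer_iff.1 (le_normalizer_zl (B : Subgroup G) H (inv_mem g.2)) _).1 h2
    have e : (g : G)⁻¹ * ((g : G) * z * (g : G)⁻¹) * (g : G)⁻¹⁻¹ = z := by group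
    rwa [e] at h3
  exact le_antisymm (key S S' h h') (key S' S h' h)

end loc

section D

variable {G : Type u} [Group G] [Finite G] {F F' : Type} [Field F] [Field F'] {S S' : Sylow 2 G}
  {P V D P' V' D' : Subgroup G} {k k' : ℕ} (M : NatD F S P V D k) (M' : NatD F' S' P' V' D' k')

include M in
/-- `P ≤ C_G(d)` -/
theorem P_le_cent {d : G} (hd : d ∈ D) : P ≤ centralizer ({d} : Set G) := by
  intro p hp
  rw [mem_centralizer_singleton_iff]
  exact (mem_centralizer_iff.1 (M.cD hp) d hd).symm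

include M in
theorem D_sq {d : G} (hd : d ∈ D) : d ^ 2 = 1 := by
  rw [pow_two]
  exact mul_self_zc (zl_le_zz M (M.D_le hd))

include M in
/-- `C_G(d) ∈ L(S)` for `1 ≠ d ∈ D` -/
theorem isLoc_cent {d : G} (hd : d ∈ D) (hd1 : d ≠ 1) :
    IsLoc (S : Subgroup G) (centralizer ({d} : Set G)) :=
  isLoc_centralizer S (D_sq M hd) hd1 ((SP M).trans (P_le_cent M hd))

include M in
/-- `[V_P, V_P^g] = 1` for `g ∈ C_G(d)`, `1 ≠ d ∈ D` -/
theorem comm_of_D {d g v w : G} (hd : d ∈ D) (hd1 : d ≠ 1) (hg : g * d = d * g)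
    (hv : v ∈ zl (S : Subgroup G) P) (hw : w ∈ zl (S : Subgroup G) P) :
    v * (g * w * g⁻¹) = g * w * g⁻¹ * v :=
  comm_of_loc M.hG S (isLoc_cent M hd hd1) (P_le_cent M hd) (mem_centralizer_singleton_iff.2 hg) hv hw

include M in
/-- `V_P ≤ Ω₁(Z(O₂(C_G(d))))`, `1 ≠ d ∈ D` -/
theorem zl_le_cent_D {d : G} (hd : d ∈ D) (hd1 : d ≠ 1) :
    zl (S : Subgroup G) P ≤ zc (o2 (centralizer ({d} : Set G))) :=
  zl_le_of_loc M.hG S (isLoc_cent M hd hd1) (P_le_cent M hd)

include M M' in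
/-- `D ∩ D' = 1` for a noncommuting pair -/
theorem inf_D_eq_bot {v w : G} (hv : v ∈ zl (S : Subgroup G) P) (hw : w ∈ zl (S' : Subgroup G) P')
    (hne : v * w ≠ w * v) : D ⊓ D' = ⊥ := by
  rw [eq_bot_iff]
  rintro d ⟨hd, hd'⟩
  rw [mem_bot]
  by_contra hd1
  apply hne
  have h1 := isLoc_cent M hd hd1
  have h2 := isLoc_cent M' hd' hd1
  have h3 := zl_eq_of_sylow S S' h1.le h2.le
  have h4 := zl_mono (P_le_cent M hd) hv
  have h5 := zl_mono (P_le_cent M' hd') hw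
  rw [h3] at h4
  exact zc_comm _ _ (h2.zl_le S' M.hG h4) _ (h2.zl_le S' M.hG h5)

include M in
/-- no 2-local contains `P` and an element `c` with `[V_P, V_P^c] ≠ 1` -/
theorem not_local_P {T₀ : Subgroup G} (hT : IsPGroup 2 T₀) (hT1 : T₀ ≠ ⊥) (hP : P ≤ normalizer (T₀ : Set G)) {c v w : G}
    (hc : c ∈ normalizer (T₀ : Set G)) (hv : v ∈ zl (S : Subgroup G) P) (hw : w ∈ zl (S : Subgroup G) P) :
    v * (c * w * c⁻¹) = c * w * c⁻¹ * v :=
  comm_of_loc M.hG S (isLoc_normalizer S hT hT1 ((SP M).trans hP)) hP hc hv hw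

end D

/-! ### `Ω₁(Z(stab M i))`, `k = 2` -/

section two

variable {G : Type u} [Group G] [Finite G] {F : Type} [Field F] [CharP F 2] {S : Sylow 2 G}
  {P V D : Subgroup G} (M : NatD F S P V D 2) {i j : Fin 2} (hij : i ≠ j)

/-- `C(⟨grp M {0}, grp M {1}⟩) ∩ Ω₁(Z(stab M 0))` -/
def DT : Subgroup G := zc (stab M.toNatV 0) ⊓ (centralizer (grp M.toNatV {0} : Set G) ⊓
  centralizer (grp M.toNatV {1} : Set G))

theorem stab_zero (i : Fin 2) : stab M.toNatV i = stab M.toNatV 0 := by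
  by_cases h : i = 0
  · rw [h]
  · exact stab_eq M.toNatV (SP M) h

theorem mem_DT {x : G} : x ∈ DT M ↔ x ∈ zc (stab M.toNatV i) ∧ ∀ l : Fin 2, ∀ g ∈ grp M.toNatV {l}, g * x = x * g := by
  rw [DT, mem_inf, mem_inf, mem_centralizer_iff, mem_centralizer_iff, stab_zero M i]
  constructor
  · rintro ⟨h1, h2, h3⟩
    refine ⟨h1, fun l g hg => ?_⟩
    fin_cases l
    · exact h2 g hg
    · exact h3 g hg
  · rintro ⟨h1, h2⟩
    exact ⟨h1, fun g hg => h2 0 g hg, fun g hg => h2 1 g hg⟩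

/-- `D ≤ DT M` -/
theorem D_le_DT : D ≤ DT M := by
  intro d hd
  rw [mem_DT M (i := 0)]
  refine ⟨VModule.mem_zc.2 ⟨?_, fun y hy => ?_, ?_⟩, fun l g hg => ?_⟩
  · refine o2_le_stb M (B := {0}) (zc_le _ (zl_le_zz M (M.D_le hd)))
  · exact (mem_centralizer_iff.1 (M.cD (SP M (stab_le _ _ hy))) d hd).symm
  · exact (VModule.mem_zc.1 (zl_le_zz M (M.D_le hd))).2.2
  · exact (mem_centralizer_iff.1 (M.cD (grp_le _ _ hg)) d hd).symm

include hij

/-- **`fac M i ≤ Z(O₂(C_G(e)))`** for `e` centralised by `stab M i` and `grp M {i}` -/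
theorem cent_half {e : G} (he : e ^ 2 = 1) (he1 : e ≠ 1) (hS : ∀ t ∈ stab M.toNatV i, t * e = e * t)
    (hL : ∀ g ∈ grp M.toNatV {i}, g * e = e * g) :
    fac M.toNatV i ≤ o2 (centralizer ({e} : Set G)) ∧
      o2 (centralizer ({e} : Set G)) ≤ centralizer (fac M.toNatV i : Set G) := by
  refine half_two M hij.symm (MinSimple.Basic.char2_centralizer M.hG he he1) ?_ ?_
  · rw [← stab_eq M.toNatV (SP M) hij]
    exact fun t ht => mem_centralizer_singleton_iff.2 (hS t ht)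
  · exact fun g hg => mem_centralizer_singleton_iff.2 (hL g hg)

end two

/-! ### `q = 2` -/

section q2

variable {G : Type u} [Group G] [Finite G] {F : Type} [Field F] [Finite F] [CharP F 2] {S : Sylow 2 G}
  {P V D : Subgroup G} (M : NatD F S P V D 2) (hF : Nat.card F = 2)

omit [CharP F 2] in
include hF in
theorem zero_or_one (c : F) : c = 0 ∨ c = 1 := by
  obtain ⟨y, hy, hu⟩ := (Nat.card_eq_two_iff' (0 : F)).1 hF
  by_cases h : c = 0
  · exact Or.inl h
  · right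
    rw [hu c h, hu 1 one_ne_zero]

/-- the elements of `fac M i`, `q = 2`: `a`, `b = a^x`, `c = b^x` -/
structure Abc (i : Fin 2) (x a b c : G) : Prop where
  x_mem : x ∈ grp M.toNatV {i}
  nx1 : ∀ v ∈ fac M.toNatV i, nx x v = 1
  a_mem : a ∈ line M.toNatV i
  a1 : a ≠ 1
  b_mem : b ∈ fac M.toNatV i
  b1 : b ≠ 1
  c_mem : c ∈ fac M.toNatV i
  xa : x * a * x⁻¹ = b
  xb : x * b * x⁻¹ = c
  xc : x * c * x⁻¹ = a
  ab : a ≠ b
  ac : a ≠ c
  bc : b ≠ c
  mul : a * b = c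
  all : ∀ v ∈ fac M.toNatV i, v = 1 ∨ v = a ∨ v = b ∨ v = c

include hF in
theorem exists_abc (i : Fin 2) : ∃ x a b c, Abc M i x a b c := by
  classical
  obtain ⟨A, hA3, hA1⟩ : ∃ A : Fin 2 → Matrix.SpecialLinearGroup (Fin 2) F,
      (∀ l ∈ ({i} : Set (Fin 2)), A l = HOne.three F) ∧ ∀ l, l ∉ ({i} : Set (Fin 2)) → A l = 1 :=
    ⟨fun l => if l = i then HOne.three F else 1, fun l hl => if_pos hl, fun l hl => if_neg hl⟩
  obtain ⟨x, hx, hA⟩ := M.lift A
  have hxg : x ∈ grp M.toNatV {i} := ⟨hx, A, hA, hA1⟩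
  obtain ⟨a, ha, hea⟩ := exists_fac M.toNatV i ![1, 0]
  have hT : ∀ v ∈ fac M.toNatV i, x * v * x⁻¹ ∈ fac M.toNatV i ∧
      M.e (x * v * x⁻¹) i = ![M.e v i 1, M.e v i 0 + M.e v i 1] := by
    intro v hv
    refine ⟨(mem_normalizer_iff.1 (grp_normalizes _ {i} {i} hxg) v).1 hv, ?_⟩
    rw [hA.1 v hv.1 i, hA3 i rfl]
    refine ext2 ?_ ?_
    · simp [ap, HOne.three]
    · simp [ap, HOne.three]
  obtain ⟨hb, heb⟩ := hT a ha
  obtain ⟨hc, hec⟩ := hT _ hb
  obtain ⟨hd, hed⟩ := hT _ hc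
  have h3 : (1 : F) + 1 = 0 := CharTwo.add_self_eq_zero 1
  have heb' : M.e (x * a * x⁻¹) i = ![0, 1] := by
    rw [heb, hea]
    refine ext2 ?_ ?_ <;> simp
  have hec' : M.e (x * (x * a * x⁻¹) * x⁻¹) i = ![1, 1] := by
    rw [hec, heb']
    refine ext2 ?_ ?_ <;> simp
  have hed' : M.e (x * (x * (x * a * x⁻¹) * x⁻¹) * x⁻¹) i = ![1, 0] := by
    rw [hed, hec']
    refine ext2 ?_ ?_
    · simp
    · simp [h3]
  have hne : ∀ {v w : G}, M.e v i ≠ M.e w i → v ≠ w := fun h h1 => h (by rw [h1])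
  refine ⟨x, a, x * a * x⁻¹, x * (x * a * x⁻¹) * x⁻¹,
    { x_mem := hxg
      nx1 := fun v hv => ?_
      a_mem := (mem_line _).2 ⟨ha, by rw [hea]; rfl⟩
      a1 := fun h => ?_
      b_mem := hb
      b1 := fun h => ?_
      c_mem := hc
      xa := rfl
      xb := rfl
      xc := ext_fac _ hd ha (by rw [hed', hea])
      ab := hne fun h => ?_
      ac := hne fun h => ?_
      bc := hne fun h => ?_
      mul := ?_
      all := fun v hv => ?_ }⟩
  · obtain ⟨h1, h2⟩ := hT v hv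
    obtain ⟨h4, h5⟩ := hT _ h1
    have h6 : v * (x * v * x⁻¹) * (x * (x * v * x⁻¹) * x⁻¹) ∈ fac M.toNatV i := mul_mem (mul_mem hv h1) h4
    refine (fac_eq_one _ h6).1 ?_
    rw [M.mul _ (mul_mem hv h1).1 _ h4.1, M.mul _ hv.1 _ h1.1, Pi.add_apply, Pi.add_apply, h5, h2]
    refine ext2 ?_ ?_
    · simp only [Pi.add_apply, Pi.zero_apply, Matrix.cons_val_zero, Matrix.cons_val_one]
      linear_combination (M.e v i 0 + M.e v i 1) * h3
    · simp only [Pi.add_apply, Pi.zero_apply, Matrix.cons_val_zero, Matrix.cons_val_one]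
      linear_combination (M.e v i 0 + 2 * M.e v i 1) * h3
  · rw [h, e_one] at hea
    have := congrFun hea 0
    simp at this
  · rw [h, e_one] at heb'
    have := congrFun heb' 1
    simp at this
  · rw [hea, heb'] at h
    have := congrFun h 0
    simp at this
  · rw [hea, hec'] at h
    have := congrFun h 1
    simp at this
  · rw [heb', hec'] at h
    have := congrFun h 0
    simp at this
  · refine ext_fac _ (mul_mem ha hb) hc ?_
    rw [M.mul _ ha.1 _ hb.1, Pi.add_apply, hea, heb', hec']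
    refine ext2 ?_ ?_ <;> simp
  · rcases zero_or_one hF (M.e v i 0) with h0 | h0 <;> rcases zero_or_one hF (M.e v i 1) with h1 | h1
    · left
      exact (fac_eq_one _ hv).1 (ext2 h0 h1)
    · right; right; left
      refine ext_fac _ hv hb ?_
      rw [heb']
      exact ext2 h0 h1
    · right; left
      refine ext_fac _ hv ha ?_
      rw [hea]
      exact ext2 h0 h1
    · right; right; right
      refine ext_fac _ hv hc ?_
      rw [hec']
      exact ext2 h0 h1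

variable {M} {i j : Fin 2} (hij : i ≠ j) {x a b c : G} (h : Abc M i x a b c)

include h

/-- `stab M i` centralises `a` -/
theorem Abc.stab_a {t : G} (ht : t ∈ stab M.toNatV i) : t * a * t⁻¹ = a := by
  have h1 := (mem_normalizer_iff.1 (stab_normalizes_line M.toNatV (SP M) i ht) a).1 h.a_mem
  rw [mem_line] at h1
  have ha := h.a_mem
  rw [mem_line] at ha
  rcases h.all _ h1.1 with h2 | h2 | h2 | h2
  · exfalso
    apply h.a1
    have e : a = t⁻¹ * (t * a * t⁻¹) * t := by group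
    rw [e, h2]
    group
  · exact h2
  · exfalso
    have h3 : b ∈ line M.toNatV i := (mem_line _).2 ⟨h.b_mem, h2 ▸ h1.2⟩
    -- `line` is stable under `x`?  `a`, `b` generate `fac M i`
    have h4 : ∀ v ∈ fac M.toNatV i, M.e v i 1 = 0 := by
      intro v hv
      rcases h.all v hv with h5 | h5 | h5 | h5
      · rw [h5, e_one]; rfl
      · rw [h5]; exact ha.2
      · rw [h5]; exact ((mem_line _).1 h3).2
      · rw [h5, ← h.mul, M.mul _ ha.1.1 _ h.b_mem.1, Pi.add_apply, Pi.add_apply, ha.2, ((mem_line _).1 h3).2,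
          add_zero]
    obtain ⟨v, hv, hve⟩ := exists_fac M.toNatV i ![0, 1]
    have := h4 v hv
    rw [hve] at this
    simp at this
  · exfalso
    have h3 : c ∈ line M.toNatV i := (mem_line _).2 ⟨h.c_mem, h2 ▸ h1.2⟩
    have hbl : b ∈ line M.toNatV i := by
      have e : b = a⁻¹ * c := by rw [← h.mul]; group
      rw [e]
      exact mul_mem (inv_mem h.a_mem) h3
    have h4 : ∀ v ∈ fac M.toNatV i, M.e v i 1 = 0 := by
      intro v hv
      rcases h.all v hv with h5 | h5 | h5 | h5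
      · rw [h5, e_one]; rfl
      · rw [h5]; exact ha.2
      · rw [h5]; exact ((mem_line _).1 hbl).2
      · rw [h5]; exact ((mem_line _).1 h3).2
    obtain ⟨v, hv, hve⟩ := exists_fac M.toNatV i ![0, 1]
    have := h4 v hv
    rw [hve] at this
    simp at this

theorem Abc.a_fac : a ∈ fac M.toNatV i := ((mem_line _).1 h.a_mem).1

theorem Abc.c1 : c ≠ 1 := by
  intro h1
  apply h.b1
  have e : b = x⁻¹ * c * x := by rw [← h.xb]; group
  rw [e, h1]
  group

/-- a conjugate in `fac M i` of `b` by an element which fixes `a` is `b` or `c` -/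
theorem Abc.conj_b {l : G} (hl : l ∈ normalizer (fac M.toNatV i : Set G)) (ha : l * a * l⁻¹ = a) :
    (l * b * l⁻¹ = b ∧ l * c * l⁻¹ = c) ∨ (l * b * l⁻¹ = c ∧ l * c * l⁻¹ = b) := by
  have hq : a * a = 1 := NV.sq M.toNatV h.a_fac.1
  have hlc : l * c * l⁻¹ = a * (l * b * l⁻¹) := by
    rw [← h.mul]
    calc l * (a * b) * l⁻¹ = (l * a * l⁻¹) * (l * b * l⁻¹) := by group
      _ = _ := by rw [ha]
  have h1 := h.all _ ((mem_normalizer_iff.1 hl b).1 h.b_mem)
  rcases h1 with h1 | h1 | h1 | h1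
  · exfalso
    apply h.b1
    have e : b = l⁻¹ * (l * b * l⁻¹) * l := by group
    rw [e, h1]
    group
  · exfalso
    apply h.ab
    calc a = l⁻¹ * (l * a * l⁻¹) * l := by group
      _ = l⁻¹ * (l * b * l⁻¹) * l := by rw [ha, h1]
      _ = b := by group
  · left
    exact ⟨h1, by rw [hlc, h1, h.mul]⟩
  · right
    refine ⟨h1, ?_⟩
    rw [hlc, h1, ← h.mul, ← mul_assoc, hq, one_mul]

include hij

/-- an element of `grp M {i}` which centralises `a` and `b` centralises `V` -/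
theorem Abc.comm_V {l : G} (hl : l ∈ grp M.toNatV {i}) (ha : l * a * l⁻¹ = a) (hb : l * b * l⁻¹ = b) :
    ∀ v ∈ V, l * v = v * l := by
  intro v hv
  obtain ⟨p, hp, q, hq, rfl⟩ := exists_comp2 M.toNatV hij hv
  have h1 : l * q = q * l := grp_comm M.toNatV (by simpa using hij) hl hq
  have h2 : l * p * l⁻¹ = p := by
    rcases h.all p hp with h3 | h3 | h3 | h3
    · rw [h3]; group
    · rw [h3, ha]
    · rw [h3, hb]
    · rw [h3, ← h.mul]
      calc l * (a * b) * l⁻¹ = (l * a * l⁻¹) * (l * b * l⁻¹) := by group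
        _ = a * b := by rw [ha, hb]
  calc l * (p * q) = l * p * l⁻¹ * (l * q) := by group
    _ = p * q * l := by rw [h2, h1, mul_assoc]

/-- the stabiliser of `a` in `grp M {i}` centralises `Ω₁(Z(stab M i))` -/
theorem Abc.fix {l f : G} (hl : l ∈ grp M.toNatV {i}) (ha : l * a * l⁻¹ = a) (hf : f ∈ zc (stab M.toNatV i)) :
    l * f * l⁻¹ = f := by
  have hfz : f ∈ zc (o2 P) := zc_stb_le M (B := {i}) hf
  have hln : l ∈ normalizer (fac M.toNatV i : Set G) := grp_normalizes _ {i} {i} hl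
  rcases h.conj_b hln ha with ⟨h1, -⟩ | ⟨h1, -⟩
  · exact mul_inv_eq_iff_eq_mul.2 (comm_zz M (grp_le _ _ hl) (h.comm_V hij hl ha h1) hfz)
  · obtain ⟨t, ht, htg, hta⟩ := exists_root M.toNatV (SP M) i 1
    have hta' : t * a * t⁻¹ = a := h.stab_a ht
    have htb : t * b * t⁻¹ = c := by
      rcases h.conj_b (stab_normalizes _ i ht) hta' with ⟨h2, -⟩ | ⟨h2, -⟩
      · exfalso
        obtain ⟨v, hv, hve⟩ := exists_fac M.toNatV i ![0, 1]
        have h3 := h.comm_V hij htg hta' h2 v hv.1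
        have h4 := hta.1 v hv.1 i
        have e : t * v * t⁻¹ = v := by rw [h3]; group
        rw [e, hve] at h4
        have h5 := congrFun h4 0
        rw [NatPair.ap_zero'] at h5
        simp at h5
      · exact h2
    have hg : t⁻¹ * l ∈ grp M.toNatV {i} := mul_mem (inv_mem htg) hl
    have e1 : t⁻¹ * l * a * (t⁻¹ * l)⁻¹ = a := by
      calc t⁻¹ * l * a * (t⁻¹ * l)⁻¹ = t⁻¹ * (l * a * l⁻¹) * t := by group
        _ = t⁻¹ * (t * a * t⁻¹) * t := by rw [ha, hta']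
        _ = a := by group
    have e2 : t⁻¹ * l * b * (t⁻¹ * l)⁻¹ = b := by
      calc t⁻¹ * l * b * (t⁻¹ * l)⁻¹ = t⁻¹ * (l * b * l⁻¹) * t := by group
        _ = t⁻¹ * (t * b * t⁻¹) * t := by rw [h1, htb]
        _ = b := by group
    have h3 := comm_zz M (grp_le _ _ hg) (h.comm_V hij hg e1 e2) hfz
    have h4 := (VModule.mem_zc.1 hf).2.1 t ht
    calc l * f * l⁻¹ = t * (t⁻¹ * l * f) * l⁻¹ := by group
      _ = t * (f * (t⁻¹ * l)) * l⁻¹ := by rw [h3]
      _ = t * f * t⁻¹ := by group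
      _ = f := by rw [h4]; group

theorem Abc.fix' {l l' f : G} (hl : l ∈ grp M.toNatV {i}) (hl' : l' ∈ grp M.toNatV {i})
    (ha : l * a * l⁻¹ = l' * a * l'⁻¹) (hf : f ∈ zc (stab M.toNatV i)) : l * f * l⁻¹ = l' * f * l'⁻¹ := by
  have h1 := h.fix hij (mul_mem (inv_mem hl') hl) (by
    calc l'⁻¹ * l * a * (l'⁻¹ * l)⁻¹ = l'⁻¹ * (l * a * l⁻¹) * l' := by group
      _ = a := by rw [ha]; group) hf
  calc l * f * l⁻¹ = l' * (l'⁻¹ * l * f * (l'⁻¹ * l)⁻¹) * l'⁻¹ := by group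
    _ = l' * f * l'⁻¹ := by rw [h1]

/-- `x³` is trivial on `Ω₁(Z(O₂(P)))` -/
theorem Abc.cube {z : G} (hz : z ∈ zc (o2 P)) : x * (x * (x * z * x⁻¹) * x⁻¹) * x⁻¹ = z := by
  have hx3 : x * x * x ∈ grp M.toNatV {i} := mul_mem (mul_mem h.x_mem h.x_mem) h.x_mem
  have e : ∀ y, x * x * x * y * (x * x * x)⁻¹ = x * (x * (x * y * x⁻¹) * x⁻¹) * x⁻¹ := fun y => by group
  have h1 := comm_zz M (grp_le _ _ hx3) (h.comm_V hij hx3 (by rw [e, h.xa, h.xb, h.xc])
    (by rw [e, h.xb, h.xc, h.xa])) hz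
  rw [← e, h1]
  group

/-- `x` commutes with `f f^x f^(x²)` -/
theorem Abc.x_nx {f : G} (hf : f ∈ zc (o2 P)) : x * nx x f = nx x f * x := by
  have hcomm := zc_comm (o2 P)
  have hxP := grp_le _ _ h.x_mem
  have h1 := zz_mem hxP hf
  have h2 := zz_mem hxP h1
  have h3 := h.cube hij hf
  have e : x * nx x f * x⁻¹ = nx x f := by
    rw [nx]
    calc x * (f * (x * f * x⁻¹) * (x * (x * f * x⁻¹) * x⁻¹)) * x⁻¹ =
        (x * f * x⁻¹) * (x * (x * f * x⁻¹) * x⁻¹) * (x * (x * (x * f * x⁻¹) * x⁻¹) * x⁻¹) := by group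
      _ = (x * f * x⁻¹) * (x * (x * f * x⁻¹) * x⁻¹) * f := by rw [h3]
      _ = f * (x * f * x⁻¹) * (x * (x * f * x⁻¹) * x⁻¹) := by
        rw [hcomm _ (mul_mem h1 h2) f hf, ← mul_assoc]
  exact mul_inv_eq_iff_eq_mul.1 e

/-- the norm of an element of `Ω₁(Z(stab M i))` lies in `Ω₁(Z(stab M i))` -/
theorem Abc.nx_mem {f : G} (hf : f ∈ zc (stab M.toNatV i)) : nx x f ∈ zc (stab M.toNatV i) := by
  have hcomm := zc_comm (o2 P)
  have hfz : f ∈ zc (o2 P) := zc_stb_le M (B := {i}) hf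
  have hxP := grp_le _ _ h.x_mem
  have h1 := zz_mem hxP hfz
  have h2 := zz_mem hxP h1
  have hn : nx x f ∈ zc (o2 P) := mul_mem (mul_mem hfz h1) h2
  refine VModule.mem_zc.2 ⟨o2_le_stb M (B := {i}) (zc_le _ hn), fun t ht => ?_, zc_sq _ _ hn⟩
  have htn := stab_normalizes_grp M.toNatV (SP M) i ht
  have hxg : t * x * t⁻¹ ∈ grp M.toNatV {i} := (mem_normalizer_iff.1 htn x).1 h.x_mem
  have hxxg : t * (x * x) * t⁻¹ ∈ grp M.toNatV {i} :=
    (mem_normalizer_iff.1 htn _).1 (mul_mem h.x_mem h.x_mem)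
  have hta := h.stab_a ht
  have htf : t * f * t⁻¹ = f := by rw [(VModule.mem_zc.1 hf).2.1 t ht]; group
  have ea : ∀ l, t * l * t⁻¹ * a * (t * l * t⁻¹)⁻¹ = t * (l * a * l⁻¹) * t⁻¹ := by
    intro l
    nth_rewrite 1 [← hta]
    group
  have ef : ∀ l, t * l * t⁻¹ * f * (t * l * t⁻¹)⁻¹ = t * (l * f * l⁻¹) * t⁻¹ := by
    intro l
    nth_rewrite 1 [← htf]
    group
  have exx : ∀ y, x * x * y * (x * x)⁻¹ = x * (x * y * x⁻¹) * x⁻¹ := fun y => by group
  have key : t * nx x f * t⁻¹ = nx x f := by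
    have e0 : t * nx x f * t⁻¹ = f * (t * (x * f * x⁻¹) * t⁻¹) * (t * (x * (x * f * x⁻¹) * x⁻¹) * t⁻¹) := by
      calc t * nx x f * t⁻¹ = (t * f * t⁻¹) * (t * (x * f * x⁻¹) * t⁻¹) *
          (t * (x * (x * f * x⁻¹) * x⁻¹) * t⁻¹) := by rw [nx]; group
        _ = _ := by rw [htf]
    rcases h.conj_b (stab_normalizes _ i ht) hta with ⟨k1, k2⟩ | ⟨k1, k2⟩
    · have p1 : t * (x * f * x⁻¹) * t⁻¹ = x * f * x⁻¹ := by
        rw [← ef]
        exact h.fix' hij hxg h.x_mem (by rw [ea, h.xa, k1]) hf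
      have p2 : t * (x * (x * f * x⁻¹) * x⁻¹) * t⁻¹ = x * (x * f * x⁻¹) * x⁻¹ := by
        rw [← exx, ← ef]
        exact h.fix' hij hxxg (mul_mem h.x_mem h.x_mem) (by rw [ea, exx, h.xa, h.xb, k2]) hf
      rw [e0, p1, p2, nx]
    · have p1 : t * (x * f * x⁻¹) * t⁻¹ = x * (x * f * x⁻¹) * x⁻¹ := by
        rw [← ef, ← exx]
        exact h.fix' hij hxg (mul_mem h.x_mem h.x_mem) (by rw [ea, exx, h.xa, h.xb, k1]) hf
      have p2 : t * (x * (x * f * x⁻¹) * x⁻¹) * t⁻¹ = x * f * x⁻¹ := by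
        rw [← exx, ← ef]
        exact h.fix' hij hxxg h.x_mem (by rw [ea, exx, h.xa, h.xb, k2]) hf
      rw [e0, p1, p2, nx, mul_assoc, hcomm _ h2 _ h1, ← mul_assoc]
  exact mul_inv_eq_iff_eq_mul.1 key

/-- **The decomposition with respect to one factor.** -/
theorem Abc.decomp {f : G} (hf : f ∈ zc (stab M.toNatV i)) :
    ∃ u ∈ fac M.toNatV i, u ∈ zc (stab M.toNatV i) ∧ f = u * nx x f := by
  have hn := h.nx_mem hij hf
  have hcomm := zc_comm (o2 P)
  have hfz : f ∈ zc (o2 P) := zc_stb_le M (B := {i}) hf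
  have hnz : nx x f ∈ zc (o2 P) := zc_stb_le M (B := {i}) hn
  have hnn : nx x f * nx x f = 1 := mul_self_zc hnz
  have hf' : f * nx x f ∈ zc (stab M.toNatV i) := mul_mem hf hn
  refine ⟨f * nx x f, ?_, hf', ?_⟩
  · refine mem_part_of_norm (blk_two M i) h.x_mem (fun v hv => h.nx1 v hv) hf' ?_
    rw [nx_mul hcomm (zz_nor P (grp_le _ _ h.x_mem)) hfz hnz, nx_of_comm (h.x_nx hij hfz) hnn, hnn]
  · rw [mul_assoc, hnn, mul_one]

/-- an element of `Ω₁(Z(stab M i))` which commutes with `x` is centralised by `grp M {i}` -/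
theorem Abc.comm_grp {m l : G} (hm : m ∈ zc (stab M.toNatV i)) (hx : x * m = m * x) (hl : l ∈ grp M.toNatV {i}) :
    l * m = m * l := by
  have hxm : x * m * x⁻¹ = m := by rw [hx]; group
  have hxx : x * x * m * (x * x)⁻¹ = m := by
    calc x * x * m * (x * x)⁻¹ = x * (x * m * x⁻¹) * x⁻¹ := by group
      _ = m := by rw [hxm, hxm]
  have exx : ∀ y, x * x * y * (x * x)⁻¹ = x * (x * y * x⁻¹) * x⁻¹ := fun y => by group
  have hln : l ∈ normalizer (fac M.toNatV i : Set G) := grp_normalizes _ {i} {i} hl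
  rcases h.all _ ((mem_normalizer_iff.1 hln a).1 h.a_fac) with h1 | h1 | h1 | h1
  · exfalso
    apply h.a1
    have e : a = l⁻¹ * (l * a * l⁻¹) * l := by group
    rw [e, h1]
    group
  · exact mul_inv_eq_iff_eq_mul.1 (h.fix hij hl h1 hm)
  · have h2 := h.fix' hij hl h.x_mem (by rw [h1, h.xa]) hm
    rw [hxm] at h2
    exact mul_inv_eq_iff_eq_mul.1 h2
  · have h2 := h.fix' hij hl (mul_mem h.x_mem h.x_mem) (by rw [exx, h.xa, h.xb, h1]) hm
    rw [hxx] at h2
    exact mul_inv_eq_iff_eq_mul.1 h2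

omit h [Finite F] in
/-- `grp M {i}` and `grp M {j}` commute on `Ω₁(Z(O₂(P)))` -/
theorem grp_grp {x y z : G} (hx : x ∈ grp M.toNatV {i}) (hy : y ∈ grp M.toNatV {j}) (hz : z ∈ zc (o2 P)) :
    x * (y * z * y⁻¹) * x⁻¹ = y * (x * z * x⁻¹) * y⁻¹ := by
  have hxP := grp_le _ _ hx
  have hyP := grp_le _ _ hy
  have hdj : Disjoint ({i} : Set (Fin 2)) {j} := by simpa using hij
  have hxb : ∀ b ∈ fac M.toNatV j, x * b = b * x := fun b hb => grp_comm M.toNatV hdj hx hb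
  have hya : ∀ a ∈ fac M.toNatV i, y * a = a * y := fun a ha => grp_comm M.toNatV hdj.symm hy ha
  have hc : (y * x)⁻¹ * (x * y) ∈ P := mul_mem (inv_mem (mul_mem hyP hxP)) (mul_mem hxP hyP)
  have hcV : ∀ v ∈ V, (y * x)⁻¹ * (x * y) * v = v * ((y * x)⁻¹ * (x * y)) := by
    intro v hv
    obtain ⟨a, ha, b, hb, rfl⟩ := exists_comp2 M.toNatV hij hv
    have hxa : x * a * x⁻¹ ∈ fac M.toNatV i := (mem_normalizer_iff.1 (grp_normalizes _ {i} {i} hx) a).1 ha
    have hyb' : y * b * y⁻¹ ∈ fac M.toNatV j := (mem_normalizer_iff.1 (grp_normalizes _ {j} {j} hy) b).1 hb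
    have e1 : x * y * (a * b) * (x * y)⁻¹ = (x * a * x⁻¹) * (y * b * y⁻¹) := by
      calc x * y * (a * b) * (x * y)⁻¹ = x * ((y * a) * b) * y⁻¹ * x⁻¹ := by group
        _ = (x * a * x⁻¹) * (x * (y * b * y⁻¹)) * x⁻¹ := by rw [hya a ha]; group
        _ = (x * a * x⁻¹) * (y * b * y⁻¹) := by rw [hxb _ hyb']; group
    have e2 : y * x * (a * b) * (y * x)⁻¹ = (x * a * x⁻¹) * (y * b * y⁻¹) := by
      calc y * x * (a * b) * (y * x)⁻¹ = y * (x * a * x⁻¹) * (x * b) * x⁻¹ * y⁻¹ := by group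
        _ = (y * (x * a * x⁻¹)) * b * y⁻¹ := by rw [hxb b hb]; group
        _ = (x * a * x⁻¹) * (y * b * y⁻¹) := by rw [hya _ hxa]; group
    have e3 : x * y * (a * b) * (x * y)⁻¹ = y * x * (a * b) * (y * x)⁻¹ := e1.trans e2.symm
    calc (y * x)⁻¹ * (x * y) * (a * b) = (y * x)⁻¹ * (x * y * (a * b) * (x * y)⁻¹) * (x * y) := by group
      _ = (y * x)⁻¹ * (y * x * (a * b) * (y * x)⁻¹) * (x * y) := by rw [e3]
      _ = a * b * ((y * x)⁻¹ * (x * y)) := by group
  have h1 := comm_zz M hc hcV hz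
  calc x * (y * z * y⁻¹) * x⁻¹ = (y * x) * ((y * x)⁻¹ * (x * y) * z) * (x * y)⁻¹ := by group
    _ = (y * x) * (z * ((y * x)⁻¹ * (x * y))) * (x * y)⁻¹ := by rw [h1]
    _ = y * (x * z * x⁻¹) * y⁻¹ := by group

omit h in
include hF in
/-- **`Ω₁(Z(stab M i)) = (V_i ∩ Z)(V_j ∩ Z) DT M`**, `q = 2` -/
theorem zc_stab_eq {f : G} (hf : f ∈ zc (stab M.toNatV i)) :
    ∃ u ∈ fac M.toNatV i, ∃ w ∈ fac M.toNatV j, ∃ m ∈ DT M, u ∈ zc (stab M.toNatV i) ∧
      w ∈ zc (stab M.toNatV i) ∧ f = u * w * m := by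
  obtain ⟨x, a, b, c, hx⟩ := exists_abc M hF i
  obtain ⟨y, a', b', c', hy⟩ := exists_abc M hF j
  have hst : stab M.toNatV j = stab M.toNatV i := stab_eq M.toNatV (SP M) hij.symm
  obtain ⟨u, hu, huz, h1⟩ := hx.decomp hij hf
  have hn := hx.nx_mem hij hf
  have hn' : nx x f ∈ zc (stab M.toNatV j) := by rw [hst]; exact hn
  obtain ⟨w, hw, hwz, h2⟩ := hy.decomp hij.symm hn'
  have hm := hy.nx_mem hij.symm hn'
  have hnz : nx x f ∈ zc (o2 P) := zc_stb_le M (B := {i}) hn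
  refine ⟨u, hu, w, hw, nx y (nx x f), ?_, huz, hst ▸ hwz, ?_⟩
  · rw [mem_DT M (i := i)]
    have hm' : nx y (nx x f) ∈ zc (stab M.toNatV i) := by rw [← hst]; exact hm
    refine ⟨hm', fun l g hg => ?_⟩
    -- `x` commutes with `nx y (nx x f)`
    have hxn : x * nx x f * x⁻¹ = nx x f := by
      rw [hx.x_nx hij (zc_stb_le M (B := {i}) hf)]; group
    have hyP := grp_le _ _ hy.x_mem
    have k1 : x * (y * nx x f * y⁻¹) * x⁻¹ = y * nx x f * y⁻¹ := by
      rw [grp_grp hij hx.x_mem hy.x_mem hnz, hxn]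
    have k2 : x * (y * (y * nx x f * y⁻¹) * y⁻¹) * x⁻¹ = y * (y * nx x f * y⁻¹) * y⁻¹ := by
      rw [grp_grp hij hx.x_mem hy.x_mem (zz_mem hyP hnz), k1]
    have hxm : x * nx y (nx x f) = nx y (nx x f) * x := by
      refine mul_inv_eq_iff_eq_mul.1 ?_
      have e : x * nx y (nx x f) * x⁻¹ = (x * nx x f * x⁻¹) * (x * (y * nx x f * y⁻¹) * x⁻¹) *
          (x * (y * (y * nx x f * y⁻¹) * y⁻¹) * x⁻¹) := by
        rw [show nx y (nx x f) = nx x f * (y * nx x f * y⁻¹) * (y * (y * nx x f * y⁻¹) * y⁻¹) from rfl]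
        group
      rw [e, hxn, k1, k2]
      rfl
    by_cases hl : l = i
    · subst hl
      exact hx.comm_grp hij hm' hxm hg
    · have hlj : l = j := by omega
      subst hlj
      exact hy.comm_grp hij.symm hm (hy.x_nx hij.symm hnz) hg
  · rw [mul_assoc, ← h2]
    exact h1

end q2

/-! ### Consequences -/

section conseq

variable {G : Type u} [Group G] [Finite G] {F : Type} [Field F] [CharP F 2] {S : Sylow 2 G}
  {P V D : Subgroup G} (M : NatD F S P V D 2) {i j : Fin 2} (hij : i ≠ j)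

/-- an element of `V_P` centralised by `grp M {0}` and `grp M {1}` lies in `D` -/
theorem mem_D_of_comm {m : G} (hm : m ∈ zl (S : Subgroup G) P) (hc : ∀ l : Fin 2, ∀ g ∈ grp M.toNatV {l}, g * m = m * g) :
    m ∈ D := by
  obtain ⟨n, hn, d, hd, rfl⟩ := M.dec m hm
  have hij : (0 : Fin 2) ≠ 1 := by decide
  obtain ⟨a, ha, b, hb, rfl⟩ := exists_comp2 M.toNatV hij hn
  have hgd : ∀ l : Fin 2, ∀ g ∈ grp M.toNatV {l}, g * d = d * g := fun l g hg =>
    (mem_centralizer_iff.1 (M.cD (grp_le _ _ hg)) d hd).symm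
  have ha1 : a = 1 := by
    have h1 : a ∈ fac M.toNatV 0 ⊓ centralizer (grp M.toNatV {0} : Set G) := by
      refine mem_inf.2 ⟨ha, mem_centralizer_iff.2 fun g hg => ?_⟩
      have h2 : g * b = b * g := grp_comm M.toNatV (by simp) hg hb
      have h3 := hc 0 g hg
      have h4 := hgd 0 g hg
      have h5 : g * a * (b * d) = a * g * (b * d) := by
        calc g * a * (b * d) = g * (a * b * d) := by group
          _ = a * b * d * g := h3
          _ = a * (b * (d * g)) := by group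
          _ = a * (b * g * d) := by rw [← h4]; group
          _ = a * g * (b * d) := by rw [← h2]; group
      exact mul_right_cancel h5
    rwa [fac_inf_centralizer, mem_bot] at h1
  have hb1 : b = 1 := by
    have h1 : b ∈ fac M.toNatV 1 ⊓ centralizer (grp M.toNatV {1} : Set G) := by
      refine mem_inf.2 ⟨hb, mem_centralizer_iff.2 fun g hg => ?_⟩
      have h3 := hc 1 g hg
      have h4 := hgd 1 g hg
      rw [ha1, one_mul] at h3
      have h5 : g * b * d = b * g * d := by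
        calc g * b * d = g * (b * d) := by group
          _ = b * d * g := h3
          _ = b * (g * d) := by rw [h4]; group
          _ = b * g * d := by group
      exact mul_right_cancel h5
    rwa [fac_inf_centralizer, mem_bot] at h1
  rw [ha1, hb1, one_mul, one_mul]
  exact hd

/-- `C_{DT M}(s) = D` -/
theorem mem_D_of_DT {m s : G} (hm : m ∈ DT M) (hs : s ∈ (S : Subgroup G)) (hs1 : s ∉ stab M.toNatV i)
    (hsm : s * m = m * s) : m ∈ D := by
  obtain ⟨h1, h2⟩ := (mem_DT M (i := i)).1 hm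
  refine mem_D_of_comm M (zc_le_zl _ P ?_) h2
  exact mem_zc_of_comm (blk_two M i) hs hs1 h1 (by rw [hsm]; group)

include hij

theorem DT_comm_grp {m g : G} (hm : m ∈ DT M) (hg : g ∈ grp M.toNatV {i}) : g * m = m * g :=
  ((mem_DT M (i := i)).1 hm).2 i g hg

/-- **`fac M i ≤ Z(O₂(C_G(e)))`** for `1 ≠ e ∈ (fac M j ∩ Z(stab M i)) DT M` -/
theorem cent_half_DT {w m : G} (hw : w ∈ fac M.toNatV j) (hwz : w ∈ zc (stab M.toNatV i)) (hm : m ∈ DT M)
    (h1 : w * m ≠ 1) : fac M.toNatV i ≤ o2 (centralizer ({w * m} : Set G)) ∧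
      o2 (centralizer ({w * m} : Set G)) ≤ centralizer (fac M.toNatV i : Set G) := by
  obtain ⟨hm1, hm2⟩ := (mem_DT M (i := i)).1 hm
  have he : w * m ∈ zc (stab M.toNatV i) := mul_mem hwz hm1
  refine cent_half M hij (zc_sq _ _ he) h1 (fun t ht => (VModule.mem_zc.1 he).2.1 t ht) fun g hg => ?_
  have h2 : g * w = w * g := grp_comm M.toNatV (by simpa using hij) hg hw
  rw [← mul_assoc, h2, mul_assoc, hm2 i g hg, mul_assoc]

/-- `fac M j` contains a nontrivial element of `Z(stab M i)` -/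
theorem exists_fac_zc : ∃ z ∈ fac M.toNatV j, z ≠ 1 ∧ z ∈ zc (stab M.toNatV i) := by
  obtain ⟨z, hz, hz1, hc⟩ := exists_fixed_part (blk_two M j)
  refine ⟨z, hz, hz1, ?_⟩
  have hst : stab M.toNatV j = stab M.toNatV i := stab_eq M.toNatV (SP M) hij.symm
  rw [← hst]
  exact VModule.mem_zc.2 ⟨part_le_stb (blk_two M j) hz.1, fun y hy => hc y hy,
    (VModule.mem_zc.1 (V_le_zz M hz.1)).2.2⟩

/-- **`fac M i ≤ Z(O₂(C_G(e)))`** for every `1 ≠ e ∈ (fac M j)(DT M)` -/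
theorem cent_half_all {w m : G} (hw : w ∈ fac M.toNatV j) (hm : m ∈ DT M)
    (h1 : w * m ≠ 1) : fac M.toNatV i ≤ o2 (centralizer ({w * m} : Set G)) ∧
      o2 (centralizer ({w * m} : Set G)) ≤ centralizer (fac M.toNatV i : Set G) := by
  by_cases hw1 : w = 1
  · subst hw1
    exact cent_half_DT M hij (one_mem _) (one_mem _) hm h1
  obtain ⟨z, hz, hz1, hzc⟩ := exists_fac_zc M hij
  obtain ⟨g, hg, hgz⟩ := exists_grp M.toNatV hz hw hz1 hw1
  have hgm : g * m = m * g := DT_comm_grp M hij.symm hm hg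
  refine Half.NatA.concl_cj (z := z * m) (g := g) ?_ ?_ (cent_half_DT M hij hz hzc hm ?_)
  · calc g * (z * m) * g⁻¹ = g * z * (m * g⁻¹) := by group
      _ = g * z * (g⁻¹ * (g * m) * g⁻¹) := by group
      _ = g * z * g⁻¹ * m := by rw [hgm]; group
      _ = w * m := by rw [hgz]
  · have h3 : grp M.toNatV {j} ≤ centralizer (fac M.toNatV i : Set G) :=
      grp_le_centralizer M.toNatV (by simpa using hij.symm)
    exact centralizer_le_normalizer _ (h3 hg)
  · intro h4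
    apply h1
    have h5 : w * m = g * (z * m) * g⁻¹ := by
      symm
      calc g * (z * m) * g⁻¹ = g * z * (g⁻¹ * (g * m) * g⁻¹) := by group
        _ = g * z * g⁻¹ * m := by rw [hgm]; group
        _ = w * m := by rw [hgz]
    rw [h5, h4]
    group

/-- `O₂(N_G(R'))`, `R'` a `grp M {i}`-conjugate of `line M i`, centralises `fac M j` and `DT M` -/
theorem o2_comm {g y z : G} (hg : g ∈ grp M.toNatV {i}) (hy : y ∈ o2 (normalizer (line M.toNatV i : Set G)))
    (hz : z ∈ fac M.toNatV j ∨ z ∈ DT M) : g * y * g⁻¹ * z = z * (g * y * g⁻¹) := by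
  have hgz : g * z = z * g := by
    rcases hz with h | h
    · exact grp_comm M.toNatV (by simpa using hij) hg h
    · exact DT_comm_grp M hij h hg
  have hyz : y * z = z * y := by
    rcases hz with h | h
    · exact (mem_centralizer_iff.1 ((fac_le_o2_line M hij).2 hy) z h).symm
    · exact (zc_stab_le_o2_line M hij ((mem_DT M (i := i)).1 h).1).2 y hy
  have hgz' : g⁻¹ * z = z * g⁻¹ := by
    calc g⁻¹ * z = g⁻¹ * (z * g) * g⁻¹ := by group
      _ = g⁻¹ * (g * z) * g⁻¹ := by rw [hgz]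
      _ = z * g⁻¹ := by group
  calc g * y * g⁻¹ * z = g * (y * (g⁻¹ * z)) := by group
    _ = g * (y * z) * g⁻¹ := by rw [hgz']; group
    _ = (g * z) * y * g⁻¹ := by rw [hyz]; group
    _ = z * (g * y * g⁻¹) := by rw [hgz]; group

/-! #### CASE 1 -/

/-- **CASE 1**: `O₂(H) ≤ stab M i` for `⟨grp M {j}, stab M i⟩ ≤ H`, if `stab M i` is a Sylow 2-subgroup of
`N_G(line M j)`. -/
theorem o2_le_of_case1 (hC : ¬ 2 ∣ (stab M.toNatV i).relIndex (normalizer (line M.toNatV j : Set G)))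
    {H : Subgroup G} (hH : H ⊓ centralizer (o2 H : Set G) ≤ o2 H) (hS : stab M.toNatV i ≤ H)
    (hL : grp M.toNatV {j} ≤ H) : o2 H ≤ stab M.toNatV i := by
  have hfact : Fact (Nat.Prime 2) := ⟨Nat.prime_two⟩
  obtain ⟨-, h2⟩ := half_two M hij hH hS hL
  have hst : stab M.toNatV j = stab M.toNatV i := stab_eq M.toNatV (SP M) hij.symm
  have hSo2 : IsPGroup 2 (stab M.toNatV i) := S.isPGroup'.to_le (stab_le _ _)
  have hU2 : IsPGroup 2 (o2 H ⊔ stab M.toNatV i : Subgroup G) :=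
    (o2_isPGroup H).to_sup_of_normal_left' hSo2 (hS.trans (le_normalizer_o2 H))
  have hUN : o2 H ⊔ stab M.toNatV i ≤ normalizer (line M.toNatV j : Set G) := by
    refine sup_le ?_ ?_
    · exact (h2.trans (centralizer_le (line_le _ _))).trans (centralizer_le_normalizer _)
    · rw [← hst]
      exact stab_normalizes_line M.toNatV (SP M) j
  have h3 := Subgroup.relIndex_mul_relIndex _ _ _ (le_sup_right : stab M.toNatV i ≤ o2 H ⊔ stab M.toNatV i) hUN
  obtain ⟨n, hn⟩ := IsPGroup.iff_card.1 hU2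
  have h4 : (stab M.toNatV i).relIndex (o2 H ⊔ stab M.toNatV i) ∣ 2 ^ n := by
    rw [← hn]
    exact relIndex_dvd_card _ _
  obtain ⟨m, -, hm⟩ := (Nat.dvd_prime_pow Nat.prime_two).1 h4
  rcases Nat.eq_zero_or_pos m with h0 | h0
  · rw [h0, pow_zero, relIndex_eq_one] at hm
    exact le_sup_left.trans hm
  · exfalso
    apply hC
    rw [← h3, hm]
    exact Dvd.dvd.mul_right (dvd_pow_self 2 h0.ne') _

/-- **CASE 1**, (F2): `Ω₁(Z(stab M i)) ≤ Z(O₂(C_G(r e)))` for `r ∈ fac M i ∩ Z(stab M i)`, `e ∈ DT M`, `r e ≠ 1` -/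
theorem case1_F2 (hC : ¬ 2 ∣ (stab M.toNatV i).relIndex (normalizer (line M.toNatV j : Set G))) {r m : G}
    (hr : r ∈ fac M.toNatV i) (hrz : r ∈ zc (stab M.toNatV i)) (hm : m ∈ DT M) (h1 : r * m ≠ 1) :
    o2 (centralizer ({r * m} : Set G)) ≤ stab M.toNatV i ∧
      zc (stab M.toNatV i) ≤ zc (o2 (centralizer ({r * m} : Set G))) := by
  obtain ⟨hm1, hm2⟩ := (mem_DT M (i := i)).1 hm
  have he : r * m ∈ zc (stab M.toNatV i) := mul_mem hrz hm1
  have hS : stab M.toNatV i ≤ centralizer ({r * m} : Set G) := fun t ht =>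
    mem_centralizer_singleton_iff.2 ((VModule.mem_zc.1 he).2.1 t ht)
  have hH := MinSimple.Basic.char2_centralizer M.hG (zc_sq _ _ he) h1
  have h2 := o2_le_of_case1 M hij hC hH hS fun g hg => mem_centralizer_singleton_iff.2 (by
    have h2 : g * r = r * g := grp_comm M.toNatV (by simpa using hij.symm) hg hr
    rw [← mul_assoc, h2, mul_assoc, hm2 j g hg, mul_assoc])
  refine ⟨h2, fun f hf => ?_⟩
  obtain ⟨f1, f2, f3⟩ := VModule.mem_zc.1 hf
  have h5 : f ∈ o2 (centralizer ({r * m} : Set G)) :=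
    hH (mem_inf.2 ⟨hS f1, mem_centralizer_iff.2 fun y hy => f2 y (h2 hy)⟩)
  exact VModule.mem_zc.2 ⟨h5, fun y hy => f2 y (h2 hy), f3⟩

end conseq

end Cfsg.Agent.Omega.IId.NV
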