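import Cfsg.Agent.Omega.IId.Cv.Center
import Cfsg.Agent.Omega.IId.Match

/-!
# II.d, `V_P = V × D`: the entry theorem for a mutual pair (`k = 2`, `k' = 1, 2`)

* `comm_line` : a 2-element of `stab M i` which centralises `line M i` centralises `fac M i / line M i`;
* `KX R`, `KX_le` : `{g ∈ C_G(R) | [O₂(N_G(R)), g] ≤ R} ≤ O₂(N_G(R))`;
* `off_V`, `exists_match` : the offender `V_{P'}` on `V`; matching of the lines;
* `Ent`, `exists_entry` : `[V_P, V_{P'}] = line M i = line M' i'`, `fac M i, fac M' i' ≤ O₂(N_G(line M i))`.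
-/

set_option autoImplicit false
set_option linter.unusedSectionVars false

namespace Cfsg.Agent.Omega.IId.NV

open Subgroup Pointwise Cfsg Cfsg.Agent.ZN Cfsg.Agent.ZN.ChoiceBase
open Cfsg.Agent.Omega.MinPar Cfsg.Agent.Omega.FFThm
open Cfsg.Agent.Lib.SL2Mat
open Cfsg.Agent.MinSimple
open Cfsg.Agent.Omega.NatPair (ap ap_mul ap_one ap_inv_ap ap_ap_inv exists_ap ap_add)
open Cfsg.Agent.MinSimple.VModule (zc_le zc_comm zc_sq zc_le_zl le_normalizer_o2 o2_isPGroup o2_le
  normalizer_le_normalizer_zc le_normalizer_zl)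
open scoped commutatorElement

universe u

/-! ### The action of a 2-element of the stabiliser on a factor -/

section commline

variable {G : Type u} [Group G] {F : Type} [Field F] {S P V : Subgroup G} {k : ℕ} (M : NatV F S P V k)

/-- an element of `stab M i` which centralises the line acts on `fac M i / line M i` as a scalar -/
theorem exists_scalar (hSP : S ≤ P) {i : Fin k} {y : G} (hy : y ∈ stab M i)
    (hc : ∀ r ∈ line M i, y * r = r * y) :
    ∃ c : F, ∀ v ∈ fac M i, M.e (y * v * y⁻¹) i 1 = c * M.e v i 1 := by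
  classical
  have hyP : y ∈ P := hSP hy.1
  obtain ⟨t, ht, htg, hta⟩ := exists_root M hSP i 1
  have htP : t ∈ P := grp_le _ _ htg
  obtain ⟨B, hB⟩ := M.norm y hyP t htP _ hta.1
  have hfy : ∀ v ∈ fac M i, y * v * y⁻¹ ∈ fac M i := fun v hv => (mem_normalizer_iff.1 hy.2 v).1 hv
  have hft : ∀ v ∈ fac M i, t * v * t⁻¹ ∈ fac M i := fun v hv => (mem_normalizer_iff.1 ht.2 v).1 hv
  -- the commutator with `t`
  have hr : ∀ v ∈ fac M i, ∃ r ∈ line M i, t * v * t⁻¹ = v * r ∧ M.e r i 0 = M.e v i 1 := by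
    intro v hv
    have h1 := hta.1 v hv.1 i
    have h2 : M.e (v⁻¹ * (t * v * t⁻¹)) i = - M.e v i + M.e (t * v * t⁻¹) i := by
      rw [M.mul _ (inv_mem hv.1) _ (hft v hv).1, e_inv M hv.1]
      rfl
    refine ⟨v⁻¹ * (t * v * t⁻¹), ?_, by group, ?_⟩
    · rw [mem_line]
      refine ⟨mul_mem (inv_mem hv) (hft v hv), ?_⟩
      rw [h2, h1, Pi.add_apply, NatPair.ap_one']
      simp
    · rw [h2, h1, Pi.add_apply, NatPair.ap_zero']
      simp
  -- `y t y⁻¹`
  have key : ∀ v ∈ fac M i, ∀ r ∈ line M i, t * v * t⁻¹ = v * r →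
      ap (B i) (M.e (y * v * y⁻¹) i) = M.e (y * v * y⁻¹) i + M.e r i := by
    intro v hv r hrl h1
    have h2 := hB _ (hfy v hv).1 i
    rw [← h2]
    have e : y * t * y⁻¹ * (y * v * y⁻¹) * (y * t * y⁻¹)⁻¹ = y * v * y⁻¹ * r := by
      calc y * t * y⁻¹ * (y * v * y⁻¹) * (y * t * y⁻¹)⁻¹ = y * (t * v * t⁻¹) * y⁻¹ := by group
        _ = y * v * (r * y⁻¹) := by rw [h1]; group
        _ = y * v * y⁻¹ * r := by
          have : r * y⁻¹ = y⁻¹ * r := by
            have h3 := hc r hrl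
            calc r * y⁻¹ = y⁻¹ * (y * r) * y⁻¹ := by group
              _ = y⁻¹ * (r * y) * y⁻¹ := by rw [h3]
              _ = y⁻¹ * r := by group
          rw [this]; group
    rw [e, M.mul _ (hfy v hv).1 _ ((mem_line M).1 hrl).1.1]
    rfl
  -- `B i` is upper unitriangular
  obtain ⟨w, hw, hwe⟩ := exists_fac M i ![1, 0]
  have hwl : w ∈ line M i := (mem_line M).2 ⟨hw, by rw [hwe]; rfl⟩
  have hyw : y * w * y⁻¹ = w := by rw [hc w hwl]; group
  have h1 : ap (B i) ![1, 0] = ![1, 0] := by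
    obtain ⟨r, hrl, h2, h3⟩ := hr w hw
    have h4 := key w hw r hrl h2
    have hr1 : M.e r i = 0 := by
      apply NatPair.ext2
      · rw [h3, hwe]; rfl
      · exact ((mem_line M).1 hrl).2
    rw [hyw, hr1, add_zero, hwe] at h4
    exact h4
  have b00 : ent (B i) 0 0 = 1 := by
    have := congrFun h1 0
    rw [NatPair.ap_zero'] at this
    simpa using this
  have h5 : ∀ v ∈ fac M i, ent (B i) 0 1 * M.e (y * v * y⁻¹) i 1 = M.e v i 1 := by
    intro v hv
    obtain ⟨r, hrl, h2, h3⟩ := hr v hv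
    have h4 := congrFun (key v hv r hrl h2) 0
    rw [NatPair.ap_zero', Pi.add_apply, b00, one_mul, h3] at h4
    exact add_left_cancel h4
  have b01 : ent (B i) 0 1 ≠ 0 := by
    intro h0
    obtain ⟨v, hv, hve⟩ := exists_fac M i ![0, 1]
    have h6 := h5 v hv
    rw [h0, zero_mul, hve] at h6
    simp at h6
  refine ⟨(ent (B i) 0 1)⁻¹, fun v hv => ?_⟩
  rw [← h5 v hv, ← mul_assoc, inv_mul_cancel₀ b01, one_mul]

/-- **a 2-element of `stab M i` which centralises `line M i` centralises `fac M i / line M i`** -/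
theorem comm_line [CharP F 2] (hSP : S ≤ P) {i : Fin k} {y : G} (hy : y ∈ stab M i)
    (hy2 : ∃ n : ℕ, y ^ 2 ^ n = 1) (hc : ∀ r ∈ line M i, y * r = r * y) {v : G} (hv : v ∈ fac M i) :
    y * v * y⁻¹ * v⁻¹ ∈ line M i := by
  obtain ⟨c, hcc⟩ := exists_scalar M hSP hy hc
  obtain ⟨n, hn⟩ := hy2
  have hfy : ∀ v ∈ fac M i, y * v * y⁻¹ ∈ fac M i := fun v hv => (mem_normalizer_iff.1 hy.2 v).1 hv
  have key : ∀ m : ℕ, ∀ v ∈ fac M i, y ^ m * v * (y ^ m)⁻¹ ∈ fac M i ∧
      M.e (y ^ m * v * (y ^ m)⁻¹) i 1 = c ^ m * M.e v i 1 := by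
    intro m
    induction m with
    | zero => intro v hv; simpa using hv
    | succ m ih =>
      intro v hv
      obtain ⟨h1, h2⟩ := ih v hv
      have e : y ^ (m + 1) * v * (y ^ (m + 1))⁻¹ = y * (y ^ m * v * (y ^ m)⁻¹) * y⁻¹ := by
        rw [pow_succ']; group
      rw [e]
      exact ⟨hfy _ h1, by rw [hcc _ h1, h2, pow_succ']; ring⟩
  have hc1 : c = 1 := by
    obtain ⟨w, hw, hwe⟩ := exists_fac M i ![0, 1]
    have h1 := (key (2 ^ n) w hw).2
    have e : (1 : G) * w * 1⁻¹ = w := by group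
    rw [hn, e, hwe] at h1
    have h2 : c ^ 2 ^ n = 1 := by simpa using h1.symm
    have h3 : (c - 1) ^ 2 ^ n = 0 := by
      rw [sub_pow_char_pow, h2, one_pow, sub_self]
    exact sub_eq_zero.1 ((pow_eq_zero_iff (by positivity)).1 h3)
  have h1 := hfy v hv
  rw [mem_line]
  refine ⟨mul_mem h1 (inv_mem hv), ?_⟩
  rw [M.mul _ h1.1 _ (inv_mem hv.1), Pi.add_apply, Pi.add_apply, hcc v hv, e_inv M hv.1, hc1, one_mul]
  simp

end commline

/-! ### `{g ∈ C_G(R) | [O₂(N_G(R)), g] ≤ R} ≤ O₂(N_G(R))` -/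

section kx

variable {G : Type u} [Group G]

/-- `{g ∈ C_G(R) | [O₂(N_G(R)), g] ≤ R}` -/
def KX (R : Subgroup G) : Subgroup G where
  carrier := {a | (∀ y ∈ R, a * y = y * a) ∧ ∀ q ∈ o2 (normalizer (R : Set G)), a * q * a⁻¹ * q⁻¹ ∈ R}
  mul_mem' := by
    rintro a b ⟨ha1, ha2⟩ ⟨hb1, hb2⟩
    refine ⟨fun y hy => ?_, fun q hq => ?_⟩
    · rw [mul_assoc, hb1 y hy, ← mul_assoc, ha1 y hy, mul_assoc]
    · have e : a * b * q * (a * b)⁻¹ * q⁻¹ = a * (b * q * b⁻¹ * q⁻¹) * a⁻¹ * (a * q * a⁻¹ * q⁻¹) := by group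
      rw [e, ha1 _ (hb2 q hq), mul_inv_cancel_right]
      exact mul_mem (hb2 q hq) (ha2 q hq)
  one_mem' := ⟨fun y _ => by simp, fun q _ => by simp⟩
  inv_mem' := by
    rintro a ⟨ha1, ha2⟩
    refine ⟨fun y hy => ?_, fun q hq => ?_⟩
    · exact (show Commute a y from ha1 y hy).inv_left
    · have h1 := ha2 q hq
      have h2 := inv_mem h1
      have e : a⁻¹ * q * a⁻¹⁻¹ * q⁻¹ = a⁻¹ * (a * q * a⁻¹ * q⁻¹)⁻¹ * a := by group
      have h3 := ha1 _ h2
      have h4 : a⁻¹ * (a * q * a⁻¹ * q⁻¹)⁻¹ * a = (a * q * a⁻¹ * q⁻¹)⁻¹ := by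
        calc a⁻¹ * (a * q * a⁻¹ * q⁻¹)⁻¹ * a = a⁻¹ * ((a * q * a⁻¹ * q⁻¹)⁻¹ * a) := by rw [mul_assoc]
          _ = a⁻¹ * (a * (a * q * a⁻¹ * q⁻¹)⁻¹) := by rw [← h3]
          _ = (a * q * a⁻¹ * q⁻¹)⁻¹ := by rw [inv_mul_cancel_left]
      rw [e, h4]
      exact h2

theorem mem_KX {R : Subgroup G} {a : G} : a ∈ KX R ↔ (∀ y ∈ R, a * y = y * a) ∧
    ∀ q ∈ o2 (normalizer (R : Set G)), a * q * a⁻¹ * q⁻¹ ∈ R := Iff.rfl

theorem KX_le_centralizer (R : Subgroup G) : KX R ≤ centralizer (R : Set G) := fun _ ha =>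
  mem_centralizer_iff.2 fun y hy => ((mem_KX.1 ha).1 y hy).symm

theorem normalizer_le_normalizer_KX (R : Subgroup G) : normalizer (R : Set G) ≤ normalizer (KX R : Set G) := by
  have key : ∀ c ∈ normalizer (R : Set G), ∀ a ∈ KX R, c * a * c⁻¹ ∈ KX R := by
    rintro c hc a ⟨ha1, ha2⟩
    refine ⟨fun y hy => ?_, fun q hq => ?_⟩
    · have h1 := ha1 (c⁻¹ * y * c) (by
        have := (mem_normalizer_iff.1 (inv_mem hc) y).1 hy
        rwa [inv_inv] at this)
      calc c * a * c⁻¹ * y = c * (a * (c⁻¹ * y * c)) * c⁻¹ := by group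
        _ = c * ((c⁻¹ * y * c) * a) * c⁻¹ := by rw [h1]
        _ = y * (c * a * c⁻¹) := by group
    · have h1 := ha2 (c⁻¹ * q * c) (by
        have := (mem_normalizer_iff.1 (le_normalizer_o2 _ (inv_mem hc)) q).1 hq
        rwa [inv_inv] at this)
      have h2 := (mem_normalizer_iff.1 hc _).1 h1
      have e : c * a * c⁻¹ * q * (c * a * c⁻¹)⁻¹ * q⁻¹ =
          c * (a * (c⁻¹ * q * c) * a⁻¹ * (c⁻¹ * q * c)⁻¹) * c⁻¹ := by group
      rw [e]
      exact h2
  intro c hc
  rw [mem_normalizer_iff]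
  intro a
  refine ⟨key c hc a, fun h => ?_⟩
  have h1 := key c⁻¹ (inv_mem hc) _ h
  have e : c⁻¹ * (c * a * c⁻¹) * c⁻¹⁻¹ = a := by group
  rwa [e] at h1

theorem KX_le_normalizer (R : Subgroup G) : KX R ≤ normalizer (R : Set G) :=
  (KX_le_centralizer R).trans (centralizer_le_normalizer _)

variable [Finite G]

/-- **`{g ∈ C_G(R) | [O₂(N_G(R)), g] ≤ R} ≤ O₂(N_G(R))`**, `R` elementary abelian, `N_G(R)` of characteristic 2 -/
theorem KX_le {R : Subgroup G}
    (hc : normalizer (R : Set G) ⊓ centralizer (o2 (normalizer (R : Set G)) : Set G) ≤ o2 (normalizer (R : Set G)))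
    (hR : ∀ y ∈ R, y * y = 1) : KX R ≤ o2 (normalizer (R : Set G)) := by
  refine VModule.le_o2 (KX_le_normalizer R) ?_ (normalizer_le_normalizer_KX R)
  rintro ⟨a, ha⟩
  obtain ⟨ha1, ha2⟩ := mem_KX.1 ha
  have h3 : a * a ∈ o2 (normalizer (R : Set G)) := by
    refine hc (mem_inf.2 ⟨mul_mem (KX_le_normalizer R ha) (KX_le_normalizer R ha), mem_centralizer_iff.2 fun q hq => ?_⟩)
    have h4 := ha2 q hq
    have h6 : (a * a) * q * (a * a)⁻¹ = q := by
      calc (a * a) * q * (a * a)⁻¹ = (a * (a * q * a⁻¹ * q⁻¹)) * q * a⁻¹ := by group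
        _ = (a * q * a⁻¹ * q⁻¹) * (a * q * a⁻¹) := by rw [ha1 _ h4]; group
        _ = ((a * q * a⁻¹ * q⁻¹) * (a * q * a⁻¹ * q⁻¹)) * q := by group
        _ = q := by rw [hR _ h4, one_mul]
    exact (mul_inv_eq_iff_eq_mul.mp h6).symm
  obtain ⟨n, hn⟩ := o2_isPGroup (normalizer (R : Set G)) ⟨_, h3⟩
  refine ⟨n + 1, ?_⟩
  have hn' : (a * a) ^ 2 ^ n = 1 := congrArg Subtype.val hn
  ext
  change a ^ 2 ^ (n + 1) = 1
  rw [pow_succ, mul_comm (2 ^ n), pow_mul, pow_two]
  exact hn'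

end kx

/-! ### The factor `i` lies in `O₂(N_G(line M i))` -/

section fac_le

variable {G : Type u} [Group G] [Finite G] {F : Type} [Field F] [CharP F 2] {S P V : Subgroup G} {k : ℕ}
  (M : NatV F S P V k)

/-- `fac M i ≤ KX (line M i)` if `O₂(N_G(line M i)) ≤ stab M i` centralises `line M i`. -/
theorem fac_le_KX (hSP : S ≤ P) {i : Fin k}
    (h1 : o2 (normalizer (line M i : Set G)) ≤ stab M i)
    (h2 : o2 (normalizer (line M i : Set G)) ≤ centralizer (line M i : Set G)) :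
    fac M i ≤ KX (line M i) := by
  intro v hv
  refine mem_KX.2 ⟨fun y hy => NV.comm M hv.1 ((mem_line M).1 hy).1.1, fun q hq => ?_⟩
  obtain ⟨n, hn⟩ := o2_isPGroup (normalizer (line M i : Set G)) ⟨q, hq⟩
  have h3 := comm_line M hSP (h1 hq) ⟨n, congrArg Subtype.val hn⟩
    (fun r hr => (mem_centralizer_iff.1 (h2 hq) r hr).symm) (inv_mem hv)
  rw [inv_inv] at h3
  have h4 := NV.comm M hv.1 ((mem_line M).1 h3).1.1
  have e : v * q * v⁻¹ * q⁻¹ = v * (q * v⁻¹ * q⁻¹ * v) * v⁻¹ := by group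
  rw [e, h4, mul_inv_cancel_right]
  exact h3

end fac_le

/-! ### The offender -/

section off

variable {G : Type u} [Group G] [Finite G] {F : Type} [Field F] {S : Sylow 2 G}
  {P V D : Subgroup G} {k : ℕ} (M : NatD F S P V D k)

include M in
theorem D_comm {a d : G} (ha : a ∈ P) (hd : d ∈ D) : a * d = d * a :=
  (mem_centralizer_iff.1 (M.cD ha) d hd).symm

include M in
/-- an offender on `V_P` is an offender on `V` -/
theorem off_V {A : Subgroup G} (hA : A ≤ P) (h : Off (zl (S : Subgroup G) P) A) : Off V A := by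
  have hD : ∀ a ∈ A, ∀ d ∈ D, a * d = d * a := fun a ha d hd => D_comm M (hA ha) hd
  have e0 : ∀ a ∈ A, (∀ v ∈ V, a * v = v * a) → ∀ v ∈ zl (S : Subgroup G) P, a * v = v * a := by
    intro a ha hc v hv
    obtain ⟨n, hn, d, hd, rfl⟩ := M.dec v hv
    rw [← mul_assoc, hc n hn, mul_assoc, hD a ha d hd, mul_assoc]
  refine ⟨h.elem, fun h1 => h.ne fun a ha => ?_, ?_⟩
  · exact mem_centralizer_iff.2 fun v hv =>
      (e0 a ha (fun w hw => (mem_centralizer_iff.1 (h1 ha) w hw).symm) v hv).symm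
  have e1 : A ⊓ centralizer (V : Set G) = A ⊓ centralizer (zl (S : Subgroup G) P : Set G) := by
    apply le_antisymm
    · rintro a ⟨ha, hc⟩
      exact mem_inf.2 ⟨ha, mem_centralizer_iff.2 fun v hv =>
        (e0 a ha (fun w hw => (mem_centralizer_iff.1 hc w hw).symm) v hv).symm⟩
    · exact inf_le_inf_left _ (centralizer_le M.V_le)
  have e2 : Nat.card (zl (S : Subgroup G) P) = Nat.card V * Nat.card D :=
    Cv.card_of_mul M.dec M.V_le M.D_le M.inf
  have e3 : Nat.card ↥(zl (S : Subgroup G) P ⊓ centralizer (A : Set G)) =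
      Nat.card ↥(V ⊓ centralizer (A : Set G)) * Nat.card D := by
    refine Cv.card_of_mul ?_ (inf_le_inf_right _ M.V_le) (le_inf M.D_le ?_) ?_
    · rintro v ⟨hv, hc⟩
      obtain ⟨n, hn, d, hd, rfl⟩ := M.dec v hv
      refine ⟨n, mem_inf.2 ⟨hn, mem_centralizer_iff.2 fun a ha => ?_⟩, d, hd, rfl⟩
      have h2 := mem_centralizer_iff.1 hc a ha
      rw [← mul_assoc] at h2
      have h3 : a * n * d = n * a * d := by rw [h2, mul_assoc, ← hD a ha d hd, ← mul_assoc]
      exact mul_right_cancel h3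
    · intro d hd
      rw [mem_centralizer_iff]
      exact fun a ha => hD a ha d hd
    · rw [eq_bot_iff, ← M.inf]
      exact inf_le_inf_right _ inf_le_left
  have h4 := h.le
  rw [e2, e3] at h4
  rw [e1]
  refine Nat.le_of_mul_le_mul_right (c := Nat.card D) ?_ Nat.card_pos
  calc Nat.card V * Nat.card ↥(A ⊓ centralizer (zl (S : Subgroup G) P : Set G)) * Nat.card D
      = Nat.card V * Nat.card D * Nat.card ↥(A ⊓ centralizer (zl (S : Subgroup G) P : Set G)) := by ring
    _ ≤ Nat.card A * (Nat.card ↥(V ⊓ centralizer (A : Set G)) * Nat.card D) := h4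
    _ = _ := by ring

include M in
theorem commutator_V {A : Subgroup G} (hA : A ≤ P) : ⁅zl (S : Subgroup G) P, A⁆ = ⁅V, A⁆ := by
  apply le_antisymm
  · rw [commutator_le]
    intro v hv a ha
    obtain ⟨n, hn, d, hd, rfl⟩ := M.dec v hv
    have h1 := D_comm M (hA ha) hd
    have e : ⁅n * d, a⁆ = ⁅n, a⁆ := by
      rw [commutatorElement_def, commutatorElement_def]
      calc n * d * a * (n * d)⁻¹ * a⁻¹ = n * (d * a) * d⁻¹ * n⁻¹ * a⁻¹ := by group
        _ = n * a * n⁻¹ * a⁻¹ := by rw [← h1]; group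
    rw [e]
    exact commutator_mem_commutator hn ha
  · exact commutator_mono M.V_le le_rfl

end off

/-! ### Matching of the lines -/

section matching

section basic

variable {G : Type u} [Group G] {F : Type} [Field F] {S P V : Subgroup G} {k : ℕ}
  {M : NatV F S P V k} {A : Subgroup G} {I : Set (Fin k)}

theorem lines_ne_bot' {I : Set (Fin k)} (h : lines M I ≠ ⊥) : I.Nonempty := by
  by_contra h0
  rw [Set.not_nonempty_iff_eq_empty] at h0
  apply h
  rw [h0, eq_bot_iff]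
  intro v hv
  have := lines_le M ∅ hv
  rwa [part_empty] at this

theorem line_ne_bot' (i : Fin k) : line M i ≠ ⊥ := by
  obtain ⟨v, hv, h⟩ := exists_fac M i ![1, 0]
  intro h0
  have h1 : v ∈ line M i := (mem_line M).2 ⟨hv, by rw [h]; rfl⟩
  rw [h0, mem_bot] at h1
  rw [h1, e_one] at h
  exact one_ne_zero (congrFun h 0).symm

theorem line_inj {i j : Fin k} (h : line M i ≤ line M j) : i = j := by
  by_contra hij
  apply line_ne_bot' (M := M) i
  rw [eq_bot_iff, ← fac_inf M hij]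
  exact le_inf (line_le M i) (h.trans (line_le M j))

/-- `{[v, a] | a ∈ A}` for `v` in a factor. -/
theorem Ind.mem_line_iff (h : Ind M A I) (hA : A ≤ P) {i : Fin k} (hi : i ∈ I) {v : G} (hv : v ∈ fac M i)
    (hv1 : M.e v i 1 ≠ 0) {w : G} : w ∈ line M i ↔ ∃ a ∈ A, ⁅v, a⁆ = w := by
  classical
  constructor
  · intro hw
    rw [mem_line] at hw
    obtain ⟨a, ha, hact⟩ := h.ex (fun j => if j = i then -(M.e w i 0 / M.e v i 1) else 0) fun j hj => by
      rw [if_neg]
      rintro rfl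
      exact hj hi
    refine ⟨a, ha, ?_⟩
    refine e_inj M (e_comm hv.1 (hA ha) hact i).1 hw.1.1 (funext fun j => ?_)
    obtain ⟨-, h2, h3⟩ := e_comm hv.1 (hA ha) hact j
    by_cases hj : j = i
    · subst hj
      apply NatPair.ext2
      · rw [h2, if_pos rfl]
        field_simp
      · rw [h3, hw.2]
    · apply NatPair.ext2
      · rw [h2, if_neg hj, hw.1.2 j hj]
        simp
      · rw [h3, hw.1.2 j hj]
        rfl
  · rintro ⟨a, ha, rfl⟩
    obtain ⟨b, hb, hact⟩ := h.act a ha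
    rw [mem_line]
    refine ⟨⟨(e_comm hv.1 (hA ha) hact i).1, fun j hj => ?_⟩, (e_comm hv.1 (hA ha) hact i).2.2⟩
    obtain ⟨-, h2, h3⟩ := e_comm hv.1 (hA ha) hact j
    apply NatPair.ext2
    · rw [h2, hv.2 j hj]
      simp
    · rw [h3]
      rfl

/-- `{[v, a] | a ∈ V}` for `v` acting as `up c`. -/
theorem mem_lines_iff {v : G} (hv : v ∈ P) {c : Fin k → F} (hc : ActsSL M.e V ⊥ v fun i => up (c i))
    (hk : 0 < k) {w : G} : w ∈ lines M {j | c j ≠ 0} ↔ ∃ a ∈ V, ⁅v, a⁆ = w := by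
  classical
  have key : ∀ a ∈ V, ⁅v, a⁆ ∈ V ∧ ∀ j, M.e ⁅v, a⁆ j 0 = c j * M.e a j 1 ∧ M.e ⁅v, a⁆ j 1 = 0 := by
    intro a ha
    have e : ⁅v, a⁆ = ⁅a, v⁆⁻¹ := (commutatorElement_inv a v).symm
    have h0 := (e_comm ha hv hc ⟨0, hk⟩).1
    rw [e]
    refine ⟨inv_mem h0, fun j => ?_⟩
    obtain ⟨-, h2, h3⟩ := e_comm ha hv hc j
    rw [e_inv M h0, Pi.neg_apply, Pi.neg_apply, Pi.neg_apply, h2, h3, neg_neg, neg_zero]
    exact ⟨rfl, rfl⟩
  constructor
  · intro hw
    obtain ⟨a, ha, hae⟩ := M.surj fun j => ![0, M.e w j 0 / c j]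
    refine ⟨a, ha, ?_⟩
    refine e_inj M (key a ha).1 hw.1.1 (funext fun j => ?_)
    obtain ⟨h2, h3⟩ := (key a ha).2 j
    apply NatPair.ext2
    · rw [h2, hae]
      by_cases hj : c j = 0
      · have : M.e w j = 0 := hw.1.2 j fun h => h hj
        rw [this, hj]
        simp
      · change c j * (M.e w j 0 / c j) = _
        field_simp
    · rw [h3, hw.2]
  · rintro ⟨a, ha, rfl⟩
    refine ⟨⟨(key a ha).1, fun j hj => ?_⟩, fun j => ((key a ha).2 j).2⟩
    have hj' : c j = 0 := by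
      by_contra h
      exact hj h
    apply NatPair.ext2
    · rw [((key a ha).2 j).1, hj', zero_mul]
      rfl
    · rw [((key a ha).2 j).2]
      rfl

end basic

section pair

variable {G : Type u} [Group G] {F F' : Type} [Field F] [Field F'] {S P V S' P' V' : Subgroup G} {k k' : ℕ}
  {M : NatV F S P V k} {M' : NatV F' S' P' V' k'} {I : Set (Fin k)} {I' : Set (Fin k')}

theorem exists_J (hI : Ind M V' I) (hI' : Ind M' V I') (hVP : V' ≤ P) (hVP' : V ≤ P')
    (hk' : 0 < k') {i : Fin k} (hi : i ∈ I) {v : G} (hv : v ∈ fac M i) (hv1 : M.e v i 1 ≠ 0) :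
    ∃ c : Fin k' → F', (∀ j, j ∉ I' → c j = 0) ∧ ActsSL M'.e V' ⊥ v (fun j => up (c j)) ∧
      line M i = lines M' {j | c j ≠ 0} := by
  obtain ⟨c, hc, hact⟩ := hI'.act v hv.1
  refine ⟨c, hc, hact, ?_⟩
  ext w
  rw [Ind.mem_line_iff hI hVP hi hv hv1, mem_lines_iff (hVP' hv.1) hact hk']

/-- **Matching of the lines.** -/
theorem exists_match (hI : Ind M V' I) (hI' : Ind M' V I') (hVP : V' ≤ P)
    (hVP' : V ≤ P') (hk' : 0 < k') {i : Fin k} (hi : i ∈ I) :
    ∃ j ∈ I', line M i = line M' j ∧ ∀ v ∈ fac M i, M.e v i 1 ≠ 0 →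
      ∃ c : Fin k' → F', c j ≠ 0 ∧ (∀ l, l ≠ j → c l = 0) ∧ ActsSL M'.e V' ⊥ v fun l => up (c l) := by
  have hk : 0 < k := Nat.pos_of_ne_zero fun h => by subst h; exact i.elim0
  obtain ⟨v, hv, hve⟩ := exists_fac M i ![0, 1]
  have hv1 : M.e v i 1 ≠ 0 := by rw [hve]; exact one_ne_zero
  obtain ⟨c, hc, hact, hline⟩ := exists_J hI hI' hVP hVP' hk' hi hv hv1
  obtain ⟨j, hj⟩ := lines_ne_bot' (M := M') (hline ▸ line_ne_bot' (M := M) i)
  have hjI : j ∈ I' := by
    by_contra h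
    exact hj (hc j h)
  -- the other way round
  have hle : line M' j ≤ line M i := by
    rw [hline]
    exact lines_mono M' (Set.singleton_subset_iff.2 hj)
  obtain ⟨v', hv', hve'⟩ := exists_fac M' j ![0, 1]
  have hv1' : M'.e v' j 1 ≠ 0 := by rw [hve']; exact one_ne_zero
  obtain ⟨c', hc', hact', hline'⟩ := exists_J hI' hI hVP' hVP hk hjI hv' hv1'
  obtain ⟨i', hi'⟩ := lines_ne_bot' (M := M) (hline' ▸ line_ne_bot' (M := M') j)
  have hle' : line M i' ≤ line M' j := by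
    rw [hline']
    exact lines_mono M (Set.singleton_subset_iff.2 hi')
  have hii : i' = i := line_inj (hle'.trans hle)
  rw [hii] at hle'
  have heq : line M i = line M' j := le_antisymm hle' hle
  refine ⟨j, hjI, heq, fun u hu hu1 => ?_⟩
  obtain ⟨d, hd, hdact, hdline⟩ := exists_J hI hI' hVP hVP' hk' hi hu hu1
  have h1 : ∀ l, l ≠ j → d l = 0 := by
    intro l hl
    by_contra h
    apply hl
    have h2 : line M' l ≤ line M i := by
      rw [hdline]
      exact lines_mono M' (Set.singleton_subset_iff.2 h)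
    rw [heq] at h2
    exact line_inj h2
  refine ⟨d, ?_, h1, hdact⟩
  obtain ⟨l, hl⟩ := lines_ne_bot' (M := M') (hdline ▸ line_ne_bot' (M := M) i)
  by_cases hlj : l = j
  · rw [← hlj]; exact hl
  · exact absurd (h1 l hlj) hl

end pair

end matching

/-! ### The entry theorem -/

section entry

variable {G : Type u} [Group G] [Finite G] {F F' : Type} [Field F] [Field F'] {S S' : Sylow 2 G}
  {P V D P' V' D' : Subgroup G} {k k' : ℕ}

/-- a pair in normal position, two `NatD`'s, and the offenders -/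
structure PairD (M : NatD F S P V D k) (M' : NatD F' S' P' V' D' k') (I : Set (Fin k)) (I' : Set (Fin k')) :
    Prop where
  pair : Pair S S' P P'
  ind : Ind M.toNatV V' I
  ind' : Ind M'.toNatV V I'

/-- `V'` induces the same group as `V_{P'}` -/
theorem ind_V {M : NatD F S P V D k} {M' : NatD F' S' P' V' D' k'} (h : Pair S S' P P') {I : Set (Fin k)}
    (hI : Ind M.toNatV (zl (S' : Subgroup G) P') I) : Ind M.toNatV V' I where
  act a ha := hI.act a (M'.V_le ha)
  ex b hb := by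
    obtain ⟨a, ha, hA⟩ := hI.ex b hb
    obtain ⟨n, hn, d, hd, rfl⟩ := M'.dec a ha
    have hd' : ∀ v ∈ V, d * v = v * d := fun v hv =>
      (D_comm M' (h.star'.le (h.le' (M.V_le hv))) hd).symm
    refine ⟨n, hn, fun v hv i => ?_, fun x hx => ?_⟩
    · have h1 := hA.1 v hv i
      have e : n * d * v * (n * d)⁻¹ = n * v * n⁻¹ := by
        calc n * d * v * (n * d)⁻¹ = n * (d * v) * d⁻¹ * n⁻¹ := by group
          _ = n * v * n⁻¹ := by rw [hd' v hv]; group
      rwa [e] at h1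
    · rw [mem_bot] at hx
      rw [hx, mul_one, one_mul]

theorem exists_pairD (h : Pair S S' P P') (hT : NoOver (zl (S : Subgroup G) P) P)
    (hT' : NoOver (zl (S' : Subgroup G) P') P') (M : NatD F S P V D k) (M' : NatD F' S' P' V' D' k') :
    ∃ I I', PairD M M' I I' := by
  obtain ⟨I, hI⟩ := exists_ind M.toNatV h.le (off_V M (h.le.trans h.star.le) (h.off M.hG hT'))
  obtain ⟨I', hI'⟩ := exists_ind M'.toNatV h.le' (off_V M' (h.le'.trans h.star'.le) (h.symm.off M.hG hT))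
  exact ⟨I, I', h, ind_V (M' := M') h hI, ind_V (M' := M) h.symm hI'⟩

namespace PairD

variable {M : NatD F S P V D k} {M' : NatD F' S' P' V' D' k'} {I : Set (Fin k)} {I' : Set (Fin k')}

theorem symm (h : PairD M M' I I') : PairD M' M I' I := ⟨h.pair.symm, h.ind', h.ind⟩

variable (h : PairD M M' I I')

include h

theorem zl_le' : zl (S : Subgroup G) P ≤ P' := h.pair.le'.trans h.pair.star'.le

theorem V_le' : V ≤ P' := M.V_le.trans h.zl_le'

/-- `D` centralises `V_{P'}` -/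
theorem comm_D {d w : G} (hd : d ∈ D) (hw : w ∈ zl (S' : Subgroup G) P') : d * w = w * d :=
  (D_comm M (h.symm.zl_le' hw) hd).symm

theorem comm_D' {d w : G} (hd : d ∈ D') (hw : w ∈ zl (S : Subgroup G) P) : d * w = w * d :=
  h.symm.comm_D hd hw

/-- `[V_P, V_{P'}] = [V, V'] = lines M I` -/
theorem commutator_eq : ⁅zl (S : Subgroup G) P, zl (S' : Subgroup G) P'⁆ = lines M.toNatV I := by
  rw [commutator_V M h.symm.zl_le', commutator_comm, commutator_V M' (h.V_le'), commutator_comm]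
  exact h.ind.commutator_eq h.symm.V_le'

theorem nonempty : I.Nonempty := lines_ne_bot' (M := M.toNatV) (h.commutator_eq ▸ h.pair.ne)

theorem lines_eq : lines M.toNatV I = lines M'.toNatV I' := by
  rw [← h.commutator_eq, ← h.symm.commutator_eq, commutator_comm]

/-- a noncommuting pair in matching factors -/
theorem exists_ne {i : Fin k} {j : Fin k'} (hact : ∀ v ∈ fac M.toNatV i, M.e v i 1 ≠ 0 →
      ∃ c : Fin k' → F', c j ≠ 0 ∧ (∀ l, l ≠ j → c l = 0) ∧ ActsSL M'.e V' ⊥ v fun l => up (c l)) :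
    ∃ v ∈ fac M.toNatV i, ∃ a ∈ fac M'.toNatV j, v * a ≠ a * v := by
  obtain ⟨v, hv, hve⟩ := exists_fac M.toNatV i ![0, 1]
  obtain ⟨c, hcj, -, hca⟩ := hact v hv (by rw [hve]; exact one_ne_zero)
  obtain ⟨a, ha, hae⟩ := exists_fac M'.toNatV j ![0, 1]
  refine ⟨v, hv, a, ha, fun h0 => ?_⟩
  have h1 := (e_comm (M := M'.toNatV) ha.1 (h.V_le' hv.1) hca j).2.1
  have h2 : ⁅a, v⁆ = 1 := commutatorElement_eq_one_iff_mul_comm.2 h0.symm
  rw [h2, e_one, hae] at h1
  apply hcj
  have h3 : (0 : F') = -(c j * 1) := h1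
  rw [mul_one] at h3
  exact (neg_eq_zero.1 h3.symm)

end PairD

/-- **The entry data**: `[V_P, V_{P'}] = line M i = line M' i'`. -/
structure Ent (M : NatD F S P V D k) (M' : NatD F' S' P' V' D' k') (i : Fin k) (i' : Fin k') : Prop where
  pair : Pair S S' P P'
  ind : Ind M.toNatV V' {i}
  ind' : Ind M'.toNatV V {i'}
  comm_eq : ⁅zl (S : Subgroup G) P, zl (S' : Subgroup G) P'⁆ = line M.toNatV i
  line_eq : line M.toNatV i = line M'.toNatV i'
  card_eq : Nat.card F' = Nat.card F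
  le_KX : fac M.toNatV i ≤ KX (line M.toNatV i)
  le_KX' : fac M'.toNatV i' ≤ KX (line M.toNatV i)
  le_o2 : fac M.toNatV i ≤ o2 (normalizer (line M.toNatV i : Set G))
  le_o2' : fac M'.toNatV i' ≤ o2 (normalizer (line M.toNatV i : Set G))
  ne : ∃ v ∈ fac M.toNatV i, ∃ w ∈ fac M'.toNatV i', v * w ≠ w * v

namespace Ent

variable {M : NatD F S P V D k} {M' : NatD F' S' P' V' D' k'} {i : Fin k} {i' : Fin k'}

theorem pairD (h : Ent M M' i i') : PairD M M' {i} {i'} := ⟨h.pair, h.ind, h.ind'⟩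

theorem symm (h : Ent M M' i i') : Ent M' M i' i where
  pair := h.pair.symm
  ind := h.ind'
  ind' := h.ind
  comm_eq := by rw [commutator_comm, h.comm_eq, h.line_eq]
  line_eq := h.line_eq.symm
  card_eq := h.card_eq.symm
  le_KX := by rw [← h.line_eq]; exact h.le_KX'
  le_KX' := by rw [← h.line_eq]; exact h.le_KX
  le_o2 := by rw [← h.line_eq]; exact h.le_o2'
  le_o2' := by rw [← h.line_eq]; exact h.le_o2
  ne := by
    obtain ⟨v, hv, w, hw, hne⟩ := h.ne
    exact ⟨w, hw, v, hv, fun h0 => hne h0.symm⟩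

/-- the other factors centralise `V_{P'}` -/
theorem other (h : Ent M M' i i') {j : Fin k} (hj : j ≠ i) {v w : G} (hv : v ∈ fac M.toNatV j)
    (hw : w ∈ zl (S' : Subgroup G) P') : v * w = w * v := by
  obtain ⟨n, hn, d, hd, rfl⟩ := M'.dec w hw
  have h1 : d * v = v * d := h.pairD.comm_D' hd (M.V_le hv.1)
  have h2 : n * v = v * n := by
    obtain ⟨b, hb, hact⟩ := h.ind.act n hn
    have hnP : n ∈ P := h.pairD.symm.V_le' hn
    have h3 : n * v * n⁻¹ = v := by
      refine e_inj M.toNatV (cj_mem M.toNatV hnP hv.1) hv.1 (funext fun l => ?_)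
      rw [hact.1 v hv.1 l]
      by_cases hl : l = i
      · have h4 : M.e v l = 0 := hv.2 l (by rw [hl]; exact hj.symm)
        rw [h4]
        apply NatPair.ext2
        · rw [NatPair.ap_zero']; simp
        · rw [NatPair.ap_one']; simp
      · change ap (up (b l)) (M.e v l) = _
        rw [hb l (by simpa using hl), up_zero, ap_one]
    rw [← mul_inv_eq_iff_eq_mul]
    exact h3
  rw [← mul_assoc, ← h2, mul_assoc, ← h1, mul_assoc]

end Ent

section side

variable [CharP F 2] (M : NatD F S P V D k)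

/-- `O₂(N_G(line M i))` centralises `line M i` (any number of factors) -/
theorem o2_cent_line' (i : Fin k) :
    o2 (normalizer (line M.toNatV i : Set G)) ≤ centralizer (line M.toNatV i : Set G) := by
  set Q := o2 (normalizer (line M.toNatV i : Set G)) with hQ
  have h2 : IsPGroup 2 (line M.toNatV i) :=
    (S.isPGroup'.to_le (V_le_S M)).to_le ((line_le _ _).trans (fac_le _ _))
  obtain ⟨a, ha, ha1, hac⟩ := Half.exists_fixed h2 (line_ne_bot' (M := M.toNatV) i) (o2_isPGroup _)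
    (o2_le (normalizer (line M.toNatV i : Set G)))
  intro y hy
  rw [mem_centralizer_iff]
  intro r hr
  by_cases hr1 : r = 1
  · rw [hr1, one_mul, mul_one]
  obtain ⟨g, -, hgn, hgr⟩ := exists_tor M.toNatV ha hr ha1 hr1
  have h3 : g⁻¹ * y * g ∈ Q := by
    have := (mem_normalizer_iff.1 (le_normalizer_o2 _ (inv_mem hgn)) y).1 hy
    rwa [inv_inv] at this
  have h4 : g⁻¹ * y * g * a = a * (g⁻¹ * y * g) := mul_inv_eq_iff_eq_mul.1 (hac _ h3)
  rw [← hgr]
  calc g * a * g⁻¹ * y = g * (a * (g⁻¹ * y * g)) * g⁻¹ := by group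
    _ = g * (g⁻¹ * y * g * a) * g⁻¹ := by rw [h4]
    _ = y * (g * a * g⁻¹) := by group

/-- `N_G(line M i)` has characteristic 2 (any number of factors). -/
theorem char2_line' (i : Fin k) :
    normalizer (line M.toNatV i : Set G) ⊓ centralizer (o2 (normalizer (line M.toNatV i : Set G)) : Set G) ≤
      o2 (normalizer (line M.toNatV i : Set G)) :=
  MinSimple.Basic.char2_normalizer M.hG
    ((S.isPGroup'.to_le (V_le_S M)).to_le ((line_le _ _).trans (fac_le _ _))) (line_ne_bot' (M := M.toNatV) i)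

/-- `O₂(N_G(line M i)) ≤ stab M i`, `k = 1, 2` -/
theorem o2_line_le' (hk : k = 1 ∨ k = 2) (i : Fin k) :
    o2 (normalizer (line M.toNatV i : Set G)) ≤ stab M.toNatV i := by
  rcases hk with rfl | rfl
  · have h1 : (S : Subgroup G) ≤ stab M.toNatV i := by
      refine le_inf le_rfl ?_
      have h2 : fac M.toNatV i = V := by
        have h3 : ({i} : Set (Fin 1)) = Set.univ := by
          ext x
          simp [Subsingleton.elim x i]
        rw [fac, h3, part_univ]
      rw [h2]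
      exact (SP M).trans M.nV
    refine le_trans ?_ h1
    have h2 : (S : Subgroup G) ≤ normalizer (line M.toNatV i : Set G) :=
      h1.trans (stab_normalizes_line M.toNatV (SP M) i)
    exact VModule.o2_le_of_sylow S.isPGroup' (MinSimple.Basic.not_dvd_relIndex S h2)
  · obtain ⟨j, hj⟩ := exists_ne i
    exact o2_line_le M hj.symm

theorem fac_le_KX' (hk : k = 1 ∨ k = 2) (i : Fin k) : fac M.toNatV i ≤ KX (line M.toNatV i) :=
  fac_le_KX M.toNatV (SP M) (o2_line_le' M hk i) (o2_cent_line' M i)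

/-- **`fac M i ≤ O₂(N_G(line M i))`**, `k = 1, 2` -/
theorem fac_le_o2 (hk : k = 1 ∨ k = 2) (i : Fin k) :
    fac M.toNatV i ≤ o2 (normalizer (line M.toNatV i : Set G)) :=
  (fac_le_KX' M hk i).trans (KX_le (char2_line' M i) fun _ hy => NV.sq M.toNatV ((mem_line _).1 hy).1.1)

end side

/-- **Entry theorem**: a mutual pair, `P` with 2, `P'` with at most 2 natural factors. -/
theorem exists_entry [CharP F 2] [CharP F' 2] [Finite F] [Finite F'] (h : Pair S S' P P')
    (hT : NoOver (zl (S : Subgroup G) P) P) (hT' : NoOver (zl (S' : Subgroup G) P') P')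
    (M : NatD F S P V D 2) (M' : NatD F' S' P' V' D' k') (hk' : k' = 1 ∨ k' = 2) :
    ∃ i i', Ent M M' i i' := by
  obtain ⟨I, I', hp⟩ := exists_pairD h hT hT' M M'
  have hk0 : 0 < k' := by omega
  obtain ⟨i, hi⟩ := hp.nonempty
  obtain ⟨i', hi', hl, hact⟩ := exists_match hp.ind hp.ind' hp.symm.V_le' hp.V_le' hk0 hi
  -- `I = {i}`
  have hI : I = {i} := by
    by_contra hcon
    obtain ⟨j, hj, hji⟩ : ∃ j ∈ I, j ≠ i := by
      by_contra h0
      push Not at h0
      apply hcon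
      ext x
      exact ⟨fun hx => h0 x hx, fun hx => by rw [show x = i from hx]; exact hi⟩
    obtain ⟨j', -, hl', hact'⟩ := exists_match hp.ind hp.ind' hp.symm.V_le' hp.V_le' hk0 hj
    have hne : i' ≠ j' := by
      rintro rfl
      exact hji (line_inj (M := M.toNatV) (hl'.trans hl.symm).le)
    obtain rfl : k' = 2 := by
      rcases hk' with rfl | rfl
      · exact absurd (Subsingleton.elim i' j') hne
      · rfl
    obtain ⟨v, hv, w, hw, hvw⟩ := hp.exists_ne hact'
    have h1 := (fac_le_o2_line M hji.symm).2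
    have h2 := (fac_le_o2_line M' hne).1
    rw [← hl] at h2
    exact hvw (mem_centralizer_iff.1 (h1 (h2 hw)) v hv)
  subst hI
  -- `I' = {i'}`
  have hI' : I' = {i'} := by
    ext x
    refine ⟨fun hx => ?_, fun hx => by rw [show x = i' from hx]; exact hi'⟩
    have h1 : line M'.toNatV x ≤ line M'.toNatV i' := by
      rw [← hl]
      change _ ≤ lines M.toNatV {i}
      rw [hp.lines_eq]
      exact lines_mono M'.toNatV (Set.singleton_subset_iff.2 hx)
    exact line_inj (M := M'.toNatV) h1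
  subst hI'
  have hc : Nat.card F' = Nat.card F := by
    rw [← card_line M.toNatV i, ← card_line M'.toNatV i', hl]
  refine ⟨i, i', hp.pair, hp.ind, hp.ind', hp.commutator_eq, hl, hc, fac_le_KX' M (Or.inr rfl) i, ?_,
    fac_le_o2 M (Or.inr rfl) i, ?_, hp.exists_ne hact⟩
  · rw [hl]; exact fac_le_KX' M' hk' i'
  · rw [hl]; exact fac_le_o2 M' hk' i'

end entry

end Cfsg.Agent.Omega.IId.NV
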