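import Cfsg.Agent.Omega.IId.Cv.Cut
import Cfsg.Agent.Omega.IId.Cv.Entry

/-!
# `CvLine K` (the socket of `Cv/Cut.lean`) from the entry theorem

* `exists_ent` : the entry data `Ent M M' i i'` for a pair of `HypN K S`;
* `lineD_of_ent`, `cvLine`.
-/

set_option autoImplicit false

namespace Cfsg.Agent.Omega.IId.Cv

open Subgroup Pointwise Cfsg Cfsg.Agent.ZN Cfsg.Agent.ZN.ChoiceBase
open Cfsg.Agent.Omega.MinPar Cfsg.Agent.Omega.Frame Cfsg.Agent.Omega.FFThm Cfsg.Agent.Omega.FrameMulti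
open Cfsg.Agent.Omega.FrameLE (AllIn)
open Cfsg.Agent.Omega.IId.NV

universe u

theorem exists_ent {K : Cls.{u}} {G : Type u} [Group G] [Finite G] {S S' : Sylow 2 G} (hH : HypN K S)
    {P P' : Subgroup G} (hp : Pair S S' P P') {F F' : Type} [Field F] [Finite F] [CharP F 2] [Field F'] [Finite F']
    [CharP F' 2] {V V' D D' : Subgroup G} {k' : ℕ} (M : NatD F S P V D 2) (M' : NatD F' S' P' V' D' k')
    (h1 : 1 ≤ k') (h2 : k' ≤ 2) : ∃ i i', Ent M M' i i' :=
  exists_entry hp (hH.toHyp.typed' hp).1.noOver (hH.toHyp.typed' hp).2.noOver M M' (by omega)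

theorem lineD_of_ent {G : Type u} [Group G] [Finite G] {F F' : Type} [Field F] [Field F'] {S S' : Sylow 2 G}
    {P P' V V' D D' : Subgroup G} {k k' : ℕ} {M : NatD F S P V D k} {M' : NatD F' S' P' V' D' k'} {i : Fin k}
    {i' : Fin k'} (h : Ent M M' i i') : LineD M M' i i' :=
  ⟨h.comm_eq, h.line_eq, h.card_eq, h.le_o2, h.le_o2', h.ne⟩

/-- **`CvLine`** -/
theorem cvLine (K : Cls.{u}) : CvLine K := by
  intro G _ _ S S' hH P P' hp F F' _ _ _ _ _ _ V V' D D' k' M M' h1 h2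
  obtain ⟨i, i', h⟩ := exists_ent hH hp M M' h1 h2
  exact ⟨i, i', lineD_of_ent h⟩

end Cfsg.Agent.Omega.IId.Cv
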