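import Cfsg.Agent.Omega.IId.Cv.Entry

/-!
# II.d, `V_P = V × D`, `k = 2`: the Sylow 2-subgroups of `N_G(V₁)` and `N_G(R)` over `T = N_S(V₁)`

* `eq_line` : `line M i` is the only subgroup of order `q` of `fac M i` normalised by `stab M i`;
* `Over M i H T₁ w` : `T₁` is a Sylow 2-subgroup of `G` in `H` over `T`, `|T₁ : T| = 2`, `w ∈ T₁ - T`; `exists_over`;
* `norm_line` : a 2-group over `T` with `|T' : T| = 2` in `N_G(V₁)` normalises `R`;
* `syl_fac_one` : CASE 1: `T` is a Sylow 2-subgroup of `N_G(V₁)`; `syl_fac_two` : the same in CASE 2a.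
-/

set_option autoImplicit false
set_option linter.unusedSectionVars false

namespace Cfsg.Agent.Omega.IId.NV

open Subgroup Pointwise Cfsg Cfsg.Agent.ZN Cfsg.Agent.ZN.ChoiceBase
open Cfsg.Agent.Omega.MinPar Cfsg.Agent.Omega.FFThm
open Cfsg.Agent.Lib.SL2Mat
open Cfsg.Agent.MinSimple
open Cfsg.Agent.Omega.NatPair (ap ap_mul ap_one ap_inv_ap ap_ap_inv exists_ap ap_add)

universe u

section line

variable {G : Type u} [Group G] {F : Type} [Field F] {S P V : Subgroup G} {k : ℕ} (M : NatV F S P V k)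

/-- The line `line M i` is the only subgroup of order `q` of `fac M i` which is normalised by `stab M i`. -/
theorem eq_line [Finite G] [Finite F] (hSP : S ≤ P) {i : Fin k} {X : Subgroup G} (hX : X ≤ fac M i)
    (hc : Nat.card X = Nat.card F) (hn : stab M i ≤ normalizer (X : Set G)) : X = line M i := by
  by_cases hle : X ≤ line M i
  · exact Subgroup.eq_of_le_of_card_ge hle (by rw [hc, card_line])
  obtain ⟨x, hx, hxl⟩ := Set.not_subset.1 hle
  have hx1 : M.e x i 1 ≠ 0 := fun h0 => hxl ((mem_line M).2 ⟨hX hx, h0⟩)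
  refine (Subgroup.eq_of_le_of_card_ge (fun r hr => ?_) (by rw [hc, card_line])).symm
  obtain ⟨u, hu, hug, h1⟩ := exists_root M hSP i (M.e r i 0 / M.e x i 1)
  have h2 : u * x * u⁻¹ ∈ X := (mem_normalizer_iff.1 (hn hu) x).1 hx
  have h3 : r = u * x * u⁻¹ * x⁻¹ := by
    refine ext_fac M (line_le M i hr) (mul_mem (hX h2) (inv_mem (hX hx))) ?_
    rw [M.mul _ (hX h2).1 _ (inv_mem (hX hx).1), Pi.add_apply, e_inv M (hX hx).1, Pi.neg_apply,
      h1.1 x (hX hx).1 i]
    apply NatPair.ext2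
    · rw [Pi.add_apply, NatPair.ap_zero', up_00, up_01, Pi.neg_apply, Function.update_self]
      field_simp
      ring
    · rw [Pi.add_apply, NatPair.ap_one', up_10, up_11, Pi.neg_apply, ((mem_line M).1 hr).2]
      ring
  rw [h3]
  exact mul_mem h2 (inv_mem hx)

/-- an element which normalises `fac M i` and `stab M i` normalises `line M i` -/
theorem norm_line_of [Finite G] [Finite F] (hSP : S ≤ P) {i : Fin k} {t : G} (h1 : t ∈ normalizer (fac M i : Set G))
    (h2 : t ∈ normalizer (stab M i : Set G)) : t ∈ normalizer (line M i : Set G) := by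
  rw [mem_normalizer_iff_cj]
  refine eq_line M hSP ?_ (by rw [card_cj, card_line]) ?_
  · intro x hx
    rw [mem_cj_iff] at hx
    have h3 := (mem_normalizer_iff.1 h1 _).1 (line_le M i hx)
    have e : t * (t⁻¹ * x * t) * t⁻¹ = x := by group
    rwa [e] at h3
  · have h3 := cj_mono t (stab_normalizes_line M hSP i)
    rw [cj_normalizer, cj_eq_of_mem_normalizer h2] at h3
    exact h3

end line

section ovr

variable {G : Type u} [Group G] [Finite G] {F : Type} [Field F] [Finite F] [CharP F 2] {S : Sylow 2 G}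
  {P V D : Subgroup G} (M : NatD F S P V D 2) {i j : Fin 2}

include M in
/-- `|S| = 2 |T|` -/
theorem card_two (i : Fin 2) : Nat.card (S : Subgroup G) = 2 * Nat.card (stab M.toNatV i) :=
  card_stab M.toNatV (SP M) i

/-- `T₁` is a Sylow 2-subgroup of `G` over `T = stab M i`, `w ∈ T₁ - T`. -/
structure Over (M : NatD F S P V D 2) (i : Fin 2) (T₁ : Sylow 2 G) (w : G) : Prop where
  le : stab M.toNatV i ≤ T₁
  card : Nat.card (T₁ : Subgroup G) = 2 * Nat.card (stab M.toNatV i)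
  mem : w ∈ (T₁ : Subgroup G)
  not_mem : w ∉ stab M.toNatV i

namespace Over

variable {M} {T₁ : Sylow 2 G} {w : G} (h : Over M i T₁ w)

include h

theorem conj {t y : G} (ht : t ∈ (T₁ : Subgroup G)) (hy : y ∈ stab M.toNatV i) : t * y * t⁻¹ ∈ stab M.toNatV i :=
  Two.conj_mem_of_two h.le (Two.two_cosets h.le h.card) ht hy

theorem norm : (T₁ : Subgroup G) ≤ normalizer (stab M.toNatV i : Set G) :=
  Two.le_normalizer_of fun _ ht _ hy => h.conj ht hy

/-- `T₁ = T ∪ w T` -/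
theorem cov {t : G} (ht : t ∈ (T₁ : Subgroup G)) : t ∈ stab M.toNatV i ∨ w⁻¹ * t ∈ stab M.toNatV i := by
  by_cases h1 : t ∈ stab M.toNatV i
  · exact Or.inl h1
  · exact Or.inr (Two.two_cosets h.le h.card w h.mem t ht h.not_mem h1)

/-- `T₁ = T ∪ T w` -/
theorem cov' {t : G} (ht : t ∈ (T₁ : Subgroup G)) : t ∈ stab M.toNatV i ∨ t * w ∈ stab M.toNatV i := by
  by_cases h1 : t ∈ stab M.toNatV i
  · exact Or.inl h1
  · right
    have := Two.two_cosets h.le h.card t⁻¹ (inv_mem ht) w h.mem (fun h => h1 (inv_mem_iff.1 h)) h.not_mem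
    rwa [inv_inv] at this

theorem sq : w * w ∈ stab M.toNatV i := (h.cov' h.mem).resolve_left h.not_mem

theorem other : Over M j T₁ w := by
  have e : stab M.toNatV j = stab M.toNatV i := by rw [stab_zero M j, stab_zero M i]
  exact ⟨e ▸ h.le, e ▸ h.card, h.mem, e ▸ h.not_mem⟩

end Over

/-- a 2-subgroup over `T`, not equal to `T`, is a Sylow 2-subgroup of `G` -/
theorem exists_over_of {T' : Subgroup G} (hT : IsPGroup 2 T') (hle : stab M.toNatV i ≤ T')
    (hne : ¬ T' ≤ stab M.toNatV i) : ∃ (T₁ : Sylow 2 G) (w : G), Over M i T₁ w ∧ (T₁ : Subgroup G) = T' := by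
  have hfact : Fact (Nat.Prime 2) := ⟨Nat.prime_two⟩
  obtain ⟨w, hw, hwS⟩ := SetLike.not_le_iff_exists.1 hne
  obtain ⟨Q, hQ⟩ := hT.exists_le_sylow
  have hcQ : Nat.card (Q : Subgroup G) ≤ Nat.card (S : Subgroup G) := Half.card_le_sylow S Q.isPGroup'
  have hrel := Half.card_mul_relIndex hle
  have hne1 : (stab M.toNatV i).relIndex T' ≠ 1 := fun h => hwS ((relIndex_eq_one.mp h) hw)
  have hne0 : (stab M.toNatV i).relIndex T' ≠ 0 := fun h => by
    rw [h, mul_zero] at hrel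
    exact Nat.card_pos.ne hrel
  have hge : 2 * Nat.card (stab M.toNatV i) ≤ Nat.card T' := by
    rw [← hrel, mul_comm]
    exact Nat.mul_le_mul_left _ (by omega)
  have hTQ : T' = (Q : Subgroup G) := by
    refine eq_of_le_of_card_ge hQ (hcQ.trans ?_)
    rw [card_two M i]
    exact hge
  refine ⟨Q, w, ⟨hTQ ▸ hle, ?_, hTQ ▸ hw, hwS⟩, hTQ.symm⟩
  refine le_antisymm ?_ (hTQ ▸ hge)
  rw [← card_two M i]
  exact hcQ

/-- **CASE 2**: if `T ≤ H` is not a Sylow 2-subgroup of `H`, then `H` contains a Sylow 2-subgroup `T₁ > T` of `G`. -/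
theorem exists_over {H : Subgroup G} (hle : stab M.toNatV i ≤ H) (hd : 2 ∣ (stab M.toNatV i).relIndex H) :
    ∃ (T₁ : Sylow 2 G) (w : G), Over M i T₁ w ∧ (T₁ : Subgroup G) ≤ H := by
  have hfact : Fact (Nat.Prime 2) := ⟨Nat.prime_two⟩
  have hT2 : IsPGroup 2 (stab M.toNatV i) := S.isPGroup'.to_le (stab_le _ _)
  obtain ⟨T', h1, h2, h3, h4⟩ := Half.exists_sylow_le hT2 hle
  obtain ⟨T₁, w, h5, h6⟩ := exists_over_of M h3 h1 (fun h => h4 (by rw [le_antisymm h h1]; exact hd))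
  exact ⟨T₁, w, h5, h6 ▸ h2⟩

/-- a Sylow 2-subgroup of `G` over `T` in `N_G(V₁)` normalises `R` -/
theorem over_norm_line {T₁ : Sylow 2 G} {w : G} (h : Over M i T₁ w)
    (hV : (T₁ : Subgroup G) ≤ normalizer (fac M.toNatV i : Set G)) :
    (T₁ : Subgroup G) ≤ normalizer (line M.toNatV i : Set G) :=
  fun _ ht => norm_line_of M.toNatV (SP M) (hV ht) (h.norm ht)

/-- **CASE 1, CASE 2a**: if no Sylow 2-subgroup of `G` over `T` normalises `V₁` and `R`, then `T` is a Sylow
2-subgroup of `N_G(V₁)`. -/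
theorem syl_fac_of (hT : ¬ ∃ T₁ : Sylow 2 G, stab M.toNatV i ≤ T₁ ∧
      (T₁ : Subgroup G) ≤ normalizer (fac M.toNatV i : Set G) ⊓ normalizer (line M.toNatV i : Set G)) :
    ¬ 2 ∣ (stab M.toNatV i).relIndex (normalizer (fac M.toNatV i : Set G)) := by
  intro hd
  obtain ⟨T₁, w, h, h1⟩ := exists_over M (stab_normalizes M.toNatV i) hd
  exact hT ⟨T₁, h.le, le_inf h1 (over_norm_line M h h1)⟩

/-- `T` is maximal among the 2-subgroups of `N_G(V₁)` -/
theorem max_fac_of (hT : ¬ ∃ T₁ : Sylow 2 G, stab M.toNatV i ≤ T₁ ∧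
      (T₁ : Subgroup G) ≤ normalizer (fac M.toNatV i : Set G) ⊓ normalizer (line M.toNatV i : Set G))
    {T' : Subgroup G} (h2 : IsPGroup 2 T') (hle : stab M.toNatV i ≤ T')
    (hV : T' ≤ normalizer (fac M.toNatV i : Set G)) : T' ≤ stab M.toNatV i := by
  by_contra hcon
  obtain ⟨T₁, w, h, h1⟩ := exists_over_of M h2 hle hcon
  rw [← h1] at hV
  exact hT ⟨T₁, h.le, le_inf hV (over_norm_line M h hV)⟩

/-- **CASE 1**: no Sylow 2-subgroup of `G` over `T` is in `N_G(R)` -/
theorem no_over_of (hd : ¬ 2 ∣ (stab M.toNatV i).relIndex (normalizer (line M.toNatV i : Set G))) :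
    ¬ ∃ T₁ : Sylow 2 G, stab M.toNatV i ≤ T₁ ∧
      (T₁ : Subgroup G) ≤ normalizer (fac M.toNatV i : Set G) ⊓ normalizer (line M.toNatV i : Set G) := by
  rintro ⟨T₁, h1, h2⟩
  apply hd
  have h3 : (T₁ : Subgroup G) ≤ normalizer (line M.toNatV i : Set G) := h2.trans inf_le_right
  have h4 := Subgroup.relIndex_mul_relIndex _ _ _ h1 h3
  have h5 := Half.card_mul_relIndex h1
  have hc : Nat.card (T₁ : Subgroup G) = 2 * Nat.card (stab M.toNatV i) := by
    rw [← card_two M i, T₁.card_eq_multiplicity, S.card_eq_multiplicity]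
  have h6 : (stab M.toNatV i).relIndex (T₁ : Subgroup G) = 2 := by
    rw [hc, mul_comm 2] at h5
    exact Nat.eq_of_mul_eq_mul_left Nat.card_pos h5
  rw [← h4, h6]
  exact dvd_mul_right _ _

/-- **CASE 1**: `T` is a Sylow 2-subgroup of `N_G(V₁)` -/
theorem syl_fac_one (hd : ¬ 2 ∣ (stab M.toNatV i).relIndex (normalizer (line M.toNatV i : Set G))) :
    ¬ 2 ∣ (stab M.toNatV i).relIndex (normalizer (fac M.toNatV i : Set G)) :=
  syl_fac_of M (no_over_of M hd)

end ovr

end Cfsg.Agent.Omega.IId.NV
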