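import Cfsg.Agent.Omega.IId.Cv.XZero
import Cfsg.Agent.Omega.IId.Cv.Syl
import Cfsg.Agent.Omega.IId.Cv.Center
import Cfsg.Agent.Omega.BTwo.Conj

/-!
# WrCv, `k = 2`, `D ≠ 1`: an element of `Ω₁(Z(T₁)) ∩ C(grp M {i})` for a Sylow 2-subgroup `T₁` over `T = stab M i`

(helper330; any `q`.)
`Ω₁(Z(T)) = C_{V_i}(T) × M₀`, `M₀ = Ω₁(Z(T)) ∩ C(grp M {i})`, `|M₀| ≥ |C_{V_j}(T)| |D| > |C_{V_i}(T)|`, so
`M₀ ∩ M₀^w ≠ 1`.
-/

set_option autoImplicit false
set_option linter.unusedSectionVars false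

namespace Cfsg.Agent.Omega.IId.NV

open Subgroup Cfsg Cfsg.Agent.Lib.SL2Mat Cfsg.Agent.MinSimple
open Cfsg.Agent.ZN (o2 zc zl)

universe u

variable {G : Type u} [Group G] [Finite G] {F : Type} [Field F] [Finite F] [CharP F 2]
  {S : Sylow 2 G} {P V D : Subgroup G} (M : NatD F S P V D 2)

/-- `Ω₁(Z(T)) ∩ C(grp M {i})` -/
def MZ (i : Fin 2) : Subgroup G := zc (stab M.toNatV i) ⊓ centralizer (grp M.toNatV {i} : Set G)

variable {M}

theorem mem_MZ {i : Fin 2} {x : G} : x ∈ MZ M i ↔ x ∈ zc (stab M.toNatV i) ∧ ∀ g ∈ grp M.toNatV {i}, g * x = x * g := by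
  rw [MZ, mem_inf, mem_centralizer_iff]
  rfl

theorem conj_zc {T : Subgroup G} {h x : G} (hT : h ∈ normalizer (T : Set G)) (hx : x ∈ zc T) : h * x * h⁻¹ ∈ zc T := by
  obtain ⟨h1, h2, h3⟩ := VModule.mem_zc.1 hx
  refine VModule.mem_zc.2 ⟨(mem_normalizer_iff.1 hT x).1 h1, fun y hy => ?_, ?_⟩
  · have h4 := (mem_normalizer_iff.1 (inv_mem hT) y).1 hy
    rw [inv_inv] at h4
    have h5 := h2 _ h4
    calc y * (h * x * h⁻¹) = h * (h⁻¹ * y * h * x) * h⁻¹ := by group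
      _ = h * (x * (h⁻¹ * y * h)) * h⁻¹ := by rw [h5]
      _ = _ := by group
  · calc (h * x * h⁻¹) ^ 2 = h * x ^ 2 * h⁻¹ := by rw [pow_two, pow_two]; group
      _ = 1 := by rw [h3]; group

variable (M)

theorem card_fix_le {i j : Fin 2} (hij : i ≠ j) :
    Nat.card (fac M.toNatV i ⊓ zc (stab M.toNatV i) : Subgroup G) ≤
      Nat.card (fac M.toNatV j ⊓ zc (stab M.toNatV i) : Subgroup G) := by
  have hB := blk_two M i
  obtain ⟨s, hs, hs1⟩ := hB.exists_swap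
  have ho : Over M i S s := ⟨stab_le _ _, card_two M i, hs, hs1⟩
  have hsn := ho.norm hs
  have h1 := (hB.not_mem hs).1 hs1
  have h2 : ({i} : Set (Fin 2))ᶜ = {j} := by
    ext l
    rw [Set.mem_compl_singleton_iff, Set.mem_singleton_iff]
    constructor
    · intro hl
      omega
    · rintro rfl
      exact hij.symm
  have h3 := conj_part M.toNatV (SP M hs) {i}
  rw [h1, h2] at h3
  have key : ∀ a ∈ fac M.toNatV i, s * a * s⁻¹ ∈ fac M.toNatV j := by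
    intro a ha
    rw [fac, ← h3, NatPair.mem_cj]
    have e : s⁻¹ * (s * a * s⁻¹) * s = a := by group
    rw [e]; exact ha
  refine Nat.card_le_card_of_injective (fun a => (⟨s * (a : G) * s⁻¹, key _ a.2.1, conj_zc hsn a.2.2⟩ :
    (fac M.toNatV j ⊓ zc (stab M.toNatV i) : Subgroup G))) ?_
  intro a b hab
  have h4 : s * (a : G) * s⁻¹ = s * (b : G) * s⁻¹ := congrArg Subtype.val hab
  exact Subtype.ext (mul_left_cancel (mul_right_cancel h4))

theorem card_lt_MZ (hD : D ≠ ⊥) {i : Fin 2} :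
    Nat.card (fac M.toNatV i ⊓ zc (stab M.toNatV i) : Subgroup G) < Nat.card (MZ M i) := by
  obtain ⟨j, hij⟩ : ∃ j : Fin 2, i ≠ j := ⟨i + 1, by omega⟩
  have h1 : 1 < Nat.card D := (Subgroup.one_lt_card_iff_ne_bot _).2 hD
  set A := (fac M.toNatV j ⊓ zc (stab M.toNatV i) : Subgroup G) with hA
  have h2 : Nat.card (A × D) ≤ Nat.card (MZ M i) := by
    refine Nat.card_le_card_of_injective (fun p => (⟨(p.1 : G) * p.2, mem_MZ.2 ⟨?_, fun g hg => ?_⟩⟩ : MZ M i)) ?_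
    · exact mul_mem p.1.2.2 ((mem_DT M (i := i)).1 (D_le_DT M p.2.2)).1
    · have c1 : g * (p.1 : G) = p.1 * g := grp_comm M.toNatV (by simpa using hij) hg p.1.2.1
      have c2 : g * (p.2 : G) = p.2 * g := ((mem_DT M (i := i)).1 (D_le_DT M p.2.2)).2 i g hg
      calc g * ((p.1 : G) * p.2) = g * p.1 * p.2 := by group
        _ = p.1 * (g * p.2) := by rw [c1]; group
        _ = p.1 * p.2 * g := by rw [c2]; group
    · rintro ⟨⟨p, hp⟩, ⟨q, hq⟩⟩ ⟨⟨p', hp'⟩, ⟨q', hq'⟩⟩ heq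
      have h4 : p * q = p' * q' := congrArg Subtype.val heq
      have h5 : p'⁻¹ * p = q' * q⁻¹ := by
        calc p'⁻¹ * p = p'⁻¹ * (p * q) * q⁻¹ := by group
          _ = p'⁻¹ * (p' * q') * q⁻¹ := by rw [h4]
          _ = q' * q⁻¹ := by group
      have h6 : p'⁻¹ * p = 1 := by
        have h8 : p'⁻¹ * p ∈ V := mul_mem (inv_mem (fac_le _ _ hp'.1)) (fac_le _ _ hp.1)
        have h9 : p'⁻¹ * p ∈ D := by rw [h5]; exact mul_mem hq' (inv_mem hq)
        have h7 : p'⁻¹ * p ∈ V ⊓ D := ⟨h8, h9⟩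
        rw [M.inf] at h7
        exact mem_bot.1 h7
      have h7 : p' = p := inv_mul_eq_one.1 h6
      have h8 : q' = q := by
        rw [h6] at h5
        exact (mul_inv_eq_one.1 h5.symm)
      subst h7 h8
      rfl
  rw [Nat.card_prod] at h2
  have h3 := card_fix_le M hij
  rw [← hA] at h3
  have h4 : 0 < Nat.card A := Nat.card_pos
  calc _ ≤ Nat.card A := h3
    _ < Nat.card A * Nat.card D := by nlinarith
    _ ≤ _ := h2

/-- **Existence of `x`**, `k = 2`, `D ≠ 1`, any `q` -/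
theorem exists_x_two (hD : D ≠ ⊥) {i : Fin 2} {T₁ : Sylow 2 G} {w : G} (h : Over M i T₁ w) :
    ∃ x ∈ zc (T₁ : Subgroup G), x ≠ 1 ∧ ∀ g ∈ grp M.toNatV {i}, g * x = x * g := by
  have hwn := h.norm h.mem
  set T := stab M.toNatV i with hT
  set A := (fac M.toNatV i ⊓ zc T : Subgroup G) with hA
  let X : Subgroup G := MZ M i ⊓ BTwo.cj w (MZ M i)
  have hXz : X ≤ zc T := fun y hy => (mem_MZ.1 hy.1).1
  -- `X ≠ 1`
  have hX1 : X ≠ ⊥ := by
    intro hX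
    have hmem : ∀ f ∈ BTwo.cj w (MZ M i), f ∈ zc T := by
      intro f hf
      rw [BTwo.mem_cj] at hf
      have h1 := conj_zc hwn (mem_MZ.1 hf).1
      have e : w * (w⁻¹ * f * w) * w⁻¹ = f := by group
      rwa [e] at h1
    have hdec : ∀ f ∈ BTwo.cj w (MZ M i), ∃ a ∈ A, a⁻¹ * f ∈ MZ M i := by
      intro f hf
      obtain ⟨a, ha, c, hc, haz, hcc, rfl⟩ := XZ.zc_stb' (M := M) (blk_two M i) (hmem f hf)
      refine ⟨a, ⟨ha, haz⟩, ?_⟩
      rw [inv_mul_cancel_left]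
      exact mem_MZ.2 ⟨hc, fun g hg => hcc g (mem_sup_left hg)⟩
    choose! φ hφ1 hφ2 using hdec
    have h1 : Nat.card (BTwo.cj w (MZ M i)) ≤ Nat.card A := by
      refine Nat.card_le_card_of_injective (fun f => (⟨φ f, hφ1 f f.2⟩ : A)) ?_
      intro f f' hff
      have h2 : φ f = φ f' := congrArg Subtype.val hff
      have h3 := mul_mem (inv_mem (hφ2 f f.2)) (hφ2 f' f'.2)
      have e : ((φ f)⁻¹ * (f : G))⁻¹ * ((φ f')⁻¹ * (f' : G)) = (f : G)⁻¹ * f' := by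
        rw [h2]; group
      rw [e] at h3
      have h5 : (f : G)⁻¹ * f' ∈ BTwo.cj w (MZ M i) := mul_mem (inv_mem f.2) f'.2
      have h4 : (f : G)⁻¹ * f' ∈ X := ⟨h3, h5⟩
      rw [hX, mem_bot] at h4
      exact Subtype.ext (inv_mul_eq_one.1 h4)
    rw [BTwo.card_cj] at h1
    exact absurd h1 (not_le.2 (card_lt_MZ M hD))
  have hX2 : IsPGroup 2 X := (S.isPGroup'.to_le (stab_le _ _)).to_le (hXz.trans (VModule.zc_le _))
  have hXT : ∀ t ∈ T, ∀ y ∈ X, t * y = y * t := fun t ht y hy => (VModule.mem_zc.1 (hXz hy)).2.1 t ht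
  have hwX : w ∈ normalizer (X : Set G) := by
    refine BTwo.mem_normalizer_of_conj fun y hy => ⟨?_, BTwo.conj_mem_cj hy.1⟩
    -- `w y w⁻¹ = w² (w⁻¹ y w) w⁻²`
    have h1 := BTwo.mem_cj.1 hy.2
    have h2 := (VModule.mem_zc.1 (mem_MZ.1 h1).1).2.1 _ h.sq
    have e : w * y * w⁻¹ = w⁻¹ * y * w := by
      calc w * y * w⁻¹ = w * w * (w⁻¹ * y * w) * w⁻¹ * w⁻¹ := by group
        _ = w⁻¹ * y * w * (w * w) * w⁻¹ * w⁻¹ := by rw [h2]
        _ = _ := by group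
    rw [e]; exact h1
  have hT₁X : (T₁ : Subgroup G) ≤ normalizer (X : Set G) := by
    have hTX : T ≤ normalizer (X : Set G) := fun t ht => by
      apply centralizer_le_normalizer
      exact mem_centralizer_iff.2 fun y hy => (hXT t ht y hy).symm
    intro t ht
    rcases h.cov ht with h1 | h1
    · exact hTX h1
    · have h2 := mul_mem hwX (hTX h1)
      rwa [mul_inv_cancel_left] at h2
  obtain ⟨x, hx, hx1, hxc⟩ := Half.exists_fixed hX2 hX1 T₁.isPGroup' hT₁X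
  refine ⟨x, VModule.mem_zc.2 ⟨h.le (VModule.zc_le _ (hXz hx)), fun t ht => mul_inv_eq_iff_eq_mul.1 (hxc t ht), ?_⟩,
    hx1, (mem_MZ.1 hx.1).2⟩
  exact (VModule.mem_zc.1 (hXz hx)).2.2

end Cfsg.Agent.Omega.IId.NV
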