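import Cfsg.Agent.MinSimple.VModule
import Cfsg.Agent.Omega.All.Basic

/-!
# WrCv, CASE 2a is dead, `q = 2` (OMEGA #17699, helper994; typed by helper165)

`V = {1, r₁, r₂, r₃}`, `T` a Sylow 2-subgroup of `N_G(V)` of index 2 in `T₁ = T⟨w⟩ ∈ Syl₂(G)`, `T₁ ≤ C(r₁)`, `V^w ≠ V`.

* `KK r = {t ∈ O₂(C(r)) : [O₂(C(r)), t] ≤ ⟨r⟩}` (intrinsic: no partner, no `W`);
* `In V T T₁ E M w r₁` : the setting; `In.false` : it is impossible.
-/

set_option autoImplicit false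
set_option linter.unusedSectionVars false

namespace Cfsg.Agent.Omega.IId.Cv.TwoA

open Subgroup Cfsg Cfsg.Agent.ZN
open Cfsg.Agent.MinSimple.VModule (le_o2 mem_zc zc_le o2_le o2_isPGroup le_normalizer_o2)

variable {G : Type*} [Group G]

theorem conj_mem_of_normalizer {A : Subgroup G} {g x : G} (hg : g ∈ normalizer (A : Set G)) (hx : x ∈ A) :
    g * x * g⁻¹ ∈ A := (mem_normalizer_iff.1 hg x).1 hx

theorem conj_mem_of_normalizer' {A : Subgroup G} {g x : G} (hg : g ∈ normalizer (A : Set G)) (hx : x ∈ A) :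
    g⁻¹ * x * g ∈ A := by
  have := (mem_normalizer_iff.1 (inv_mem hg) x).1 hx
  rwa [inv_inv] at this

/-- `N ≤ N_G(A)` from one-sided conjugation -/
theorem le_normalizer_of {N A : Subgroup G} (h : ∀ g ∈ N, ∀ x ∈ A, g * x * g⁻¹ ∈ A) : N ≤ normalizer (A : Set G) := by
  intro g hg
  rw [mem_normalizer_iff]
  intro x
  refine ⟨fun hx => h g hg x hx, fun hx => ?_⟩
  have h1 := h g⁻¹ (inv_mem hg) _ hx
  have e : g⁻¹ * (g * x * g⁻¹) * g⁻¹⁻¹ = x := by group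
  rwa [e] at h1

theorem normalizer_centralizer_le {N A : Subgroup G} (h : N ≤ normalizer (A : Set G)) :
    N ≤ normalizer ((centralizer (A : Set G) : Subgroup G) : Set G) := by
  refine le_normalizer_of fun g hg x hx => ?_
  rw [mem_centralizer_iff] at hx ⊢
  intro a ha
  have h1 := hx _ (conj_mem_of_normalizer' (h hg) ha)
  calc a * (g * x * g⁻¹) = g * (g⁻¹ * a * g * x) * g⁻¹ := by group
    _ = g * (x * (g⁻¹ * a * g)) * g⁻¹ := by rw [h1]
    _ = g * x * g⁻¹ * a := by group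

theorem normalizer_inf_le {N A B : Subgroup G} (h1 : N ≤ normalizer (A : Set G)) (h2 : N ≤ normalizer (B : Set G)) :
    N ≤ normalizer ((A ⊓ B : Subgroup G) : Set G) :=
  le_normalizer_of fun _ hg _ hx => ⟨conj_mem_of_normalizer (h1 hg) hx.1, conj_mem_of_normalizer (h2 hg) hx.2⟩

theorem normalizer_o2_le {N L : Subgroup G} (h : N ≤ normalizer (L : Set G)) : N ≤ normalizer (o2 L : Set G) := by
  refine le_normalizer_of fun g hg x hx => ?_
  have h1 : (o2 L).map (MulAut.conj g).toMonoidHom ≤ o2 L := by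
    refine le_o2 ?_ ((o2_isPGroup L).map _) ?_
    · rintro _ ⟨y, hy, rfl⟩
      exact conj_mem_of_normalizer (h hg) (o2_le L hy)
    · refine le_normalizer_of fun l hl y hy => ?_
      obtain ⟨w, hw, rfl⟩ := hy
      have h2 := conj_mem_of_normalizer (le_normalizer_o2 L (conj_mem_of_normalizer' (h hg) hl)) hw
      refine ⟨_, h2, ?_⟩
      change g * ((g⁻¹ * l * g) * w * (g⁻¹ * l * g)⁻¹) * g⁻¹ = l * (g * w * g⁻¹) * l⁻¹
      group
  exact h1 ⟨x, hx, rfl⟩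

theorem mem_cs {x r : G} : x ∈ centralizer ({r} : Set G) ↔ x * r = r * x := mem_centralizer_singleton_iff

/-- `O₂` of a conjugate -/
theorem o2_conj (g : G) {r x : G} (hx : x ∈ o2 (centralizer ({r} : Set G))) :
    g * x * g⁻¹ ∈ o2 (centralizer ({g * r * g⁻¹} : Set G)) := by
  have h1 : ∀ x ∈ centralizer ({r} : Set G), g * x * g⁻¹ ∈ centralizer ({g * r * g⁻¹} : Set G) := by
    intro x hx
    rw [mem_cs] at hx ⊢
    calc g * x * g⁻¹ * (g * r * g⁻¹) = g * (x * r) * g⁻¹ := by group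
      _ = g * (r * x) * g⁻¹ := by rw [hx]
      _ = _ := by group
  have h2 : ∀ y ∈ centralizer ({g * r * g⁻¹} : Set G), g⁻¹ * y * g ∈ centralizer ({r} : Set G) := by
    intro y hy
    rw [mem_cs] at hy ⊢
    calc g⁻¹ * y * g * r = g⁻¹ * (y * (g * r * g⁻¹)) * g := by group
      _ = g⁻¹ * (g * r * g⁻¹ * y) * g := by rw [hy]
      _ = _ := by group
  have h3 : (o2 (centralizer ({r} : Set G))).map (MulAut.conj g).toMonoidHom ≤
      o2 (centralizer ({g * r * g⁻¹} : Set G)) := by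
    apply le_o2
    · rintro _ ⟨y, hy, rfl⟩
      exact h1 y (o2_le _ hy)
    · exact (o2_isPGroup _).map _
    · refine le_normalizer_of ?_
      rintro l hl _ ⟨y, hy, rfl⟩
      refine ⟨(g⁻¹ * l * g) * y * (g⁻¹ * l * g)⁻¹, conj_mem_of_normalizer (le_normalizer_o2 _ (h2 l hl)) hy, ?_⟩
      change g * ((g⁻¹ * l * g) * y * (g⁻¹ * l * g)⁻¹) * g⁻¹ = l * (g * y * g⁻¹) * l⁻¹
      group
  exact h3 ⟨x, hx, rfl⟩

theorem o2_conj' (g : G) {r x : G} (hx : x ∈ o2 (centralizer ({g * r * g⁻¹} : Set G))) :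
    g⁻¹ * x * g ∈ o2 (centralizer ({r} : Set G)) := by
  have h := o2_conj g⁻¹ hx
  have e : g⁻¹ * (g * r * g⁻¹) * g⁻¹⁻¹ = r := by group
  rwa [e, inv_inv] at h

/-- `{t ∈ O₂(C(r)) : [O₂(C(r)), t] ≤ ⟨r⟩}` -/
def KK (r : G) : Subgroup G where
  carrier := {t | t ∈ o2 (centralizer ({r} : Set G)) ∧
    ∀ q ∈ o2 (centralizer ({r} : Set G)), q * t * q⁻¹ * t⁻¹ ∈ zpowers r}
  one_mem' := ⟨one_mem _, fun q _ => by
    have e : q * 1 * q⁻¹ * (1 : G)⁻¹ = 1 := by group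
    rw [e]; exact one_mem _⟩
  mul_mem' := by
    rintro s t ⟨hs, hs'⟩ ⟨ht, ht'⟩
    refine ⟨mul_mem hs ht, fun q hq => ?_⟩
    have h1 : s * (q * t * q⁻¹ * t⁻¹) * s⁻¹ = q * t * q⁻¹ * t⁻¹ := by
      obtain ⟨n, hn⟩ := mem_zpowers_iff.1 (ht' q hq)
      have h2 : Commute s r := mem_cs.1 (o2_le _ hs)
      rw [← hn, (h2.zpow_right n).eq, mul_inv_cancel_right]
    have e : q * (s * t) * q⁻¹ * (s * t)⁻¹ = (q * s * q⁻¹ * s⁻¹) * (s * (q * t * q⁻¹ * t⁻¹) * s⁻¹) := by group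
    rw [e, h1]
    exact mul_mem (hs' q hq) (ht' q hq)
  inv_mem' := by
    rintro s ⟨hs, hs'⟩
    refine ⟨inv_mem hs, fun q hq => ?_⟩
    have h1 := inv_mem (hs' (s⁻¹ * q * s) (mul_mem (mul_mem (inv_mem hs) hq) hs))
    have e : (s⁻¹ * q * s * s * (s⁻¹ * q * s)⁻¹ * s⁻¹)⁻¹ = q * s⁻¹ * q⁻¹ * s⁻¹⁻¹ := by group
    rwa [e] at h1

theorem KK_le (r : G) : KK r ≤ o2 (centralizer ({r} : Set G)) := fun _ h => h.1

theorem KK_cen {r t : G} (ht : t ∈ KK r) : t * r = r * t := mem_cs.1 (o2_le _ (KK_le r ht))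

theorem zpow_cases {r : G} (hr : r * r = 1) {x : G} (hx : x ∈ zpowers r) : x = 1 ∨ x = r := by
  obtain ⟨k, rfl⟩ := mem_zpowers_iff.mp hx
  rcases Int.even_or_odd k with ⟨t, ht⟩ | ⟨t, ht⟩
  · left
    rw [ht, ← two_mul, zpow_mul, zpow_two, hr, one_zpow]
  · right
    rw [ht, zpow_add, zpow_mul, zpow_two, hr, one_zpow, one_mul, zpow_one]

theorem KK_cases {r : G} (hr : r * r = 1) {t q : G} (ht : t ∈ KK r) (hq : q ∈ o2 (centralizer ({r} : Set G))) :
    q * t * q⁻¹ = t ∨ q * t * q⁻¹ = t * r := by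
  rcases zpow_cases hr (ht.2 q hq) with h | h
  · exact Or.inl (mul_inv_eq_one.1 h)
  · right
    rw [KK_cen ht]
    exact mul_inv_eq_iff_eq_mul.1 h

theorem KK_conj (g : G) {r t : G} (ht : t ∈ KK r) : g * t * g⁻¹ ∈ KK (g * r * g⁻¹) := by
  refine ⟨o2_conj g ht.1, fun q hq => ?_⟩
  obtain ⟨n, hn⟩ := mem_zpowers_iff.1 (ht.2 _ (o2_conj' g hq))
  have e : q * (g * t * g⁻¹) * q⁻¹ * (g * t * g⁻¹)⁻¹ = g * ((g⁻¹ * q * g) * t * (g⁻¹ * q * g)⁻¹ * t⁻¹) * g⁻¹ := by group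
  rw [e, ← hn, ← conj_zpow]
  exact zpow_mem (mem_zpowers _) n

/-- `V^w` -/
def cj (w : G) (V : Subgroup G) : Subgroup G := V.comap (MulAut.conj w⁻¹).toMonoidHom

theorem mem_cj {w : G} {V : Subgroup G} {u : G} : u ∈ cj w V ↔ w⁻¹ * u * w ∈ V := by
  unfold cj
  rw [mem_comap]
  have e : (MulAut.conj w⁻¹).toMonoidHom u = w⁻¹ * u * w := by simp
  rw [e]

theorem cj_mem {w : G} {V : Subgroup G} {v : G} (hv : v ∈ V) : w * v * w⁻¹ ∈ cj w V := by
  rw [mem_cj]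
  have e : w⁻¹ * (w * v * w⁻¹) * w = v := by group
  rwa [e]

/-- The setting of CASE 2a (`q = 2`). -/
structure In (V T : Subgroup G) (T₁ : Sylow 2 G) (E M : Subgroup G) (w r₁ : G) : Prop where
  sq : ∀ v ∈ V, v * v = 1
  four : ∃ r₂ ∈ V, r₂ ≠ 1 ∧ r₂ ≠ r₁ ∧ ∀ v ∈ V, v = 1 ∨ v = r₁ ∨ v = r₂ ∨ v = r₁ * r₂
  r₁V : r₁ ∈ V
  r₁_ne : r₁ ≠ 1
  T_T₁ : T ≤ T₁
  w_T₁ : w ∈ (T₁ : Subgroup G)
  w_T : w ∉ T
  cov : ∀ x ∈ (T₁ : Subgroup G), x ∈ T ∨ x * w ∈ T
  T_V : T ≤ normalizer (V : Set G)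
  T_max : ∀ P : Subgroup G, IsPGroup 2 P → T ≤ P → P ≤ normalizer (V : Set G) → P ≤ T
  T₁_r : ∀ x ∈ (T₁ : Subgroup G), x * r₁ = r₁ * x
  VQ : V ≤ o2 (centralizer ({r₁} : Set G))
  comm : ∀ q ∈ o2 (centralizer ({r₁} : Set G)), ∀ v ∈ V, q * v * q⁻¹ = v ∨ q * v * q⁻¹ = v * r₁
  move : ∃ t ∈ KK r₁, ∃ v ∈ V, t * v ≠ v * t
  ch : ∀ x, x * r₁ = r₁ * x → (∀ q ∈ o2 (centralizer ({r₁} : Set G)), x * q = q * x) →
    x ∈ o2 (centralizer ({r₁} : Set G))
  E_V : E ≤ normalizer (V : Set G)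
  E_tr : ∀ r ∈ V, r ≠ 1 → ∃ e ∈ E, e * r₁ * e⁻¹ = r
  E_M : ∀ e ∈ E, ∀ m ∈ M, e * m = m * e
  M_zc : M ≤ zc T
  M_cov : ∀ x ∈ zc T, x ∈ M ∨ r₁ * x ∈ M
  big : 8 ≤ Nat.card (zc T)
  half : ∀ x ∈ M, x ≠ 1 → V ≤ o2 (centralizer ({x} : Set G)) ∧
    ∀ v ∈ V, ∀ q ∈ o2 (centralizer ({x} : Set G)), v * q = q * v

namespace In

variable {V T : Subgroup G} {T₁ : Sylow 2 G} {E M : Subgroup G} {w r₁ : G} (I : In V T T₁ E M w r₁)

include I

theorem inv {v : G} (hv : v ∈ V) : v⁻¹ = v := inv_eq_of_mul_eq_one_left (I.sq v hv)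

theorem Vcomm {u v : G} (hu : u ∈ V) (hv : v ∈ V) : u * v = v * u := by
  have h := I.inv (mul_mem hu hv)
  rw [mul_inv_rev, I.inv hu, I.inv hv] at h
  exact h.symm

/-! ### The same at every `r ∈ V#` -/

theorem cases' {v₀ : G} (h0 : v₀ ∈ V) (h1 : v₀ ≠ 1) (h2 : v₀ ≠ r₁) {v : G} (hv : v ∈ V) :
    v = 1 ∨ v = r₁ ∨ v = v₀ ∨ v = v₀ * r₁ := by
  obtain ⟨r', hr', -, -, h4⟩ := I.four
  have hc := I.Vcomm I.r₁V hr'
  rcases h4 v₀ h0 with h | h | h | h
  · exact absurd h h1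
  · exact absurd h h2
  · subst h
    rcases h4 v hv with h | h | h | h
    · exact Or.inl h
    · exact Or.inr (Or.inl h)
    · exact Or.inr (Or.inr (Or.inl h))
    · exact Or.inr (Or.inr (Or.inr (by rw [h, hc])))
  · subst h
    rcases h4 v hv with h | h | h | h
    · exact Or.inl h
    · exact Or.inr (Or.inl h)
    · refine Or.inr (Or.inr (Or.inr ?_))
      rw [h, hc, mul_assoc, I.sq r₁ I.r₁V, mul_one]
    · exact Or.inr (Or.inr (Or.inl h))

/-- transitivity of `E` in the form used below -/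
theorem exists_e {r : G} (hr : r ∈ V) (h1 : r ≠ 1) : ∃ e ∈ E, e * r₁ * e⁻¹ = r ∧ (∀ v ∈ V, e⁻¹ * v * e ∈ V) ∧
    (∀ v ∈ V, e * v * e⁻¹ ∈ V) := by
  obtain ⟨e, he, h2⟩ := I.E_tr r hr h1
  exact ⟨e, he, h2, fun v hv => conj_mem_of_normalizer' (I.E_V he) hv, fun v hv => conj_mem_of_normalizer (I.E_V he) hv⟩

theorem four' {r : G} (hr : r ∈ V) (h1 : r ≠ 1) : ∃ r' ∈ V, r' ≠ 1 ∧ r' ≠ r ∧
    ∀ v ∈ V, v = 1 ∨ v = r ∨ v = r' ∨ v = r * r' := by
  obtain ⟨e, he, h2, h3, h4⟩ := I.exists_e hr h1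
  obtain ⟨r', hr', h5, h6, h7⟩ := I.four
  refine ⟨e * r' * e⁻¹, h4 r' hr', fun h => h5 ?_, fun h => h6 ?_, fun v hv => ?_⟩
  · rwa [mul_inv_eq_one, mul_eq_left] at h
  · rw [← h2] at h
    exact mul_left_cancel (mul_right_cancel h)
  · have e1 : ∀ x, e⁻¹ * v * e = x → v = e * x * e⁻¹ := fun x hx => by rw [← hx]; group
    rcases h7 _ (h3 v hv) with h | h | h | h
    · left; rw [e1 _ h]; group
    · right; left; rw [e1 _ h, h2]
    · right; right; left; exact e1 _ h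
    · right; right; right
      rw [e1 _ h, ← h2]; group

theorem VQ' {r : G} (hr : r ∈ V) (h1 : r ≠ 1) : V ≤ o2 (centralizer ({r} : Set G)) := by
  obtain ⟨e, he, h2, h3, h4⟩ := I.exists_e hr h1
  intro v hv
  have h5 := o2_conj e (I.VQ (h3 v hv))
  have e1 : e * (e⁻¹ * v * e) * e⁻¹ = v := by group
  rwa [h2, e1] at h5

theorem comm' {r : G} (hr : r ∈ V) (h1 : r ≠ 1) {q : G} (hq : q ∈ o2 (centralizer ({r} : Set G))) {v : G} (hv : v ∈ V) :
    q * v * q⁻¹ = v ∨ q * v * q⁻¹ = v * r := by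
  obtain ⟨e, he, h2, h3, h4⟩ := I.exists_e hr h1
  have hq' : e⁻¹ * q * e ∈ o2 (centralizer ({r₁} : Set G)) := o2_conj' e (by rwa [h2])
  have e1 : q * v * q⁻¹ = e * ((e⁻¹ * q * e) * (e⁻¹ * v * e) * (e⁻¹ * q * e)⁻¹) * e⁻¹ := by group
  rcases I.comm _ hq' _ (h3 v hv) with h | h
  · left; rw [e1, h]; group
  · right
    rw [e1, h, ← h2]; group

theorem ch' {r : G} (hr : r ∈ V) (h1 : r ≠ 1) {x : G} (hx : x * r = r * x)
    (h : ∀ q ∈ o2 (centralizer ({r} : Set G)), x * q = q * x) : x ∈ o2 (centralizer ({r} : Set G)) := by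
  obtain ⟨e, he, h2, h3, h4⟩ := I.exists_e hr h1
  have h5 : e⁻¹ * x * e ∈ o2 (centralizer ({r₁} : Set G)) := by
    refine I.ch _ ?_ fun q hq => ?_
    · calc e⁻¹ * x * e * r₁ = e⁻¹ * (x * (e * r₁ * e⁻¹)) * e := by group
        _ = e⁻¹ * (e * r₁ * e⁻¹ * x) * e := by rw [h2, hx]
        _ = _ := by group
    · have h6 := h _ (by have := o2_conj e hq; rwa [h2] at this)
      calc e⁻¹ * x * e * q = e⁻¹ * (x * (e * q * e⁻¹)) * e := by group
        _ = e⁻¹ * (e * q * e⁻¹ * x) * e := by rw [h6]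
        _ = _ := by group
  have h6 := o2_conj e h5
  have e1 : e * (e⁻¹ * x * e) * e⁻¹ = x := by group
  rwa [h2, e1] at h6

theorem move' {r : G} (hr : r ∈ V) (h1 : r ≠ 1) : ∃ t ∈ KK r, ∃ v ∈ V, t * v ≠ v * t := by
  obtain ⟨e, he, h2, h3, h4⟩ := I.exists_e hr h1
  obtain ⟨t, ht, v, hv, h5⟩ := I.move
  refine ⟨e * t * e⁻¹, by rw [← h2]; exact KK_conj e ht, e * v * e⁻¹, h4 v hv, fun h => h5 ?_⟩
  have h6 : e * (t * v) * e⁻¹ = e * (v * t) * e⁻¹ := by
    calc e * (t * v) * e⁻¹ = e * t * e⁻¹ * (e * v * e⁻¹) := by group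
      _ = e * v * e⁻¹ * (e * t * e⁻¹) := h
      _ = _ := by group
  exact mul_left_cancel (mul_right_cancel h6)

/-- elements of `O₂(C(r))` normalise `V` -/
theorem Q_nV {r : G} (hr : r ∈ V) (h1 : r ≠ 1) : o2 (centralizer ({r} : Set G)) ≤ normalizer (V : Set G) := by
  refine le_normalizer_of fun q hq v hv => ?_
  rcases I.comm' hr h1 hq hv with h | h
  · rw [h]; exact hv
  · rw [h]; exact mul_mem hv hr

/-- `t ∈ K(r)` centralises `V` or moves every `v ∈ V - {1, r}` -/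
theorem K_act {r : G} (hr : r ∈ V) (h1 : r ≠ 1) {t : G} (ht : t ∈ KK r) :
    (∀ v ∈ V, t * v = v * t) ∨ (∀ v ∈ V, v ≠ 1 → v ≠ r → t * v * t⁻¹ = v * r) := by
  obtain ⟨r', hr', h2, h3, h4⟩ := I.four' hr h1
  have htr := KK_cen ht
  rcases I.comm' hr h1 (KK_le r ht) hr' with h | h
  · left
    have h6 : t * r' = r' * t := mul_inv_eq_iff_eq_mul.1 h
    intro v hv
    rcases h4 v hv with rfl | rfl | rfl | rfl
    · rw [mul_one, one_mul]
    · exact htr
    · exact h6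
    · rw [← mul_assoc, htr, mul_assoc, h6, mul_assoc]
  · right
    intro v hv hv1 hvr
    rcases h4 v hv with rfl | rfl | rfl | rfl
    · exact absurd rfl hv1
    · exact absurd rfl hvr
    · exact h
    · calc t * (r * r') * t⁻¹ = (t * r * t⁻¹) * (t * r' * t⁻¹) := by group
        _ = r * (r' * r) := by rw [htr, mul_inv_cancel_right, h]
        _ = _ := by rw [mul_assoc]

/-- `t ∈ K(r)` moving every `v ∈ V - {1, r}` -/
theorem exists_t {r : G} (hr : r ∈ V) (h1 : r ≠ 1) : ∃ t ∈ KK r, ∀ v ∈ V, v ≠ 1 → v ≠ r → t * v * t⁻¹ = v * r := by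
  obtain ⟨t, ht, v, hv, hne⟩ := I.move' hr h1
  rcases I.K_act hr h1 ht with h | h
  · exact absurd (h v hv) hne
  · exact ⟨t, ht, h⟩

theorem K_nV {r : G} (hr : r ∈ V) (h1 : r ≠ 1) : KK r ≤ normalizer (V : Set G) := (KK_le r).trans (I.Q_nV hr h1)

/-! ### `T` and `T₁` -/

theorem w_sq : w * w ∈ T := by
  rcases I.cov w I.w_T₁ with h | h
  · exact absurd h I.w_T
  · exact h

theorem w_conj {t : G} (ht : t ∈ T) : w * t * w⁻¹ ∈ T := by
  rcases I.cov (w * t * w⁻¹) (mul_mem (mul_mem I.w_T₁ (I.T_T₁ ht)) (inv_mem I.w_T₁)) with h | h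
  · exact h
  · exfalso
    rw [inv_mul_cancel_right] at h
    have h1 := mul_mem h (inv_mem ht)
    rw [mul_inv_cancel_right] at h1
    exact I.w_T h1

theorem w_conj' {t : G} (ht : t ∈ T) : w⁻¹ * t * w ∈ T := by
  have h := mul_mem (mul_mem (inv_mem I.w_sq) (I.w_conj ht)) I.w_sq
  have e : (w * w)⁻¹ * (w * t * w⁻¹) * (w * w) = w⁻¹ * t * w := by group
  rwa [e] at h

theorem w_norm : w ∈ normalizer (T : Set G) := by
  rw [mem_normalizer_iff]
  refine fun x => ⟨fun h => I.w_conj h, fun h => ?_⟩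
  have h1 := I.w_conj' h
  have e : w⁻¹ * (w * x * w⁻¹) * w = x := by group
  rwa [e] at h1

theorem w_r : w * r₁ * w⁻¹ = r₁ := by rw [I.T₁_r w I.w_T₁, mul_inv_cancel_right]

theorem w_r' : w⁻¹ * r₁ * w = r₁ := by rw [mul_assoc, ← I.T₁_r w I.w_T₁, inv_mul_cancel_left]

theorem le_T₁ {K : Subgroup G} (hK : IsPGroup 2 K) (hn : (T₁ : Subgroup G) ≤ normalizer (K : Set G)) :
    K ≤ (T₁ : Subgroup G) := by
  have : Fact (Nat.Prime 2) := ⟨Nat.prime_two⟩
  have h1 := IsPGroup.to_sup_of_normal_right' T₁.2 hK hn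
  exact le_sup_right.trans (le_of_eq (T₁.3 h1 le_sup_left))

theorem le_T {K : Subgroup G} (hK : IsPGroup 2 K) (hn : T ≤ normalizer (K : Set G)) (hV : K ≤ normalizer (V : Set G)) :
    K ≤ T := by
  have hT : IsPGroup 2 T := T₁.2.to_le I.T_T₁
  have h1 := IsPGroup.to_sup_of_normal_right' hT hK hn
  exact le_sup_right.trans (I.T_max _ h1 le_sup_left (sup_le I.T_V hV))

theorem w_not : w ∉ normalizer (V : Set G) := by
  intro h
  have h1 : (T₁ : Subgroup G) ≤ normalizer (V : Set G) := by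
    intro x hx
    rcases I.cov x hx with h2 | h2
    · exact I.T_V h2
    · have h3 := mul_mem (I.T_V h2) (inv_mem h)
      rwa [mul_inv_cancel_right] at h3
  exact I.w_T (I.T_max _ T₁.2 I.T_T₁ h1 I.w_T₁)

variable [Finite G]

theorem Q_T : o2 (centralizer ({r₁} : Set G)) ≤ T := by
  have hc : (T₁ : Subgroup G) ≤ centralizer ({r₁} : Set G) := fun x hx => mem_cs.2 (I.T₁_r x hx)
  have h1 : o2 (centralizer ({r₁} : Set G)) ≤ (T₁ : Subgroup G) :=
    I.le_T₁ (o2_isPGroup _) (hc.trans (le_normalizer_o2 _))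
  intro q hq
  rcases I.cov q (h1 hq) with h | h
  · exact h
  · exfalso
    apply I.w_not
    have h2 := mul_mem (inv_mem (I.Q_nV I.r₁V I.r₁_ne hq)) (I.T_V h)
    rwa [inv_mul_cancel_left] at h2

theorem V_T : V ≤ T := I.VQ.trans I.Q_T

theorem cj_T : cj w V ≤ T := by
  intro u hu
  have h := I.w_conj (I.V_T (mem_cj.1 hu))
  have e : w * (w⁻¹ * u * w) * w⁻¹ = u := by group
  rwa [e] at h

/-- `V' = V^w` -/
theorem cases'' {u₀ : G} (h0 : u₀ ∈ cj w V) (h1 : u₀ ≠ 1) (h2 : u₀ ≠ r₁) {u : G} (hu : u ∈ cj w V) :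
    u = 1 ∨ u = r₁ ∨ u = u₀ ∨ u = u₀ * r₁ := by
  rw [mem_cj] at h0 hu
  have e : ∀ x y : G, w⁻¹ * x * w = w⁻¹ * y * w → x = y := fun x y h => mul_left_cancel (mul_right_cancel h)
  have h3 : w⁻¹ * u₀ * w ≠ 1 := fun h => h1 (e _ _ (by rw [h]; group))
  have h4 : w⁻¹ * u₀ * w ≠ r₁ := fun h => h2 (e _ _ (by rw [h, I.w_r']))
  rcases I.cases' h0 h3 h4 hu with h | h | h | h
  · exact Or.inl (e _ _ (by rw [h]; group))
  · exact Or.inr (Or.inl (e _ _ (by rw [h, I.w_r'])))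
  · exact Or.inr (Or.inr (Or.inl (e _ _ h)))
  · refine Or.inr (Or.inr (Or.inr (e _ _ ?_)))
    rw [h]
    calc w⁻¹ * u₀ * w * r₁ = w⁻¹ * u₀ * w * (w⁻¹ * r₁ * w) := by rw [I.w_r']
      _ = _ := by group

theorem r₁_cj : r₁ ∈ cj w V := by
  rw [mem_cj, I.w_r']; exact I.r₁V

theorem cj_sq {u : G} (hu : u ∈ cj w V) : u * u = 1 := by
  rw [mem_cj] at hu
  have h := I.sq _ hu
  calc u * u = w * ((w⁻¹ * u * w) * (w⁻¹ * u * w)) * w⁻¹ := by group
    _ = 1 := by rw [h]; group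

/-- `T` acts on `V` : `v ↦ v` or `v r₁` -/
theorem T_act {t v : G} (ht : t ∈ T) (hv : v ∈ V) : t * v * t⁻¹ = v ∨ t * v * t⁻¹ = v * r₁ := by
  have h0 : t * v * t⁻¹ ∈ V := conj_mem_of_normalizer (I.T_V ht) hv
  have htr := I.T₁_r t (I.T_T₁ ht)
  by_cases h1 : v = 1
  · left; rw [h1]; group
  by_cases h2 : v = r₁
  · left; rw [h2, htr, mul_inv_cancel_right]
  rcases I.cases' hv h1 h2 h0 with h | h | h | h
  · exact absurd (by rwa [mul_inv_eq_one, mul_eq_left] at h) h1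
  · exfalso; apply h2
    rw [mul_inv_eq_iff_eq_mul, ← htr] at h
    exact mul_left_cancel h
  · exact Or.inl h
  · exact Or.inr h

/-- `T` acts on `V'` : `u ↦ u` or `u r₁` -/
theorem T_act' {t u : G} (ht : t ∈ T) (hu : u ∈ cj w V) : t * u * t⁻¹ = u ∨ t * u * t⁻¹ = u * r₁ := by
  have e : t * u * t⁻¹ = w * ((w⁻¹ * t * w) * (w⁻¹ * u * w) * (w⁻¹ * t * w)⁻¹) * w⁻¹ := by group
  rcases I.T_act (I.w_conj' ht) (mem_cj.1 hu) with h | h
  · left; rw [e, h]; group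
  · right; rw [e, h]
    calc w * (w⁻¹ * u * w * r₁) * w⁻¹ = u * (w * r₁ * w⁻¹) := by group
      _ = u * r₁ := by rw [I.w_r]

/-! ### (1) -/

theorem w_zc {z : G} (hz : z ∈ zc T) : w * z * w⁻¹ ∈ zc T :=
  (mem_normalizer_iff.1 (Cfsg.Agent.MinSimple.VModule.normalizer_le_normalizer_zc T I.w_norm) z).1 hz

theorem w_w {z : G} (hz : z ∈ zc T) : w * (w * z * w⁻¹) * w⁻¹ = z := by
  have h1 : w * w * z = z * (w * w) := (Cfsg.Agent.MinSimple.VModule.mem_zc.1 hz).2.1 _ I.w_sq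
  calc w * (w * z * w⁻¹) * w⁻¹ = w * w * z * (w⁻¹ * w⁻¹) := by group
    _ = z * (w * w) * (w⁻¹ * w⁻¹) := by rw [h1]
    _ = z := by group

theorem r₁_zc : r₁ ∈ zc T := by
  rw [mem_zc]
  exact ⟨I.V_T I.r₁V, fun t ht => I.T₁_r t (I.T_T₁ ht), by rw [pow_two]; exact I.sq r₁ I.r₁V⟩

theorem exists_x : ∃ x ∈ M, x ≠ 1 ∧ w * x * w⁻¹ = x := by
  obtain ⟨y, hy, hy1, m, hm, hym⟩ : ∃ y ∈ M, y ≠ 1 ∧ ∃ m ∈ M, y = w * m * w⁻¹ := by
    by_contra hne
    push Not at hne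
    have h1 : Nat.card M * Nat.card M ≤ Nat.card (zc T) := by
      rw [← Nat.card_prod]
      apply Nat.card_le_card_of_injective (fun x : M × M =>
        (⟨x.1 * (w * x.2 * w⁻¹), mul_mem (I.M_zc x.1.2) (I.w_zc (I.M_zc x.2.2))⟩ : zc T))
      rintro ⟨a, b⟩ ⟨a', b'⟩ h
      have h2 : (a : G) * (w * b * w⁻¹) = a' * (w * b' * w⁻¹) := congrArg Subtype.val h
      have h3 : (a' : G)⁻¹ * a = w * ((b' : G) * (b : G)⁻¹) * w⁻¹ := by
        have h4 : (a' : G)⁻¹ * (a * (w * b * w⁻¹)) * (w * b * w⁻¹)⁻¹ =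
          (a' : G)⁻¹ * (a' * (w * b' * w⁻¹)) * (w * b * w⁻¹)⁻¹ := by rw [h2]
        calc (a' : G)⁻¹ * a = (a' : G)⁻¹ * (a * (w * b * w⁻¹)) * (w * b * w⁻¹)⁻¹ := by group
          _ = _ := h4
          _ = _ := by group
      have h5 : (a' : G)⁻¹ * a = 1 := by
        by_contra h6
        exact hne _ (mul_mem (inv_mem a'.2) a.2) h6 _ (mul_mem b'.2 (inv_mem b.2)) h3
      have h6 : (a : G) = a' := (inv_mul_eq_one.1 h5).symm
      rw [h5] at h3
      have h7 : (b' : G) * (b : G)⁻¹ = 1 := by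
        calc (b' : G) * (b : G)⁻¹ = w⁻¹ * (w * ((b' : G) * (b : G)⁻¹) * w⁻¹) * w := by group
          _ = 1 := by rw [← h3]; group
      exact Prod.ext (Subtype.ext h6) (Subtype.ext (mul_inv_eq_one.1 h7).symm)
    have h2 : Nat.card (zc T) ≤ 2 * Nat.card M := by
      classical
      have : Nat.card (Bool × M) = 2 * Nat.card M := by rw [Nat.card_prod]; simp
      rw [← this]
      apply Nat.card_le_card_of_injective (fun x : zc T =>
        if h : (x : G) ∈ M then ((false, ⟨x, h⟩) : Bool × M) else (true, ⟨r₁ * x, (I.M_cov x x.2).resolve_left h⟩))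
      intro a b hab
      by_cases ha : (a : G) ∈ M <;> by_cases hb : (b : G) ∈ M <;> simp [ha, hb] at hab
      · exact hab
      · exact hab
    have h3 := I.big
    nlinarith
  have hz := I.M_zc hy
  have hsq : y * y = 1 := by rw [← pow_two]; exact (mem_zc.1 hz).2.2
  have h1 : w * y * w⁻¹ ∈ M := by rw [hym, I.w_w (I.M_zc hm)]; exact hm
  by_cases h2 : w * y * w⁻¹ = y
  · exact ⟨y, hy, hy1, h2⟩
  · refine ⟨y * (w * y * w⁻¹), mul_mem hy h1, fun h3 => h2 ?_, ?_⟩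
    · rw [mul_eq_one_iff_inv_eq] at h3
      rw [← h3]
      exact inv_eq_of_mul_eq_one_left hsq
    · calc w * (y * (w * y * w⁻¹)) * w⁻¹ = (w * y * w⁻¹) * (w * (w * y * w⁻¹) * w⁻¹) := by group
        _ = (w * y * w⁻¹) * y := by rw [I.w_w hz]
        _ = _ := Cfsg.Agent.MinSimple.VModule.zc_comm T _ (I.M_zc h1) _ hz

/-! ### (2) `V' ≤ O₂(C(r))` -/

theorem x_T₁ {x : G} (hx : x ∈ M) (hw : w * x * w⁻¹ = x) {t : G} (ht : t ∈ (T₁ : Subgroup G)) : t * x = x * t := by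
  have hz := (mem_zc.1 (I.M_zc hx)).2.1
  rcases I.cov t ht with h | h
  · exact hz t h
  · have h1 := hz _ h
    have h2 : w * x = x * w := mul_inv_eq_iff_eq_mul.1 hw
    have h3 : t * x * w = x * t * w := by rw [mul_assoc, ← h2, ← mul_assoc, h1, mul_assoc]
    exact mul_right_cancel h3

/-- `V` and `V'` commute -/
theorem VV' {v u : G} (hv : v ∈ V) (hu : u ∈ cj w V) : v * u = u * v := by
  obtain ⟨x, hx, hx1, hw⟩ := I.exists_x
  obtain ⟨h1, h2⟩ := I.half x hx hx1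
  have h3 : w ∈ centralizer ({x} : Set G) := mem_cs.2 (mul_inv_eq_iff_eq_mul.1 hw)
  have h4 := conj_mem_of_normalizer (le_normalizer_o2 _ h3) (h1 (mem_cj.1 hu))
  have e : w * (w⁻¹ * u * w) * w⁻¹ = u := by group
  rw [e] at h4
  exact h2 v hv u h4

theorem oV_T : o2 (centralizer (V : Set G)) ≤ T := by
  refine I.le_T (o2_isPGroup _) (normalizer_o2_le (normalizer_centralizer_le I.T_V)) ?_
  refine (o2_le _).trans fun x hx => ?_
  rw [mem_normalizer_iff_map_conj_eq]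
  ext y
  constructor
  · rintro ⟨z, hz, rfl⟩
    have := mem_centralizer_iff.1 hx z hz
    change x * z * x⁻¹ ∈ V
    rw [← this, mul_inv_cancel_right]; exact hz
  · intro hy
    refine ⟨y, hy, ?_⟩
    change x * y * x⁻¹ = y
    rw [← mem_centralizer_iff.1 hx y hy, mul_inv_cancel_right]

/-- `O₂(C(r)) ∩ C(V) ≤ T` -/
theorem QV_T {r : G} (hr : r ∈ V) : o2 (centralizer ({r} : Set G)) ⊓ centralizer (V : Set G) ≤ T := by
  refine le_trans ?_ I.oV_T
  refine le_o2 inf_le_right ((o2_isPGroup _).to_le inf_le_left) ?_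
  refine normalizer_inf_le ?_ le_normalizer
  refine le_trans (fun x hx => ?_) (le_normalizer_o2 _)
  exact mem_cs.2 (mem_centralizer_iff.1 hx r hr).symm

theorem cj_Q {r : G} (hr : r ∈ V) (h1 : r ≠ 1) (h2 : r ≠ r₁) : cj w V ≤ o2 (centralizer ({r} : Set G)) := by
  obtain ⟨x, hx, hx1, hw⟩ := I.exists_x
  obtain ⟨hVx, hVx'⟩ := I.half x hx hx1
  obtain ⟨e, he, h3, h4, h5⟩ := I.exists_e hr h1
  have hex : e * x * e⁻¹ = x := by rw [I.E_M e he x hx, mul_inv_cancel_right]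
  -- `x ∈ Z(Q_r)`
  have hx₁ : ∀ q ∈ o2 (centralizer ({r₁} : Set G)), x * q = q * x := fun q hq =>
    (I.x_T₁ hx hw (I.T_T₁ (I.Q_T hq))).symm
  have hxr₁ : x * r₁ = r₁ * x := (I.x_T₁ hx hw (I.T_T₁ (I.V_T I.r₁V))).symm
  have hx₂ : x ∈ o2 (centralizer ({r₁} : Set G)) := I.ch x hxr₁ hx₁
  have hxr : x ∈ o2 (centralizer ({r} : Set G)) := by
    have := o2_conj e hx₂
    rwa [hex, h3] at this
  have hxq : ∀ q ∈ o2 (centralizer ({r} : Set G)), x * q = q * x := by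
    intro q hq
    have h6 := hx₁ (e⁻¹ * q * e) (o2_conj' e (by rwa [h3]))
    calc x * q = e * x * e⁻¹ * q := by rw [hex]
      _ = e * (x * (e⁻¹ * q * e)) * e⁻¹ := by group
      _ = e * (e⁻¹ * q * e * x) * e⁻¹ := by rw [h6]
      _ = q * (e * x * e⁻¹) := by group
      _ = q * x := by rw [hex]
  -- `A = ⟨x^{C(r)}⟩`
  set C := centralizer ({r} : Set G) with hC
  let A : Subgroup G := closure {y | ∃ h ∈ C, y = h * x * h⁻¹}
  have hA : ∀ a ∈ A, a ∈ o2 C ∧ ∀ q ∈ o2 C, a * q = q * a := by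
    intro a ha
    induction ha using closure_induction with
    | mem y hy =>
      obtain ⟨h, hh, rfl⟩ := hy
      refine ⟨conj_mem_of_normalizer (le_normalizer_o2 C hh) hxr, fun q hq => ?_⟩
      have h7 := hxq _ (conj_mem_of_normalizer' (le_normalizer_o2 C hh) hq)
      calc h * x * h⁻¹ * q = h * (x * (h⁻¹ * q * h)) * h⁻¹ := by group
        _ = h * (h⁻¹ * q * h * x) * h⁻¹ := by rw [h7]
        _ = _ := by group
    | one => exact ⟨one_mem _, fun q _ => by rw [one_mul, mul_one]⟩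
    | mul a b _ _ ha hb =>
      refine ⟨mul_mem ha.1 hb.1, fun q hq => ?_⟩
      rw [mul_assoc, hb.2 q hq, ← mul_assoc, ha.2 q hq, mul_assoc]
    | inv a _ ha =>
      refine ⟨inv_mem ha.1, fun q hq => ?_⟩
      have h7 : Commute a q := ha.2 q hq
      exact h7.inv_left.eq
  have hAn : C ≤ normalizer (A : Set G) := by
    refine le_normalizer_of fun g hg a ha => ?_
    induction ha using closure_induction with
    | mem y hy =>
      obtain ⟨h, hh, rfl⟩ := hy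
      exact subset_closure ⟨g * h, mul_mem hg hh, by group⟩
    | one => rw [mul_one, mul_inv_cancel]; exact one_mem _
    | mul x y _ _ hx hy =>
      have e : g * (x * y) * g⁻¹ = (g * x * g⁻¹) * (g * y * g⁻¹) := by group
      rw [e]; exact mul_mem hx hy
    | inv x _ hx =>
      have e : g * x⁻¹ * g⁻¹ = (g * x * g⁻¹)⁻¹ := by group
      rw [e]; exact inv_mem hx
  have hxA : x ∈ A := subset_closure ⟨1, one_mem _, by group⟩
  have hAC : A ≤ C := fun a ha => o2_le C (hA a ha).1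
  have hVr : V ≤ o2 C := I.VQ' hr h1
  have hAT : A ≤ T := fun a ha => I.QV_T hr ⟨(hA a ha).1, mem_centralizer_iff.2 fun v hv => ((hA a ha).2 v (hVr hv)).symm⟩
  have hr₁A : r₁ ∉ A := by
    intro h
    obtain ⟨t, ht, h6⟩ := I.exists_t hr h1
    have h7 := h6 r₁ I.r₁V I.r₁_ne (Ne.symm h2)
    rw [← (hA r₁ h).2 t (KK_le r ht), mul_inv_cancel_right] at h7
    exact h1 (left_eq_mul.1 h7)
  have hcC : cj w V ≤ C := fun u hu => mem_cs.2 (I.VV' hr hu).symm
  -- `V'` centralises `A`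
  have hcA : ∀ a ∈ A, ∀ u ∈ cj w V, a * u = u * a := by
    intro a ha u hu
    rcases I.T_act' (hAT ha) hu with h | h
    · exact mul_inv_eq_iff_eq_mul.1 h
    · exfalso
      apply hr₁A
      have h6 : u⁻¹ * a * u ∈ A := conj_mem_of_normalizer' (hAn (hcC hu)) ha
      have h7 : u⁻¹ * (a * u * a⁻¹) = r₁ := by rw [h]; group
      have h8 : u⁻¹ * a * u * a⁻¹ = r₁ := by rw [← h7]; group
      rw [← h8]
      exact mul_mem h6 (inv_mem ha)
  -- `K = C(r) ∩ C(A)`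
  have hK : C ⊓ centralizer (A : Set G) ≤ centralizer ({x} : Set G) := fun y hy =>
    mem_cs.2 (mem_centralizer_iff.1 hy.2 x hxA).symm
  have hw' : w ∈ centralizer ({x} : Set G) := mem_cs.2 (mul_inv_eq_iff_eq_mul.1 hw)
  have h6 : cj w V ≤ (C ⊓ centralizer (A : Set G)) ⊓ o2 (centralizer ({x} : Set G)) := by
    intro u hu
    refine ⟨⟨hcC hu, mem_centralizer_iff.2 fun a ha => hcA a ha u hu⟩, ?_⟩
    have h7 := conj_mem_of_normalizer (le_normalizer_o2 _ hw') (hVx (mem_cj.1 hu))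
    have e : w * (w⁻¹ * u * w) * w⁻¹ = u := by group
    rwa [e] at h7
  have h7 : (C ⊓ centralizer (A : Set G)) ⊓ o2 (centralizer ({x} : Set G)) ≤ o2 (C ⊓ centralizer (A : Set G)) :=
    le_o2 inf_le_left ((o2_isPGroup _).to_le inf_le_right)
      (normalizer_inf_le le_normalizer (hK.trans (le_normalizer_o2 _)))
  have h8 : o2 (C ⊓ centralizer (A : Set G)) ≤ o2 C :=
    le_o2 ((o2_le _).trans inf_le_left) (o2_isPGroup _)
      (normalizer_o2_le (normalizer_inf_le le_normalizer (normalizer_centralizer_le hAn)))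
  exact h6.trans (h7.trans h8)

/-! ### (3) -/

/-- `C_{K(r)}(V)` centralises `V'` -/
theorem K_comm' {r : G} (hr : r ∈ V) (h1 : r ≠ 1) (h2 : r ≠ r₁) {t : G} (ht : t ∈ KK r) (htV : ∀ v ∈ V, t * v = v * t)
    {u : G} (hu : u ∈ cj w V) : t * u = u * t := by
  have htT : t ∈ T := I.QV_T hr ⟨KK_le r ht, mem_centralizer_iff.2 fun v hv => (htV v hv).symm⟩
  rcases I.T_act' htT hu with h | h
  · exact mul_inv_eq_iff_eq_mul.1 h
  · exfalso
    have h3 : t * u = u * r₁ * t := mul_inv_eq_iff_eq_mul.1 h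
    have hui : u⁻¹ = u := inv_eq_of_mul_eq_one_left (I.cj_sq hu)
    have h4 : u * t * u⁻¹ = r₁ * t := by
      rw [hui, mul_assoc, h3]
      calc u * (u * r₁ * t) = (u * u) * r₁ * t := by group
        _ = r₁ * t := by rw [I.cj_sq hu, one_mul]
    rcases KK_cases (I.sq r hr) ht (I.cj_Q hr h1 h2 hu) with h5 | h5
    · rw [h4] at h5
      exact I.r₁_ne (mul_eq_right.1 h5)
    · rw [h4, KK_cen ht] at h5
      exact h2 (mul_right_cancel h5).symm

/-- `r₁` does not centralise `K(r)` -/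
theorem not_r₁ {r : G} (hr : r ∈ V) (h1 : r ≠ 1) (h2 : r ≠ r₁) : ¬ ∀ t ∈ KK r, t * r₁ = r₁ * t := by
  intro h
  obtain ⟨t, ht, h6⟩ := I.exists_t hr h1
  have h7 := h6 r₁ I.r₁V I.r₁_ne (Ne.symm h2)
  rw [h t ht, mul_inv_cancel_right] at h7
  exact h1 (left_eq_mul.1 h7)

theorem exists_u {r : G} (hr : r ∈ V) (h1 : r ≠ 1) (h2 : r ≠ r₁) : ∃ u ∈ cj w V, u ≠ 1 ∧ u ≠ r₁ ∧
    ∀ t ∈ KK r, t * u = u * t := by
  obtain ⟨t₀, ht₀, h3⟩ := I.exists_t hr h1
  -- some `u₀`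
  obtain ⟨u, hu, hu1, hu2, h4⟩ : ∃ u ∈ cj w V, u ≠ 1 ∧ u ≠ r₁ ∧ t₀ * u = u * t₀ := by
    have hu₀ : w * r * w⁻¹ ∈ cj w V := cj_mem hr
    have hn1 : w * r * w⁻¹ ≠ 1 := fun h => h1 (by rwa [mul_inv_eq_one, mul_eq_left] at h)
    have hn2 : w * r * w⁻¹ ≠ r₁ := fun h => h2 (by rw [← I.w_r] at h; exact mul_left_cancel (mul_right_cancel h))
    rcases KK_cases (I.sq r hr) ht₀ (I.cj_Q hr h1 h2 hu₀) with h | h
    · exact ⟨_, hu₀, hn1, hn2, (mul_inv_eq_iff_eq_mul.1 h).symm⟩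
    · set u₀ := w * r * w⁻¹ with hu
      have h5 := h3 r₁ I.r₁V I.r₁_ne (Ne.symm h2)
      have h6 : t₀ * r₁ = r₁ * r * t₀ := mul_inv_eq_iff_eq_mul.1 h5
      have h7 : u₀ * t₀ = t₀ * r * u₀ := mul_inv_eq_iff_eq_mul.1 h
      have h8 : u₀ * r₁ = r₁ * u₀ := (I.VV' I.r₁V hu₀).symm
      have h9 : u₀ * r = r * u₀ := (I.VV' hr hu₀).symm
      refine ⟨u₀ * r₁, mul_mem hu₀ I.r₁_cj, fun hh => hn2 ?_, fun hh => hn1 (mul_eq_right.1 hh), ?_⟩
      · rw [mul_eq_one_iff_eq_inv, I.inv I.r₁V] at hh; exact hh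
      · have h10 : t₀ * (u₀ * r₁) = r₁ * r * t₀ * u₀ := by rw [h8, ← mul_assoc, h6]
        have h11 : u₀ * r₁ * t₀ = r₁ * (t₀ * r * u₀) := by rw [h8, mul_assoc, h7]
        rw [h10, h11, KK_cen ht₀]; group
  refine ⟨u, hu, hu1, hu2, fun t ht => ?_⟩
  rcases I.K_act hr h1 ht with h5 | h5
  · exact I.K_comm' hr h1 h2 ht h5 hu
  · -- `t₀⁻¹ t` centralises `V`
    have h6 : ∀ v ∈ V, (t₀⁻¹ * t) * v = v * (t₀⁻¹ * t) := by
      intro v hv
      by_cases hv1 : v = 1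
      · rw [hv1]; group
      by_cases hv2 : v = r
      · have h7 : Commute t r := KK_cen ht
        have h8 : Commute t₀ r := KK_cen ht₀
        rw [hv2]
        exact (h8.inv_left.mul_left h7).eq
      · have h7 := h5 v hv hv1 hv2
        have h8 := h3 v hv hv1 hv2
        have h9 : t * v * t⁻¹ = t₀ * v * t₀⁻¹ := by rw [h7, h8]
        calc t₀⁻¹ * t * v = t₀⁻¹ * (t * v * t⁻¹) * t := by group
          _ = t₀⁻¹ * (t₀ * v * t₀⁻¹) * t := by rw [h9]
          _ = _ := by group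
    have h7 : Commute (t₀⁻¹ * t) u := I.K_comm' hr h1 h2 (mul_mem (inv_mem ht₀) ht) h6 hu
    have h8 : Commute t₀ u := h4
    have h9 := h8.mul_left h7
    rw [mul_inv_cancel_left] at h9
    exact h9.eq

theorem unique_u {r : G} (hr : r ∈ V) (h1 : r ≠ 1) (h2 : r ≠ r₁) {u u' : G} (hu : u ∈ cj w V) (hu1 : u ≠ 1)
    (hu2 : u ≠ r₁) (hc : ∀ t ∈ KK r, t * u = u * t) (hu' : u' ∈ cj w V) (hu1' : u' ≠ 1) (hu2' : u' ≠ r₁)
    (hc' : ∀ t ∈ KK r, t * u' = u' * t) : u' = u := by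
  rcases I.cases'' hu hu1 hu2 hu' with h | h | h | h
  · exact absurd h hu1'
  · exact absurd h hu2'
  · exact h
  · exfalso
    refine I.not_r₁ hr h1 h2 fun t ht => ?_
    have h3 : Commute t u := hc t ht
    have h4 : Commute t u' := hc' t ht
    have h5 : r₁ = u⁻¹ * u' := by rw [h]; group
    rw [h5]
    exact (h3.inv_right.mul_right h4).eq

/-! ### (3), the element `k` -/

theorem mul_mem_ne {r : G} (hr : r ∈ V) (h1 : r ≠ 1) (h2 : r ≠ r₁) : r * r₁ ∈ V ∧ r * r₁ ≠ 1 ∧ r * r₁ ≠ r₁ ∧ r * r₁ ≠ r := by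
  refine ⟨mul_mem hr I.r₁V, fun h => h2 ?_, fun h => h1 (mul_eq_right.1 h), fun h => I.r₁_ne (mul_eq_left.1 h)⟩
  rw [mul_eq_one_iff_eq_inv, I.inv I.r₁V] at h; exact h

/-- `K(r₁) ≤ ⟨K(r), K(r r₁)⟩` -/
theorem K_gen {r : G} (hr : r ∈ V) (h1 : r ≠ 1) (h2 : r ≠ r₁) {y : G} (hy : ∀ t ∈ KK r, t * y = y * t)
    (hy' : ∀ t ∈ KK (r * r₁), t * y = y * t) : ∀ t ∈ KK r₁, t * y = y * t := by
  obtain ⟨h3, h4, h5, h6⟩ := I.mul_mem_ne hr h1 h2
  obtain ⟨s, hs, h7⟩ := I.exists_t h3 h4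
  have h8 := h7 r hr h1 (Ne.symm h6)
  rw [← mul_assoc, I.sq r hr, one_mul] at h8
  intro t ht
  have h9 : s⁻¹ * t * s ∈ KK r := by
    have h := KK_conj s⁻¹ ht
    have e : s⁻¹ * r₁ * s⁻¹⁻¹ = r := by rw [← h8]; group
    rwa [e, inv_inv] at h
  have c1 : Commute (s⁻¹ * t * s) y := hy _ h9
  have c2 : Commute s y := hy' s hs
  have c3 := (c2.mul_left c1).mul_left c2.inv_left
  have e : s * (s⁻¹ * t * s) * s⁻¹ = t := by group
  rw [e] at c3
  exact c3.eq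

/-- (3) : `k` -/
theorem exists_k : ∃ r ∈ V, r ≠ 1 ∧ r ≠ r₁ ∧ ∃ k ∈ M, k ≠ 1 ∧ (∀ s ∈ V, s ≠ 1 → ∀ t ∈ KK s, t * k = k * t) ∧
    r * k ∈ cj w V ∧ (w * k * w⁻¹ = k ∨ w * k * w⁻¹ = k * r₁) := by
  obtain ⟨r, hr, h1, h2, -⟩ := I.four
  obtain ⟨h3, h4, h5, h6⟩ := I.mul_mem_ne hr h1 h2
  obtain ⟨u, hu, hu1, hu2, hu3⟩ := I.exists_u hr h1 h2
  obtain ⟨u', hu', hu1', hu2', hu3'⟩ := I.exists_u h3 h4 h5
  -- `u ≠ u'`
  have hne : u' ≠ u := by
    rintro rfl
    have h7 := I.K_gen hr h1 h2 hu3 hu3'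
    obtain ⟨t, ht, h8⟩ := I.exists_t I.r₁V I.r₁_ne
    have h9 : w * t * w⁻¹ ∈ KK r₁ := by
      have := KK_conj w ht
      rwa [I.w_r] at this
    have h10 := h8 (w⁻¹ * u' * w) (mem_cj.1 hu) (fun h => hu1 (by
      have e : u' = w * (w⁻¹ * u' * w) * w⁻¹ := by group
      rw [e, h]; group)) (fun h => hu2 (by
      have e : u' = w * (w⁻¹ * u' * w) * w⁻¹ := by group
      rw [e, h, I.w_r]))
    have h11 : (w * t * w⁻¹) * u' * (w * t * w⁻¹)⁻¹ = u' * r₁ := by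
      calc (w * t * w⁻¹) * u' * (w * t * w⁻¹)⁻¹ = w * (t * (w⁻¹ * u' * w) * t⁻¹) * w⁻¹ := by group
        _ = u' * (w * r₁ * w⁻¹) := by rw [h10]; group
        _ = u' * r₁ := by rw [I.w_r]
    rw [h7 _ h9, mul_inv_cancel_right] at h11
    exact I.r₁_ne (left_eq_mul.1 h11)
  have hu'u : u' = u * r₁ := by
    rcases I.cases'' hu hu1 hu2 hu' with h | h | h | h
    · exact absurd h hu1'
    · exact absurd h hu2'
    · exact absurd h hne
    · exact h
  have hru : r * u = u * r := I.VV' hr hu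
  have hr₁u : r₁ * u = u * r₁ := I.VV' I.r₁V hu
  have hrr₁ : r * r₁ = r₁ * r := I.Vcomm hr I.r₁V
  have hkk : (r * r₁) * u' = r * u := by
    rw [hu'u, ← hr₁u, mul_assoc, ← mul_assoc r₁ r₁, I.sq r₁ I.r₁V, one_mul]
  have hkc : ∀ t ∈ KK r, t * (r * u) = r * u * t := fun t ht => by
    rw [← mul_assoc, KK_cen ht, mul_assoc, hu3 t ht, mul_assoc]
  have hkc' : ∀ t ∈ KK (r * r₁), t * (r * u) = r * u * t := fun t ht => by
    rw [← hkk, ← mul_assoc, KK_cen ht, mul_assoc, hu3' t ht, mul_assoc (r * r₁)]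
  have hkc₁ := I.K_gen hr h1 h2 hkc hkc'
  have hall : ∀ s ∈ V, s ≠ 1 → ∀ t ∈ KK s, t * (r * u) = r * u * t := by
    intro s hs hs1
    rcases I.cases' hr h1 h2 hs with rfl | rfl | rfl | rfl
    · exact absurd rfl hs1
    · exact hkc₁
    · exact hkc
    · exact hkc'
  have hk1 : r * u ≠ 1 := by
    intro h
    rw [mul_eq_one_iff_eq_inv, inv_eq_of_mul_eq_one_left (I.cj_sq hu)] at h
    -- `V' = V`
    subst h
    apply I.w_not
    rw [mem_normalizer_iff]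
    have key : ∀ v, v ∈ cj w V ↔ v ∈ V := by
      intro v
      constructor
      · intro hv
        rcases I.cases'' hu h1 h2 hv with rfl | rfl | rfl | rfl
        exacts [one_mem _, I.r₁V, hr, h3]
      · intro hv
        rcases I.cases' hr h1 h2 hv with rfl | rfl | rfl | rfl
        exacts [one_mem _, I.r₁_cj, hu, mul_mem hu I.r₁_cj]
    intro v
    rw [← key (w * v * w⁻¹), mem_cj]
    have e : w⁻¹ * (w * v * w⁻¹) * w = v := by group
    rw [e]
  have hkT : r * u ∈ T := mul_mem (I.V_T hr) (I.cj_T hu)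
  have hkt : ∀ t ∈ T, t * (r * u) * t⁻¹ = r * u := by
    intro t ht
    have e : t * (r * u) * t⁻¹ = (t * r * t⁻¹) * (t * u * t⁻¹) := by group
    have hne1 : t * u * t⁻¹ ≠ 1 := fun h => hu1 (by rwa [mul_inv_eq_one, mul_eq_left] at h)
    have hne2 : t * u * t⁻¹ ≠ r₁ := fun h => hu2 (by
      rw [mul_inv_eq_iff_eq_mul, ← I.T₁_r t (I.T_T₁ ht)] at h
      exact mul_left_cancel h)
    have hmem : t * u * t⁻¹ ∈ cj w V := by
      rcases I.T_act' ht hu with h | h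
      · rw [h]; exact hu
      · rw [h]; exact mul_mem hu I.r₁_cj
    have hcc : ∀ s, (∀ y ∈ KK s, y * u = u * y) → ∀ y ∈ KK (t * s * t⁻¹), y * (t * u * t⁻¹) = t * u * t⁻¹ * y := by
      intro s hs y hy
      have h9 : t⁻¹ * y * t ∈ KK s := by
        have h := KK_conj t⁻¹ hy
        have e : t⁻¹ * (t * s * t⁻¹) * t⁻¹⁻¹ = s := by group
        rwa [e, inv_inv] at h
      have h10 := hs _ h9
      calc y * (t * u * t⁻¹) = t * (t⁻¹ * y * t * u) * t⁻¹ := by group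
        _ = t * (u * (t⁻¹ * y * t)) * t⁻¹ := by rw [h10]
        _ = _ := by group
    rcases I.T_act ht hr with h | h
    · have h11 := hcc r hu3
      rw [h] at h11
      rw [e, h, I.unique_u hr h1 h2 hu hu1 hu2 hu3 hmem hne1 hne2 h11]
    · have h11 := hcc r hu3
      rw [h] at h11
      rw [e, h, I.unique_u h3 h4 h5 hu' hu1' hu2' hu3' hmem hne1 hne2 h11, hkk]
  have hksq : (r * u) * (r * u) = 1 := by
    calc (r * u) * (r * u) = r * (u * r) * u := by group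
      _ = (r * r) * (u * u) := by rw [← hru]; group
      _ = 1 := by rw [I.sq r hr, I.cj_sq hu, one_mul]
  have hkzc : r * u ∈ zc T := by
    rw [mem_zc]
    exact ⟨hkT, fun t ht => mul_inv_eq_iff_eq_mul.1 (hkt t ht), by rw [pow_two]; exact hksq⟩
  have hkM : r * u ∈ M := by
    rcases I.M_cov _ hkzc with h | h
    · exact h
    · exfalso
      -- `M` centralises `K(r)`
      have hMK : ∀ m ∈ M, ∀ t ∈ KK r, t * m = m * t := by
        intro m hm t ht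
        obtain ⟨e, he, h7, -, -⟩ := I.exists_e hr h1
        have h8 : e⁻¹ * t * e ∈ KK r₁ := by
          have h := KK_conj e⁻¹ ht
          have e' : e⁻¹ * r * e⁻¹⁻¹ = r₁ := by rw [← h7]; group
          rwa [e', inv_inv] at h
        have h9 := (mem_zc.1 (I.M_zc hm)).2.1 _ (I.Q_T (KK_le _ h8))
        have c1 : Commute (e⁻¹ * t * e) m := h9
        have c2 : Commute e m := I.E_M e he m hm
        have c3 := (c2.mul_left c1).mul_left c2.inv_left
        have e3 : e * (e⁻¹ * t * e) * e⁻¹ = t := by group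
        rw [e3] at c3
        exact c3.eq
      refine I.not_r₁ hr h1 h2 fun t ht => ?_
      have c1 : Commute t (r₁ * (r * u)) := hMK _ h t ht
      have c2 : Commute t (r * u) := hkc t ht
      have e : r₁ = r₁ * (r * u) * (r * u)⁻¹ := by group
      rw [e]
      exact (c1.mul_right c2.inv_right).eq
  refine ⟨r, hr, h1, h2, r * u, hkM, hk1, hall, ?_, ?_⟩
  · rw [← mul_assoc, I.sq r hr, one_mul]; exact hu
  · -- `w k w⁻¹`
    have ha : w * r * w⁻¹ = u ∨ w * r * w⁻¹ = u * r₁ := by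
      have hn1 : w * r * w⁻¹ ≠ 1 := fun h => h1 (by rwa [mul_inv_eq_one, mul_eq_left] at h)
      have hn2 : w * r * w⁻¹ ≠ r₁ := fun h => h2 (by rw [← I.w_r] at h; exact mul_left_cancel (mul_right_cancel h))
      rcases I.cases'' hu hu1 hu2 (cj_mem hr) with h | h | h | h
      · exact absurd h hn1
      · exact absurd h hn2
      · exact Or.inl h
      · exact Or.inr h
    have hb : w * u * w⁻¹ = r ∨ w * u * w⁻¹ = r * r₁ := by
      have e : w * u * w⁻¹ = (w * w) * (w⁻¹ * u * w) * (w * w)⁻¹ := by group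
      have h7 : w * u * w⁻¹ ∈ V := by
        rw [e]
        exact conj_mem_of_normalizer (I.T_V I.w_sq) (mem_cj.1 hu)
      have hn1 : w * u * w⁻¹ ≠ 1 := fun h => hu1 (by rwa [mul_inv_eq_one, mul_eq_left] at h)
      have hn2 : w * u * w⁻¹ ≠ r₁ := fun h => hu2 (by rw [← I.w_r] at h; exact mul_left_cancel (mul_right_cancel h))
      rcases I.cases' hr h1 h2 h7 with h | h | h | h
      · exact absurd h hn1
      · exact absurd h hn2
      · exact Or.inl h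
      · exact Or.inr h
    have e : w * (r * u) * w⁻¹ = (w * r * w⁻¹) * (w * u * w⁻¹) := by group
    rcases ha with ha | ha <;> rcases hb with hb | hb
    · left; rw [e, ha, hb, hru]
    · right; rw [e, ha, hb, ← mul_assoc, hru]
    · right; rw [e, ha, hb, mul_assoc u, ← hrr₁, ← mul_assoc, hru]
    · left
      rw [e, ha, hb, mul_assoc u, ← mul_assoc r₁, ← hrr₁, mul_assoc r, I.sq r₁ I.r₁V, mul_one, hru]

/-! ### (4) -/

/-- `k ∉ V` -/
theorem k_not {k : G} (hk1 : k ≠ 1) (hK : ∀ s ∈ V, s ≠ 1 → ∀ t ∈ KK s, t * k = k * t) : k ∉ V := by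
  intro h
  obtain ⟨r, hr, h1, h2⟩ := I.four' h hk1
  obtain ⟨t, ht, h3⟩ := I.exists_t hr h1
  have h4 := h3 k h hk1 (Ne.symm h2.1)
  rw [hK r hr h1 t ht, mul_inv_cancel_right] at h4
  exact h1 (left_eq_mul.1 h4)

/-- (4a) -/
theorem not_a {r : G} (hr : r ∈ V) (h1 : r ≠ 1) {k : G} (hkM : k ∈ M) (hk1 : k ≠ 1)
    (hK : ∀ s ∈ V, s ≠ 1 → ∀ t ∈ KK s, t * k = k * t) (hrk : r * k ∈ cj w V) (hw : w * k * w⁻¹ = k) : False := by
  have : Fact (Nat.Prime 2) := ⟨Nat.prime_two⟩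
  have hkV := I.k_not hk1 hK
  have hk2 : k * k = 1 := by rw [← pow_two]; exact (mem_zc.1 (I.M_zc hkM)).2.2
  have hT₁k : (T₁ : Subgroup G) ≤ centralizer ({k} : Set G) := fun t ht => mem_cs.2 (I.x_T₁ hkM hw ht)
  have hT₁r : ∀ t ∈ (T₁ : Subgroup G), t * (r₁ * k) = r₁ * k * t := fun t ht => by
    rw [← mul_assoc, I.T₁_r t ht, mul_assoc, mem_cs.1 (hT₁k ht), mul_assoc]
  -- `g`
  have hne : w⁻¹ * (r * k) * w ≠ 1 := by
    intro h
    have h2 : r * k = 1 := by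
      calc r * k = w * (w⁻¹ * (r * k) * w) * w⁻¹ := by group
        _ = 1 := by rw [h]; group
    apply hkV
    rw [(mul_eq_one_iff_inv_eq.1 h2).symm]
    exact inv_mem hr
  obtain ⟨e, he, h2⟩ := I.E_tr _ (mem_cj.1 hrk) hne
  obtain ⟨f, hf, h3⟩ := I.E_tr r hr h1
  have hek : e * k = k * e := I.E_M e he k hkM
  have hfk : f * k = k * f := I.E_M f hf k hkM
  have hwk : w * k = k * w := mul_inv_eq_iff_eq_mul.1 hw
  have hgk : Commute (f⁻¹ * (w * e * w⁻¹)) k := by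
    have c1 : Commute f k := hfk
    have c2 : Commute e k := hek
    have c3 : Commute w k := hwk
    exact c1.inv_left.mul_left ((c3.mul_left c2).mul_left c3.inv_left)
  have hg : (f⁻¹ * (w * e * w⁻¹)) * r₁ * (f⁻¹ * (w * e * w⁻¹))⁻¹ = r₁ * k := by
    calc (f⁻¹ * (w * e * w⁻¹)) * r₁ * (f⁻¹ * (w * e * w⁻¹))⁻¹
        = f⁻¹ * (w * (e * (w⁻¹ * r₁ * w) * e⁻¹) * w⁻¹) * f := by group
      _ = f⁻¹ * (r * k) * f := by rw [I.w_r', h2]; group
      _ = f⁻¹ * (f * r₁ * f⁻¹ * k) * f := by rw [h3]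
      _ = r₁ * (f⁻¹ * (k * f)) := by group
      _ = r₁ * k := by rw [← hfk]; group
  set g := f⁻¹ * (w * e * w⁻¹) with hgdef
  let C := centralizer ({k} : Set G)
  let P : Sylow 2 C := T₁.subtype hT₁k
  have hPmem : ∀ y : C, y ∈ (P : Subgroup C) ↔ (y : G) ∈ (T₁ : Subgroup G) := fun y => Iff.rfl
  have hr₁C : r₁ * k = k * r₁ := (I.x_T₁ hkM hw (I.T_T₁ (I.V_T I.r₁V)))
  obtain ⟨n, hn, h4⟩ := P.conj_eq_normalizer_conj_of_mem_centralizer (⟨r₁, mem_cs.2 hr₁C⟩ : C)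
    (⟨g, mem_cs.2 hgk.eq⟩ : C)⁻¹ (by
      rw [mem_centralizer_iff]
      intro y hy
      exact Subtype.ext (I.T₁_r _ hy)) (by
      rw [mem_centralizer_iff]
      intro y hy
      apply Subtype.ext
      have e1 : ((((⟨g, mem_cs.2 hgk.eq⟩ : C)⁻¹)⁻¹ * (⟨r₁, mem_cs.2 hr₁C⟩ : C) * (⟨g, mem_cs.2 hgk.eq⟩ : C)⁻¹ : C) : G) =
        g * r₁ * g⁻¹ := by simp
      change (y : G) * (((((⟨g, mem_cs.2 hgk.eq⟩ : C)⁻¹)⁻¹ * (⟨r₁, mem_cs.2 hr₁C⟩ : C) * (⟨g, mem_cs.2 hgk.eq⟩ : C)⁻¹ : C) : G)) =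
        (((((⟨g, mem_cs.2 hgk.eq⟩ : C)⁻¹)⁻¹ * (⟨r₁, mem_cs.2 hr₁C⟩ : C) * (⟨g, mem_cs.2 hgk.eq⟩ : C)⁻¹ : C) : G)) * (y : G)
      rw [e1, hg]
      exact hT₁r _ hy)
  have h5 : g * r₁ * g⁻¹ = (n : G)⁻¹ * r₁ * n := by
    have := congrArg Subtype.val h4
    simpa using this
  rw [hg] at h5
  -- `m := n⁻¹` swaps `r₁` and `r₁ k`
  have hnk : (n : G) * k = k * n := mem_cs.1 n.2
  have h6 : ∀ j : ℕ, Odd j → (n : G) ^ j * r₁ * ((n : G) ^ j)⁻¹ = r₁ * k := by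
    have ha : (n : G) * (r₁ * k) * (n : G)⁻¹ = r₁ := by rw [h5]; group
    have hb : (n : G) * r₁ * (n : G)⁻¹ = r₁ * k := by
      have hc : (n : G) * r₁ * (n : G)⁻¹ * k = r₁ := by
        calc (n : G) * r₁ * (n : G)⁻¹ * k = (n : G) * r₁ * ((n : G)⁻¹ * (k * n)) * (n : G)⁻¹ := by group
          _ = (n : G) * (r₁ * k) * (n : G)⁻¹ := by rw [← hnk]; group
          _ = r₁ := ha
      calc (n : G) * r₁ * (n : G)⁻¹ = (n : G) * r₁ * (n : G)⁻¹ * k * k := by rw [mul_assoc _ k k, hk2, mul_one]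
        _ = r₁ * k := by rw [hc]
    have hc : ∀ i : ℕ, ((n : G) ^ 2) ^ i * r₁ * (((n : G) ^ 2) ^ i)⁻¹ = r₁ := by
      intro i
      induction i with
      | zero => simp
      | succ i ih =>
        calc ((n : G) ^ 2) ^ (i + 1) * r₁ * (((n : G) ^ 2) ^ (i + 1))⁻¹
            = ((n : G) ^ 2) ^ i * ((n : G) * ((n : G) * r₁ * (n : G)⁻¹) * (n : G)⁻¹) * (((n : G) ^ 2) ^ i)⁻¹ := by
              rw [pow_succ]; group
          _ = r₁ := by rw [hb, ha, ih]
    rintro j ⟨i, rfl⟩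
    calc (n : G) ^ (2 * i + 1) * r₁ * ((n : G) ^ (2 * i + 1))⁻¹
        = (n : G) * (((n : G) ^ 2) ^ i * r₁ * (((n : G) ^ 2) ^ i)⁻¹) * (n : G)⁻¹ := by
          rw [← pow_mul, pow_succ']; group
      _ = r₁ * k := by rw [hc, hb]
  -- the odd part
  obtain ⟨a, m, hm, hnm⟩ := Nat.exists_eq_two_pow_mul_odd (n := orderOf n) (orderOf_pos n).ne'
  have h7 : IsPGroup 2 (zpowers (n ^ m)) := by
    refine IsPGroup.of_card (n := a) ?_
    rw [Nat.card_zpowers, orderOf_pow_of_dvd hm.pos.ne' (hnm ▸ Dvd.intro_left _ rfl), hnm,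
      Nat.mul_div_cancel _ hm.pos]
  have h8 : n ^ m ∈ normalizer ((P : Subgroup C) : Set C) := pow_mem hn m
  have h9 : IsPGroup 2 ((P : Subgroup C) ⊔ zpowers (n ^ m) : Subgroup C) :=
    IsPGroup.to_sup_of_normal_left' P.2 h7 (by rwa [zpowers_le])
  have h10 : (P : Subgroup C) ⊔ zpowers (n ^ m) = P := P.3 h9 le_sup_left
  have h11 : n ^ m ∈ (P : Subgroup C) := by
    rw [← h10]; exact mem_sup_right (mem_zpowers _)
  have h12 : (n : G) ^ m ∈ (T₁ : Subgroup G) := by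
    have := (hPmem _).1 h11
    simpa using this
  have h13 := h6 m hm
  rw [I.T₁_r _ h12, mul_inv_cancel_right] at h13
  exact hk1 (left_eq_mul.1 h13)

/-! ### (4b) -/

/-- `F = V ⟨k⟩` -/
def FF {k : G} (h2 : k * k = 1) (hc : ∀ v ∈ V, k * v = v * k) : Subgroup G where
  carrier := {f | f ∈ V ∨ f * k ∈ V}
  one_mem' := Or.inl (one_mem _)
  mul_mem' := by
    rintro a b (ha | ha) (hb | hb)
    · exact Or.inl (mul_mem ha hb)
    · exact Or.inr (by rw [mul_assoc]; exact mul_mem ha hb)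
    · right
      rw [mul_assoc, ← hc b hb, ← mul_assoc]; exact mul_mem ha hb
    · left
      have e : a * b = (a * k) * (b * k) := by
        have h1 : b = (b * k) * k := by rw [mul_assoc, h2, mul_one]
        calc a * b = a * ((b * k) * k) := by rw [← h1]
          _ = a * (k * (b * k)) := by rw [hc _ hb]
          _ = _ := by group
      rw [e]; exact mul_mem ha hb
  inv_mem' := by
    rintro a (ha | ha)
    · exact Or.inl (inv_mem ha)
    · right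
      have hk : k⁻¹ = k := inv_eq_of_mul_eq_one_left h2
      have e : a⁻¹ * k = (a * k)⁻¹ := by
        have h1 := hc _ ha
        have h3 : a = k * (a * k) := by rw [h1, mul_assoc, h2, mul_one]
        calc a⁻¹ * k = (k * (a * k))⁻¹ * k := by rw [← h3]
          _ = (a * k)⁻¹ * (k⁻¹ * k) := by group
          _ = _ := by rw [inv_mul_cancel, mul_one]
      rw [e]; exact inv_mem ha

/-- (4b) -/
theorem not_b {r : G} (hr : r ∈ V) (h1 : r ≠ 1) (h2 : r ≠ r₁) {k : G} (hkM : k ∈ M) (hk1 : k ≠ 1)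
    (hK : ∀ s ∈ V, s ≠ 1 → ∀ t ∈ KK s, t * k = k * t) (hrk : r * k ∈ cj w V) (hw : w * k * w⁻¹ = k * r₁) : False := by
  have : Fact (Nat.Prime 2) := ⟨Nat.prime_two⟩
  have hkV := I.k_not hk1 hK
  have hk2 : k * k = 1 := by rw [← pow_two]; exact (mem_zc.1 (I.M_zc hkM)).2.2
  have hkT : ∀ t ∈ T, t * k = k * t := (mem_zc.1 (I.M_zc hkM)).2.1
  have hkv : ∀ v ∈ V, k * v = v * k := fun v hv => (hkT v (I.V_T hv)).symm
  obtain ⟨F, hF⟩ : ∃ F : Subgroup G, ∀ f, f ∈ F ↔ f ∈ V ∨ f * k ∈ V := ⟨FF hk2 hkv, fun f => Iff.rfl⟩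
  have hVF : ∀ v ∈ V, v ∈ F := fun v hv => (hF v).2 (Or.inl hv)
  have hkF : k ∈ F := (hF k).2 (Or.inr (by rw [hk2]; exact one_mem _))
  obtain ⟨h3, h4, h5, h6⟩ := I.mul_mem_ne hr h1 h2
  have hrk1 : r * k ≠ 1 := by
    intro h
    apply hkV
    rw [(mul_eq_one_iff_inv_eq.1 h).symm]
    exact inv_mem hr
  have hrk2 : r * k ≠ r₁ := by
    intro h
    apply hkV
    have : k = r⁻¹ * r₁ := by rw [← h]; group
    rw [this]
    exact mul_mem (inv_mem hr) I.r₁V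
  -- `V' ≤ F`
  have hV'F : ∀ u ∈ cj w V, u ∈ F := by
    intro u hu
    rcases I.cases'' hrk hrk1 hrk2 hu with rfl | rfl | rfl | rfl
    exacts [one_mem _, hVF _ I.r₁V, mul_mem (hVF _ hr) hkF, mul_mem (mul_mem (hVF _ hr) hkF) (hVF _ I.r₁V)]
  -- the normaliser of `F`
  have hN : ∀ g : G, (∀ v ∈ V, g * v * g⁻¹ ∈ F) → g * k * g⁻¹ ∈ F → g ∈ normalizer (F : Set G) := by
    intro g hg hgk
    refine Cfsg.Agent.MinSimple.VModule.mem_normalizer_of_map_le ?_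
    rintro _ ⟨f, hf, rfl⟩
    change g * f * g⁻¹ ∈ F
    rcases (hF f).1 hf with h | h
    · exact hg f h
    · have e : g * f * g⁻¹ = (g * (f * k) * g⁻¹) * (g * k * g⁻¹) := by
        calc g * f * g⁻¹ = g * (f * (k * k)) * g⁻¹ := by rw [hk2, mul_one]
          _ = _ := by group
      rw [e]; exact mul_mem (hg _ h) hgk
  have hKN : ∀ s ∈ V, s ≠ 1 → ∀ t ∈ KK s, t ∈ normalizer (F : Set G) := by
    intro s hs hs1 t ht
    refine hN t (fun v hv => hVF _ (conj_mem_of_normalizer (I.K_nV hs hs1 ht) hv)) ?_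
    rw [hK s hs hs1 t ht, mul_inv_cancel_right]; exact hkF
  have hwN : w ∈ normalizer (F : Set G) :=
    hN w (fun v hv => hV'F _ (cj_mem hv)) (by rw [hw]; exact mul_mem hkF (hVF _ I.r₁V))
  have hTN : ∀ t ∈ T, t ∈ normalizer (F : Set G) := fun t ht =>
    hN t (fun v hv => hVF _ (conj_mem_of_normalizer (I.T_V ht) hv)) (by
      rw [hkT t ht, mul_inv_cancel_right]; exact hkF)
  have hT₁N : (T₁ : Subgroup G) ≤ normalizer (F : Set G) := by
    intro t ht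
    rcases I.cov t ht with h | h
    · exact hTN t h
    · have h7 := mul_mem (hTN _ h) (inv_mem hwN)
      rwa [mul_inv_cancel_right] at h7
  -- `a : r₁ ↦ r₁ r`
  obtain ⟨a, ha, ha'⟩ := I.exists_t hr h1
  have ha₁ := ha' r₁ I.r₁V I.r₁_ne (Ne.symm h2)
  -- `s`, `c`, `b`
  obtain ⟨s, hs⟩ : ∃ s, s = w⁻¹ * (r * k) * w := ⟨_, rfl⟩
  have hsV : s ∈ V := by rw [hs]; exact mem_cj.1 hrk
  have es : r * k = w * s * w⁻¹ := by rw [hs]; group
  have hs1 : s ≠ 1 := fun h => hrk1 (by rw [es, h]; group)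
  have hs2 : s ≠ r₁ := fun h => hrk2 (by rw [es, h, I.w_r])
  obtain ⟨h7, h8, h9, h10⟩ := I.mul_mem_ne hsV hs1 hs2
  obtain ⟨c, hc, hc'⟩ := I.exists_t h7 h8
  have hcs : c * s * c⁻¹ = r₁ := by
    rw [hc' s hsV hs1 (Ne.symm h10), ← mul_assoc, I.sq s hsV, one_mul]
  have hck : c * k = k * c := hK _ h7 h8 c hc
  have hb : (w * c * w⁻¹) * (r₁ * r) * (w * c * w⁻¹)⁻¹ = k := by
    have e1 : r₁ * r = w * (s * k) * w⁻¹ := by
      have e2 : w * (s * k) * w⁻¹ = (w * s * w⁻¹) * (w * k * w⁻¹) := by group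
      rw [e2, ← es, hw, mul_assoc, ← mul_assoc k k, hk2, one_mul]
      exact I.Vcomm I.r₁V hr
    have e3 : c * (s * k) * c⁻¹ = r₁ * k := by
      calc c * (s * k) * c⁻¹ = (c * s * c⁻¹) * (c * k * c⁻¹) := by group
        _ = _ := by rw [hcs, hck, mul_inv_cancel_right]
    calc (w * c * w⁻¹) * (r₁ * r) * (w * c * w⁻¹)⁻¹ = w * (c * (w⁻¹ * (r₁ * r) * w) * c⁻¹) * w⁻¹ := by group
      _ = w * (c * (s * k) * c⁻¹) * w⁻¹ := by rw [e1]; group
      _ = (w * r₁ * w⁻¹) * (w * k * w⁻¹) := by rw [e3]; group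
      _ = r₁ * (k * r₁) := by rw [I.w_r, hw]
      _ = k := by rw [hkv r₁ I.r₁V, ← mul_assoc, I.sq r₁ I.r₁V, one_mul]
  have hn : ((w * c * w⁻¹) * a) * r₁ * ((w * c * w⁻¹) * a)⁻¹ = k := by
    rw [← hb, ← ha₁]; group
  have hnN : (w * c * w⁻¹) * a ∈ normalizer (F : Set G) :=
    mul_mem (mul_mem (mul_mem hwN (hKN _ h7 h8 c hc)) (inv_mem hwN)) (hKN r hr h1 a ha)
  obtain ⟨n, hnd⟩ : ∃ n, n = (w * c * w⁻¹) * a := ⟨_, rfl⟩
  rw [← hnd] at hn hnN
  -- `t₀`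
  obtain ⟨t, ht, ht'⟩ := I.exists_t I.r₁V I.r₁_ne
  have htk : t * k = k * t := hK _ I.r₁V I.r₁_ne t ht
  have htV : ∀ v ∈ V, t * v * t⁻¹ = v ∨ t * v * t⁻¹ = v * r₁ := fun v hv => I.comm _ (KK_le _ ht) v hv
  have htF : ∀ f ∈ F, t * f * t⁻¹ = f ∨ t * f * t⁻¹ = f * r₁ := by
    intro f hf
    rcases (hF f).1 hf with h | h
    · exact htV f h
    · have e : t * f * t⁻¹ = (t * (f * k) * t⁻¹) * k := by
        calc t * f * t⁻¹ = t * (f * (k * k)) * t⁻¹ := by rw [hk2, mul_one]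
          _ = (t * (f * k) * t⁻¹) * (t * k * t⁻¹) := by group
          _ = _ := by rw [htk, mul_inv_cancel_right]
      rcases htV _ h with h11 | h11
      · left; rw [e, h11, mul_assoc, hk2, mul_one]
      · right
        rw [e, h11, mul_assoc, ← hkv r₁ I.r₁V, ← mul_assoc, mul_assoc f k k, hk2, mul_one]
  -- `u = n t n⁻¹`
  obtain ⟨u, hu⟩ : ∃ u, u = n * t * n⁻¹ := ⟨_, rfl⟩
  have huN : u ∈ normalizer (F : Set G) := by
    rw [hu]; exact mul_mem (mul_mem hnN (hKN _ I.r₁V I.r₁_ne t ht)) (inv_mem hnN)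
  have huF : ∀ f ∈ F, u * f * u⁻¹ = f ∨ u * f * u⁻¹ = f * k := by
    intro f hf
    have h11 := conj_mem_of_normalizer' hnN hf
    have e : u * f * u⁻¹ = n * (t * (n⁻¹ * f * n) * t⁻¹) * n⁻¹ := by rw [hu]; group
    rcases htF _ h11 with h12 | h12
    · left; rw [e, h12]; group
    · right; rw [e, h12]
      calc n * (n⁻¹ * f * n * r₁) * n⁻¹ = f * (n * r₁ * n⁻¹) := by group
        _ = _ := by rw [hn]
  have huk : u * k = k * u := by
    rcases huF k hkF with h | h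
    · exact mul_inv_eq_iff_eq_mul.1 h
    · exfalso
      rw [hk2, mul_inv_eq_one, mul_eq_left] at h
      exact hk1 h
  -- `u` moves some `v ∈ V`
  have humove : ∃ v ∈ V, u * v * u⁻¹ = v * k := by
    by_contra hne
    push Not at hne
    have h11 : ∀ f ∈ F, u * f * u⁻¹ = f := by
      intro f hf
      rcases (hF f).1 hf with h | h
      · exact (huF f hf).resolve_right (hne f h)
      · have h12 := (huF _ (hVF _ h)).resolve_right (hne _ h)
        calc u * f * u⁻¹ = u * (f * (k * k)) * u⁻¹ := by rw [hk2, mul_one]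
          _ = (u * (f * k) * u⁻¹) * (u * k * u⁻¹) := by group
          _ = f := by rw [h12, huk, mul_inv_cancel_right, mul_assoc, hk2, mul_one]
    have h12 := h11 _ (conj_mem_of_normalizer hnN (hVF r hr))
    have h13 : t * r * t⁻¹ = r := by
      calc t * r * t⁻¹ = n⁻¹ * (u * (n * r * n⁻¹) * u⁻¹) * n := by rw [hu]; group
        _ = r := by rw [h12]; group
    rw [ht' r hr h1 h2] at h13
    exact I.r₁_ne (mul_eq_left.1 h13)
  -- `u` fixes exactly one `q ∈ V#`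
  obtain ⟨q, hq, hq1, hqu⟩ : ∃ q ∈ V, q ≠ 1 ∧ u * q * u⁻¹ = q := by
    rcases huF r₁ (hVF _ I.r₁V) with h | h
    · exact ⟨r₁, I.r₁V, I.r₁_ne, h⟩
    rcases huF r (hVF _ hr) with h' | h'
    · exact ⟨r, hr, h1, h'⟩
    · refine ⟨r * r₁, h3, h4, ?_⟩
      have e : u * (r * r₁) * u⁻¹ = (u * r * u⁻¹) * (u * r₁ * u⁻¹) := by group
      rw [e, h, h', mul_assoc, ← mul_assoc k, hkv r₁ I.r₁V, mul_assoc r₁, hk2, mul_one]
  -- `x` with `x q x⁻¹ = r₁`
  obtain ⟨x, hxN, hxV, hxk, hxq⟩ : ∃ x, x ∈ normalizer (F : Set G) ∧ x ∈ normalizer (V : Set G) ∧ x * k = k * x ∧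
      x * q * x⁻¹ = r₁ := by
    by_cases hqr : q = r₁
    · exact ⟨1, one_mem _, one_mem _, by rw [one_mul, mul_one], by rw [hqr]; group⟩
    · obtain ⟨h11, h12, h13, h14⟩ := I.mul_mem_ne hq hq1 hqr
      obtain ⟨y, hy, hy'⟩ := I.exists_t h11 h12
      refine ⟨y, hKN _ h11 h12 y hy, I.K_nV h11 h12 hy, hK _ h11 h12 y hy, ?_⟩
      rw [hy' q hq hq1 (Ne.symm h14), ← mul_assoc, I.sq q hq, one_mul]
  obtain ⟨z, hz⟩ : ∃ z, z = x * u * x⁻¹ := ⟨_, rfl⟩
  have hzN : z ∈ normalizer (F : Set G) := by rw [hz]; exact mul_mem (mul_mem hxN huN) (inv_mem hxN)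
  have hzF : ∀ f ∈ F, z * f * z⁻¹ = f ∨ z * f * z⁻¹ = f * k := by
    intro f hf
    have h11 := conj_mem_of_normalizer' hxN hf
    have e : z * f * z⁻¹ = x * (u * (x⁻¹ * f * x) * u⁻¹) * x⁻¹ := by rw [hz]; group
    rcases huF _ h11 with h12 | h12
    · left; rw [e, h12]; group
    · right; rw [e, h12]
      calc x * (x⁻¹ * f * x * k) * x⁻¹ = f * (x * k * x⁻¹) := by group
        _ = _ := by rw [hxk, mul_inv_cancel_right]
  have hzk : z * k = k * z := by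
    have c1 : Commute x k := hxk
    have c2 : Commute u k := huk
    rw [hz]
    exact ((c1.mul_left c2).mul_left c1.inv_left).eq
  have hzr₁ : z * r₁ = r₁ * z := by
    have h11 : z * r₁ * z⁻¹ = r₁ := by
      calc z * r₁ * z⁻¹ = z * (x * q * x⁻¹) * z⁻¹ := by rw [hxq]
        _ = x * (u * q * u⁻¹) * x⁻¹ := by rw [hz]; group
        _ = r₁ := by rw [hqu, hxq]
    exact mul_inv_eq_iff_eq_mul.1 h11
  have hzr : z * r * z⁻¹ = r * k := by
    rcases hzF r (hVF _ hr) with h | h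
    · exfalso
      obtain ⟨v, hv, hv'⟩ := humove
      have hall : ∀ v ∈ V, z * v * z⁻¹ = v := by
        intro v hv
        have hzr' : Commute z r := mul_inv_eq_iff_eq_mul.1 h
        have hzr₁' : Commute z r₁ := hzr₁
        have : Commute z v := by
          rcases I.cases' hr h1 h2 hv with rfl | rfl | rfl | rfl
          exacts [Commute.one_right _, hzr₁', hzr', hzr'.mul_right hzr₁']
        rw [this.eq, mul_inv_cancel_right]
      have h11 := hall _ (conj_mem_of_normalizer hxV hv)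
      have h12 : u * v * u⁻¹ = v := by
        calc u * v * u⁻¹ = x⁻¹ * (z * (x * v * x⁻¹) * z⁻¹) * x := by rw [hz]; group
          _ = v := by rw [h11]; group
      rw [hv'] at h12
      exact hk1 (mul_eq_left.1 h12)
    · exact h
  -- `M₀`
  let M₀ : Subgroup G := normalizer (F : Set G) ⊓ (centralizer ({r₁} : Set G) ⊓ centralizer ({k} : Set G))
  have hM₀ : ∀ y ∈ M₀, ∃ d, y * r * y⁻¹ = r * d ∧ d * d = 1 ∧ ∀ y' ∈ M₀, y' * d = d * y' := by
    rintro y ⟨hy1, hy2, hy3⟩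
    have h11 : y * r * y⁻¹ ∈ F := conj_mem_of_normalizer hy1 (hVF _ hr)
    have hyr₁ := mem_cs.1 hy2
    have hyk := mem_cs.1 hy3
    have key : ∀ f ∈ F, f = 1 ∨ f = r₁ ∨ f = k ∨ f = r₁ * k ∨ ∃ d, f = r * d ∧ d * d = 1 ∧ ∀ y' ∈ M₀, y' * d = d * y' := by
      have hd : ∀ d, (d = 1 ∨ d = r₁ ∨ d = k ∨ d = r₁ * k) → d * d = 1 ∧ ∀ y' ∈ M₀, y' * d = d * y' := by
        have c2 : Commute r₁ k := (hkv r₁ I.r₁V).symm
        rintro d (rfl | rfl | rfl | rfl)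
        · exact ⟨one_mul 1, fun y' _ => by rw [mul_one, one_mul]⟩
        · exact ⟨I.sq _ I.r₁V, fun y' hy' => mem_cs.1 hy'.2.1⟩
        · exact ⟨hk2, fun y' hy' => mem_cs.1 hy'.2.2⟩
        · refine ⟨?_, fun y' hy' => ?_⟩
          · calc r₁ * k * (r₁ * k) = r₁ * (k * r₁) * k := by group
              _ = (r₁ * r₁) * (k * k) := by rw [hkv r₁ I.r₁V]; group
              _ = 1 := by rw [I.sq r₁ I.r₁V, hk2, one_mul]
          · have c3 : Commute y' r₁ := mem_cs.1 hy'.2.1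
            have c4 : Commute y' k := mem_cs.1 hy'.2.2
            exact (c3.mul_right c4).eq
      intro f hf
      rcases (hF f).1 hf with h | h
      · rcases I.cases' hr h1 h2 h with rfl | rfl | rfl | rfl
        · left; rfl
        · right; left; rfl
        · right; right; right; right; exact ⟨1, (mul_one _).symm, hd 1 (Or.inl rfl)⟩
        · right; right; right; right; exact ⟨r₁, rfl, hd _ (Or.inr (Or.inl rfl))⟩
      · have e : f = (f * k) * k := by rw [mul_assoc, hk2, mul_one]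
        rcases I.cases' hr h1 h2 h with h | h | h | h
        · right; right; left; rw [e, h, one_mul]
        · right; right; right; left; rw [e, h]
        · right; right; right; right; exact ⟨k, by rw [e, h], hd _ (Or.inr (Or.inr (Or.inl rfl)))⟩
        · right; right; right; right
          exact ⟨r₁ * k, by rw [e, h, mul_assoc], hd _ (Or.inr (Or.inr (Or.inr rfl)))⟩
    have hback : ∀ d, y * d = d * y → y * r * y⁻¹ = d → r = d := by
      intro d hd h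
      have h12 : y * r = y * d := by rw [hd]; exact mul_inv_eq_iff_eq_mul.1 h
      exact mul_left_cancel h12
    rcases key _ h11 with h | h | h | h | h
    · exact absurd (hback 1 (by rw [mul_one, one_mul]) h) h1
    · exact absurd (hback _ hyr₁ h) h2
    · exact absurd (hback _ hyk h) fun hh => hkV (hh ▸ hr)
    · exfalso
      have c3 : Commute y r₁ := hyr₁
      have c4 : Commute y k := hyk
      have h12 := hback _ (c3.mul_right c4).eq h
      apply hkV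
      have : k = r₁⁻¹ * r := by rw [h12]; group
      rw [this]; exact mul_mem (inv_mem I.r₁V) hr
    · exact h
  have hTM₀ : T ≤ M₀ := fun y hy => ⟨hTN y hy, mem_cs.2 (I.T₁_r y (I.T_T₁ hy)), mem_cs.2 (hkT y hy)⟩
  have hzM₀ : z ∈ M₀ := ⟨hzN, mem_cs.2 hzr₁, mem_cs.2 hzk⟩
  -- a Sylow 2-subgroup `P` of `M₀` over `T`
  have hTp : IsPGroup 2 (T.subgroupOf M₀) :=
    (T₁.2.to_le I.T_T₁).comap_of_injective _ M₀.subtype_injective
  obtain ⟨P, hP⟩ := hTp.exists_le_sylow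
  -- `z` is a 2-element
  have hzp : IsPGroup 2 (zpowers (⟨z, hzM₀⟩ : M₀)) := by
    have h11 : IsPGroup 2 (zpowers t) := (o2_isPGroup (centralizer ({r₁} : Set G))).to_le (by
      rw [zpowers_le]; exact KK_le _ ht)
    obtain ⟨j, hj⟩ := h11 ⟨t, mem_zpowers t⟩
    have hj' : t ^ 2 ^ j = 1 := by simpa using congrArg Subtype.val hj
    have hzj : z ^ 2 ^ j = 1 := by
      have e : z = (x * n) * t * (x * n)⁻¹ := by rw [hz, hu]; group
      rw [e, conj_pow, hj', mul_one, mul_inv_cancel]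
    have h12 : (⟨z, hzM₀⟩ : M₀) ^ 2 ^ j = 1 := Subtype.ext (by simpa using hzj)
    obtain ⟨i, -, hi⟩ := (Nat.dvd_prime_pow Nat.prime_two).1 (orderOf_dvd_of_pow_eq_one h12)
    exact IsPGroup.of_card (n := i) (by rw [Nat.card_zpowers, hi])
  obtain ⟨P', hP'⟩ := hzp.exists_le_sylow
  obtain ⟨g, hg⟩ := MulAction.exists_smul_eq M₀ P' P
  have hgz : g * (⟨z, hzM₀⟩ : M₀) * g⁻¹ ∈ (P : Subgroup M₀) := by
    rw [← hg]
    have h11 : (⟨z, hzM₀⟩ : M₀) ∈ (P' : Subgroup M₀) := hP' (mem_zpowers _)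
    exact ⟨_, h11, rfl⟩
  -- it is not in `T`
  have hgz' : (g : G) * z * (g : G)⁻¹ ∉ T := by
    intro h
    obtain ⟨d, hd, -, hd'⟩ := hM₀ _ (inv_mem g.2)
    have h11 : (g : G) * r * (g : G)⁻¹ = r * d := by
      -- `g⁻¹ r g = r d`
      have h12 : (g : G) * (r * d) * (g : G)⁻¹ = r := by rw [← hd]; group
      have h13 : (g : G) * d * (g : G)⁻¹ = d := by rw [hd' _ g.2, mul_inv_cancel_right]
      have h14 : (g : G) * (r * d) * (g : G)⁻¹ = ((g : G) * r * (g : G)⁻¹) * d := by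
        calc (g : G) * (r * d) * (g : G)⁻¹ = ((g : G) * r * (g : G)⁻¹) * ((g : G) * d * (g : G)⁻¹) := by group
          _ = _ := by rw [h13]
      rw [h14] at h12
      obtain ⟨d', hd'', hd2, hd3⟩ := hM₀ _ g.2
      rw [hd''] at h12 ⊢
      have h15 : d' * d = 1 := by
        rw [mul_assoc, mul_eq_left] at h12; exact h12
      have h16 : d = d' := by
        calc d = d' * (d' * d) := by rw [← mul_assoc, hd2, one_mul]
          _ = d' := by rw [h15, mul_one]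
      rw [h16]
    -- so `g z g⁻¹ : r ↦ r k`
    have h12 : ((g : G) * z * (g : G)⁻¹) * r * ((g : G) * z * (g : G)⁻¹)⁻¹ = r * k := by
      have h13 : z * d = d * z := hd' z hzM₀
      have h14 : (g : G) * k = k * g := mem_cs.1 g.2.2.2
      have h15 : (g : G) * d = d * g := hd' _ g.2
      calc ((g : G) * z * (g : G)⁻¹) * r * ((g : G) * z * (g : G)⁻¹)⁻¹
          = g * (z * ((g : G)⁻¹ * r * (g : G)⁻¹⁻¹) * z⁻¹) * (g : G)⁻¹ := by group
        _ = g * ((z * r * z⁻¹) * (z * d * z⁻¹)) * (g : G)⁻¹ := by rw [hd]; group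
        _ = g * (r * k * d) * (g : G)⁻¹ := by rw [hzr, h13, mul_inv_cancel_right]
        _ = (g * r * (g : G)⁻¹) * (g * k * (g : G)⁻¹) * (g * d * (g : G)⁻¹) := by group
        _ = (r * d) * k * d := by rw [h11, h14, h15, mul_inv_cancel_right, mul_inv_cancel_right]
        _ = r * k := by
          have hdk : d * k = k * d := by
            have := hd' k ⟨le_normalizer hkF, mem_cs.2 (hkv r₁ I.r₁V), mem_cs.2 rfl⟩
            exact this.symm
          have hdd : d * d = 1 := by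
            obtain ⟨d', hd'', hd2, hd3⟩ := hM₀ _ (inv_mem g.2)
            have : d = d' := mul_left_cancel (hd.symm.trans hd'')
            rw [this]; exact hd2
          calc (r * d) * k * d = r * (d * k) * d := by group
            _ = r * k * (d * d) := by rw [hdk]; group
            _ = r * k := by rw [hdd, mul_one]
    rcases I.T_act h hr with h13 | h13
    · rw [h12] at h13; exact hk1 (mul_eq_left.1 h13)
    · rw [h12] at h13
      exact hkV (mul_left_cancel h13 ▸ I.r₁V)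
  -- cardinalities
  set T2 : Subgroup G := (P : Subgroup M₀).map M₀.subtype with hT2
  have hTT2 : T ≤ T2 := fun y hy => ⟨⟨y, hTM₀ hy⟩, hP hy, rfl⟩
  have hT2ne : T ≠ T2 := by
    intro h
    apply hgz'
    rw [h]
    exact ⟨_, hgz, rfl⟩
  have hcT : 2 * Nat.card T ≤ Nat.card T2 := by
    obtain ⟨j, hj⟩ := card_dvd_of_le hTT2
    have hpos : 0 < Nat.card T2 := Nat.card_pos
    have hpT : 0 < Nat.card T := Nat.card_pos
    have hj0 : j ≠ 0 := by rintro rfl; rw [mul_zero] at hj; omega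
    have hj1 : j ≠ 1 := by
      rintro rfl
      exact hT2ne (eq_of_le_of_card_ge hTT2 (by rw [hj, mul_one]))
    rw [hj, mul_comm]
    exact Nat.mul_le_mul_left _ (by omega)
  have hcT₁ : Nat.card (T₁ : Subgroup G) ≤ 2 * Nat.card T := by
    classical
    have : Nat.card (Bool × T) = 2 * Nat.card T := by rw [Nat.card_prod]; simp
    rw [← this]
    apply Nat.card_le_card_of_injective (fun y : (T₁ : Subgroup G) =>
      if h : (y : G) ∈ T then ((false, ⟨y, h⟩) : Bool × T) else (true, ⟨y * w, (I.cov y y.2).resolve_left h⟩))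
    intro p q hpq
    by_cases hp : (p : G) ∈ T <;> by_cases hq : (q : G) ∈ T <;> simp [hp, hq] at hpq
    · exact hpq
    · exact hpq
  -- conjugate `T2` into `T₁` inside `N(F)`
  have hT2N : T2 ≤ normalizer (F : Set G) := by
    rintro _ ⟨y, -, rfl⟩
    exact y.2.1
  have hT2p : IsPGroup 2 (T2.subgroupOf (normalizer (F : Set G))) :=
    ((P.2.map M₀.subtype : IsPGroup 2 T2)).comap_of_injective _ (subtype_injective _)
  obtain ⟨Q, hQ⟩ := hT2p.exists_le_sylow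
  obtain ⟨y, hy⟩ := MulAction.exists_smul_eq (normalizer (F : Set G)) Q (T₁.subtype hT₁N)
  have hconj : T2.map (MulAut.conj (y : G)).toMonoidHom ≤ (T₁ : Subgroup G) := by
    rintro _ ⟨p, hp, rfl⟩
    have h11 : (⟨p, hT2N hp⟩ : normalizer (F : Set G)) ∈ (Q : Subgroup (normalizer (F : Set G))) := hQ hp
    have h12 : y * ⟨p, hT2N hp⟩ * y⁻¹ ∈ ((y • Q : Sylow 2 (normalizer (F : Set G))) : Subgroup (normalizer (F : Set G))) :=
      ⟨_, h11, rfl⟩
    rw [hy] at h12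
    exact h12
  have heq : T2.map (MulAut.conj (y : G)).toMonoidHom = (T₁ : Subgroup G) := by
    refine eq_of_le_of_card_ge hconj ?_
    rw [card_map_of_injective (MulAut.conj (y : G)).injective]
    exact hcT₁.trans hcT
  have hwy : w ∈ T2.map (MulAut.conj (y : G)).toMonoidHom := by rw [heq]; exact I.w_T₁
  obtain ⟨p, hp, hpw⟩ := hwy
  have hpw' : w = y * p * (y : G)⁻¹ := hpw.symm
  obtain ⟨p', hp', rfl⟩ := hp
  -- `p'²` centralises `F`
  have hp2 : ∀ f ∈ F, (p' : G) * ((p' : G) * f * (p' : G)⁻¹) * (p' : G)⁻¹ = f := by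
    obtain ⟨d, hd, hd2, hd3⟩ := hM₀ _ p'.2
    have c1 : Commute ((p' : G) * p') r := by
      have h11 : (p' : G) * ((p' : G) * r * (p' : G)⁻¹) * (p' : G)⁻¹ = r := by
        rw [hd]
        calc (p' : G) * (r * d) * (p' : G)⁻¹ = ((p' : G) * r * (p' : G)⁻¹) * ((p' : G) * d * (p' : G)⁻¹) := by group
          _ = r * d * d := by rw [hd, hd3 _ p'.2, mul_inv_cancel_right]
          _ = r := by rw [mul_assoc, hd2, mul_one]
      have h12 : ((p' : G) * p') * r * ((p' : G) * p')⁻¹ = r := by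
        calc ((p' : G) * p') * r * ((p' : G) * p')⁻¹ = (p' : G) * ((p' : G) * r * (p' : G)⁻¹) * (p' : G)⁻¹ := by group
          _ = r := h11
      exact mul_inv_eq_iff_eq_mul.1 h12
    have c2 : Commute (p' : G) r₁ := mem_cs.1 p'.2.2.1
    have c3 : Commute (p' : G) k := mem_cs.1 p'.2.2.2
    have c2' := c2.mul_left c2
    have c3' := c3.mul_left c3
    have hall : ∀ v ∈ V, Commute ((p' : G) * p') v := by
      intro v hv
      rcases I.cases' hr h1 h2 hv with rfl | rfl | rfl | rfl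
      exacts [Commute.one_right _, c2', c1, c1.mul_right c2']
    intro f hf
    have h11 : Commute ((p' : G) * p') f := by
      rcases (hF f).1 hf with h | h
      · exact hall f h
      · have h12 := (hall _ h).mul_right c3'
        rwa [mul_assoc, hk2, mul_one] at h12
    calc (p' : G) * ((p' : G) * f * (p' : G)⁻¹) * (p' : G)⁻¹ = ((p' : G) * p') * f * ((p' : G) * p')⁻¹ := by group
      _ = f := by rw [h11.eq, mul_inv_cancel_right]
  have hw2 : w * (w * r * w⁻¹) * w⁻¹ = r := by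
    have h11 := hp2 _ (conj_mem_of_normalizer' y.2 (hVF r hr))
    change w = (y : G) * (p' : G) * (y : G)⁻¹ at hpw'
    rw [hpw']
    calc (y : G) * p' * (y : G)⁻¹ * ((y : G) * p' * (y : G)⁻¹ * r * ((y : G) * p' * (y : G)⁻¹)⁻¹) * ((y : G) * p' * (y : G)⁻¹)⁻¹
        = y * (p' * (p' * ((y : G)⁻¹ * r * y) * (p' : G)⁻¹) * (p' : G)⁻¹) * (y : G)⁻¹ := by group
      _ = r := by rw [h11]; group
  -- but `w² : r ↦ r r₁`
  have hwr : w * r * w⁻¹ = r * k ∨ w * r * w⁻¹ = r * k * r₁ := by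
    have hn1 : w * r * w⁻¹ ≠ 1 := fun h => h1 (by rwa [mul_inv_eq_one, mul_eq_left] at h)
    have hn2 : w * r * w⁻¹ ≠ r₁ := fun h => h2 (by rw [← I.w_r] at h; exact mul_left_cancel (mul_right_cancel h))
    rcases I.cases'' hrk hrk1 hrk2 (cj_mem hr) with h | h | h | h
    · exact absurd h hn1
    · exact absurd h hn2
    · exact Or.inl h
    · exact Or.inr h
  have cr : k * r₁ = r₁ * k := hkv r₁ I.r₁V
  have h11 : w * (w * r * w⁻¹) * w⁻¹ = r * r₁ := by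
    rcases hwr with h | h
    · rw [h]
      calc w * (r * k) * w⁻¹ = (w * r * w⁻¹) * (w * k * w⁻¹) := by group
        _ = r * (k * k) * r₁ := by rw [h, hw]; group
        _ = r * r₁ := by rw [hk2, mul_one]
    · rw [h]
      calc w * (r * k * r₁) * w⁻¹ = (w * r * w⁻¹) * (w * k * w⁻¹) * (w * r₁ * w⁻¹) := by group
        _ = r * (k * r₁) * k * (r₁ * r₁) := by rw [h, hw, I.w_r]; group
        _ = r * r₁ * (k * k) * (r₁ * r₁) := by rw [cr]; group
        _ = r * r₁ := by rw [hk2, I.sq r₁ I.r₁V, mul_one, mul_one]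
  rw [hw2] at h11
  exact I.r₁_ne (left_eq_mul.1 h11)

/-- **CASE 2a, `q = 2`, is impossible** (#17699) -/
theorem false : False := by
  obtain ⟨r, hr, h1, h2, k, hkM, hk1, hK, hrk, hw | hw⟩ := I.exists_k
  · exact I.not_a hr h1 hkM hk1 hK hrk hw
  · exact I.not_b hr h1 h2 hkM hk1 hK hrk hw

end In

end Cfsg.Agent.Omega.IId.Cv.TwoA
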