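import Cfsg.Agent.Omega.IId.Cv.Entry
import Cfsg.Agent.Omega.IId.Cv.Cut
import Cfsg.Agent.Omega.IId.Cv.Center
import Cfsg.Agent.Omega.IId.Cv.TwoA

/-!
# WrCv, CASE 2a, `q = 2` : `CvTwoA` for `|F| = 2` (OMEGA #17699, helper994; typed by helper165)

`twoA_false_K`, `twoA_false`, `Cv.cvTwoA2`, `Cv.cvTwoA_of` : `M : NatD F S P V D 2`, `|F| = 2`, `D ≠ 1`, `V_i` unmixed, `T = N_S(V_i)` is not Sylow in `N_G(R)`, and no
Sylow 2-subgroup of `G` over `T` normalises `V_i` and `R`: impossible.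
-/

set_option autoImplicit false
set_option linter.unusedSectionVars false

namespace Cfsg.Agent.Omega.IId.NV

open Subgroup Cfsg Cfsg.Agent.ZN Cfsg.Agent.ZN.ChoiceBase
open Cfsg.Agent.Omega.MinPar Cfsg.Agent.Omega.FFThm
open Cfsg.Agent.Lib.SL2Mat
open Cfsg.Agent.MinSimple
open Cfsg.Agent.MinSimple.VModule (zc_le zc_comm zc_sq zc_le_zl le_normalizer_o2 o2_isPGroup o2_le
  normalizer_le_normalizer_zc le_normalizer_zl)
open Cfsg.Agent.Omega.NatPair (ap ap_mul ap_one ap_inv_ap ap_ap_inv exists_ap ap_add ext2)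
open Cfsg.Agent.Omega.IId.Cv.TwoA (KK KK_conj mem_cs le_normalizer_of)

universe u

section ov

variable {G : Type u} [Group G] [Finite G]

theorem two_mul_card_le {T X : Subgroup G} (hTX : T ≤ X) (hne : T ≠ X) : 2 * Nat.card T ≤ Nat.card X := by
  obtain ⟨j, hj⟩ := card_dvd_of_le hTX
  have hpos : 0 < Nat.card X := Nat.card_pos
  have hj0 : j ≠ 0 := by rintro rfl; rw [mul_zero] at hj; omega
  have hj1 : j ≠ 1 := by
    rintro rfl
    exact hne (eq_of_le_of_card_ge hTX (by rw [hj, mul_one]))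
  rw [hj, mul_comm]
  exact Nat.mul_le_mul_left _ (by omega)

theorem card_sylow_eq (S Q : Sylow 2 G) : Nat.card Q = Nat.card S := by
  have : Fact (Nat.Prime 2) := ⟨Nat.prime_two⟩
  exact Nat.card_congr (Q.equiv S).toEquiv

/-- a 2-group which properly contains a subgroup of index 2 of a Sylow subgroup is a Sylow subgroup -/
theorem exists_sylow_eq (S : Sylow 2 G) {T X : Subgroup G} (hTX : T ≤ X) (hX : IsPGroup 2 X) (hne : T ≠ X)
    (hc : Nat.card S = 2 * Nat.card T) : ∃ T₁ : Sylow 2 G, (T₁ : Subgroup G) = X := by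
  have : Fact (Nat.Prime 2) := ⟨Nat.prime_two⟩
  obtain ⟨Q, hQ⟩ := hX.exists_le_sylow
  refine ⟨Q, (eq_of_le_of_card_ge hQ ?_).symm⟩
  have h1 : Nat.card (Q : Subgroup G) = Nat.card S := card_sylow_eq S Q
  rw [h1, hc]
  exact two_mul_card_le hTX hne

/-- a larger 2-group in `N` -/
theorem exists_larger {T N : Subgroup G} (hT : IsPGroup 2 T) (hTN : T ≤ N) (hd : 2 ∣ T.relIndex N) :
    ∃ X : Subgroup G, IsPGroup 2 X ∧ T ≤ X ∧ X ≤ N ∧ T ≠ X := by
  have : Fact (Nat.Prime 2) := ⟨Nat.prime_two⟩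
  have h1 : IsPGroup 2 (T.subgroupOf N) := hT.comap_of_injective _ N.subtype_injective
  obtain ⟨Q, hQ⟩ := h1.exists_le_sylow
  refine ⟨(Q : Subgroup N).map N.subtype, Q.2.map _, fun y hy => ⟨⟨y, hTN hy⟩, hQ hy, rfl⟩, map_subtype_le _, fun h => ?_⟩
  have h2 : T.subgroupOf N = Q := by
    rw [h]
    exact comap_map_eq_self_of_injective N.subtype_injective _
  have h3 : ¬ 2 ∣ (Q : Subgroup N).index := Q.not_dvd_index
  apply h3
  rw [← h2]
  exact hd

end ov

section twoA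

variable {G : Type u} [Group G] [Finite G] {F : Type} [Field F] [Finite F] [CharP F 2] {S : Sylow 2 G}
  {P V D : Subgroup G} (M : NatD F S P V D 2) (hF : Nat.card F = 2)

include hF in
theorem line_cases {i : Fin 2} {a y : G} (ha : a ∈ line M.toNatV i) (ha1 : a ≠ 1) (hy : y ∈ line M.toNatV i) :
    y = 1 ∨ y = a := by
  have h1 : Nat.card (line M.toNatV i) = 2 := by rw [card_line, hF]
  obtain ⟨z, -, hu⟩ := (Nat.card_eq_two_iff' (1 : line M.toNatV i)).1 h1
  by_cases h : y = 1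
  · exact Or.inl h
  · right
    have h2 := hu ⟨y, hy⟩ fun hh => h (congrArg Subtype.val hh)
    have h3 := hu ⟨a, ha⟩ fun hh => ha1 (congrArg Subtype.val hh)
    exact congrArg Subtype.val (h2.trans h3.symm)

include hF in
theorem normalizer_line_eq {i : Fin 2} {a : G} (ha : a ∈ line M.toNatV i) (ha1 : a ≠ 1) :
    normalizer (line M.toNatV i : Set G) = centralizer ({a} : Set G) := by
  apply le_antisymm
  · intro g hg
    rw [mem_cs]
    rcases line_cases M hF ha ha1 ((mem_normalizer_iff.1 hg a).1 ha) with h | h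
    · exact absurd (by rwa [mul_inv_eq_one, mul_eq_left] at h) ha1
    · exact mul_inv_eq_iff_eq_mul.1 h
  · refine le_normalizer_of fun g hg y hy => ?_
    rcases line_cases M hF ha ha1 hy with rfl | rfl
    · rw [mul_one, mul_inv_cancel]; exact one_mem _
    · rw [mem_cs.1 hg, mul_inv_cancel_right]; exact ha

/-- some element of `stab M i` exchanges `b` and `c` -/
theorem Abc.exists_swap {i j : Fin 2} (hij : i ≠ j) {x a b c : G} (h : Abc M i x a b c) :
    ∃ t ∈ stab M.toNatV i, t * b * t⁻¹ = c ∧ t * c * t⁻¹ = b := by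
  obtain ⟨t, ht, htg, hta⟩ := exists_root M.toNatV (SP M) i 1
  have hta' : t * a * t⁻¹ = a := h.stab_a ht
  refine ⟨t, ht, ?_⟩
  rcases h.conj_b (stab_normalizes _ i ht) hta' with ⟨h2, -⟩ | h2
  · exfalso
    obtain ⟨v, hv, hve⟩ := exists_fac M.toNatV i ![0, 1]
    have h3 := h.comm_V hij htg hta' h2 v hv.1
    have h4 := hta.1 v hv.1 i
    have e : t * v * t⁻¹ = v := by rw [h3]; group
    rw [e, hve] at h4
    have h5 := congrFun h4 0
    rw [NatPair.ap_zero'] at h5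
    simp at h5
  · exact h2

/-- an element of `fac M i` which is centralised by `stab M i` is `1` or `a` -/
theorem Abc.fixed {i j : Fin 2} (hij : i ≠ j) {x a b c : G} (h : Abc M i x a b c) {u : G} (hu : u ∈ fac M.toNatV i)
    (hc : ∀ t ∈ stab M.toNatV i, t * u = u * t) : u = 1 ∨ u = a := by
  obtain ⟨t, ht, h1, h2⟩ := h.exists_swap M hij
  have h3 := hc t ht
  rcases h.all u hu with h4 | h4 | h4 | h4
  · exact Or.inl h4
  · exact Or.inr h4
  · exfalso
    rw [← h4, h3, mul_inv_cancel_right, h4] at h1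
    exact h.bc h1
  · exfalso
    rw [← h4, h3, mul_inv_cancel_right, h4] at h2
    exact h.bc h2.symm

theorem eight_le {i j : Fin 2} (hij : i ≠ j) (hD : D ≠ ⊥) {x a b c : G} (h : Abc M i x a b c) :
    8 ≤ Nat.card (zc (stab M.toNatV i)) := by
  have : Fact (Nat.Prime 2) := ⟨Nat.prime_two⟩
  obtain ⟨z, hz, hz1, hzc⟩ := exists_fac_zc M hij
  obtain ⟨d, hd, hd1⟩ := (Subgroup.bot_or_exists_ne_one D).resolve_left hD
  have hdc : d ∈ zc (stab M.toNatV i) := ((mem_DT M (i := i)).1 (D_le_DT M hd)).1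
  have hac : a ∈ zc (stab M.toNatV i) := VModule.mem_zc.2 ⟨part_le_stb (blk_two M i) h.a_fac.1, fun y hy =>
    mul_inv_eq_iff_eq_mul.1 (h.stab_a hy), (VModule.mem_zc.1 (V_le_zz M h.a_fac.1)).2.2⟩
  have h2 : ∀ y : G, y ∈ zc (stab M.toNatV i) → y ≠ 1 → Nat.card (zpowers y) = 2 := by
    intro y hy hy1
    rw [Nat.card_zpowers]
    exact orderOf_eq_prime (VModule.mem_zc.1 hy).2.2 hy1
  have h8 : Nat.card (zpowers a × zpowers z × zpowers d) = 8 := by
    rw [Nat.card_prod, Nat.card_prod, h2 a hac h.a1, h2 z hzc hz1, h2 d hdc hd1]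
  rw [← h8]
  have e1 : zpowers a ≤ fac M.toNatV i := by rw [zpowers_le]; exact h.a_fac
  have e2 : zpowers z ≤ fac M.toNatV j := by rw [zpowers_le]; exact hz
  have e3 : zpowers d ≤ D := by rw [zpowers_le]; exact hd
  have f1 : zpowers a ≤ zc (stab M.toNatV i) := by rw [zpowers_le]; exact hac
  have f2 : zpowers z ≤ zc (stab M.toNatV i) := by rw [zpowers_le]; exact hzc
  have f3 : zpowers d ≤ zc (stab M.toNatV i) := by rw [zpowers_le]; exact hdc
  apply Nat.card_le_card_of_injective (fun p : zpowers a × zpowers z × zpowers d =>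
    (⟨p.1 * (p.2.1 * p.2.2), mul_mem (f1 p.1.2) (mul_mem (f2 p.2.1.2) (f3 p.2.2.2))⟩ : zc (stab M.toNatV i)))
  rintro ⟨⟨p, hp⟩, ⟨q, hq⟩, ⟨r, hr⟩⟩ ⟨⟨p', hp'⟩, ⟨q', hq'⟩, ⟨r', hr'⟩⟩ heq
  have h3 : p * (q * r) = p' * (q' * r') := congrArg Subtype.val heq
  have h4 : q'⁻¹ * (p'⁻¹ * p) * q = r' * r⁻¹ := by
    calc q'⁻¹ * (p'⁻¹ * p) * q = q'⁻¹ * p'⁻¹ * (p * (q * r)) * r⁻¹ := by group
      _ = q'⁻¹ * p'⁻¹ * (p' * (q' * r')) * r⁻¹ := by rw [h3]
      _ = r' * r⁻¹ := by group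
  have h5 : r' * r⁻¹ = 1 := by
    refine inf_D (M := M) ?_ (mul_mem (e3 hr') (inv_mem (e3 hr)))
    rw [← h4]
    have g1 := fac_le M.toNatV i
    have g2 := fac_le M.toNatV j
    exact mul_mem (mul_mem (inv_mem (g2 (e2 hq'))) (mul_mem (inv_mem (g1 (e1 hp'))) (g1 (e1 hp)))) (g2 (e2 hq))
  have h6 : r' = r := mul_inv_eq_one.1 h5
  have h7 : p'⁻¹ * p = q' * q⁻¹ := by
    rw [h5] at h4
    calc p'⁻¹ * p = q' * (q'⁻¹ * (p'⁻¹ * p) * q) * q⁻¹ := by group
      _ = q' * q⁻¹ := by rw [h4, mul_one]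
  have h8' : p'⁻¹ * p = 1 := by
    have h9 : p'⁻¹ * p ∈ fac M.toNatV i ⊓ fac M.toNatV j := by
      refine mem_inf.2 ⟨mul_mem (inv_mem (e1 hp')) (e1 hp), ?_⟩
      rw [h7]; exact mul_mem (e2 hq') (inv_mem (e2 hq))
    rwa [fac_inf M.toNatV hij, mem_bot] at h9
  have h9 : p' = p := inv_mul_eq_one.1 h8'
  have h10 : q' = q := by
    rw [h8'] at h7
    exact (mul_inv_eq_one.1 h7.symm)
  subst h6 h9 h10
  rfl

include hF in
/-- **CASE 2a is impossible for `q = 2`**: form with `KX (line M i)` (unmixed and mixed partners). -/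
theorem twoA_false_K (hD : D ≠ ⊥) {i : Fin 2}
    (hK : ∃ t ∈ KX (line M.toNatV i), ∃ v ∈ fac M.toNatV i, t * v ≠ v * t)
    (hd : 2 ∣ (NV.stab M.toNatV i).relIndex (normalizer (NV.line M.toNatV i : Set G)))
    (hno : ¬ ∃ T₁ : Sylow 2 G, NV.stab M.toNatV i ≤ T₁ ∧
      (T₁ : Subgroup G) ≤ normalizer (NV.fac M.toNatV i : Set G) ⊓ normalizer (NV.line M.toNatV i : Set G)) : False := by
  have : Fact (Nat.Prime 2) := ⟨Nat.prime_two⟩
  obtain ⟨j, hji⟩ := exists_ne i
  have hij : i ≠ j := hji.symm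
  obtain ⟨x, a, b, c, h⟩ := exists_abc M hF i
  have hSP := SP M
  have hN := normalizer_line_eq M hF h.a_mem h.a1
  have hT2 : IsPGroup 2 (stab M.toNatV i) := S.isPGroup'.to_le (stab_le _ _)
  have hcard : Nat.card (S : Subgroup G) = 2 * Nat.card (stab M.toNatV i) := card_stab M.toNatV hSP i
  have hTN := stab_normalizes_line M.toNatV hSP i
  -- `T₁`
  obtain ⟨X, hX2, hTX, hXN, hne⟩ := exists_larger hT2 hTN hd
  obtain ⟨T₁, hT₁⟩ := exists_sylow_eq S hTX hX2 hne hcard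
  rw [← hT₁] at hTX hXN hne
  rw [hN] at hXN
  have hcard₁ : Nat.card (T₁ : Subgroup G) = 2 * Nat.card (stab M.toNatV i) := by
    rw [← hcard]; exact card_sylow_eq S T₁
  obtain ⟨w, hw, hwT⟩ := SetLike.exists_of_lt (lt_of_le_of_ne hTX hne)
  -- facts on `V_i`
  have hab : c = b * a := by rw [← h.mul]; exact NV.comm M.toNatV h.a_fac.1 h.b_mem.1
  have haa : a * a = 1 := NV.sq M.toNatV h.a_fac.1
  have hca : c * a = b := by rw [hab, mul_assoc, haa, mul_one]
  have hVQ : fac M.toNatV i ≤ o2 (centralizer ({a} : Set G)) := by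
    rw [← hN]; exact fac_le_o2 M (Or.inr rfl) i
  have hQT : o2 (centralizer ({a} : Set G)) ≤ stab M.toNatV i := by
    rw [← hN]; exact o2_line_le M hij
  have hcomm : ∀ q ∈ o2 (centralizer ({a} : Set G)), ∀ v ∈ fac M.toNatV i, q * v * q⁻¹ = v ∨ q * v * q⁻¹ = v * a := by
    intro q hq v hv
    have hqa := h.stab_a (hQT hq)
    rcases h.all v hv with rfl | rfl | rfl | rfl
    · left; group
    · left; exact hqa
    · rcases h.conj_b (stab_normalizes _ i (hQT hq)) hqa with ⟨h1, -⟩ | ⟨h1, -⟩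
      · exact Or.inl h1
      · right; rw [h1, hab]
    · rcases h.conj_b (stab_normalizes _ i (hQT hq)) hqa with ⟨-, h1⟩ | ⟨-, h1⟩
      · exact Or.inl h1
      · right; rw [h1, hca]
  refine Cv.TwoA.In.false (V := fac M.toNatV i) (T := stab M.toNatV i) (T₁ := T₁) (E := grp M.toNatV {i})
    (M := zc (stab M.toNatV i) ⊓ centralizer (grp M.toNatV {i} : Set G)) (w := w) (r₁ := a)
    { sq := fun v hv => NV.sq M.toNatV hv.1
      four := ⟨b, h.b_mem, h.b1, h.ab.symm, fun v hv => by rw [h.mul]; exact h.all v hv⟩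
      r₁V := h.a_fac
      r₁_ne := h.a1
      T_T₁ := hTX
      w_T₁ := hw
      w_T := hwT
      cov := ?_
      T_V := stab_normalizes _ i
      T_max := ?_
      T₁_r := fun y hy => mem_cs.1 (hXN hy)
      VQ := hVQ
      comm := hcomm
      move := ?_
      ch := ?_
      E_V := grp_normalizes M.toNatV {i} {i}
      E_tr := fun r hr hr1 => exists_grp M.toNatV h.a_fac hr h.a1 hr1
      E_M := fun e he m hm => mem_centralizer_iff.1 hm.2 e he
      M_zc := inf_le_left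
      M_cov := ?_
      big := eight_le M hij hD h
      half := ?_ }
  · -- `cov`
    intro y hy
    by_cases hyT : y ∈ stab M.toNatV i
    · exact Or.inl hyT
    · right
      have h1 := Two.two_cosets hTX hcard₁ y⁻¹ (inv_mem hy) w hw (fun hh => hyT (inv_mem_iff.1 hh)) hwT
      rwa [inv_inv] at h1
  · -- `T_max`
    intro Y hY2 hTY hYV
    by_contra hle
    have hne' : stab M.toNatV i ≠ Y := fun hh => hle (le_of_eq hh.symm)
    obtain ⟨T₂, hT₂⟩ := exists_sylow_eq S hTY hY2 hne' hcard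
    have hcard₂ : Nat.card Y = 2 * Nat.card (stab M.toNatV i) := by
      rw [← hcard, ← hT₂]; exact card_sylow_eq S T₂
    refine hno ⟨T₂, by rw [hT₂]; exact hTY, ?_⟩
    rw [hT₂, hN]
    refine le_inf hYV fun g hg => mem_cs.2 ?_
    have hgT : ∀ t ∈ stab M.toNatV i, g⁻¹ * t * g ∈ stab M.toNatV i := by
      intro t ht
      have h1 := Two.conj_mem_of_two hTY (Two.two_cosets hTY hcard₂) (inv_mem hg) ht
      rwa [inv_inv] at h1
    have h1 : g * a * g⁻¹ ∈ fac M.toNatV i := (mem_normalizer_iff.1 (hYV hg) a).1 h.a_fac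
    have h2 : g * a * g⁻¹ = 1 ∨ g * a * g⁻¹ = a := by
      refine h.fixed M hij h1 fun t ht => ?_
      have h3 : (g⁻¹ * t * g) * a = a * (g⁻¹ * t * g) := mul_inv_eq_iff_eq_mul.1 (h.stab_a (hgT t ht))
      calc t * (g * a * g⁻¹) = g * ((g⁻¹ * t * g) * a) * g⁻¹ := by group
        _ = g * (a * (g⁻¹ * t * g)) * g⁻¹ := by rw [h3]
        _ = g * a * g⁻¹ * t := by group
    rcases h2 with h2 | h2
    · exact absurd (by rwa [mul_inv_eq_one, mul_eq_left] at h2) h.a1
    · exact mul_inv_eq_iff_eq_mul.1 h2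
  · -- `move`
    obtain ⟨t, ht, v, hv, hne'⟩ := hK
    have ht2 : t ∈ o2 (centralizer ({a} : Set G)) := by
      rw [← hN]
      exact KX_le (char2_line' M i) (fun _ hy => NV.sq M.toNatV ((mem_line _).1 hy).1.1) ht
    refine ⟨t, ⟨ht2, fun q hq => ?_⟩, v, hv, hne'⟩
    rw [← hN] at hq
    have h1 := inv_mem ((mem_KX.1 ht).2 q hq)
    have e : (t * q * t⁻¹ * q⁻¹)⁻¹ = q * t * q⁻¹ * t⁻¹ := by group
    rw [e] at h1
    rcases line_cases M hF h.a_mem h.a1 h1 with h2 | h2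
    · rw [h2]; exact one_mem _
    · rw [h2]; exact mem_zpowers a
  · -- `ch`
    intro y hy hyc
    have h1 := char2_line' M i
    rw [hN] at h1
    exact h1 ⟨mem_cs.2 hy, mem_centralizer_iff.2 fun q hq => (hyc q hq).symm⟩
  · -- `M_cov`
    intro f hf
    obtain ⟨u, hu, y, hy, m, hm, huz, hyz, rfl⟩ := zc_stab_eq (M := M) hF hij hf
    have hym : y * m ∈ zc (stab M.toNatV i) ⊓ centralizer (grp M.toNatV {i} : Set G) := by
      refine ⟨mul_mem hyz ((mem_DT M (i := i)).1 hm).1, mem_centralizer_iff.2 fun g hg => ?_⟩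
      have c1 : Commute g y := grp_comm M.toNatV (by simpa using hij) hg hy
      have c2 : Commute g m := DT_comm_grp M hij hm hg
      exact (c1.mul_right c2).eq
    rcases h.fixed M hij hu (fun t ht => (VModule.mem_zc.1 huz).2.1 t ht) with rfl | rfl
    · left; rwa [one_mul]
    · right; rwa [mul_assoc, ← mul_assoc u u, haa, one_mul]
  · -- `half`
    intro e he he1
    obtain ⟨h1, h2⟩ := cent_half M hij (VModule.mem_zc.1 he.1).2.2 he1 (fun t ht => (VModule.mem_zc.1 he.1).2.1 t ht)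
      (fun g hg => mem_centralizer_iff.1 he.2 g hg)
    exact ⟨h1, fun v hv q hq => mem_centralizer_iff.1 (h2 hq) v hv⟩

include hF in
/-- **CASE 2a is impossible for `q = 2`**: unmixed `V_i`. -/
theorem twoA_false (hD : D ≠ ⊥) {i : Fin 2} (hU : Cv.UnM M i)
    (hd : 2 ∣ (NV.stab M.toNatV i).relIndex (normalizer (NV.line M.toNatV i : Set G)))
    (hno : ¬ ∃ T₁ : Sylow 2 G, NV.stab M.toNatV i ≤ T₁ ∧
      (T₁ : Subgroup G) ≤ normalizer (NV.fac M.toNatV i : Set G) ⊓ normalizer (NV.line M.toNatV i : Set G)) : False := by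
  obtain ⟨g, hg, v, hv, v', hv', hne⟩ := hU
  exact twoA_false_K M hF hD ⟨g * v' * g⁻¹,
    (mem_normalizer_iff.1 (normalizer_le_normalizer_KX _ hg) v').1 (fac_le_KX' M (Or.inr rfl) i hv'),
    v, hv, fun hh => hne hh.symm⟩ hd hno

end twoA

end Cfsg.Agent.Omega.IId.NV

namespace Cfsg.Agent.Omega.IId.Cv

open Subgroup Cfsg Cfsg.Agent.ZN
open Cfsg.Agent.Omega.IId.NV
open Cfsg.Agent.Omega.FrameLE (AllIn)

universe u

/-- CASE 2a, `q = 2`. -/
def CvTwoA2 (K : Cfsg.Agent.Omega.Frame.Cls.{u}) : Prop :=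
  ∀ (G : Type u) [Group G] [Finite G] (S : Sylow 2 G), HypN K S → ∀ (P : Subgroup G)
    (F : Type) [Field F] [Finite F] [CharP F 2] (V D : Subgroup G) (M : NatD F S P V D 2) (i : Fin 2),
      D ≠ ⊥ → UnM M i → 2 ∣ (NV.stab M.toNatV i).relIndex (normalizer (NV.line M.toNatV i : Set G)) →
        (¬ ∃ T₁ : Sylow 2 G, NV.stab M.toNatV i ≤ T₁ ∧
          (T₁ : Subgroup G) ≤ normalizer (NV.fac M.toNatV i : Set G) ⊓ normalizer (NV.line M.toNatV i : Set G)) →
        Nat.card F = 2 → False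

theorem cvTwoA2 (K : Cfsg.Agent.Omega.Frame.Cls.{u}) : CvTwoA2 K := fun _ _ _ _ _ _ _ _ _ _ _ _ M _ hD hU hd hno hq =>
  twoA_false M hq hD hU hd hno

/-- CASE 2a, `q ≥ 4`. -/
def CvTwoA4 (K : Cfsg.Agent.Omega.Frame.Cls.{u}) : Prop :=
  ∀ (G : Type u) [Group G] [Finite G] (S : Sylow 2 G), HypN K S → ∀ (P : Subgroup G)
    (F : Type) [Field F] [Finite F] [CharP F 2] (V D : Subgroup G) (M : NatD F S P V D 2) (i : Fin 2),
      D ≠ ⊥ → UnM M i → 2 ∣ (NV.stab M.toNatV i).relIndex (normalizer (NV.line M.toNatV i : Set G)) →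
        (¬ ∃ T₁ : Sylow 2 G, NV.stab M.toNatV i ≤ T₁ ∧
          (T₁ : Subgroup G) ≤ normalizer (NV.fac M.toNatV i : Set G) ⊓ normalizer (NV.line M.toNatV i : Set G)) →
        4 ≤ Nat.card F → False

/-- **`CvTwoA` from its case `q ≥ 4`.** -/
theorem cvTwoA_of {K : Cfsg.Agent.Omega.Frame.Cls.{u}} (h : CvTwoA4 K) : CvTwoA K := by
  intro G _ _ S hH P F _ _ _ V D M i hD hU hd hno
  rcases FrameFF.two_le_card (F := F) with hq | hq
  · exact twoA_false M hq hD hU hd hno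
  · exact h G S hH P F V D M i hD hU hd hno hq

end Cfsg.Agent.Omega.IId.Cv
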