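import Cfsg.Agent.Omega.MixOne.Plug
import Cfsg.Agent.Omega.Mix.OfFrameTwo

/-!
# Natural `SL₂(F)`-modules: elements of `UW w` (helper330)

* `mem_UW_of_two` : a 2-element of `N` which centralises the line `F w` is in `UW w`;
* `AtR.exists_ind` : the group generated by the `LL V' R (pt i)` induces `SL₂(F)`;
* `AtR.exists_fq` : for `e, e' ∈ LL V' R R` which move `V` there is `b` in this group, `b ∈ N_G(R)`, with
  `[e', v^b] = [e, v]` and `[e, v]^b = [e', v]` for all `v ∈ V`.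
-/

set_option autoImplicit false
set_option linter.unusedSectionVars false

namespace Cfsg.Agent.Omega.IId.MQ

open Subgroup Cfsg.Agent.Lib.SL2Mat Cfsg.Agent.Omega.BTwo Cfsg.Agent.Omega.Mix Cfsg.Agent.Omega.MixOne
open Cfsg.Agent.Omega.NatPair (dt dt_add dt_smul exists_smul_of_dt exists_comb ap ap_smul ap_add ap_zero' ap_one'
  ap_mul ap_inv_ap ap_ap_inv ap_one ap_inj exists_ap exists_ap_e ap_up_e ext2 exists_of_fix eq_one_of_pow)

variable {G : Type*} [Group G] {F : Type*} [Field F] {V N : Subgroup G} (M : RMod F V N)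

/-- a 2-element of `N` which centralises the line `F w` is in `UW w` -/
theorem mem_UW_of_two [Finite F] [CharP F 2] {w : Fin 2 → F} (hw : w ≠ 0) {x : G} (hxV : x ∈ N) {k : ℕ}
    (hk' : x ^ 2 ^ k = 1) (hc : ∀ r ∈ M.line w, x * r = r * x) : x ∈ M.UW w := by
  have hfix : ∀ c : F, M.act x (c • w) = c • w := fun c => (M.commute_e hxV).1 (hc _ ⟨c, rfl⟩)
  have hα : M.act x w = w := by
    have := hfix 1
    rwa [one_smul] at this
  obtain ⟨s, hs⟩ := M.exists_semi hxV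
  have hs1 : ∀ c, s c = c := by
    intro c
    have h1 := hs c w
    rw [hfix, hα] at h1
    exact (smul_left_injective F hw h1).symm
  have hlin : ∀ (d : F) y, M.act x (d • y) = d • M.act x y := fun d y => by rw [hs, hs1]
  -- the determinant
  obtain ⟨D, hD⟩ := exists_ap_e hw
  set y := ap D ![0, 1] with hy
  have hwy : dt w y = 1 := by
    have h1 := det_eq D
    rw [← hD, hy]
    unfold dt
    rw [ap_zero', ap_zero', ap_one', ap_one']
    simp only [Matrix.cons_val_zero, Matrix.cons_val_one, mul_one, mul_zero, add_zero, zero_add]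
    rw [← h1]; ring
  have hww : dt w w = 0 := by unfold dt; ring
  set δ := dt w (M.act x y) with hδ
  have hdt : ∀ z, dt w (M.act x z) = δ * dt w z := by
    intro z
    obtain ⟨a, b, rfl⟩ := exists_comb (by rw [hwy]; exact one_ne_zero : dt w y ≠ 0) z
    rw [M.act_add hxV, hlin, hlin, hα]
    simp only [dt_add, dt_smul, hww, hwy, ← hδ]
    ring
  have hdt' : ∀ (n : ℕ) z, dt w (M.act (x ^ n) z) = δ ^ n * dt w z := by
    intro n
    induction n with
    | zero => intro z; rw [pow_zero, pow_zero, M.act_one, one_mul]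
    | succ n ih =>
      intro z
      rw [pow_succ', M.act_mul hxV (pow_mem hxV n), hdt, ih, pow_succ']; ring
  have hδ1 : δ = 1 := by
    have h1 := hdt' (2 ^ k) y
    rw [hk', M.act_one, hwy, mul_one] at h1
    exact eq_one_of_pow h1.symm
  obtain ⟨B, hB⟩ := exists_of_fix hw (M.act x) (M.act_add hxV) hlin hα (fun z => by
    refine exists_smul_of_dt hw ?_
    have h1 := hdt z
    rw [hδ1, one_mul] at h1
    unfold dt at h1 ⊢
    rw [Pi.sub_apply, Pi.sub_apply]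
    linear_combination h1)
  exact ⟨B, by rw [← hB, hα], M.ind_of_act hxV hB⟩

/-- an element of `SL₂(F)` fixing `e₁` -/
theorem eq_up {A : Matrix.SpecialLinearGroup (Fin 2) F} (h : ap A ![1, 0] = ![1, 0]) : A = up (ent A 0 1) := by
  have h0 : ent A 0 0 = 1 := by
    have := congrFun h 0
    rw [ap_zero'] at this
    simpa using this
  have h1 : ent A 1 0 = 0 := by
    have := congrFun h 1
    rw [ap_one'] at this
    simpa using this
  have h2 : ent A 1 1 = 1 := by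
    have := det_eq A
    rw [h0, h1] at this
    simpa using this
  apply ap_inj
  intro x
  apply ext2
  · rw [ap_zero', ap_zero', h0, up_00, up_01]
  · rw [ap_one', ap_one', h1, h2, up_10, up_11]

/-- an element of `SL₂(F)` fixing `w = D e₁` -/
theorem exists_up {w : Fin 2 → F} {D B : Matrix.SpecialLinearGroup (Fin 2) F} (hD : ap D ![1, 0] = w)
    (hB : ap B w = w) : ∃ t : F, B = D * up t * D⁻¹ := by
  have h1 : ap (D⁻¹ * B * D) ![1, 0] = ![1, 0] := by
    rw [ap_mul, ap_mul, hD, hB, ← hD, ap_inv_ap]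
  refine ⟨ent (D⁻¹ * B * D) 0 1, ?_⟩
  rw [← eq_up h1]
  group

theorem comm_up {g : G} {D : Matrix.SpecialLinearGroup (Fin 2) F} {t : F} (hg : M.Ind g (D * up t * D⁻¹))
    (z : Fin 2 → F) : g * M.e (ap D z) * g⁻¹ * (M.e (ap D z))⁻¹ = M.e (ap D ((t * z 1) • ![1, 0])) := by
  rw [hg, ← M.e_sub, ap_mul, ap_mul, ap_inv_ap, ap_up, ap_add, add_sub_cancel_left]

section atR

variable {M} {V' R : Subgroup G} {w : Fin 2 → F} (a : AtR M V' R w)
include a

/-- the group generated by the `LL V' R (pt i)` induces `SL₂(F)` -/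
theorem exists_ind (A : Matrix.SpecialLinearGroup (Fin 2) F) : ∃ x ∈ ⨆ i, LL V' R (pt M i), M.Ind x A := by
  let X : Subgroup G := ⨆ i, LL V' R (pt M i)
  have hX : ∀ {u : Fin 2 → F} (hu : u ≠ 0), LL V' R (M.line u) ≤ X := fun {u} hu =>
    le_iSup (fun i => LL V' R (pt M i)) ⟨M.line u, u, hu, rfl⟩
  let L : Subgroup (Matrix.SpecialLinearGroup (Fin 2) F) :=
    { carrier := {A | ∃ x ∈ X, M.Ind x A}
      one_mem' := ⟨1, one_mem _, fun x => by rw [ap_one]; group⟩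
      mul_mem' := by
        rintro A B ⟨x, hx, hxA⟩ ⟨y, hy, hyB⟩
        refine ⟨x * y, mul_mem hx hy, fun z => ?_⟩
        have e : x * y * M.e z * (x * y)⁻¹ = x * (y * M.e z * y⁻¹) * x⁻¹ := by group
        rw [e, hyB, hxA, ap_mul]
      inv_mem' := by
        rintro A ⟨x, hx, hxA⟩
        refine ⟨x⁻¹, inv_mem hx, fun z => ?_⟩
        have h1 := hxA (ap A⁻¹ z)
        rw [ap_ap_inv] at h1
        rw [← h1]; group }
  have hL : ∀ {u : Fin 2 → F}, u ≠ 0 → ∀ {B}, ap B u = u → B ∈ L := by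
    intro u hu B hB
    obtain ⟨b, hb, hb'⟩ := a.full_at hu hB
    exact ⟨b, hX hu hb, hb'⟩
  have h01 : (![0, 1] : Fin 2 → F) ≠ 0 := fun h => by simpa using congrFun h 1
  have h10 : (![1, 0] : Fin 2 → F) ≠ 0 := fun h => by simpa using congrFun h 0
  have hup : ∀ b, up b ∈ L := fun b => hL h10 (ap_up_e b)
  have hlo : ∀ b, lo b ∈ L := fun b => hL h01 (by
    apply ext2
    · rw [ap_zero']; simp
    · rw [ap_one']; simp)
  obtain ⟨p, q, r, s, rfl⟩ := exists_up_lo A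
  exact mul_mem (mul_mem (mul_mem (hup _) (hlo _)) (hup _)) (hlo _)

/-- an element of `LL V' R R` which moves `V` acts as `D (up t) D⁻¹`, `t ≠ 0` -/
theorem exists_t {D : Matrix.SpecialLinearGroup (Fin 2) F} (hD : ap D ![1, 0] = w) {e : G} (he : e ∈ LL V' R R)
    (hne : ∃ v ∈ V, e * v ≠ v * e) : ∃ t : F, t ≠ 0 ∧ M.Ind e (D * up t * D⁻¹) := by
  obtain ⟨B, hB, hB'⟩ := a.UW he
  obtain ⟨t, rfl⟩ := exists_up hD hB
  refine ⟨t, ?_, hB'⟩
  rintro rfl
  obtain ⟨v, hv, hev⟩ := hne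
  obtain ⟨x, rfl⟩ := (M.mem_iff v).1 hv
  apply hev
  have h1 := hB' x
  rw [up_zero, mul_one, mul_inv_cancel, ap_one] at h1
  exact mul_inv_eq_iff_eq_mul.1 h1

/-- **the torus element of a pair of root elements** -/
theorem exists_fq {e e' : G} (he : e ∈ LL V' R R) (he' : e' ∈ LL V' R R) (hne : ∃ v ∈ V, e * v ≠ v * e)
    (hne' : ∃ v ∈ V, e' * v ≠ v * e') :
    ∃ b ∈ ⨆ i, LL V' R (pt M i), b ∈ normalizer (R : Set G) ∧
      (∀ v ∈ V, e' * (b * v * b⁻¹) * e'⁻¹ * (b * v * b⁻¹)⁻¹ = e * v * e⁻¹ * v⁻¹ ∧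
        b * (e * v * e⁻¹ * v⁻¹) * b⁻¹ = e' * v * e'⁻¹ * v⁻¹) ∧
      ((∃ v ∈ V, e⁻¹ * e' * v ≠ v * (e⁻¹ * e')) → ∀ v ∈ V, b * v = v * b → v = 1) := by
  obtain ⟨D, hD⟩ := exists_ap_e a.ne
  obtain ⟨t, ht, hte⟩ := exists_t a hD he hne
  obtain ⟨t', ht', hte'⟩ := exists_t a hD he' hne'
  set c := t' / t with hc
  have hc0 : c ≠ 0 := div_ne_zero ht' ht
  obtain ⟨b, hb, hbA⟩ := exists_ind a (D * dg c hc0 * D⁻¹)
  have hbD : ∀ z, b * M.e (ap D z) * b⁻¹ = M.e (ap D (ap (dg c hc0) z)) := by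
    intro z
    rw [hbA, ap_mul, ap_mul, ap_inv_ap]
  have hdg0 : ∀ z : Fin 2 → F, ap (dg c hc0) z 0 = c * z 0 := by
    intro z
    rw [ap_zero']; simp
  have hdg1 : ∀ z : Fin 2 → F, ap (dg c hc0) z 1 = c⁻¹ * z 1 := by
    intro z
    rw [ap_one']; simp
  have hs10 : ∀ x : F, ap (dg c hc0) (x • ![1, 0]) = (c * x) • ![1, 0] := by
    intro x
    apply ext2
    · rw [hdg0]; simp
    · rw [hdg1]; simp
  refine ⟨b, hb, ?_, ?_, ?_⟩
  · have e : cj b (M.line w) = M.line (ap (D * dg c hc0 * D⁻¹) w) := M.cj_line_of_ind hbA w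
    have hw : ap (D * dg c hc0 * D⁻¹) w = c • w := by
      rw [← hD, ap_mul, ap_mul, ap_inv_ap, ← ap_smul]
      congr 1
      apply ext2
      · rw [hdg0]; simp
      · rw [hdg1]; simp
    rw [← cj_eq_self_iff, a.line, e, hw, M.line_smul hc0]
  · intro v hv
    obtain ⟨x, rfl⟩ := (M.mem_iff v).1 hv
    obtain ⟨z, rfl⟩ : ∃ z, ap D z = x := ⟨ap D⁻¹ x, ap_ap_inv D x⟩
    rw [hbD, comm_up M hte', comm_up M hte, comm_up M hte', hbD, hdg1, hs10]
    constructor
    · congr 3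
      rw [hc, inv_div]
      field_simp
    · congr 3
      rw [hc]
      field_simp
  · rintro ⟨v, hv, hvne⟩ u hu hbu
    have hcne : c ≠ 1 := by
      intro h1
      apply hvne
      have htt : t' = t := by
        rw [hc, div_eq_one_iff_eq ht] at h1
        exact h1
      obtain ⟨x, rfl⟩ := (M.mem_iff v).1 hv
      have h2 := hte x
      have h3 := hte' x
      rw [htt, ← h2] at h3
      calc e⁻¹ * e' * M.e x = e⁻¹ * (e' * M.e x * e'⁻¹) * e' := by group
        _ = e⁻¹ * (e * M.e x * e⁻¹) * e' := by rw [h3]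
        _ = M.e x * (e⁻¹ * e') := by group
    obtain ⟨x, rfl⟩ := (M.mem_iff u).1 hu
    obtain ⟨z, rfl⟩ : ∃ z, ap D z = x := ⟨ap D⁻¹ x, ap_ap_inv D x⟩
    have h1 := hbD z
    rw [hbu, mul_inv_cancel_right] at h1
    have h2 : z = ap (dg c hc0) z := by
      have h3 := congrArg (ap D⁻¹) (M.e_inj h1)
      rwa [ap_inv_ap, ap_inv_ap] at h3
    have h4 : z 0 = 0 := by
      have h5 := congrFun h2 0
      rw [hdg0] at h5
      have h6 : (c - 1) * z 0 = 0 := by linear_combination -h5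
      exact (mul_eq_zero.1 h6).resolve_left (sub_ne_zero.2 hcne)
    have h7 : z 1 = 0 := by
      have h5 := congrFun h2 1
      rw [hdg1] at h5
      have h6 : (c - 1) * z 1 = 0 := by
        have h8 : c * z 1 = z 1 := by
          rw [h5, ← mul_assoc, mul_inv_cancel₀ hc0, one_mul, ← h5]
        linear_combination h8
      exact (mul_eq_zero.1 h6).resolve_left (sub_ne_zero.2 hcne)
    have h8 : z = 0 := ext2 h4 h7
    rw [h8]
    have h9 : ap D (0 : Fin 2 → F) = 0 := by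
      apply ext2
      · rw [ap_zero']; simp
      · rw [ap_one']; simp
    rw [h9, M.e_zero]

/-- a root element fixes only the vectors of its axis -/
theorem line_of_comm {e : G} (he : e ∈ LL V' R R) (hne : ∃ v ∈ V, e * v ≠ v * e) {v : G} (hv : v ∈ V)
    (hc : e * v = v * e) : v ∈ R := by
  obtain ⟨D, hD⟩ := exists_ap_e a.ne
  obtain ⟨t, ht, hte⟩ := exists_t a hD he hne
  obtain ⟨x, rfl⟩ := (M.mem_iff v).1 hv
  obtain ⟨z, rfl⟩ : ∃ z, ap D z = x := ⟨ap D⁻¹ x, ap_ap_inv D x⟩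
  have h1 := comm_up M hte z
  have e1 : e * M.e (ap D z) * e⁻¹ * (M.e (ap D z))⁻¹ = 1 := by
    rw [hc]; group
  rw [e1, eq_comm, M.e_eq_one, ap_smul, hD] at h1
  have h2 : z 1 = 0 := (mul_eq_zero.1 ((smul_eq_zero.1 h1).resolve_right a.ne)).resolve_left ht
  rw [a.line, M.e_mem_line]
  refine ⟨z 0, ?_⟩
  rw [← hD, ← ap_smul]
  congr 1
  apply ext2
  · simp
  · rw [h2]; simp

/-- the commutators with a root element -/
theorem exists_comm_R {e : G} (he : e ∈ LL V' R R) (hne : ∃ v ∈ V, e * v ≠ v * e) {r : G} (hr : r ∈ R) :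
    ∃ v ∈ V, e * v * e⁻¹ * v⁻¹ = r := by
  obtain ⟨D, hD⟩ := exists_ap_e a.ne
  obtain ⟨t, ht, hte⟩ := exists_t a hD he hne
  rw [a.line] at hr
  obtain ⟨c, rfl⟩ := hr
  refine ⟨M.e (ap D ![0, c / t]), M.e_mem _, ?_⟩
  rw [comm_up M hte]
  simp only [Matrix.cons_val_one, Matrix.cons_val_zero]
  rw [mul_div_cancel₀ _ ht, ap_smul, hD]

/-- two root elements with a nontrivial quotient, `q ≥ 4` -/
theorem exists_ee {c : F} (hc0 : c ≠ 0) (hc1 : c ≠ 1) : ∃ e ∈ LL V' R R, ∃ e' ∈ LL V' R R,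
    (∃ v ∈ V, e * v ≠ v * e) ∧ (∃ v ∈ V, e' * v ≠ v * e') ∧ ∃ v ∈ V, e⁻¹ * e' * v ≠ v * (e⁻¹ * e') := by
  obtain ⟨D, hD⟩ := exists_ap_e a.ne
  have key : ∀ t : F, ∃ e ∈ LL V' R R, M.Ind e (D * up t * D⁻¹) := fun t =>
    a.full _ (by rw [← hD, ap_mul, ap_mul, ap_inv_ap, ap_up_e])
  have move : ∀ {t : F} {e : G}, t ≠ 0 → M.Ind e (D * up t * D⁻¹) → ∃ v ∈ V, e * v ≠ v * e := by
    intro t e ht he
    refine ⟨M.e (ap D ![0, 1]), M.e_mem _, fun h => ?_⟩
    have h1 := comm_up M he ![0, 1]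
    have e1 : e * M.e (ap D ![0, 1]) * e⁻¹ * (M.e (ap D ![0, 1]))⁻¹ = 1 := by
      rw [h]; group
    rw [e1, eq_comm, M.e_eq_one, ap_smul, hD] at h1
    have h2 := (smul_eq_zero.1 h1).resolve_right a.ne
    apply ht
    simpa using h2
  obtain ⟨e, he, he1⟩ := key 1
  obtain ⟨e', he', he1'⟩ := key c
  refine ⟨e, he, e', he', move one_ne_zero he1, move hc0 he1', move (t := -1 + c) ?_ ?_⟩
  · intro h
    apply hc1
    linear_combination h
  · have h2 : up (-1 : F) = (up 1)⁻¹ := by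
      rw [eq_inv_iff_mul_eq_one, up_mul, neg_add_cancel, up_zero]
    intro x
    have h3 : e⁻¹ * M.e (ap (D * up c * D⁻¹) x) * e = M.e (ap (D * up 1 * D⁻¹)⁻¹ (ap (D * up c * D⁻¹) x)) := by
      have := he1 (ap (D * up 1 * D⁻¹)⁻¹ (ap (D * up c * D⁻¹) x))
      rw [ap_ap_inv] at this
      rw [← this]; group
    calc e⁻¹ * e' * M.e x * (e⁻¹ * e')⁻¹ = e⁻¹ * (e' * M.e x * e'⁻¹) * e := by group
      _ = M.e (ap (D * up 1 * D⁻¹)⁻¹ (ap (D * up c * D⁻¹) x)) := by rw [he1', h3]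
      _ = M.e (ap (D * up (-1 + c) * D⁻¹) x) := by
        rw [← ap_mul, ← up_mul, h2]
        congr 2
        group

end atR

end Cfsg.Agent.Omega.IId.MQ
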