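import Cfsg.Agent.Omega.MixOne.Plug
import Cfsg.Agent.Omega.Mix.OfFrameTwo
import Cfsg.Agent.Omega.IId.M4.Mixed
import Cfsg.Agent.Omega.IId.Cv.MixLin

/-!
# Mixed pairs without a common Sylow 2-subgroup (WrCv, CvMix, CASE 2; helper330, bb OMEGA #18786)

* `MixedQ M₁ M₂ R` : `MixOne.MixedW` with `O₂(N_G(R)) ≤ N₁, N₂` instead of a Sylow 2-subgroup of `G` in
  `N₁ ⊓ N₂ ⊓ N_G(R)`; `MixedQ.atR`, `MixedQ.sideW`;
* `MixedQ.dec` : `O₂(N_G(R)) ∩ C(C_{W₂}(V₁)) ≤ V₁ C(W₂)`.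
-/

set_option autoImplicit false
set_option linter.unusedSectionVars false

namespace Cfsg.Agent.Omega.IId.MQ

open Subgroup Cfsg.Agent.Lib.SL2Mat Cfsg.Agent.Omega.BTwo Cfsg.Agent.Omega.Mix Cfsg.Agent.Omega.MixOne
open Cfsg.Agent.Omega.NatPair (dt dt_add dt_smul exists_smul_of_dt exists_comb ap ap_smul ap_add ap_zero' ap_one'
  ap_mul ap_inv_ap ap_ap_inv ap_one exists_ap exists_ap_e ap_up_e ext2)

variable {G : Type*} [Group G]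

/-- `MixOne.MixedW` with `O₂(N_G(R)) ≤ N₁, N₂` for the Sylow 2-subgroup -/
structure MixedQ {F₁ F₂ : Type*} [Field F₁] [Field F₂] {V₁ V₂ N₁ N₂ : Subgroup G} (M₁ : RMod F₁ V₁ N₁)
    (M₂ : RMod F₂ V₂ N₂) (R : Subgroup G) : Prop where
  line₁ : ∃ w, w ≠ 0 ∧ R = M₁.line w
  line₂ : ∃ w, w ≠ 0 ∧ R = M₂.line w
  QN₁ : QQ R ≤ N₁
  QN₂ : QQ R ≤ N₂
  char : ∀ K : Subgroup G, IsPGroup 2 K → K ≠ ⊥ → Char2 (normalizer (K : Set G))
  comm₁ : ∀ a ∈ LL V₁ R R, ∀ b ∈ LL V₁ R R, a * b = b * a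
  comm₂ : ∀ a ∈ LL V₂ R R, ∀ b ∈ LL V₂ R R, a * b = b * a
  ne : ∃ a ∈ LL V₁ R R, ∃ b ∈ LL V₂ R R, a * b ≠ b * a

theorem QQ_le_UW_of {F : Type*} [Field F] [Finite F] [CharP F 2] [Finite G] {V N R : Subgroup G} (M : RMod F V N) (hQ : QQ R ≤ N)
    {w : Fin 2 → F} (hw : w ≠ 0) (hR : R = M.line w) : QQ R ≤ M.UW w := by
  refine M.lin_of_torus hw hQ ?_ (O2_isPGroup _) ?_
  · rw [← hR]; exact O2_le _
  · intro g _ hg x hx
    rw [← hR] at hg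
    exact conj_mem_of_normalizer (le_normalizer_O2 _ hg) hx

namespace MixedQ

variable {F₁ F₂ : Type*} [Field F₁] [Field F₂] {V₁ V₂ N₁ N₂ : Subgroup G} {M₁ : RMod F₁ V₁ N₁}
  {M₂ : RMod F₂ V₂ N₂} {R : Subgroup G}

theorem symm (m : MixedQ M₁ M₂ R) : MixedQ M₂ M₁ R where
  line₁ := m.line₂
  line₂ := m.line₁
  QN₁ := m.QN₂
  QN₂ := m.QN₁
  char := m.char
  comm₁ := m.comm₂
  comm₂ := m.comm₁
  ne := by
    obtain ⟨a, ha, b, hb, h⟩ := m.ne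
    exact ⟨b, hb, a, ha, fun h1 => h h1.symm⟩

section base

variable (m : MixedQ M₁ M₂ R)
include m

theorem RV : R ≤ V₁ := by
  obtain ⟨w, -, hR⟩ := m.line₁
  rw [hR]
  exact M₁.line_le w

theorem R_ne : R ≠ ⊥ := by
  obtain ⟨w, hw, hR⟩ := m.line₁
  exact M₁.pt_ne ⟨R, w, hw, hR⟩

variable [CharP F₁ 2]

theorem R_pGroup : IsPGroup 2 R := fun v => ⟨1, by
  rw [pow_one, pow_two]
  exact Subtype.ext (M₁.sq (m.RV v.2))⟩

variable [Finite G]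

theorem R_le_QQ : R ≤ QQ R :=
  le_O2_of_normal le_normalizer m.R_pGroup fun _ hg _ ha => conj_mem_of_normalizer hg ha

theorem QQ_le_N : QQ R ≤ N₁ := m.QN₁

variable [Finite F₁]

theorem QQ_le_UW {w : Fin 2 → F₁} (hw : w ≠ 0) (hR : R = M₁.line w) : QQ R ≤ M₁.UW w := by
  refine M₁.lin_of_torus hw m.QQ_le_N ?_ (O2_isPGroup _) ?_
  · rw [← hR]; exact O2_le _
  · intro g _ hg x hx
    rw [← hR] at hg
    exact conj_mem_of_normalizer (le_normalizer_O2 _ hg) hx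

/-- **(1)** `V₁ ≤ O₂(N_G(R))` -/
theorem V_le_QQ : V₁ ≤ QQ R := by
  obtain ⟨w, hw, hR⟩ := m.line₁
  intro v hv
  have hvR : ∀ r ∈ R, v * r = r * v := fun r hr => M₁.comm hv (m.RV hr)
  have hvR' : ∀ r ∈ R, v * r * v⁻¹ ∈ R := fun r hr => by
    rw [hvR r hr, mul_inv_cancel_right]; exact hr
  refine Mix.stab_le m.R_le_QQ (m.char R m.R_pGroup m.R_ne) (mem_normalizer_of_conj hvR') hvR ?_
  intro y hy
  have h1 := M₁.UW_comm hw (m.QQ_le_UW hw hR hy) (inv_mem hv)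
  rw [← hR] at h1
  have h2 := hvR' _ h1
  have e : v * (y * v⁻¹ * y⁻¹ * v⁻¹⁻¹) * v⁻¹ = v * y * v⁻¹ * y⁻¹ := by group
  rwa [e] at h2

theorem C_le_QQ : LL V₁ R R ≤ QQ R := by
  refine Mix.LL_le fun g hg => ?_
  intro x hx
  have h1 := conj_mem_of_normalizer (le_normalizer_O2 _ (cj_eq_self_iff.1 hg)) (m.V_le_QQ (mem_cj.1 hx))
  have e : g * (g⁻¹ * x * g) * g⁻¹ = x := by group
  rwa [e] at h1

theorem QC {g b : G} (hg : g ∈ QQ R) (hb : b ∈ LL V₁ R R) : g * b * g⁻¹ * b⁻¹ ∈ R := by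
  obtain ⟨w, hw, hR⟩ := m.line₁
  let D : Subgroup G :=
    { carrier := {a | a ∈ normalizer (R : Set G) ∧ ∀ x ∈ QQ R, x * a * x⁻¹ * a⁻¹ ∈ R}
      one_mem' := ⟨one_mem _, fun x _ => by
        have : x * 1 * x⁻¹ * 1⁻¹ = 1 := by group
        rw [this]; exact one_mem _⟩
      mul_mem' := by
        rintro a b ⟨ha, ha1⟩ ⟨hb, hb1⟩
        refine ⟨mul_mem ha hb, fun x hx => ?_⟩
        have e : x * (a * b) * x⁻¹ * (a * b)⁻¹ = (x * a * x⁻¹ * a⁻¹) * (a * (x * b * x⁻¹ * b⁻¹) * a⁻¹) := by group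
        rw [e]
        exact mul_mem (ha1 x hx) (conj_mem_of_normalizer ha (hb1 x hx))
      inv_mem' := by
        rintro a ⟨ha, ha1⟩
        refine ⟨inv_mem ha, fun x hx => ?_⟩
        have e : x * a⁻¹ * x⁻¹ * a⁻¹⁻¹ = a⁻¹ * (x * a * x⁻¹ * a⁻¹)⁻¹ * a := by group
        rw [e]
        exact conj_inv_mem_of_normalizer ha (inv_mem (ha1 x hx)) }
  have h1 : LL V₁ R R ≤ D := by
    refine Mix.LL_le fun h hh => ?_
    have hhR := cj_eq_self_iff.1 hh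
    intro a ha
    refine ⟨O2_le _ (m.C_le_QQ (cj_le_LL hh ha)), fun x hx => ?_⟩
    have h2 := M₁.UW_comm hw (m.QQ_le_UW hw hR (conj_inv_mem_of_normalizer (le_normalizer_O2 _ hhR) hx))
      (mem_cj.1 ha)
    rw [← hR] at h2
    have h3 := conj_mem_of_normalizer hhR h2
    have e : h * (h⁻¹ * x * h * (h⁻¹ * a * h) * (h⁻¹ * x * h)⁻¹ * (h⁻¹ * a * h)⁻¹) * h⁻¹ = x * a * x⁻¹ * a⁻¹ := by
      group
    rwa [e] at h3
  exact (h1 hb).2 g hg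

end base

section both

variable [Finite G] [Finite F₁] [Finite F₂] [CharP F₁ 2] [CharP F₂ 2] (m : MixedQ M₁ M₂ R)
include m

/-- a mutual partner of `V₁` of type 2 on `R` -/
theorem exists_partner : ∃ g ∈ normalizer (R : Set G), RMutual V₁ (cj g V₂) N₁ (cj g N₂) := by
  by_contra hcon
  have key : ∀ g ∈ normalizer (R : Set G), ∀ v ∈ V₁, ∀ w ∈ cj g V₂, v * w = w * v := by
    intro g hg v hv w hw
    by_contra hvw
    refine hcon ⟨g, hg, ?_, ?_, v, hv, w, hw, hvw⟩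
    · exact (cj_le_LL (cj_eq_self_iff.2 hg)).trans (m.symm.C_le_QQ.trans m.QQ_le_N)
    · have h1 := cj_mono (g := g) m.symm.QQ_le_N
      rw [cj_QQ, cj_eq_self_iff.2 hg] at h1
      exact m.V_le_QQ.trans h1
  obtain ⟨a, ha, b, hb, hab⟩ := m.ne
  apply hab
  have h1 : LL V₂ R R ≤ centralizer (V₁ : Set G) := by
    refine Mix.LL_le fun g hg => ?_
    intro w hw
    rw [mem_centralizer_iff]
    exact fun v hv => key g (cj_eq_self_iff.1 hg) v hv w hw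
  have h2 : LL V₁ R R ≤ centralizer (LL V₂ R R : Set G) := by
    refine Mix.LL_le fun g hg => ?_
    intro x hx
    rw [mem_centralizer_iff]
    intro y hy
    have h3 : g⁻¹ * y * g ∈ LL V₂ R R :=
      conj_inv_mem_of_normalizer (normalizer_le_LL V₂ R R (cj_eq_self_iff.1 hg)) hy
    have h4 := mem_centralizer_iff.1 (h1 h3) _ (mem_cj.1 hx)
    calc y * x = g * (g⁻¹ * y * g * (g⁻¹ * x * g)) * g⁻¹ := by group
      _ = g * (g⁻¹ * x * g * (g⁻¹ * y * g)) * g⁻¹ := by rw [h4]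
      _ = x * y := by group
  exact (mem_centralizer_iff.1 (h2 ha) b hb).symm

/-- `|F₁| = |F₂|` -/
theorem card_eq : Nat.card F₁ = Nat.card F₂ := by
  obtain ⟨g, hg, h⟩ := m.exists_partner
  exact (pair M₁ (M₂.conj g) h).1

/-- `W₂(R)` induces the full root group on `V₁` -/
theorem full {w : Fin 2 → F₁} (hw : w ≠ 0) (hR : R = M₁.line w) : M₁.Full (LL V₂ R R) w := by
  obtain ⟨g, hg, h⟩ := m.exists_partner
  obtain ⟨-, w₁, w', hq, hq', hl, -⟩ := pair M₁ (M₂.conj g) h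
  have h1 : R = M₁.line w₁ := by
    refine Subgroup.eq_of_le_of_card_ge ?_ ?_
    · rw [← hl]
      refine le_inf m.RV ?_
      have h2 := cj_mono (g := g) m.symm.RV
      rwa [cj_eq_self_iff.2 hg] at h2
    · rw [M₁.card_line hq.ne, hR, M₁.card_line hw]
  have h2 : M₁.line w = M₁.line w₁ := by rw [← hR, h1]
  obtain ⟨c, hc⟩ := (M₁.line_eq_iff hw).1 h2
  have hc0 : c ≠ 0 := by
    rintro rfl
    rw [zero_smul] at hc
    exact hw hc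
  have h3 : M₁.Full (cj g V₂) w₁ := hq.full
  rw [hc]
  exact (h3.mono (cj_le_LL (cj_eq_self_iff.2 hg))).smul hc0


theorem atR {w : Fin 2 → F₁} (hw : w ≠ 0) (hR : R = M₁.line w) : AtR M₁ V₂ R w where
  ne := hw
  line := hR
  R_le := m.symm.RV
  UW := m.symm.C_le_QQ.trans (m.QQ_le_UW hw hR)
  full := m.full hw hR
  comm := fun _ hc _ hb => m.symm.QC (m.C_le_QQ hc) hb
  comm₁ := m.comm₁
  sq₁ := sq_of_comm_LL m.comm₁ fun _ hv => M₁.sq hv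
  comm₂ := m.comm₂
  sq₂ := sq_of_comm_LL m.comm₂ fun _ hv => M₂.sq hv

theorem sideW : SideW V₁ (pt M₁) (fun i => LL V₂ R (pt M₁ i)) (fun i => LL V₁ R (pt M₁ i)) := by
  obtain ⟨w, hw, hR⟩ := m.line₁
  exact (m.atR hw hR).sideW

/-- **`O₂(N_G(R)) ∩ C(C_{W₂}(V₁)) ≤ V₁ C(W₂)`** -/
theorem dec {q : G} (hq : q ∈ QQ R) (hqT : ∀ t ∈ TT V₁ (LL V₂ R R), q * t = t * q) :
    ∃ v ∈ V₁, ∀ b ∈ LL V₂ R R, b * (v * q) = v * q * b := by
  obtain ⟨g, hg, h⟩ := m.exists_partner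
  obtain ⟨-, w₁, w', hq₁, hq', hl, hl'⟩ := pair M₁ (M₂.conj g) h
  obtain ⟨w, hw, hRw⟩ := m.line₁
  have h1 : R = M₁.line w₁ := by
    refine Subgroup.eq_of_le_of_card_ge ?_ ?_
    · rw [← hl]
      refine le_inf m.RV ?_
      have h2 := cj_mono (g := g) m.symm.RV
      rwa [cj_eq_self_iff.2 hg] at h2
    · rw [M₁.card_line hq₁.ne, hRw, M₁.card_line hw]
  have h2 : R = (M₂.conj g).line w' := by rw [← hl', hl, ← h1]
  have hQN : QQ R ≤ cj g N₂ := by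
    have h3 := cj_mono (g := g) m.QN₂
    rwa [cj_QQ, cj_eq_self_iff.2 hg] at h3
  obtain ⟨B', hB', hBi⟩ := QQ_le_UW_of (M₂.conj g) hQN hq'.ne h2 hq
  obtain ⟨v, hv, hvB⟩ := hq'.full B' hB'
  -- `v⁻¹ q` centralises the partner
  have h3 : ∀ y ∈ cj g V₂, q * y * q⁻¹ = v * y * v⁻¹ := by
    intro y hy
    obtain ⟨x, rfl⟩ := ((M₂.conj g).mem_iff y).1 hy
    rw [hBi, hvB]
  have h4 : ∀ y ∈ cj g V₂, v⁻¹ * q * y = y * (v⁻¹ * q) := by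
    intro y hy
    calc v⁻¹ * q * y = v⁻¹ * (q * y * q⁻¹) * q := by group
      _ = v⁻¹ * (v * y * v⁻¹) * q := by rw [h3 y hy]
      _ = y * (v⁻¹ * q) := by group
  refine ⟨v⁻¹, inv_mem hv, fun b hb => ?_⟩
  obtain ⟨B, hB, hbB⟩ := (m.atR hq₁.ne h1).UW hb
  obtain ⟨y, hy, hyB⟩ := hq₁.full B hB
  have h5 : y⁻¹ * b ∈ TT V₁ (LL V₂ R R) := by
    rw [mem_TT]
    refine ⟨mul_mem (inv_mem (cj_le_LL (cj_eq_self_iff.2 hg) hy)) hb, fun u hu => ?_⟩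
    obtain ⟨x, rfl⟩ := (M₁.mem_iff u).1 hu
    have h6 : y * M₁.e x * y⁻¹ = b * M₁.e x * b⁻¹ := by rw [hyB, hbB]
    calc y⁻¹ * b * M₁.e x = y⁻¹ * (b * M₁.e x * b⁻¹) * b := by group
      _ = y⁻¹ * (y * M₁.e x * y⁻¹) * b := by rw [h6]
      _ = M₁.e x * (y⁻¹ * b) := by group
  have h6 := hqT _ h5
  have h7 : v⁻¹ * (y⁻¹ * b) = y⁻¹ * b * v⁻¹ := ((mem_TT.1 h5).2 _ (inv_mem hv)).symm
  have h8 : v⁻¹ * q * (y⁻¹ * b) = y⁻¹ * b * (v⁻¹ * q) := by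
    rw [mul_assoc, h6, ← mul_assoc, h7, mul_assoc]
  have h9 := h4 y hy
  calc b * (v⁻¹ * q) = y * (y⁻¹ * b * (v⁻¹ * q)) := by group
    _ = y * (v⁻¹ * q * (y⁻¹ * b)) := by rw [h8]
    _ = (y * (v⁻¹ * q)) * (y⁻¹ * b) := by group
    _ = (v⁻¹ * q * y) * (y⁻¹ * b) := by rw [h9]
    _ = v⁻¹ * q * b := by group

end both

end MixedQ

end Cfsg.Agent.Omega.IId.MQ
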