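import Cfsg.Agent.Omega.IId.Cv.TwoV
import Cfsg.Agent.Omega.IId.Cv.MixQ
import Cfsg.Agent.Omega.IId.Cv.MixPlug

/-!
# Mixed partners, `q ≥ 4`, both normalised by Sylow 2-subgroups of `G` : impossible (`CvMixEnd`; helper468)

* `AtR.exists_torus_move` : the torus of `X` is transitive on `R - 1`;
* `MixedV M₁ M₂ R S T U` : `MixedQ` with a group `S ≤ N_G(V₁) ∩ N_G(V₂) ∩ N_G(R)` of odd index in `N_G(R)` (not
  necessarily semilinear on `V₁`, `V₂`) and subgroups `T ≤ N₁`, `U ≤ N₂` of index `≤ 2` of `S`;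
* `MixedV.cen_le` : `C_G(O₂(N_G(R))) ≤ R` if `|F₁| ≥ 4`;
* `mix_end_false`, `CvMixEnd K`, `cvMixEnd`.
-/

set_option autoImplicit false
set_option linter.unusedSectionVars false

namespace Cfsg.Agent.Omega.MixOne

open Subgroup Cfsg.Agent.Lib.SL2Mat Cfsg.Agent.Omega.BTwo Cfsg.Agent.Omega.Mix
open Cfsg.Agent.Omega.NatPair (dt dt_add dt_smul exists_smul_of_dt exists_comb ap ap_smul ap_add ap_zero' ap_one'
  ap_mul ap_inv_ap ap_ap_inv ap_one exists_ap exists_ap_e ap_up_e ext2)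

variable {G : Type*} [Group G] {F : Type*} [Field F]

/-- the torus of `X` is transitive on `R - 1` -/
theorem AtR.exists_torus_move {V N V' R : Subgroup G} {M : RMod F V N} {w : Fin 2 → F} (a : AtR M V' R w) {r s : G}
    (hr : r ∈ R) (hr1 : r ≠ 1) (hs : s ∈ R) (hs1 : s ≠ 1) :
    ∃ τ ∈ ⨆ i, LL V' R (pt M i), τ ∈ normalizer (R : Set G) ∧ τ * r * τ⁻¹ = s := by
  let X : Subgroup G := ⨆ i, LL V' R (pt M i)
  have hX : ∀ {u : Fin 2 → F} (hu : u ≠ 0), LL V' R (M.line u) ≤ X := fun {u} hu =>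
    le_iSup (fun i => LL V' R (pt M i)) ⟨M.line u, u, hu, rfl⟩
  let L : Subgroup (Matrix.SpecialLinearGroup (Fin 2) F) :=
    { carrier := {A | ∃ x ∈ X, M.Ind x A}
      one_mem' := ⟨1, one_mem _, fun x => by rw [ap_one]; group⟩
      mul_mem' := by
        rintro A B ⟨x, hx, hxA⟩ ⟨y, hy, hyB⟩
        refine ⟨x * y, mul_mem hx hy, fun z => ?_⟩
        have e : x * y * M.e z * (x * y)⁻¹ = x * (y * M.e z * y⁻¹) * x⁻¹ := by group
        rw [e, hyB, hxA, ap_mul]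
      inv_mem' := by
        rintro A ⟨x, hx, hxA⟩
        refine ⟨x⁻¹, inv_mem hx, fun z => ?_⟩
        have h1 := hxA (ap A⁻¹ z)
        rw [ap_ap_inv] at h1
        rw [← h1]; group }
  have hL : ∀ {u : Fin 2 → F}, u ≠ 0 → ∀ {B}, ap B u = u → B ∈ L := by
    intro u hu B hB
    obtain ⟨b, hb, hb'⟩ := a.full_at hu hB
    exact ⟨b, hX hu hb, hb'⟩
  have h01 : (![0, 1] : Fin 2 → F) ≠ 0 := fun h => by simpa using congrFun h 1
  have h10 : (![1, 0] : Fin 2 → F) ≠ 0 := fun h => by simpa using congrFun h 0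
  have hup : ∀ b, up b ∈ L := fun b => hL h10 (ap_up_e b)
  have hlo : ∀ b, lo b ∈ L := fun b => hL h01 (by
    apply ext2
    · rw [ap_zero']; simp
    · rw [ap_one']; simp)
  have hall : ∀ A, A ∈ L := by
    intro A
    obtain ⟨p, q, r, s, rfl⟩ := exists_up_lo A
    exact mul_mem (mul_mem (mul_mem (hup _) (hlo _)) (hup _)) (hlo _)
  obtain ⟨D, hD⟩ := exists_ap_e a.ne
  rw [a.line] at hr hs
  obtain ⟨c, rfl⟩ := hr
  obtain ⟨d, rfl⟩ := hs
  have hc0 : c ≠ 0 := fun h => hr1 (by rw [h, zero_smul, M.e_zero])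
  have hd0 : d ≠ 0 := fun h => hs1 (by rw [h, zero_smul, M.e_zero])
  have hdc : d / c ≠ 0 := div_ne_zero hd0 hc0
  obtain ⟨τ, hτ, hτA⟩ := hall (D * dg (d / c) hdc * D⁻¹)
  have hw : ap (D * dg (d / c) hdc * D⁻¹) w = (d / c) • w := by
    rw [← hD, ap_mul, ap_mul, ap_inv_ap, ← ap_smul]
    congr 1
    apply ext2
    · rw [ap_zero']; simp
    · rw [ap_one']; simp
  refine ⟨τ, hτ, ?_, ?_⟩
  · have e : cj τ (M.line w) = M.line (ap (D * dg (d / c) hdc * D⁻¹) w) := M.cj_line_of_ind hτA w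
    rw [← cj_eq_self_iff, a.line, e, hw, M.line_smul hdc]
  · have h1 := hτA (c • w)
    rw [ap_smul, hw, smul_smul, mul_div_cancel₀ _ hc0] at h1
    exact h1

end Cfsg.Agent.Omega.MixOne

namespace Cfsg.Agent.Omega.IId.MQ

open Subgroup Cfsg.Agent.Lib.SL2Mat Cfsg.Agent.Omega.BTwo Cfsg.Agent.Omega.Mix Cfsg.Agent.Omega.MixOne
open Cfsg.Agent.Omega.IId.M4 (TwoV)

variable {G : Type*} [Group G]

/-- `MixedQ` with `S ≤ N_G(V₁) ∩ N_G(V₂) ∩ N_G(R)` of odd index in `N_G(R)`; `T ≤ N₁`, `U ≤ N₂` of index `≤ 2` in `S` -/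
structure MixedV {F₁ F₂ : Type*} [Field F₁] [Field F₂] {V₁ V₂ N₁ N₂ : Subgroup G} (M₁ : RMod F₁ V₁ N₁)
    (M₂ : RMod F₂ V₂ N₂) (R S T U : Subgroup G) : Prop extends MixedQ M₁ M₂ R where
  NV₁ : S ≤ normalizer (V₁ : Set G)
  NV₂ : S ≤ normalizer (V₂ : Set G)
  SR : S ≤ normalizer (R : Set G)
  odd : ¬ 2 ∣ S.relIndex (normalizer (R : Set G))
  TS : T ≤ S
  US : U ≤ S
  T4 : T.relIndex S ≤ 2
  U4 : U.relIndex S ≤ 2
  TN₁ : T ≤ N₁
  UN₂ : U ≤ N₂
  nl : ∀ K : Subgroup G, IsPGroup 2 K → N₁ ≤ normalizer (K : Set G) → N₂ ≤ normalizer (K : Set G) →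
    normalizer (R : Set G) ≤ normalizer (K : Set G) → K = ⊥

namespace MixedV

variable {F₁ F₂ : Type*} [Field F₁] [Field F₂] {V₁ V₂ N₁ N₂ : Subgroup G} {M₁ : RMod F₁ V₁ N₁}
  {M₂ : RMod F₂ V₂ N₂} {R S T U : Subgroup G} [Finite G] [Finite F₁] [Finite F₂] [CharP F₁ 2] [CharP F₂ 2]
  (m : MixedV M₁ M₂ R S T U)
include m

theorem two : ∃ (i : Pt M₁) (j : Pt M₂), pt M₁ i = R ∧ pt M₂ j = R ∧
      TwoV V₁ V₂ (pt M₁) (fun i => LL V₂ R (pt M₁ i)) (fun i => LL V₁ R (pt M₁ i)) (pt M₂)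
        (fun i => LL V₁ R (pt M₂ i)) (fun i => LL V₂ R (pt M₂ i)) i j S T U := by
  obtain ⟨w, hw, hR⟩ := m.line₁
  obtain ⟨w', hw', hR'⟩ := m.line₂
  refine ⟨⟨R, w, hw, hR⟩, ⟨R, w', hw', hR'⟩, rfl, rfl, ?_⟩
  exact
    { s₁ := m.toMixedQ.sideW
      s₂ := m.toMixedQ.symm.sideW
      hR := rfl
      hB := rfl
      hC := rfl
      ch := m.char R m.toMixedQ.R_pGroup m.toMixedQ.R_ne
      NL := fun K hK k1 k2 k3 => m.nl K hK (M₁.le_ST.trans k1) (M₂.le_ST.trans k2) k3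
      NV₁ := m.NV₁
      NV₂ := m.NV₂
      SR := m.SR
      odd := m.odd
      TS := m.TS
      US := m.US
      T4 := m.T4
      U4 := m.U4
      SV₁ := m.TN₁.trans M₁.le_ST
      SV₂ := m.UN₂.trans M₂.le_ST
      gen₁ := fun K hK => Mix.LL_le fun g hg => hK g (cj_eq_self_iff.1 hg)
      gen₂ := fun K hK => Mix.LL_le fun g hg => hK g (cj_eq_self_iff.1 hg) }

/-- **`C_G(O₂(N_G(R))) ≤ R`** -/
theorem cen_le (h4 : 4 ≤ Nat.card F₁) : centralizer (QQ R : Set G) ≤ R := by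
  have : Fact (Nat.Prime 2) := ⟨Nat.prime_two⟩
  obtain ⟨i, j, hi, hj, t⟩ := m.two
  obtain ⟨w, hw, hR⟩ := m.line₁
  obtain ⟨w', hw', hR'⟩ := m.line₂
  obtain ⟨c, hc0, hc1⟩ := exists_ne_zero_one h4
  obtain ⟨c', hc0', hc1'⟩ := exists_ne_zero_one (by rw [← m.toMixedQ.card_eq]; exact h4 : 4 ≤ Nat.card F₂)
  have hcR : 4 ∣ Nat.card R := by
    obtain ⟨n, hn⟩ := IsPGroup.iff_card.1 m.toMixedQ.R_pGroup
    have h5 : 4 ≤ Nat.card R := by
      rw [hR, M₁.card_line hw]; exact h4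
    rw [hn] at h5 ⊢
    have h6 : 2 ≤ n := by
      by_contra hcon
      have h7 : n ≤ 1 := by omega
      have := Nat.pow_le_pow_right (n := 2) (by norm_num) h7
      omega
    exact (pow_dvd_pow 2 h6 : (2 : ℕ) ^ 2 ∣ 2 ^ n)
  have h5 := t.YY_eq (by rw [hi]; exact hcR)
    (by rw [hi]; exact (m.toMixedQ.atR hw hR).exists_torus hc0 hc1)
    (by rw [hj]; exact (m.toMixedQ.symm.atR hw' hR').exists_torus hc0' hc1')
    (by rw [hi]; exact fun r hr hr1 s hs hs1 => (m.toMixedQ.atR hw hR).exists_torus_move hr hr1 hs hs1)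
    (by rw [hj]; exact fun r hr hr1 s hs hs1 => (m.toMixedQ.symm.atR hw' hR').exists_torus_move hr hr1 hs hs1)
  intro x hx
  rw [← hi, ← h5, mem_YY]
  rw [mem_centralizer_iff] at hx
  constructor
  · intro b hb
    rw [hi] at hb
    exact (hx b (m.toMixedQ.symm.C_le_QQ hb)).symm
  · intro c hc
    rw [hi] at hc
    exact (hx c (m.toMixedQ.C_le_QQ hc)).symm

end MixedV

end Cfsg.Agent.Omega.IId.MQ

namespace Cfsg.Agent.Omega.IId.NV

open Subgroup Cfsg Cfsg.Agent.Lib.SL2Mat Cfsg.Agent.MinSimple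
open Cfsg.Agent.ZN (o2 zc zl)
open Cfsg.Agent.Omega.MinPar Cfsg.Agent.Omega.FFThm
open Cfsg.Agent.Omega.BTwo (cj mem_cj cj_mono cj_eq_self_iff conj_mem_cj QQ card_cj)
open Cfsg.Agent.Omega.Mix (RMod LL LL_conj V_le_LL char2_normalizer pt cj_QQ)
open Cfsg.Agent.Omega.IId.M4 (toRMod toRMod_line nmG exists_cj_eq LL_comm mem_nmG)
open Cfsg.Agent.Omega.IId.FourSide (vec_ne)
open Cfsg.Agent.Omega.IId.Cv (LineD UnM)
open Cfsg.Agent.Omega.IId.MQ (MixedV)

universe u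

/-- a Sylow 2-subgroup of `G` over `T` in `N` -/
theorem exists_sylow_over {G : Type*} [Group G] [Finite G] {T N : Subgroup G} {T₁ : Sylow 2 G} (hT2 : IsPGroup 2 T)
    (hTN : T ≤ N) (h1 : (T₁ : Subgroup G) ≤ N) : ∃ Q : Sylow 2 G, T ≤ Q ∧ (Q : Subgroup G) ≤ N := by
  have : Fact (Nat.Prime 2) := ⟨Nat.prime_two⟩
  obtain ⟨T', a1, a2, a3, a4⟩ := Half.exists_sylow_le hT2 hTN
  have h2 := Half.card_mul_relIndex a2
  have h3 := Subgroup.card_dvd_of_le h1
  obtain ⟨n, hn⟩ := IsPGroup.iff_card.1 T₁.isPGroup'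
  have h4 : Nat.card (T₁ : Subgroup G) ∣ Nat.card T' := by
    rw [hn] at h3 ⊢
    rw [← h2] at h3
    exact (Nat.Coprime.pow_left n ((Nat.Prime.coprime_iff_not_dvd Nat.prime_two).2 a4)).dvd_of_dvd_mul_right h3
  obtain ⟨Q, hQ⟩ := a3.exists_le_sylow
  have h5 : T' = (Q : Subgroup G) := by
    refine eq_of_le_of_card_ge hQ ?_
    have h6 : Nat.card (Q : Subgroup G) = Nat.card (T₁ : Subgroup G) := by
      rw [Q.card_eq_multiplicity, T₁.card_eq_multiplicity]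
    rw [h6]
    exact Nat.le_of_dvd Nat.card_pos h4
  exact ⟨Q, h5 ▸ a1, h5 ▸ a2⟩

section one

variable {G : Type u} [Group G] [Finite G] {F : Type} [Field F] [Finite F] [CharP F 2] {S : Sylow 2 G}
  {P V D : Subgroup G}

/-- `k = 1` : `V_i ≤ Z(O₂(N_G(K)))` for a local subgroup `N_G(K) ≥ nmG` -/
theorem fac_le_center_one (M : NatD F S P V D 1) (i : Fin 1) {K : Subgroup G} (hK : IsPGroup 2 K) (hK1 : K ≠ ⊥)
    (hN : nmG (pre M.toNatV i) ≤ normalizer (K : Set G)) :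
    fac M.toNatV i ≤ o2 (normalizer (K : Set G)) ∧
      o2 (normalizer (K : Set G)) ≤ centralizer (fac M.toNatV i : Set G) := by
  have hSN : (S : Subgroup G) ≤ normalizer (K : Set G) := by
    rw [← stab_one M i]
    exact (stab_le_nmG (SP M) M.toNatV i).trans hN
  have hOS : o2 (normalizer (K : Set G)) ≤ (S : Subgroup G) :=
    VModule.o2_le_of_sylow S.isPGroup' (MinSimple.Basic.not_dvd_relIndex S hSN)
  have hch := MinSimple.Basic.char2_normalizer M.hG hK hK1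
  have hV2 : IsPGroup 2 (fac M.toNatV i) := S.isPGroup'.to_le ((fac_le _ _).trans (V_le_S M))
  obtain ⟨z, hz, hz1, hzc⟩ := Half.exists_fixed hV2 (fac_ne_bot M.toNatV i) S.isPGroup'
    ((SP M).trans (P_le_fac M i))
  have hzS : z ∈ (S : Subgroup G) := V_le_S M hz.1
  have hzO : z ∈ o2 (normalizer (K : Set G)) := hch ⟨hSN hzS, mem_centralizer_iff.2 fun q hq =>
    mul_inv_eq_iff_eq_mul.1 (hzc q (hOS hq))⟩
  have key : ∀ v ∈ fac M.toNatV i, v ∈ o2 (normalizer (K : Set G)) ∧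
      ∀ q ∈ o2 (normalizer (K : Set G)), q * v = v * q := by
    intro v hv
    by_cases hv1 : v = 1
    · rw [hv1]
      exact ⟨one_mem _, fun q _ => by rw [mul_one, one_mul]⟩
    obtain ⟨g, hg, rfl⟩ := exists_grp M.toNatV hz hv hz1 hv1
    have hgN := VModule.le_normalizer_o2 _ (hN (grp_le_nmG M.toNatV i hg))
    refine ⟨(mem_normalizer_iff.1 hgN z).1 hzO, fun q hq => ?_⟩
    have h1 : g⁻¹ * q * g ∈ o2 (normalizer (K : Set G)) := by
      have := (mem_normalizer_iff.1 (inv_mem hgN) q).1 hq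
      rwa [inv_inv] at this
    have h2 : g⁻¹ * q * g * z = z * (g⁻¹ * q * g) := mul_inv_eq_iff_eq_mul.1 (hzc _ (hOS h1))
    calc q * (g * z * g⁻¹) = g * (g⁻¹ * q * g * z) * g⁻¹ := by group
      _ = g * (z * (g⁻¹ * q * g)) * g⁻¹ := by rw [h2]
      _ = g * z * g⁻¹ * q := by group
  exact ⟨fun v hv => (key v hv).1, fun q hq => mem_centralizer_iff.2 fun v hv => ((key v hv).2 q hq).symm⟩

/-- `k = 1, 2` -/
theorem fac_le_center' {k : ℕ} (hk : k = 1 ∨ k = 2) (M : NatD F S P V D k) (i : Fin k) {K : Subgroup G}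
    (hK : IsPGroup 2 K) (hK1 : K ≠ ⊥) (hN : nmG (pre M.toNatV i) ≤ normalizer (K : Set G)) :
    fac M.toNatV i ≤ o2 (normalizer (K : Set G)) ∧
      o2 (normalizer (K : Set G)) ≤ centralizer (fac M.toNatV i : Set G) := by
  rcases hk with rfl | rfl
  · exact fac_le_center_one M i hK hK1 hN
  · obtain ⟨j, hj⟩ := exists_ne i
    exact fac_le_center M hj.symm hK hK1 hN

/-- `O₂(N_G(R)) ≤ nmG` -/
theorem o2_le_nmG {k : ℕ} (hk : k = 1 ∨ k = 2) (M : NatD F S P V D k) (i : Fin k) :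
    QQ (line M.toNatV i) ≤ nmG (pre M.toNatV i) :=
  (o2_line_le' M hk i).trans (stab_le_nmG (SP M) M.toNatV i)

/-- a Sylow 2-subgroup of `G` in `N_G(V_i) ∩ N_G(R)` over `stab M i`; the index is `k` -/
theorem exists_stab_le {k : ℕ} (M : NatD F S P V D k) (i : Fin k) {T₁ : Sylow 2 G}
    (h1 : (T₁ : Subgroup G) ≤ normalizer (fac M.toNatV i : Set G))
    (h2 : (T₁ : Subgroup G) ≤ normalizer (line M.toNatV i : Set G)) :
    ∃ Q : Sylow 2 G, stab M.toNatV i ≤ Q ∧ (Q : Subgroup G) ≤ normalizer (fac M.toNatV i : Set G) ∧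
      (Q : Subgroup G) ≤ normalizer (line M.toNatV i : Set G) := by
  obtain ⟨Q, a1, a2⟩ := exists_sylow_over (T₁ := T₁) (S.isPGroup'.to_le (stab_le M.toNatV i))
    (le_inf (stab_normalizes _ i) (stab_normalizes_line M.toNatV (SP M) i)) (le_inf h1 h2)
  exact ⟨Q, a1, a2.trans inf_le_left, a2.trans inf_le_right⟩

/-- a subgroup of a Sylow 2-subgroup of the order of `stab M i` has index `k` -/
theorem relIndex_eq {k : ℕ} (M : NatD F S P V D k) (i : Fin k) (Q : Sylow 2 G) {U : Subgroup G} (hU : U ≤ Q)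
    (hc : Nat.card U = Nat.card (stab M.toNatV i)) : U.relIndex (Q : Subgroup G) = k := by
  have : Fact (Nat.Prime 2) := ⟨Nat.prime_two⟩
  have h1 := Half.card_mul_relIndex hU
  have h2 : Nat.card (Q : Subgroup G) = Nat.card (S : Subgroup G) := by
    rw [Q.card_eq_multiplicity, S.card_eq_multiplicity]
  rw [h2, card_stab M.toNatV (SP M) i, hc, mul_comm k] at h1
  exact Nat.eq_of_mul_eq_mul_left Nat.card_pos h1

end one

/-- **Mixed partners, `q ≥ 4`, `V_i`, `V'_{i'}` normalised by Sylow 2-subgroups of `G` in `N_G(R)`: impossible.** -/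
theorem mix_end_false {G : Type u} [Group G] [Finite G] {F F' : Type} [Field F] [Finite F] [CharP F 2] [Field F']
    [Finite F'] [CharP F' 2] {S S' : Sylow 2 G} {P V D P' V' D' : Subgroup G} {k' : ℕ} {M : NatD F S P V D 2}
    {M' : NatD F' S' P' V' D' k'} (hk : k' = 1 ∨ k' = 2) {i : Fin 2} {i' : Fin k'} (L : LineD M M' i i')
    (hu : ¬ UnM M i) (hu' : ¬ UnM M' i') (h4 : 4 ≤ Nat.card F) {T₁ T₁' : Sylow 2 G}
    (h1 : (T₁ : Subgroup G) ≤ normalizer (fac M.toNatV i : Set G))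
    (h2 : (T₁ : Subgroup G) ≤ normalizer (line M.toNatV i : Set G))
    (h1' : (T₁' : Subgroup G) ≤ normalizer (fac M'.toNatV i' : Set G))
    (h2' : (T₁' : Subgroup G) ≤ normalizer (line M'.toNatV i' : Set G)) : False := by
  have : Fact (Nat.Prime 2) := ⟨Nat.prime_two⟩
  obtain ⟨j, hji⟩ := exists_ne i
  have hij : i ≠ j := hji.symm
  obtain ⟨T, a1, a2, a3⟩ := exists_stab_le M i h1 h2
  obtain ⟨T', a1', a2', a3'⟩ := exists_stab_le M' i' h1' h2'
  have hl := L.eq'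
  rw [← hl] at a3'
  obtain ⟨g, hg, hgT⟩ := exists_cj_eq a3 a3' T.isPGroup' T'.isPGroup' (MinSimple.Basic.not_dvd_relIndex T a3)
    (MinSimple.Basic.not_dvd_relIndex T' a3')
  have hgR : cj g (line M.toNatV i) = line M.toNatV i := cj_eq_self_iff.2 hg
  have eLL : LL (cj g (fac M'.toNatV i')) (line M.toNatV i) (line M.toNatV i) =
      LL (fac M'.toNatV i') (line M.toNatV i) (line M.toNatV i) := by
    have e1 := LL_conj g (fac M'.toNatV i') (line M.toNatV i) (line M.toNatV i)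
    rwa [hgR] at e1
  have hline : ∀ w, ((toRMod (pre M'.toNatV i')).conj g).line w = cj g ((toRMod (pre M'.toNatV i')).line w) :=
    fun w => (toRMod (pre M'.toNatV i')).conj_line g w
  have m : MixedV (V₂ := cj g (fac M'.toNatV i')) (N₂ := cj g (nmG (pre M'.toNatV i'))) (toRMod (pre M.toNatV i))
      ((toRMod (pre M'.toNatV i')).conj g) (line M.toNatV i) T (stab M.toNatV i) (cj g (stab M'.toNatV i')) := by
    refine ⟨⟨⟨![1, 0], vec_ne, ?_⟩, ⟨![1, 0], vec_ne, ?_⟩, o2_le_nmG (Or.inr rfl) M i, ?_, ?_,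
      LL_comm (comm_of_not_unM hu), ?_, ?_⟩, a2, ?_, a3, MinSimple.Basic.not_dvd_relIndex T a3, a1, ?_, ?_, ?_,
      stab_le_nmG (SP M) _ i, cj_mono (stab_le_nmG (SP M') _ i'), ?_⟩
    · rw [toRMod_line, pre_line]
    · have h5 := hline ![1, 0]
      rw [toRMod_line, pre_line, ← hl, hgR] at h5
      exact h5.symm
    · have h5 := cj_mono (g := g) (o2_le_nmG hk M' i')
      rwa [cj_QQ, ← hl, hgR] at h5
    · exact fun K hK hK1 => char2_normalizer M.hG hK hK1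
    · rw [eLL]
      apply LL_comm
      rw [hl]
      exact comm_of_not_unM hu'
    · rw [eLL]
      obtain ⟨v, hv, w, hw, hvw⟩ := L.ne
      exact ⟨v, V_le_LL _ _ hv, w, V_le_LL _ _ hw, hvw⟩
    · intro x hx
      rw [← hgT] at hx
      have h5 := a2' (mem_cj.1 hx)
      rw [← cj_eq_self_iff] at h5 ⊢
      rw [Cfsg.Agent.Omega.BTwo.cj_mul, Cfsg.Agent.Omega.BTwo.cj_mul] at h5
      have h6 := congrArg (cj g) h5
      rwa [Cfsg.Agent.Omega.BTwo.cj_cj_inv] at h6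
    · rw [← hgT]
      exact cj_mono a1'
    · rw [relIndex_eq M i T a1 rfl]
    · have h5 : cj g (stab M'.toNatV i') ≤ (T : Subgroup G) := by
        rw [← hgT]
        exact cj_mono a1'
      rw [relIndex_eq M' i' T h5 (card_cj _ _)]
      omega
    · intro K hK k1 k2 k3
      by_contra hK1
      have hk' : g ∈ normalizer (K : Set G) := k3 hg
      have k4 : nmG (pre M'.toNatV i') ≤ normalizer (K : Set G) := by
        intro x hx
        have h3 := k2 (conj_mem_cj (g := g) hx)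
        have h4 := mul_mem (mul_mem (inv_mem hk') h3) hk'
        have e : g⁻¹ * (g * x * g⁻¹) * g = x := by group
        rwa [e] at h4
      have h3 := fac_le_center M hij hK hK1 k1
      have h4 := fac_le_center' hk M' i' hK hK1 k4
      obtain ⟨v, hv, w, hw, hvw⟩ := L.ne
      exact hvw (mem_centralizer_iff.1 (h4.2 (h3.1 hv)) w hw).symm
  have h5 := m.cen_le h4
  have h6 : fac M.toNatV j ≤ line M.toNatV i := by
    refine le_trans ?_ h5
    rw [Subgroup.le_centralizer_iff]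
    exact (fac_le_o2_line M hij).2
  have h7 : fac M.toNatV j ≤ fac M.toNatV i ⊓ fac M.toNatV j := le_inf (h6.trans (line_le _ _)) le_rfl
  rw [fac_inf M.toNatV hij, le_bot_iff] at h7
  exact fac_ne_bot M.toNatV j h7

end Cfsg.Agent.Omega.IId.NV

namespace Cfsg.Agent.Omega.IId.Cv

open Subgroup Cfsg Cfsg.Agent.ZN
open Cfsg.Agent.Omega.IId.NV
open Cfsg.Agent.Omega.MinPar Cfsg.Agent.Omega.Frame Cfsg.Agent.Omega.FFThm Cfsg.Agent.Omega.FrameMulti

universe u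

/-- Mixed pairs, `q ≥ 4`, both factors normalised by Sylow 2-subgroups of `G` in `N_G(R)`. -/
def CvMixEnd (K : Cls.{u}) : Prop :=
  ∀ (G : Type u) [Group G] [Finite G] (S S' : Sylow 2 G), HypN K S → ∀ (P P' : Subgroup G), Pair S S' P P' →
    ∀ (F F' : Type) [Field F] [Finite F] [CharP F 2] [Field F'] [Finite F'] [CharP F' 2]
      (V V' D D' : Subgroup G) (k' : ℕ) (M : NatD F S P V D 2) (M' : NatD F' S' P' V' D' k'), 1 ≤ k' → k' ≤ 2 →
      D ≠ ⊥ ∨ D' ≠ ⊥ → ∀ i i', LineD M M' i i' → ¬ UnM M i → ¬ UnM M' i' → 4 ≤ Nat.card F →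
        (∃ T₁ : Sylow 2 G, (T₁ : Subgroup G) ≤ normalizer (NV.fac M.toNatV i : Set G) ⊓
          normalizer (NV.line M.toNatV i : Set G)) →
        (∃ T₁ : Sylow 2 G, (T₁ : Subgroup G) ≤ normalizer (NV.fac M'.toNatV i' : Set G) ⊓
          normalizer (NV.line M'.toNatV i' : Set G)) → False

theorem cvMixEnd (K : Cls.{u}) : CvMixEnd K := by
  intro G _ _ S S' _ P P' _ F F' _ _ _ _ _ _ V V' D D' k' M M' hk hk' _ i i' L hu hu' h4 hT hT'
  obtain ⟨T₁, h1⟩ := hT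
  obtain ⟨T₁', h1'⟩ := hT'
  exact mix_end_false (by omega) L hu hu' h4 (h1.trans inf_le_left) (h1.trans inf_le_right)
    (h1'.trans inf_le_left) (h1'.trans inf_le_right)

end Cfsg.Agent.Omega.IId.Cv
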