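import Cfsg.Agent.Omega.IId.Cv.KillSide
import Cfsg.Agent.Omega.IId.Cv.ExX
import Cfsg.Agent.Omega.IId.Cv.MixEnd

/-!
# WrCv: `CvMix K` (helper330, helper468; helper994 #17943)

* `cvMix4 : CvMix4 K` : mixed pairs, CASE 2, `q ≥ 4`;
* `cvMix : CvMix K`.
-/

set_option autoImplicit false
set_option linter.unusedSectionVars false

namespace Cfsg.Agent.Omega.IId.Cv

open Subgroup Cfsg Cfsg.Agent.ZN Cfsg.Agent.MinSimple
open Cfsg.Agent.Omega.IId.NV
open Cfsg.Agent.Omega.MinPar Cfsg.Agent.Omega.Frame Cfsg.Agent.Omega.FFThm Cfsg.Agent.Omega.FrameMulti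

universe u

theorem cvMix4 (K : Cls.{u}) : CvMix4 K := by
  intro G _ _ S S' hH P P' hp F F' _ _ _ _ _ _ V V' D D' k' M M' hk hk' hD i i' L hu hu' h4 hd
  have hk2 : k' = 1 ∨ k' = 2 := by omega
  have h4' : 4 ≤ Nat.card F' := by rw [L.card]; exact h4
  obtain ⟨T₁, w, ho, hT₁⟩ := exists_over M (NV.stab_normalizes_line M.toNatV (SP M) i) hd
  have m := mixedQ_of (M := M) (M' := M') (Or.inr rfl) hk2 L.eq' L.ne hu hu'
  have key : ∀ M' : NatD F' S' P' V' D' 2, ∀ i' : Fin 2, NV.line M.toNatV i = NV.line M'.toNatV i' →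
      ∃ (T₂ : Sylow 2 G) (w' : G), Over M' i' T₂ w' ∧
        (T₂ : Subgroup G) ≤ normalizer (NV.line M'.toNatV i' : Set G) := by
    intro M' i' hl
    refine exists_over M' (NV.stab_normalizes_line M'.toNatV (SP M') i') ?_
    rw [two_dvd_iff] at hd ⊢
    rwa [← hl]
  obtain ⟨x, hx, hx1, hxg⟩ : ∃ x ∈ zc (T₁ : Subgroup G), x ≠ 1 ∧ ∀ g ∈ NV.grp M.toNatV {i}, g * x = x * g := by
    rcases hD with hD | hD
    · exact exists_x_two M hD ho
    · rcases hk2 with rfl | rfl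
      · obtain ⟨d, hd', hd1⟩ : ∃ d ∈ D', d ≠ 1 := by
          by_contra hcon
          push Not at hcon
          exact hD ((eq_bot_iff_forall D').2 hcon)
        exact exists_transfer (M := M') (M' := M) (Or.inr rfl) L.eq'.symm h4' h4 (T₁ := S') (S_le_line M' i')
          (D_le_zc M' hd') hd1 (fun g hg => (mem_centralizer_iff.1 (M'.cD (NV.grp_le _ _ hg)) d hd').symm) hT₁ ho.le
      · obtain ⟨T₂, w', ho', hT₂⟩ := key M' i' L.eq'
        obtain ⟨y, hy, hy1, hyg⟩ := exists_x_two M' hD ho'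
        exact exists_transfer (M := M') (M' := M) (Or.inr rfl) L.eq'.symm h4' h4 hT₂ hy hy1 hyg hT₁ ho.le
  have n1 := exists_norm4 m h4 ho hT₁ hx hx1 hxg
  refine cvMixEnd K G S S' hH P P' hp F F' V V' D D' k' M M' hk hk' hD i i' L hu hu' h4 n1 ?_
  rcases hk2 with rfl | rfl
  · exact ⟨S', le_inf ((SP M').trans (P_le_fac M' i')) (S_le_line M' i')⟩
  · obtain ⟨T₂, w', ho', hT₂⟩ := key M' i' L.eq'
    obtain ⟨y, hy, hy1, hyg⟩ := exists_transfer (M := M) (M' := M') (Or.inr rfl) L.eq' h4 h4' hT₁ hx hx1 hxg hT₂ ho'.le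
    have m' := m.symm
    rw [L.eq'] at m'
    exact exists_norm4 m' h4' ho' hT₂ hy hy1 hyg

/-- **Mixed pairs.** -/
theorem cvMix (K : Cls.{u}) : CvMix K := cvMix_of (cvMix4 K)

end Cfsg.Agent.Omega.IId.Cv
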