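import Cfsg.Agent.Omega.NSix.Basic
import Cfsg.Agent.Omega.NSix.TkPair
import Cfsg.Agent.Omega.BTwo.Conj

/-!
# The four-group of the even subsets of `{i, j, p}` (helper994)

* `E3`, `card_E3`, `norm_E3`;
* `le_of_E3` : `L ≤ H` if `C_L(r_ij) ≤ H` and `N_L(E3) ≤ H`.
-/

set_option autoImplicit false
set_option linter.unusedSectionVars false

namespace Cfsg.Agent.Omega.IId.Cv

open Subgroup Cfsg.Agent.Omega.S5.Def
open Cfsg.Agent.Omega.NSix.Base Cfsg.Agent.Omega.NSix.Basic
open Cfsg.Agent.Omega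

universe u

section E3

variable {G : Type u} [Group G] {n : ℕ} {A L : Subgroup G} {ε : (Fin n → ZMod 2) → G}

/-- the four-group of the even subsets of `{i, j, p}` -/
def E3 (h : EvenSet n A L ε) (i j p : Fin n) : Subgroup G where
  carrier := {x | x = 1 ∨ x = rr ε i j ∨ x = rr ε i p ∨ x = rr ε j p}
  one_mem' := Or.inl rfl
  mul_mem' := by
    have e1 := rr_sq h i j
    have e2 := rr_sq h i p
    have e3 := rr_sq h j p
    have f1 : rr ε i j * rr ε j p = rr ε i p := rr_add h i j p
    have f2 : rr ε j p * rr ε i j = rr ε i p := by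
      rw [h.comm_mem (rr_mem h j p) (rr_mem h i j), f1]
    have f3 : rr ε i j * rr ε i p = rr ε j p := by
      rw [rr_symm h i j]; exact rr_add h j i p
    have f4 : rr ε i p * rr ε i j = rr ε j p := by
      rw [h.comm_mem (rr_mem h i p) (rr_mem h i j), f3]
    have f5 : rr ε i p * rr ε j p = rr ε i j := by
      rw [rr_symm h j p]; exact rr_add h i p j
    have f6 : rr ε j p * rr ε i p = rr ε i j := by
      rw [h.comm_mem (rr_mem h j p) (rr_mem h i p), f5]
    rintro x y (rfl | rfl | rfl | rfl) (rfl | rfl | rfl | rfl)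
    · left; rw [one_mul]
    · right; left; rw [one_mul]
    · right; right; left; rw [one_mul]
    · right; right; right; rw [one_mul]
    · right; left; rw [mul_one]
    · left; exact e1
    · right; right; right; exact f3
    · right; right; left; exact f1
    · right; right; left; rw [mul_one]
    · right; right; right; exact f4
    · left; exact e2
    · right; left; exact f5
    · right; right; right; rw [mul_one]
    · right; right; left; exact f2
    · right; left; exact f6
    · left; exact e3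
  inv_mem' := by
    rintro x (rfl | rfl | rfl | rfl)
    · left; rw [inv_one]
    · right; left; exact rr_inv h _ _
    · right; right; left; exact rr_inv h _ _
    · right; right; right; exact rr_inv h _ _

theorem mem_E3 {h : EvenSet n A L ε} {i j p : Fin n} {x : G} :
    x ∈ E3 h i j p ↔ x = 1 ∨ x = rr ε i j ∨ x = rr ε i p ∨ x = rr ε j p := Iff.rfl

theorem card_E3 (h : EvenSet n A L ε) (hn : 5 ≤ n) {i j p : Fin n} (hij : i ≠ j) (hip : i ≠ p) (hjp : j ≠ p) :
    Nat.card (E3 h i j p) = 4 := by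
  classical
  have a1 : rr ε i j ≠ 1 := rr_ne_one h (by omega) hij
  have a2 : rr ε i p ≠ 1 := rr_ne_one h (by omega) hip
  have a3 : rr ε j p ≠ 1 := rr_ne_one h (by omega) hjp
  have b1 : rr ε i j ≠ rr ε i p := by
    rw [rr_symm h i j]
    exact NSix.TkPair.rr_ne h hn hij.symm hij hjp.symm
  have b2 : rr ε i j ≠ rr ε j p := NSix.TkPair.rr_ne h hn hij hij.symm hip.symm
  have b3 : rr ε i p ≠ rr ε j p := NSix.TkPair.rr_ne h hn hip hij.symm hip.symm
  have h1 : ({1, rr ε i j, rr ε i p, rr ε j p} : Finset G).card = 4 := by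
    rw [Finset.card_insert_of_notMem, Finset.card_insert_of_notMem, Finset.card_insert_of_notMem,
      Finset.card_singleton]
    · simp only [Finset.mem_singleton]
      exact b3
    · simp only [Finset.mem_insert, Finset.mem_singleton, not_or]
      exact ⟨b1, b2⟩
    · simp only [Finset.mem_insert, Finset.mem_singleton, not_or]
      exact ⟨a1.symm, a2.symm, a3.symm⟩
  have h2 : (({1, rr ε i j, rr ε i p, rr ε j p} : Finset G) : Set G) = (E3 h i j p : Set G) := by
    ext x
    simp only [Finset.coe_insert, Finset.coe_singleton, Set.mem_insert_iff, Set.mem_singleton_iff,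
      SetLike.mem_coe, mem_E3]
  have h4 : (E3 h i j p : Set G).ncard = Nat.card (E3 h i j p) := rfl
  rw [← h4, ← h2, Set.ncard_coe_finset, h1]

/-- a permutation of `{i, j, p}` normalises `E3` -/
theorem norm_E3 [Finite G] (h : EvenSet n A L ε) {i j p : Fin n} {g : G} {σ : Equiv.Perm (Fin n)} (hg : Acts ε g σ)
    (h1 : rr ε (σ i) (σ j) ∈ E3 h i j p) (h2 : rr ε (σ i) (σ p) ∈ E3 h i j p) (h3 : rr ε (σ j) (σ p) ∈ E3 h i j p) :
    g ∈ normalizer (E3 h i j p : Set G) := by
  refine BTwo.mem_normalizer_of_conj fun x hx => ?_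
  rcases mem_E3.1 hx with rfl | rfl | rfl | rfl
  · rw [mul_one, mul_inv_cancel]; exact one_mem _
  · rw [rr_conj hg]; exact h1
  · rw [rr_conj hg]; exact h2
  · rw [rr_conj hg]; exact h3

end E3

section gen

variable {G : Type u} [Group G] [Finite G] {n : ℕ} {A L : Subgroup G} {ε : (Fin n → ZMod 2) → G}

/-- the permutations all of whose representatives in `L` lie in `H` -/
def permsIn (h : EvenSet n A L ε) (H : Subgroup G) (h1 : L ⊓ centralizer (A : Set G) ≤ H) :
    Subgroup (Equiv.Perm (Fin n)) where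
  carrier := {σ | ∀ g ∈ L, Acts ε g σ → g ∈ H}
  one_mem' := fun g hg hσ => h1 ⟨hg, h.acts_one_iff.1 hσ⟩
  mul_mem' := by
    intro σ τ hσ hτ g hg hg2
    obtain ⟨k, hk, hk2⟩ := h.full τ
    have h3 : Acts ε (g * k⁻¹) σ := by
      have := hg2.mul hk2.inv
      rwa [mul_inv_cancel_right] at this
    have h4 := hσ _ (mul_mem hg (inv_mem hk)) h3
    have h5 := mul_mem h4 (hτ k hk hk2)
    rwa [inv_mul_cancel_right] at h5
  inv_mem' := by
    intro σ hσ g hg hg2
    have h3 := hg2.inv
    rw [inv_inv] at h3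
    exact inv_mem_iff.1 (hσ _ (inv_mem hg) h3)

/-- `L ≤ H` if `C_L(r_ij)` and `N_L(E3)` lie in `H` -/
theorem le_of_E3 (h : EvenSet n A L ε) {i j p : Fin n} (hij : i ≠ j) (hip : i ≠ p) (hjp : j ≠ p) {H : Subgroup G}
    (h1 : L ⊓ NN ε i j ≤ H) (h2 : L ⊓ normalizer (E3 h i j p : Set G) ≤ H) : L ≤ H := by
  classical
  have hA : L ⊓ centralizer (A : Set G) ≤ H := by
    rintro g ⟨hg, hg2⟩
    refine h1 ⟨hg, ?_⟩
    change g ∈ NN ε i j
    rw [mem_NN]
    exact (mem_centralizer_iff.1 hg2 _ (rr_mem h i j)).symm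
  set SS := permsIn h H hA with hSS
  have mem : ∀ σ, σ ∈ SS ↔ ∀ g ∈ L, Acts ε g σ → g ∈ H := fun σ => Iff.rfl
  have m1 : rr ε i j ∈ E3 h i j p := mem_E3.2 (Or.inr (Or.inl rfl))
  have m2 : rr ε i p ∈ E3 h i j p := mem_E3.2 (Or.inr (Or.inr (Or.inl rfl)))
  have m3 : rr ε j p ∈ E3 h i j p := mem_E3.2 (Or.inr (Or.inr (Or.inr rfl)))
  -- transpositions which fix `{i, j}`
  have s0 : ∀ x y, x ≠ i → x ≠ j → y ≠ i → y ≠ j → Equiv.swap x y ∈ SS := by
    intro x y hxi hxj hyi hyj
    rw [mem]
    intro g hg hσ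
    refine h1 (mem_inf.2 ⟨hg, ?_⟩)
    rw [mem_NN', rr_conj hσ, Equiv.swap_apply_of_ne_of_ne hxi.symm hyi.symm,
      Equiv.swap_apply_of_ne_of_ne hxj.symm hyj.symm]
  have s1 : Equiv.swap i j ∈ SS := by
    rw [mem]
    intro g hg hσ
    refine h1 (mem_inf.2 ⟨hg, ?_⟩)
    rw [mem_NN', rr_conj hσ, Equiv.swap_apply_left, Equiv.swap_apply_right, rr_symm h]
  have s2 : Equiv.swap i p ∈ SS := by
    rw [mem]
    intro g hg hσ
    have e1 : Equiv.swap i p j = j := Equiv.swap_apply_of_ne_of_ne hij.symm hjp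
    have e2 : Equiv.swap i p i = p := Equiv.swap_apply_left _ _
    have e3 : Equiv.swap i p p = i := Equiv.swap_apply_right _ _
    refine h2 ⟨hg, norm_E3 h hσ ?_ ?_ ?_⟩
    · rw [e1, e2, rr_symm h]; exact m3
    · rw [e2, e3, rr_symm h]; exact m2
    · rw [e1, e3, rr_symm h]; exact m1
  -- `swap i x`
  have s3 : ∀ x, x ≠ i → Equiv.swap i x ∈ SS := by
    intro x hxi
    by_cases hxj : x = j
    · rw [hxj]; exact s1
    by_cases hxp : x = p
    · rw [hxp]; exact s2
    · have e : Equiv.swap p x * Equiv.swap i p * Equiv.swap p x = Equiv.swap i x := by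
        rw [Equiv.swap_mul_swap_mul_swap hip (Ne.symm hxi), Equiv.swap_comm]
      rw [← e]
      have h3 := s0 p x hip.symm hjp.symm hxi hxj
      exact mul_mem (mul_mem h3 s2) h3
  have s4 : ∀ x y, x ≠ y → Equiv.swap x y ∈ SS := by
    intro x y hxy
    by_cases hx : x = i
    · subst hx; exact s3 y hxy.symm
    by_cases hy : y = i
    · subst hy
      rw [Equiv.swap_comm]
      exact s3 x hx
    · have e : Equiv.swap i y * Equiv.swap x i * Equiv.swap i y = Equiv.swap y x :=
        Equiv.swap_mul_swap_mul_swap hx hxy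
      rw [Equiv.swap_comm x y, ← e]
      have h3 := s3 y hy
      have h4 : Equiv.swap x i ∈ SS := by
        rw [Equiv.swap_comm]; exact s3 x hx
      exact mul_mem (mul_mem h3 h4) h3
  have htop : SS = ⊤ := by
    rw [eq_top_iff, ← Equiv.Perm.closure_isSwap, closure_le]
    rintro σ ⟨x, y, hxy, rfl⟩
    exact s4 x y hxy
  intro g hg
  obtain ⟨σ, hσ⟩ := h.perm g hg
  have h3 : σ ∈ SS := by rw [htop]; exact mem_top σ
  exact (mem σ).1 h3 g hg hσ

end gen

end Cfsg.Agent.Omega.IId.Cv
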