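import Cfsg.Agent.Omega.IId.Line

/-!
# The factors of a sum of `k` natural `SL₂(F)`-modules `V`, `V` any normal subgroup of `P`

The same facts as in `IId/Fac.lean`, `IId/Line.lean` for `M : NatV F S P V k` (a `NatK F S P V ⊥ k` with
`P ≤ N(V)`), for example `V = [V_P, O²(P)]` if `C_{V_P}(O²(P)) ≠ 1` (`Cv/Split.lean`).
-/

set_option autoImplicit false
set_option linter.unusedSectionVars false

namespace Cfsg.Agent.Omega.IId.NV

open Subgroup Cfsg Cfsg.Agent.ZN Cfsg.Agent.ZN.ChoiceBase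
open Cfsg.Agent.Omega.MinPar Cfsg.Agent.Omega.FFThm
open Cfsg.Agent.Lib.SL2Mat
open Cfsg.Agent.Omega.NatPair (ap ap_mul ap_one ap_inv_ap ap_ap_inv exists_ap ap_add)
open scoped commutatorElement

universe u

/-- `V` is a sum of `k` natural `SL₂(F)`-modules for `P`, and `P` normalises `V`. -/
structure _root_.Cfsg.Agent.Omega.IId.NatV {G : Type u} [Group G] (F : Type) [Field F] (S P V : Subgroup G)
    (k : ℕ) extends NatK F S P V ⊥ k where
  nV : P ≤ normalizer (V : Set G)

variable {G : Type u} [Group G] {F : Type} [Field F] {S P V : Subgroup G} {k : ℕ}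
  (M : NatV F S P V k)

/-! ### Coordinates -/

include M in
theorem cj_mem {g v : G} (hg : g ∈ P) (hv : v ∈ V) : g * v * g⁻¹ ∈ V :=
  (mem_normalizer_iff.mp (M.nV hg) v).mp hv

include M in
theorem cj_mem' {g v : G} (hg : g ∈ P) (hv : v ∈ V) : g⁻¹ * v * g ∈ V := by
  have := cj_mem M (inv_mem hg) hv
  rwa [inv_inv] at this

include M in
theorem e_one : M.e 1 = 0 := by
  have := M.mul 1 (one_mem _) 1 (one_mem _)
  rw [mul_one] at this
  exact left_eq_add.1 this

theorem e_inv {v : G} (hv : v ∈ V) : M.e v⁻¹ = - M.e v := by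
  have := M.mul v⁻¹ (inv_mem hv) v hv
  rw [inv_mul_cancel, e_one] at this
  exact eq_neg_of_add_eq_zero_left this.symm

theorem e_eq_zero {v : G} (hv : v ∈ V) : M.e v = 0 ↔ v = 1 := by
  rw [M.ker v hv, mem_bot]

theorem e_inj {v w : G} (hv : v ∈ V) (hw : w ∈ V) (h : M.e v = M.e w) : v = w := by
  have h1 : M.e (v * w⁻¹) = 0 := by
    rw [M.mul v hv _ (inv_mem hw), e_inv M hw, h, add_neg_cancel]
  exact mul_inv_eq_one.1 ((e_eq_zero M (mul_mem hv (inv_mem hw))).1 h1)

include M in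
theorem comm {v w : G} (hv : v ∈ V) (hw : w ∈ V) : v * w = w * v :=
  e_inj M (mul_mem hv hw) (mul_mem hw hv) (by rw [M.mul v hv w hw, M.mul w hw v hv, add_comm])

include M in
theorem sq [CharP F 2] {v : G} (hv : v ∈ V) : v * v = 1 := by
  rw [← e_eq_zero M (mul_mem hv hv), M.mul v hv v hv]
  funext i j
  exact CharTwo.add_self_eq_zero _

/-! ### Parts -/

/-- The sum of the factors with index in `I`. -/
def part (I : Set (Fin k)) : Subgroup G where
  carrier := {v | v ∈ V ∧ ∀ i, i ∉ I → M.e v i = 0}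
  one_mem' := ⟨one_mem _, fun i _ => by rw [e_one]; rfl⟩
  mul_mem' := by
    rintro a b ⟨ha, ha'⟩ ⟨hb, hb'⟩
    exact ⟨mul_mem ha hb, fun i hi => by rw [M.mul a ha b hb, Pi.add_apply, ha' i hi, hb' i hi, add_zero]⟩
  inv_mem' := by
    rintro a ⟨ha, ha'⟩
    exact ⟨inv_mem ha, fun i hi => by rw [e_inv M ha, Pi.neg_apply, ha' i hi, neg_zero]⟩

theorem mem_part {I : Set (Fin k)} {v : G} : v ∈ part M I ↔ v ∈ V ∧ ∀ i, i ∉ I → M.e v i = 0 := Iff.rfl

/-- The `i`-th factor. -/
def fac (i : Fin k) : Subgroup G := part M {i}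

theorem mem_fac {i : Fin k} {v : G} : v ∈ fac M i ↔ v ∈ V ∧ ∀ j, j ≠ i → M.e v j = 0 := Iff.rfl

theorem part_le (I : Set (Fin k)) : part M I ≤ V := fun _ h => h.1

theorem fac_le (i : Fin k) : fac M i ≤ V := part_le M _

theorem part_mono {I J : Set (Fin k)} (h : I ⊆ J) : part M I ≤ part M J :=
  fun _ hv => ⟨hv.1, fun i hi => hv.2 i fun h1 => hi (h h1)⟩

theorem part_inf (I J : Set (Fin k)) : part M I ⊓ part M J = part M (I ∩ J) := by
  ext v
  constructor
  · rintro ⟨h1, h2⟩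
    refine ⟨h1.1, fun i hi => ?_⟩
    by_cases h3 : i ∈ I
    · exact h2.2 i fun h4 => hi ⟨h3, h4⟩
    · exact h1.2 i h3
  · rintro ⟨h1, h2⟩
    exact ⟨⟨h1, fun i hi => h2 i fun h3 => hi h3.1⟩, ⟨h1, fun i hi => h2 i fun h3 => hi h3.2⟩⟩

theorem part_empty : part M ∅ = ⊥ := by
  rw [eq_bot_iff]
  rintro v ⟨h1, h2⟩
  rw [mem_bot, ← e_eq_zero M h1]
  funext i
  exact h2 i (Set.notMem_empty i)

theorem part_univ : part M Set.univ = V := by
  ext v
  exact ⟨fun h => h.1, fun h => ⟨h, fun i hi => (hi (Set.mem_univ i)).elim⟩⟩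

/-- A vector with given coordinates. -/
theorem exists_vec (x : Fin k → Fin 2 → F) : ∃ v ∈ V, M.e v = x := M.surj x

open Classical in
/-- The components of `v`. -/
theorem exists_comp {v : G} (hv : v ∈ V) (I : Set (Fin k)) :
    ∃ a ∈ part M I, ∃ b ∈ part M Iᶜ, v = a * b := by
  obtain ⟨a, ha, hea⟩ := M.surj fun i => if i ∈ I then M.e v i else 0
  have he : ∀ i, M.e a i = if i ∈ I then M.e v i else 0 := fun i => congrFun hea i
  refine ⟨a, ⟨ha, fun i hi => by rw [he, if_neg hi]⟩, a⁻¹ * v, ⟨mul_mem (inv_mem ha) hv, fun i hi => ?_⟩, by group⟩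
  have hi' : i ∈ I := not_not.1 hi
  rw [M.mul _ (inv_mem ha) _ hv, e_inv M ha, Pi.add_apply, Pi.neg_apply, he, if_pos hi', neg_add_cancel]

theorem part_sup (I : Set (Fin k)) : part M I ⊔ part M Iᶜ = V := by
  refine le_antisymm (sup_le (part_le M _) (part_le M _)) fun v hv => ?_
  obtain ⟨a, ha, b, hb, rfl⟩ := exists_comp M hv I
  exact mul_mem_sup ha hb

theorem fac_inf {i j : Fin k} (h : i ≠ j) : fac M i ⊓ fac M j = ⊥ := by
  rw [fac, fac, part_inf, ← part_empty M]
  congr 1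
  ext x
  simp only [Set.mem_inter_iff, Set.mem_singleton_iff, Set.mem_empty_iff_false, iff_false, not_and]
  rintro rfl
  exact h

theorem ext_fac {i : Fin k} {v w : G} (hv : v ∈ fac M i) (hw : w ∈ fac M i) (h : M.e v i = M.e w i) : v = w := by
  refine e_inj M hv.1 hw.1 (funext fun j => ?_)
  by_cases hj : j = i
  · rw [hj, h]
  · rw [hv.2 j hj, hw.2 j hj]

theorem fac_eq_one {i : Fin k} {v : G} (hv : v ∈ fac M i) : M.e v i = 0 ↔ v = 1 := by
  refine ⟨fun h => ext_fac M hv (one_mem _) (by rw [h, e_one]; rfl), fun h => ?_⟩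
  rw [h, e_one]
  rfl

open Classical in
theorem exists_fac (i : Fin k) (x : Fin 2 → F) : ∃ v ∈ fac M i, M.e v i = x := by
  obtain ⟨v, hv, h⟩ := M.surj (Pi.single i x)
  exact ⟨v, ⟨hv, fun j hj => by rw [h, Pi.single_eq_of_ne hj]⟩, by rw [h, Pi.single_eq_same]⟩

theorem fac_ne_bot (i : Fin k) : fac M i ≠ ⊥ := by
  obtain ⟨v, hv, h⟩ := exists_fac M i ![1, 0]
  intro h0
  rw [h0, mem_bot] at hv
  rw [hv, e_one] at h
  have := congrFun h 0
  simp at this

/-- The coordinate on a factor. -/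
noncomputable def facEquiv (i : Fin k) : fac M i ≃ (Fin 2 → F) :=
  Equiv.ofBijective (fun v => M.e v i) ⟨fun v w h => Subtype.ext (ext_fac M v.2 w.2 h), fun x => by
    obtain ⟨v, hv, h⟩ := exists_fac M i x
    exact ⟨⟨v, hv⟩, h⟩⟩

theorem card_fac (i : Fin k) : Nat.card (fac M i) = Nat.card F ^ 2 := by
  rw [Nat.card_congr (facEquiv M i), Nat.card_fun]
  simp

/-! ### The group `SL₂(F)^I` -/

theorem acts_one : ActsSL M.e (V) ⊥ 1 1 := by
  refine ⟨fun v _ i => ?_, fun d _ => ?_⟩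
  · have e : (1 : G) * v * 1⁻¹ = v := by group
    rw [e, Pi.one_apply, ap_one]
  · rw [one_mul, mul_one]

variable {M}

theorem acts_mul {g h : G} (hh : h ∈ P) {A B : Fin k → Matrix.SpecialLinearGroup (Fin 2) F}
    (h1 : ActsSL M.e (V) ⊥ g A) (h2 : ActsSL M.e (V) ⊥ h B) :
    ActsSL M.e (V) ⊥ (g * h) (A * B) := by
  refine ⟨fun v hv i => ?_, fun d hd => ?_⟩
  · have e : g * h * v * (g * h)⁻¹ = g * (h * v * h⁻¹) * g⁻¹ := by group
    rw [e, h1.1 _ (cj_mem M hh hv) i, h2.1 v hv i, Pi.mul_apply, ap_mul]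
  · rw [mem_bot] at hd
    rw [hd]
    group

theorem acts_inv {g : G} (hg : g ∈ P) {A : Fin k → Matrix.SpecialLinearGroup (Fin 2) F}
    (h1 : ActsSL M.e (V) ⊥ g A) : ActsSL M.e (V) ⊥ g⁻¹ A⁻¹ := by
  refine ⟨fun v hv i => ?_, fun d hd => ?_⟩
  · have h2 := h1.1 _ (cj_mem M (inv_mem hg) hv) i
    have e : g * (g⁻¹ * v * g⁻¹⁻¹) * g⁻¹ = v := by group
    rw [e] at h2
    rw [h2, Pi.inv_apply, ap_inv_ap]
  · rw [mem_bot] at hd
    rw [hd]
    group

variable (M)

/-- The elements of `P` which act on `V` as elements of `SL₂(F)^I`. -/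
def grp (I : Set (Fin k)) : Subgroup G where
  carrier := {g | g ∈ P ∧ ∃ A : Fin k → Matrix.SpecialLinearGroup (Fin 2) F,
    ActsSL M.e (V) ⊥ g A ∧ ∀ i, i ∉ I → A i = 1}
  one_mem' := ⟨one_mem _, 1, acts_one M, fun _ _ => rfl⟩
  mul_mem' := by
    rintro a b ⟨ha, A, hA, hA'⟩ ⟨hb, B, hB, hB'⟩
    exact ⟨mul_mem ha hb, A * B, acts_mul hb hA hB, fun i hi => by
      rw [Pi.mul_apply, hA' i hi, hB' i hi, mul_one]⟩
  inv_mem' := by
    rintro a ⟨ha, A, hA, hA'⟩
    exact ⟨inv_mem ha, A⁻¹, acts_inv ha hA, fun i hi => by rw [Pi.inv_apply, hA' i hi, inv_one]⟩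

theorem mem_grp {I : Set (Fin k)} {g : G} : g ∈ grp M I ↔ g ∈ P ∧
    ∃ A : Fin k → Matrix.SpecialLinearGroup (Fin 2) F, ActsSL M.e (V) ⊥ g A ∧ ∀ i, i ∉ I → A i = 1 := Iff.rfl

theorem grp_le (I : Set (Fin k)) : grp M I ≤ P := fun _ h => h.1

theorem grp_mono {I J : Set (Fin k)} (h : I ⊆ J) : grp M I ≤ grp M J :=
  fun _ ⟨h1, A, h2, h3⟩ => ⟨h1, A, h2, fun i hi => h3 i fun h4 => hi (h h4)⟩

/-- `SL₂(F)^I` centralises the factors outside `I`. -/
theorem grp_comm {I J : Set (Fin k)} (hIJ : Disjoint I J) {g v : G} (hg : g ∈ grp M I) (hv : v ∈ part M J) :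
    g * v = v * g := by
  obtain ⟨hgP, A, hA, hA'⟩ := hg
  have h1 : g * v * g⁻¹ = v := by
    refine e_inj M (cj_mem M hgP hv.1) hv.1 (funext fun i => ?_)
    rw [hA.1 v hv.1 i]
    by_cases hi : i ∈ I
    · have h2 : i ∉ J := fun h => Set.disjoint_left.1 hIJ hi h
      rw [hv.2 i h2]
      apply NatPair.ext2 <;> simp [NatPair.ap_zero', NatPair.ap_one']
    · rw [hA' i hi, ap_one]
  calc g * v = g * v * g⁻¹ * g := by group
    _ = v * g := by rw [h1]

theorem grp_le_centralizer {I J : Set (Fin k)} (hIJ : Disjoint I J) :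
    grp M I ≤ centralizer (part M J : Set G) := by
  intro g hg
  rw [mem_centralizer_iff]
  intro v hv
  exact (grp_comm M hIJ hg hv).symm

theorem grp_normalizes (I J : Set (Fin k)) : grp M I ≤ normalizer (part M J : Set G) := by
  have key : ∀ g ∈ grp M I, ∀ v ∈ part M J, g * v * g⁻¹ ∈ part M J := by
    rintro g ⟨hgP, A, hA, -⟩ v ⟨hv, hv'⟩
    refine ⟨cj_mem M hgP hv, fun i hi => ?_⟩
    rw [hA.1 v hv i, hv' i hi]
    apply NatPair.ext2 <;> simp [NatPair.ap_zero', NatPair.ap_one']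
  intro g hg
  rw [mem_normalizer_iff]
  intro v
  refine ⟨key g hg v, fun h => ?_⟩
  have h1 := key g⁻¹ (inv_mem hg) _ h
  have e : g⁻¹ * (g * v * g⁻¹) * g⁻¹⁻¹ = v := by group
  rwa [e] at h1

open Classical in
/-- `SL₂(F)^{i}` is transitive on the nontrivial elements of `fac M i`. -/
theorem exists_grp {i : Fin k} {v w : G} (hv : v ∈ fac M i) (hw : w ∈ fac M i) (hv1 : v ≠ 1) (hw1 : w ≠ 1) :
    ∃ g ∈ grp M {i}, g * v * g⁻¹ = w := by
  obtain ⟨A, hA⟩ := exists_ap (mt (fac_eq_one M hv).1 hv1) (mt (fac_eq_one M hw).1 hw1)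
  obtain ⟨g, hg, h1⟩ := M.lift (Function.update 1 i A)
  have hg' : g ∈ grp M {i} := ⟨hg, _, h1, fun j hj => Function.update_of_ne hj _ _⟩
  refine ⟨g, hg', ext_fac M ((mem_normalizer_iff.1 (grp_normalizes M {i} {i} hg') v).1 hv) hw ?_⟩
  rw [h1.1 v hv.1 i, Function.update_self, hA]

/-- `fac M i` is an irreducible `SL₂(F)^{i}`-module. -/
theorem fac_irreducible {i : Fin k} {X : Subgroup G} (hX : X ≤ fac M i)
    (hn : grp M {i} ≤ normalizer (X : Set G)) : X = ⊥ ∨ X = fac M i := by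
  by_cases h : X = ⊥
  · exact Or.inl h
  · right
    obtain ⟨x, hx, hx1⟩ : ∃ x ∈ X, x ≠ 1 := by
      by_contra hcon
      push Not at hcon
      exact h ((eq_bot_iff_forall X).2 hcon)
    refine le_antisymm hX fun v hv => ?_
    by_cases hv1 : v = 1
    · rw [hv1]; exact one_mem _
    · obtain ⟨g, hg, h1⟩ := exists_grp M (hX hx) hv hx1 hv1
      rw [← h1]
      exact (mem_normalizer_iff.1 (hn hg) _).1 hx

theorem fac_inf_centralizer (i : Fin k) : fac M i ⊓ centralizer (grp M {i} : Set G) = ⊥ := by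
  rw [eq_bot_iff]
  rintro v ⟨hv, hc⟩
  rw [mem_bot]
  by_contra hv1
  -- move `v` to another vector
  obtain ⟨w, hw, hw1, hwv⟩ : ∃ w ∈ fac M i, w ≠ 1 ∧ w ≠ v := by
    obtain ⟨a, ha, hea⟩ := exists_fac M i ![1, 0]
    obtain ⟨b, hb, heb⟩ := exists_fac M i ![0, 1]
    by_cases h : a = v
    · refine ⟨b, hb, fun h1 => ?_, fun h1 => ?_⟩
      · rw [h1, e_one] at heb
        have := congrFun heb 1
        simp at this
      · rw [h1, ← h, hea] at heb
        have := congrFun heb 0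
        simp at this
    · refine ⟨a, ha, fun h1 => ?_, h⟩
      rw [h1, e_one] at hea
      have := congrFun hea 0
      simp at this
  obtain ⟨g, hg, h1⟩ := exists_grp M hv hw hv1 hw1
  have h2 := mem_centralizer_iff.1 hc g hg
  apply hwv
  rw [← h1, h2]
  group

/-! ### The permutation of the factors -/

/-- The permutation of the factors induced by `g ∈ P`. -/
noncomputable def sg {g : G} (hg : g ∈ P) : Equiv.Perm (Fin k) := (M.perm g hg).choose

theorem sg_spec {g : G} (hg : g ∈ P) {v : G} (hv : v ∈ V) (i : Fin k) :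
    M.e (g * v * g⁻¹) (sg M hg i) = 0 ↔ M.e v i = 0 := (M.perm g hg).choose_spec v hv i

theorem mem_part_conj {g : G} (hg : g ∈ P) {I : Set (Fin k)} {v : G} (hv : v ∈ V) :
    g * v * g⁻¹ ∈ part M (sg M hg '' I) ↔ v ∈ part M I := by
  constructor
  · rintro ⟨-, h⟩
    refine ⟨hv, fun i hi => ?_⟩
    rw [← sg_spec M hg hv i]
    exact h _ fun ⟨j, hj, hij⟩ => hi ((sg M hg).injective hij ▸ hj)
  · rintro ⟨-, h⟩
    refine ⟨cj_mem M hg hv, fun i hi => ?_⟩
    obtain ⟨j, rfl⟩ := (sg M hg).surjective i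
    rw [sg_spec M hg hv j]
    exact h j fun hj => hi ⟨j, hj, rfl⟩

theorem conj_part {g : G} (hg : g ∈ P) (I : Set (Fin k)) : cj g (part M I) = part M (sg M hg '' I) := by
  ext w
  rw [mem_cj]
  constructor
  · intro h
    have h1 := (mem_part_conj M hg (I := I) h.1).2 h
    have e : g * (g⁻¹ * w * g) * g⁻¹ = w := by group
    rwa [e] at h1
  · intro h
    have hv : g⁻¹ * w * g ∈ V := cj_mem' M hg h.1
    have e : g * (g⁻¹ * w * g) * g⁻¹ = w := by group
    exact (mem_part_conj M hg hv).1 (by rwa [e])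

theorem conj_fac {g : G} (hg : g ∈ P) (i : Fin k) : cj g (fac M i) = fac M (sg M hg i) := by
  rw [fac, conj_part M hg, Set.image_singleton, fac]

theorem fac_inj {i j : Fin k} (h : fac M i = fac M j) : i = j := by
  by_contra hne
  have h1 := fac_inf M hne
  rw [← h, inf_idem] at h1
  exact fac_ne_bot M i h1

theorem sg_eq_iff {g : G} (hg : g ∈ P) {i j : Fin k} : sg M hg i = j ↔ cj g (fac M i) = fac M j := by
  rw [conj_fac M hg]
  exact ⟨fun h => by rw [h], fun h => fac_inj M h⟩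

theorem ker_inj {i j : Fin k} (h : ∀ v ∈ V, M.e v j = 0 → M.e v i = 0) : i = j := by
  by_contra hne
  obtain ⟨v, hv, h1⟩ := exists_fac M i ![1, 0]
  have h2 := h v hv.1 (hv.2 j (Ne.symm hne))
  rw [h1] at h2
  have := congrFun h2 0
  simp at this

/-- `S` is transitive on the factors. -/
theorem exists_trans (hSP : S ≤ P) (i j : Fin k) : ∃ t ∈ S, cj t (fac M i) = fac M j := by
  obtain ⟨t, ht, h1⟩ := M.trans i j
  refine ⟨t, ht, ?_⟩
  rw [conj_fac M (hSP ht)]
  congr 1
  refine ker_inj M fun w hw hj => ?_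
  have hv : t⁻¹ * w * t ∈ V := cj_mem' M (hSP ht) hw
  have e : t * (t⁻¹ * w * t) * t⁻¹ = w := by group
  have h2 := h1 _ hv
  have h3 := sg_spec M (hSP ht) hv i
  rw [e] at h2 h3
  exact h3.2 (h2.1 hj)

theorem mem_normalizer_part_iff {g : G} (hg : g ∈ P) {I : Set (Fin k)} :
    g ∈ normalizer (part M I : Set G) ↔ sg M hg '' I = I := by
  rw [mem_normalizer_iff_cj, conj_part M hg]
  constructor
  · intro h
    ext i
    -- the index set is determined by the part
    have key : ∀ J : Set (Fin k), i ∈ J ↔ fac M i ≤ part M J := by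
      intro J
      constructor
      · intro hi
        exact part_mono M (Set.singleton_subset_iff.2 hi)
      · intro hle
        by_contra hi
        obtain ⟨v, hv, h1⟩ := exists_fac M i ![1, 0]
        have h2 := (hle hv).2 i hi
        rw [h1] at h2
        have := congrFun h2 0
        simp at this
    rw [key, key, h]
  · intro h
    rw [h]

theorem mem_normalizer_fac_iff {g : G} (hg : g ∈ P) {i : Fin k} :
    g ∈ normalizer (fac M i : Set G) ↔ sg M hg i = i := by
  rw [fac, mem_normalizer_part_iff M hg, Set.image_singleton, Set.singleton_eq_singleton_iff]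

theorem normalizer_part_compl {g : G} (hg : g ∈ P) {I : Set (Fin k)} (h : g ∈ normalizer (part M I : Set G)) :
    g ∈ normalizer (part M Iᶜ : Set G) := by
  rw [mem_normalizer_part_iff M hg] at h ⊢
  rw [Set.image_compl_eq (sg M hg).bijective, h]

/-- Conjugation of the groups `grp M I`. -/
theorem conj_grp {g : G} (hg : g ∈ P) (I : Set (Fin k)) : cj g (grp M I) = grp M (sg M hg '' I) := by
  have key : ∀ {g : G} (hg : g ∈ P) (I : Set (Fin k)), cj g (grp M I) ≤ grp M (sg M hg '' I) := by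
    rintro g hg I _ ⟨h, ⟨hh, A, hA, hA'⟩, rfl⟩
    change g * h * g⁻¹ ∈ _
    obtain ⟨B, hB⟩ := M.norm g hg h hh A hA.1
    refine ⟨mul_mem (mul_mem hg hh) (inv_mem hg), B, ⟨hB, fun d hd => ?_⟩, fun j hj => ?_⟩
    · rw [mem_bot] at hd
      rw [hd]
      group
    · obtain ⟨i, rfl⟩ := (sg M hg).surjective j
      have hi : i ∉ I := fun h1 => hj ⟨i, h1, rfl⟩
      refine NatPair.ap_inj fun x => ?_
      obtain ⟨w, hw, hwx⟩ := exists_fac M (sg M hg i) x
      -- `w` is the conjugate of an element of `fac M i`, which is centralised by `h`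
      have hv : g⁻¹ * w * g ∈ fac M i := by
        rw [← mem_cj, conj_fac M hg]
        exact hw
      have h1 := grp_comm M (Set.disjoint_singleton_right.2 hi) (⟨hh, A, hA, hA'⟩ : h ∈ grp M I) hv
      have h2 := hB w hw.1 (sg M hg i)
      have e : g * h * g⁻¹ * w * (g * h * g⁻¹)⁻¹ = g * (h * (g⁻¹ * w * g)) * h⁻¹ * g⁻¹ := by group
      rw [e, h1] at h2
      have e2 : g * (g⁻¹ * w * g * h) * h⁻¹ * g⁻¹ = w := by group
      rw [e2, hwx] at h2
      rw [← h2, ap_one]
  refine le_antisymm (key hg I) fun h hh => ?_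
  rw [mem_cj]
  have h1 := key (inv_mem hg) (sg M hg '' I)
  have h2 : sg M (inv_mem hg) '' (sg M hg '' I) = I := by
    have h3 : sg M (inv_mem hg) = (sg M hg).symm := by
      ext i : 1
      obtain ⟨j, rfl⟩ := (sg M hg).surjective i
      rw [Equiv.symm_apply_apply, sg_eq_iff, ← conj_fac M hg j, cj_inv_cj]
    rw [h3]
    exact (sg M hg).symm_image_image I
  rw [h2] at h1
  have h4 := h1 ⟨h, hh, rfl⟩
  change g⁻¹ * h * g⁻¹⁻¹ ∈ _ at h4
  rwa [inv_inv] at h4

theorem normalizer_grp {g : G} (hg : g ∈ P) {I : Set (Fin k)} (h : g ∈ normalizer (part M I : Set G)) :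
    g ∈ normalizer (grp M I : Set G) := by
  rw [mem_normalizer_iff_cj, conj_grp M hg, (mem_normalizer_part_iff M hg).1 h]

/-! ### The stabiliser of a factor -/

/-- The normaliser of `fac M i` in `S`. -/
def stab (i : Fin k) : Subgroup G := S ⊓ normalizer (fac M i : Set G)

theorem stab_le (i : Fin k) : stab M i ≤ S := inf_le_left

theorem stab_normalizes (i : Fin k) : stab M i ≤ normalizer (fac M i : Set G) := inf_le_right

theorem stab_normalizes_compl (hSP : S ≤ P) (i : Fin k) : stab M i ≤ normalizer (part M {i}ᶜ : Set G) :=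
  fun _ h => normalizer_part_compl M (hSP h.1) h.2

theorem stab_normalizes_grp (hSP : S ≤ P) (i : Fin k) : stab M i ≤ normalizer (grp M {i} : Set G) :=
  fun _ h => normalizer_grp M (hSP h.1) h.2

theorem stab_normalizes_grp_compl (hSP : S ≤ P) (i : Fin k) : stab M i ≤ normalizer (grp M {i}ᶜ : Set G) :=
  fun _ h => normalizer_grp M (hSP h.1) (normalizer_part_compl M (hSP h.1) h.2)

/-- The index of the stabiliser of a factor. -/
theorem relIndex_stab {X : Subgroup G} (hXP : X ≤ P) (hSX : S ≤ X) (i : Fin k) :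
    (X ⊓ normalizer (fac M i : Set G)).relIndex X = k := by
  rw [inf_relIndex_left]
  let f : X → Fin k := fun x => sg M (hXP x.2) i
  have hf : Function.Surjective f := by
    intro j
    obtain ⟨t, ht, h1⟩ := exists_trans M (hSX.trans hXP) i j
    refine ⟨⟨t, hSX ht⟩, ?_⟩
    exact (sg_eq_iff M _).2 h1
  have hff : ∀ x y : X, f x = f y ↔ (x⁻¹ * y : X) ∈ (normalizer (fac M i : Set G)).subgroupOf X := by
    intro x y
    have h1 : f x = f y ↔ cj (x : G) (fac M i) = cj (y : G) (fac M i) := by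
      rw [conj_fac M (hXP x.2), conj_fac M (hXP y.2)]
      exact ⟨fun h => by rw [show sg M (hXP x.2) i = sg M (hXP y.2) i from h], fun h => fac_inj M h⟩
    rw [h1, mem_subgroupOf, mem_normalizer_iff_cj]
    change _ ↔ cj ((x : G)⁻¹ * y) _ = _
    rw [← cj_cj]
    constructor
    · intro h
      rw [← h, cj_inv_cj]
    · intro h
      have := congrArg (cj (x : G)) h
      rw [cj_cj_inv] at this
      exact this.symm
  let q : X ⧸ ((normalizer (fac M i : Set G)).subgroupOf X) → Fin k :=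
    fun z => Quotient.liftOn' z f fun x y hxy => (hff x y).2 (QuotientGroup.leftRel_apply.1 hxy)
  have hq : Function.Bijective q := by
    constructor
    · intro z w
      induction z using QuotientGroup.induction_on with | _ x =>
      induction w using QuotientGroup.induction_on with | _ y =>
      intro h
      exact QuotientGroup.eq.2 ((hff x y).1 h)
    · intro j
      obtain ⟨x, hx⟩ := hf j
      exact ⟨(QuotientGroup.mk x : X ⧸ ((normalizer (fac M i : Set G)).subgroupOf X)), hx⟩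
  rw [relIndex, index, Nat.card_congr (Equiv.ofBijective q hq), Nat.card_fin]

theorem card_stab (hSP : S ≤ P) (i : Fin k) : Nat.card S = k * Nat.card (stab M i) := by
  have h1 := relIndex_stab M hSP le_rfl i
  have h2 := Lib.SylowNormalInf.card_mul_relIndex (S ⊓ normalizer (fac M i : Set G)) S inf_le_left
  rw [h1] at h2
  rw [← h2, mul_comm]
  rfl

/-- The stabiliser of a factor in `S` is a Sylow 2-subgroup of the stabiliser in `P`. -/
theorem not_dvd_stab [Finite G] (hSP : S ≤ P) (hSyl : ¬ 2 ∣ S.relIndex P) (i : Fin k) {L : Subgroup G}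
    (h1 : stab M i ≤ L) (h2 : L ≤ P) (h3 : L ≤ normalizer (fac M i : Set G)) : ¬ 2 ∣ (stab M i).relIndex L := by
  have e1 := card_stab M hSP i
  have e2 := Lib.SylowNormalInf.card_mul_relIndex (P ⊓ normalizer (fac M i : Set G)) P inf_le_left
  rw [relIndex_stab M le_rfl hSP i] at e2
  have e3 := Lib.SylowNormalInf.card_mul_relIndex S P hSP
  have hle : stab M i ≤ P ⊓ normalizer (fac M i : Set G) := inf_le_inf_right _ hSP
  have e4 := Lib.SylowNormalInf.card_mul_relIndex _ _ hle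
  have hk : 0 < k := Fin.pos i
  have hs : 0 < Nat.card (stab M i) := Nat.card_pos
  have e5 : (stab M i).relIndex (P ⊓ normalizer (fac M i : Set G)) = S.relIndex P := by
    have h4 : Nat.card (stab M i) * (stab M i).relIndex (P ⊓ normalizer (fac M i : Set G)) * k =
        Nat.card (stab M i) * S.relIndex P * k := by
      rw [e4, e2, ← e3, e1]
      ring
    exact Nat.eq_of_mul_eq_mul_left hs (Nat.eq_of_mul_eq_mul_right hk h4)
  intro h5
  apply hSyl
  rw [← e5]
  exact h5.trans (Dvd.intro _ (relIndex_mul_relIndex _ _ _ h1 (le_inf h2 h3)))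

/-! ### Central elements of `S` -/

/-- An element of `V` centralised by `S` with a trivial coordinate is trivial. -/
theorem eq_one_of_cent {z : G} (hz : z ∈ V) (hc : ∀ s ∈ S, s * z = z * s) {i : Fin k}
    (h0 : M.e z i = 0) : z = 1 := by
  rw [← e_eq_zero M hz]
  funext j
  obtain ⟨t, ht, h1⟩ := M.trans i j
  have h2 := (h1 z hz).2 h0
  have e : t * z * t⁻¹ = z := by rw [hc t ht]; group
  rwa [e] at h2

open Classical in
/-- The component of `v` in the factor `i`. -/
theorem exists_component {v : G} (hv : v ∈ V) (i : Fin k) :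
    ∃ a ∈ fac M i, M.e a i = M.e v i ∧ a⁻¹ * v ∈ part M {i}ᶜ := by
  obtain ⟨a, ha, h1⟩ := exists_fac M i (M.e v i)
  refine ⟨a, ha, h1, mul_mem (inv_mem ha.1) hv, fun j hj => ?_⟩
  have hj' : j = i := by simpa using hj
  rw [hj', M.mul _ (inv_mem ha.1) _ hv, e_inv M ha.1, Pi.add_apply, Pi.neg_apply, h1, neg_add_cancel]

/-- The component in the factor `i` of an element of `V` centralised by a subgroup of `S` normalising the
factor is centralised too. -/
theorem component_cent (hSP : S ≤ P) {z a t : G} {i : Fin k} (hz : z ∈ V) (ha : a ∈ fac M i)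
    (h1 : M.e a i = M.e z i) (ht : t ∈ stab M i) (hc : t * z = z * t) : t * a = a * t := by
  have hb : a⁻¹ * z ∈ part M {i}ᶜ := by
    refine ⟨mul_mem (inv_mem ha.1) hz, fun j hj => ?_⟩
    have hj' : j = i := by simpa using hj
    rw [hj', M.mul _ (inv_mem ha.1) _ hz, e_inv M ha.1, Pi.add_apply, Pi.neg_apply, h1, neg_add_cancel]
  have h2 : t * a * t⁻¹ ∈ fac M i := (mem_normalizer_iff.1 ht.2 a).1 ha
  have h3 : t * (a⁻¹ * z) * t⁻¹ ∈ part M {i}ᶜ :=
    (mem_normalizer_iff.1 (stab_normalizes_compl M hSP i ht) _).1 hb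
  have h4 : t * a * t⁻¹ = a := by
    refine ext_fac M h2 ha ?_
    have e : t * (a⁻¹ * z) * t⁻¹ = (t * a * t⁻¹)⁻¹ * (t * z * t⁻¹) := by group
    have e2 : t * z * t⁻¹ = z := by rw [hc]; group
    rw [e, e2] at h3
    have h5 := h3.2 i (by simp)
    rw [M.mul _ (inv_mem h2.1) _ hz, e_inv M h2.1, Pi.add_apply, Pi.neg_apply, neg_add_eq_zero] at h5
    rw [h5, h1]
  calc t * a = t * a * t⁻¹ * t := by group
    _ = a * t := by rw [h4]

/-- The elements of `part M I` with all coordinates in the line `{x | x 1 = 0}`. -/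
def lines (I : Set (Fin k)) : Subgroup G where
  carrier := {v | v ∈ part M I ∧ ∀ i, M.e v i 1 = 0}
  one_mem' := ⟨one_mem _, fun i => by rw [e_one]; rfl⟩
  mul_mem' := by
    rintro a b ⟨ha, ha'⟩ ⟨hb, hb'⟩
    exact ⟨mul_mem ha hb, fun i => by
      rw [M.mul a ha.1 b hb.1, Pi.add_apply, Pi.add_apply, ha' i, hb' i, add_zero]⟩
  inv_mem' := by
    rintro a ⟨ha, ha'⟩
    exact ⟨inv_mem ha, fun i => by rw [e_inv M ha.1, Pi.neg_apply, Pi.neg_apply, ha' i, neg_zero]⟩

theorem mem_lines {I : Set (Fin k)} {v : G} : v ∈ lines M I ↔ v ∈ part M I ∧ ∀ i, M.e v i 1 = 0 := Iff.rfl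

theorem lines_le (I : Set (Fin k)) : lines M I ≤ part M I := fun _ h => h.1

theorem lines_mono {I J : Set (Fin k)} (h : I ⊆ J) : lines M I ≤ lines M J :=
  fun _ hv => ⟨part_mono M h hv.1, hv.2⟩

/-- The line of the factor `i`. -/
def line (i : Fin k) : Subgroup G := lines M {i}

theorem mem_line {i : Fin k} {v : G} : v ∈ line M i ↔ v ∈ fac M i ∧ M.e v i 1 = 0 := by
  refine ⟨fun h => ⟨h.1, h.2 i⟩, fun h => ⟨h.1, fun j => ?_⟩⟩
  by_cases hj : j = i
  · rw [hj]; exact h.2
  · rw [h.1.2 j hj]; rfl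

theorem line_le (i : Fin k) : line M i ≤ fac M i := lines_le M _

open Classical in
theorem exists_lines (I : Set (Fin k)) (x : Fin k → F) (hx : ∀ i, i ∉ I → x i = 0) :
    ∃ v ∈ lines M I, ∀ i, M.e v i 0 = x i := by
  obtain ⟨v, hv, h⟩ := M.surj fun i => ![x i, 0]
  refine ⟨v, ⟨⟨hv, fun i hi => ?_⟩, fun i => ?_⟩, fun i => ?_⟩
  · rw [h]
    apply NatPair.ext2
    · exact hx i hi
    · rfl
  · rw [h]; rfl
  · rw [h]; rfl

open Classical in
/-- `|lines M I| = q ^ |I|`. -/
theorem card_lines [Finite F] (I : Set (Fin k)) : Nat.card (lines M I) = Nat.card F ^ Nat.card I := by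
  have h1 : Function.Bijective fun (v : lines M I) (i : I) => M.e v i 0 := by
    constructor
    · intro v w h
      refine Subtype.ext (e_inj M v.2.1.1 w.2.1.1 (funext fun i => ?_))
      by_cases hi : i ∈ I
      · apply NatPair.ext2
        · exact congrFun h ⟨i, hi⟩
        · rw [v.2.2 i, w.2.2 i]
      · rw [v.2.1.2 i hi, w.2.1.2 i hi]
    · intro x
      obtain ⟨v, hv, h⟩ := exists_lines M I (fun i => if hi : i ∈ I then x ⟨i, hi⟩ else 0)
        fun i hi => dif_neg hi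
      refine ⟨⟨v, hv⟩, funext fun i => ?_⟩
      have h2 := h i
      rw [dif_pos i.2] at h2
      exact h2
  rw [Nat.card_congr (Equiv.ofBijective _ h1), Nat.card_fun]

theorem card_line [Finite F] (i : Fin k) : Nat.card (line M i) = Nat.card F := by
  rw [line, card_lines]
  simp

/-- `A` induces on `V` the full group of upper unitriangular elements of `SL₂(F)^I`. -/
structure Ind (A : Subgroup G) (I : Set (Fin k)) : Prop where
  act : ∀ a ∈ A, ∃ b : Fin k → F, (∀ i, i ∉ I → b i = 0) ∧ ActsSL M.e (V) ⊥ a fun i => up (b i)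
  ex : ∀ b : Fin k → F, (∀ i, i ∉ I → b i = 0) → ∃ a ∈ A, ActsSL M.e (V) ⊥ a fun i => up (b i)

theorem exists_ind {A : Subgroup G} (hA : A ≤ S) (hoff : Off (V) A) : ∃ I : Set (Fin k), Ind M A I := by
  obtain ⟨I, h1, h2⟩ := M.off A hA hoff
  exact ⟨I, h1, h2⟩

variable {M}

/-- The coordinates of a commutator. -/
theorem e_comm {v a : G} (hv : v ∈ V) (ha : a ∈ P) {b : Fin k → F}
    (h : ActsSL M.e (V) ⊥ a fun i => up (b i)) (i : Fin k) :
    ⁅v, a⁆ ∈ V ∧ M.e ⁅v, a⁆ i 0 = - (b i * M.e v i 1) ∧ M.e ⁅v, a⁆ i 1 = 0 := by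
  have e : ⁅v, a⁆ = v * (a * v⁻¹ * a⁻¹) := by rw [commutatorElement_def]; group
  have h1 : a * v⁻¹ * a⁻¹ ∈ V := cj_mem M ha (inv_mem hv)
  have h2 := h.1 _ (inv_mem hv) i
  rw [e, M.mul v hv _ h1, Pi.add_apply, Pi.add_apply, Pi.add_apply, h2, e_inv M hv, NatPair.ap_zero',
    NatPair.ap_one']
  refine ⟨mul_mem hv h1, ?_, ?_⟩
  · simp only [up_00, up_01, Pi.neg_apply]
    ring
  · simp only [up_10, up_11, Pi.neg_apply]
    ring

open Classical in
/-- `[V, A] = lines M I`. -/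
theorem Ind.commutator_eq {A : Subgroup G} {I : Set (Fin k)} (h : Ind M A I) (hA : A ≤ P) :
    ⁅V, A⁆ = lines M I := by
  refine le_antisymm ?_ ?_
  · rw [commutator_le]
    intro v hv a ha
    obtain ⟨b, hb, h1⟩ := h.act a ha
    refine ⟨⟨(mul_mem hv (cj_mem M (hA ha) (inv_mem hv)) : v * (a * v⁻¹ * a⁻¹) ∈ V) |> fun h2 => ?_,
      fun i hi => ?_⟩, fun i => (e_comm hv (hA ha) h1 i).2.2⟩
    · have e : ⁅v, a⁆ = v * (a * v⁻¹ * a⁻¹) := by rw [commutatorElement_def]; group
      rw [e]; exact h2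
    · apply NatPair.ext2
      · rw [(e_comm hv (hA ha) h1 i).2.1, hb i hi]
        simp
      · exact (e_comm hv (hA ha) h1 i).2.2
  · intro w hw
    obtain ⟨v, hv, hev⟩ := M.surj fun i => if i ∈ I then ![0, 1] else 0
    have hev' : ∀ i, M.e v i = if i ∈ I then ![0, 1] else 0 := fun i => congrFun hev i
    obtain ⟨a, ha, h1⟩ := h.ex (fun i => - M.e w i 0) fun i hi => by
      rw [hw.1.2 i hi]; simp
    have e : w = ⁅v, a⁆ := by
      by_cases hk : k = 0
      · subst hk
        refine e_inj M hw.1.1 ?_ (funext fun i => i.elim0)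
        have e : ⁅v, a⁆ = v * (a * v⁻¹ * a⁻¹) := by rw [commutatorElement_def]; group
        rw [e]
        exact mul_mem hv (cj_mem M (hA ha) (inv_mem hv))
      · have i0 : Fin k := ⟨0, Nat.pos_of_ne_zero hk⟩
        refine e_inj M hw.1.1 (e_comm hv (hA ha) h1 i0).1 (funext fun i => ?_)
        obtain ⟨-, h2, h3⟩ := e_comm hv (hA ha) h1 i
        apply NatPair.ext2
        · rw [h2, hev']
          by_cases hi : i ∈ I
          · rw [if_pos hi]
            simp
          · rw [if_neg hi, hw.1.2 i hi]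
            simp
        · rw [h3, hw.2 i]
    rw [e]
    exact commutator_mem_commutator hv ha

/-- If `|[V, A]| = q`, then `[V, A]` is a line. -/
theorem Ind.eq_line [Finite F] {A : Subgroup G} {I : Set (Fin k)} (h : Ind M A I) (hA : A ≤ P)
    (hc : Nat.card ↥⁅V, A⁆ = Nat.card F) : ∃ i, I = {i} ∧ ⁅V, A⁆ = line M i := by
  have h1 := h.commutator_eq hA
  rw [h1, card_lines] at hc
  have hq : 1 < Nat.card F := Finite.one_lt_card
  have h2 : Nat.card I = 1 := by
    have : Nat.card F ^ Nat.card I = Nat.card F ^ 1 := by rw [hc, pow_one]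
    exact Nat.pow_right_injective hq this
  obtain ⟨hs, hne⟩ := Nat.card_eq_one_iff_unique.1 h2
  obtain ⟨i, hi⟩ := hne
  have h3 : I = {i} := by
    ext j
    exact ⟨fun hj => congrArg Subtype.val (Subsingleton.elim (⟨j, hj⟩ : I) ⟨i, hi⟩), fun hj => by rw [hj]; exact hi⟩
  exact ⟨i, h3, by rw [h1, h3]; rfl⟩

end Cfsg.Agent.Omega.IId.NV
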