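import Cfsg.Agent.Omega.IId.Cv.BtsOne
import Cfsg.Agent.Omega.NatPair.NormP2

/-!
# LEMMA NORM' (helper958): `N_G(V_i)` is semilinear for an unmixed factor `V_i`, any `q`

Linear level: `NatPair.NormP1`, `NormP2`; bridge to the group: `NV.nm_of_o2`.

* `NV.o2_cent_le` : `O₂(C_G(r)) ≤ stab M i` (`k ≤ 2`, `r ∈ V_i` centralised by `stab M i`);
* `NV.nm_of_unM` : `UnM M i` implies that `N_G(fac M i)` normalises the `SL₂(F)` (no Sylow hypothesis);
* `NV.natMod`;
* `NV.bts_unM` (`k = 2`), `NV.bts_unM_one` (`k = 1`) : `BTS (fac M i)` for an unmixed factor, any `q`.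
-/

set_option autoImplicit false
set_option linter.unusedSectionVars false

namespace Cfsg.Agent.Omega.IId.NV

open Subgroup Cfsg Cfsg.Agent.ZN Cfsg.Agent.ZN.ChoiceBase
open Cfsg.Agent.Omega.MinPar Cfsg.Agent.Omega.FFThm
open Cfsg.Agent.Lib.SL2Mat
open Cfsg.Agent.MinSimple
open Cfsg.Agent.Omega.NatPair (ap ap_mul ap_one ap_inv_ap ap_ap_inv exists_ap ap_add NatMod PreMod)
open Cfsg.Agent.MinSimple.VModule (zc_le zc_comm zc_sq zc_le_zl le_normalizer_o2 o2_isPGroup o2_le
  normalizer_le_normalizer_zc le_normalizer_zl)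

section bridge

open Cfsg.Agent.Omega.NatPair.PreMod

variable {G : Type*} [Group G] {F : Type*} [Field F] {V : Subgroup G} (M : PreMod F V)

/-- The bridge from the linear level. -/
theorem nm_of_co (h : ∀ g : Lin V, g ∈ normalizer (M.toCo.E : Set (Lin V))) :
    ∀ g ∈ normalizer (V : Set G), M.Nm g := by
  intro g hg k A hA
  have hk := M.mem_normalizer hA
  have h1 : rr (⟨k, hk⟩ : normalizer (V : Set G)) ∈ M.toCo.E := (M.mem_E_iff _).2 ⟨A, hA⟩
  have h2 := (mem_normalizer_iff.1 (h (rr ⟨g, hg⟩)) _).1 h1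
  rw [← rr_inv, ← rr_mul, ← rr_mul] at h2
  exact (M.mem_E_iff _).1 h2

theorem rr_eq_one_iff {o : normalizer (V : Set G)} : rr o = 1 ↔ (o : G) ∈ centralizer (V : Set G) := by
  constructor
  · intro h
    refine mem_centralizer_iff.2 fun v hv => ?_
    have h1 := rr_smul o ⟨v, hv⟩
    rw [h, one_smul] at h1
    have h2 : v = (o : G) * v * (o : G)⁻¹ := h1
    rw [eq_mul_inv_iff_mul_eq] at h2
    exact h2
  · intro h
    apply Subtype.ext
    apply MulEquiv.ext
    intro v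
    apply Subtype.ext
    have h1 := rr_smul o v
    have h2 := mem_centralizer_iff.1 h v v.2
    have h3 : (o : G) * v * (o : G)⁻¹ = v := by rw [← h2, mul_inv_cancel_right]
    exact h1.trans h3

/-- **LEMMA NORM'** -/
theorem nm_of_o2 [Finite G] [Finite F] [CharP F 2] {r : G} (hr : r ∈ V) (hr1 : r ≠ 1)
    {O : Subgroup G} (hO2 : IsPGroup 2 O) (hOV : O ≤ normalizer (V : Set G)) (hON : ∀ o ∈ O, M.Nm o)
    (hOr : ∀ o ∈ O, o * r = r * o)
    (hn : ∀ n ∈ normalizer (V : Set G), n * r = r * n → n ∈ normalizer (O : Set G))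
    (h1 : ¬ O ≤ centralizer (V : Set G)) : ∀ g ∈ normalizer (V : Set G), M.Nm g := by
  obtain ⟨x, rfl⟩ := (M.mem_iff r).1 hr
  have hx : x ≠ 0 := fun h => hr1 (M.e_eq_one.2 h)
  set O' : Subgroup (Lin V) := (O.subgroupOf (normalizer (V : Set G))).map V.normalizerMonoidHom.rangeRestrict
    with hO'
  have hmem : ∀ y : Lin V, y ∈ O' ↔ ∃ o : normalizer (V : Set G), (o : G) ∈ O ∧ rr o = y := by
    intro y
    rw [hO', Subgroup.mem_map]
    exact ⟨fun ⟨o, ho, h⟩ => ⟨o, ho, h⟩, fun ⟨o, ho, h⟩ => ⟨o, ho, h⟩⟩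
  have hp : IsPGroup 2 O' := (hO2.comap_of_injective (normalizer (V : Set G)).subtype
    (normalizer (V : Set G)).subtype_injective).map _
  have hconj : ∀ s : normalizer (V : Set G), (s : G) ∈ O → ∀ y ∈ M.toCo.E, rr s * y * (rr s)⁻¹ ∈ M.toCo.E := by
    intro s hs y hy
    obtain ⟨h, rfl⟩ := rr_surj y
    obtain ⟨A, hA⟩ := (M.mem_E_iff h).1 hy
    obtain ⟨B, hB⟩ := hON s hs h A hA
    rw [← rr_inv, ← rr_mul, ← rr_mul]
    exact (M.mem_E_iff _).2 ⟨B, hB⟩
  refine nm_of_co M fun g => M.toCo.norm_of_o2' (r := x) hx (O := O') hp ?_ ?_ ?_ ?_ g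
  · intro y hy
    obtain ⟨s, hs, rfl⟩ := (hmem y).1 hy
    rw [mem_normalizer_iff]
    intro z
    constructor
    · exact hconj s hs z
    · intro hz
      have h2 := hconj s⁻¹ (inv_mem hs) _ hz
      rw [rr_inv, inv_inv] at h2
      have e : (rr s)⁻¹ * (rr s * z * (rr s)⁻¹) * rr s = z := by group
      rwa [e] at h2
  · intro y hy
    obtain ⟨s, hs, rfl⟩ := (hmem y).1 hy
    apply M.e_inj
    rw [M.e_T, hOr s hs, mul_inv_cancel_right]
  · intro n hnx y hy
    obtain ⟨g, rfl⟩ := rr_surj n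
    obtain ⟨s, hs, rfl⟩ := (hmem y).1 hy
    have h2 := M.e_T g x
    rw [hnx] at h2
    have h3 : (g : G) * M.e x = M.e x * g := (eq_mul_inv_iff_mul_eq.1 h2).symm
    have h5 := (mem_normalizer_iff.1 (hn g g.2 h3) (s : G)).1 hs
    rw [hmem]
    exact ⟨g * s * g⁻¹, h5, by rw [rr_mul, rr_mul, rr_inv]⟩
  · intro h0
    apply h1
    intro o ho
    have h2 : rr (⟨o, hOV ho⟩ : normalizer (V : Set G)) ∈ O' := (hmem _).2 ⟨_, ho, rfl⟩
    rw [h0, mem_bot] at h2
    exact rr_eq_one_iff.1 h2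


end bridge

universe u

variable {G : Type u} [Group G] [Finite G] {F : Type} [Field F] [Finite F] [CharP F 2] {S : Sylow 2 G}
  {P V D : Subgroup G} {k : ℕ} (M : NatD F S P V D k)

/-- **`O₂(C_G(r)) ≤ stab M i`**, `r ∈ V_i` an element `≠ 1` centralised by `stab M i`, `k = 1, 2` -/
theorem o2_cent_le (hk : k = 1 ∨ k = 2) (i : Fin k) {r : G} (hr : r ∈ fac M.toNatV i) (hr1 : r ≠ 1)
    (hrS : ∀ t ∈ stab M.toNatV i, t * r = r * t) : o2 (centralizer ({r} : Set G)) ≤ stab M.toNatV i := by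
  rcases hk with rfl | rfl
  · have h1 := (stab_one M i).ge
    refine le_trans ?_ h1
    have h2 : (S : Subgroup G) ≤ centralizer ({r} : Set G) := fun t ht =>
      mem_centralizer_singleton_iff.2 (hrS t (h1 ht))
    exact VModule.o2_le_of_sylow S.isPGroup' (MinSimple.Basic.not_dvd_relIndex S h2)
  · obtain ⟨j, hj⟩ := exists_ne i
    have hr2 : r ^ 2 = 1 := by
      rw [pow_two]
      exact NV.sq M.toNatV hr.1
    have hn : centralizer ({r} : Set G) ≤ normalizer (zpowers r : Set G) := by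
      rw [← Subgroup.centralizer_closure, ← zpowers_eq_closure]
      exact centralizer_le_normalizer _
    refine o2_le_stab M hj.symm (R := zpowers r) (zpowers_le.2 hr) (by rwa [Ne, zpowers_eq_bot]) hn
      (MinSimple.Basic.char2_centralizer M.hG hr2 hr1) ?_ ?_
    · exact fun t ht => mem_centralizer_singleton_iff.2 (hrS t ht)
    · intro g hg
      exact mem_centralizer_singleton_iff.2 (grp_comm M.toNatV (by simpa using hj) hg hr)

/-- **LEMMA NORM', unmixed factor**: `N_G(V_i)` normalises the `SL₂(F)`, any `q`, `k = 1, 2`; no Sylow hypothesis. -/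
theorem nm_of_unM (hk : k = 1 ∨ k = 2) (i : Fin k) (hu : UnMx M i) :
    ∀ g ∈ normalizer (fac M.toNatV i : Set G), (pre M.toNatV i).Nm g := by
  have hT2 : IsPGroup 2 (stab M.toNatV i) := S.isPGroup'.to_le (stab_le _ _)
  have hR2 : IsPGroup 2 (line M.toNatV i) :=
    (S.isPGroup'.to_le (V_le_S M)).to_le ((line_le _ _).trans (fac_le _ _))
  obtain ⟨r, hr, hr1, hrc⟩ := Half.exists_fixed hR2 (line_ne_bot' (M := M.toNatV) i) hT2
    (stab_normalizes_line M.toNatV (SP M) i)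
  have hrf : r ∈ fac M.toNatV i := line_le _ _ hr
  have hrS : ∀ t ∈ stab M.toNatV i, t * r = r * t := fun t ht => mul_inv_eq_iff_eq_mul.1 (hrc t ht)
  have hr2 : r ^ 2 = 1 := by
    rw [pow_two]
    exact NV.sq M.toNatV hrf.1
  set O : Subgroup G := o2 (centralizer ({r} : Set G)) with hO
  have hOs : O ≤ stab M.toNatV i := o2_cent_le M hk i hrf hr1 hrS
  have hOc : O ≤ centralizer ({r} : Set G) := VModule.o2_le _
  have hch := MinSimple.Basic.char2_centralizer M.hG hr2 hr1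
  refine nm_of_o2 (pre M.toNatV i) hrf hr1 (o2_isPGroup _) (hOs.trans (stab_normalizes _ i))
    (fun o ho => Nm_stab (SP M) M.toNatV i o (hOs ho)) (fun o ho => mem_centralizer_singleton_iff.1 (hOc ho))
    (fun n _ hnr => VModule.le_normalizer_o2 _ (mem_centralizer_singleton_iff.2 hnr)) ?_
  -- `O` does not centralise `V_i`
  intro hcen
  have hVO : fac M.toNatV i ≤ O := by
    intro v hv
    refine hch (mem_inf.2 ⟨mem_centralizer_singleton_iff.2 (NV.comm M.toNatV hv.1 hrf.1), ?_⟩)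
    exact mem_centralizer_iff.2 fun y hy => (mem_centralizer_iff.1 (hcen hy) v hv).symm
  obtain ⟨c, hc, v, hv, w, hw, hne⟩ := hu
  -- a torus element
  have hrc' : c * r * c⁻¹ ∈ line M.toNatV i := (mem_normalizer_iff.1 hc r).1 hr
  have hrc1 : c * r * c⁻¹ ≠ 1 := fun h => hr1 (by
    rw [mul_inv_eq_one, mul_eq_left] at h
    exact h)
  obtain ⟨h, hh, -, hhr⟩ := exists_tor M.toNatV hrc' hr hrc1 hr1
  have hcr : h * c ∈ centralizer ({r} : Set G) := by
    rw [mem_centralizer_singleton_iff]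
    have e : h * c * r = h * (c * r * c⁻¹) * h⁻¹ * (h * c) := by group
    rw [e, hhr]
  have h5 : h * c * w * (h * c)⁻¹ ∈ O :=
    (mem_normalizer_iff.1 (VModule.le_normalizer_o2 (centralizer ({r} : Set G)) hcr) w).1 (hVO hw)
  have h6 : h * v * h⁻¹ ∈ fac M.toNatV i := grp_conj_fac hh hv
  have h7 := mem_centralizer_iff.1 (hcen h5) _ h6
  apply hne
  have e1 : h * v * h⁻¹ * (h * c * w * (h * c)⁻¹) = h * (v * (c * w * c⁻¹)) * h⁻¹ := by group
  have e2 : h * c * w * (h * c)⁻¹ * (h * v * h⁻¹) = h * (c * w * c⁻¹ * v) * h⁻¹ := by group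
  rw [e1, e2] at h7
  exact mul_left_cancel (mul_right_cancel h7)

/-- The natural module of an unmixed factor. -/
noncomputable def natMod (hk : k = 1 ∨ k = 2) (i : Fin k) (hu : UnMx M i) : NatMod F (fac M.toNatV i) :=
  (pre M.toNatV i).toNatMod (nm_of_unM M hk i hu)

/-- **`BTS (fac M i)`** for an unmixed factor, `k = 2`, any `q` -/
theorem bts_unM (M : NatD F S P V D 2) {i j : Fin 2} (hij : i ≠ j) (hu : UnMx M i) :
    ∃ N : NatMod F (fac M.toNatV i), BtsD M i j N :=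
  bts_of M hij (nm_of_unM M (Or.inr rfl) i hu) hu

/-- **`BTS V`** for an unmixed `V`, `k = 1`, any `q` -/
theorem bts_unM_one (M : NatD F S P V D 1) {i : Fin 1} (hu : UnMx M i) :
    ∃ N : NatMod F (fac M.toNatV i), BtsD1 M i N :=
  bts_of_one M (nm_of_unM M (Or.inl rfl) i hu) hu

end Cfsg.Agent.Omega.IId.NV
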