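import Cfsg.Agent.Omega.IId.Cv.TwoBTwo
import Cfsg.Agent.Omega.IId.Cv.BtsOne

/-!
# WrCv, `k' = 1`, `V'` unmixed, `q = 2` : the exit `Pos`

* `pos_of` : `Pos T₁ ⟨T₁, X⟩ V (pt N) o r z` from `BT V (pt N)`, `|F| = 2`;
* `D_ne_bot_one` : `D' ≠ 1` (any partner with `D ≠ 1`, `|F'| = 2`);
* `Cv.cvOne2`, `Cv.cvOne_of`.
-/

set_option autoImplicit false
set_option linter.unusedSectionVars false

namespace Cfsg.Agent.Omega.IId.NV

open Subgroup Pointwise Cfsg Cfsg.Agent.ZN Cfsg.Agent.ZN.ChoiceBase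
open Cfsg.Agent.Omega.MinPar Cfsg.Agent.Omega.FFThm
open Cfsg.Agent.Lib.SL2Mat
open Cfsg.Agent.MinSimple
open Cfsg.Agent.Omega.NatPair (NatMod)
open Cfsg.Agent.Omega.HTwo.Entry (Pos)
open Cfsg.Agent.MinSimple.VModule (zc_comm zc_sq zc_le_zl o2_isPGroup
  normalizer_le_normalizer_zc le_normalizer_zl)

universe u

section pos

variable {G : Type u} [Group G] [Finite G] {F : Type} [Field F] [Finite F] [CharP F 2] {T₁ : Sylow 2 G}
  {V : Subgroup G} (N : NatMod F V)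

/-- **The position from `BT`**, `|F| = 2`. -/
theorem pos_of (hF : Nat.card F = 2) (hG : IsCharacteristicTwoType G) (b : BTwo.BT V (BTwo.pt N)) (o : BTwo.Pt N)
    (hTV : (T₁ : Subgroup G) ≤ normalizer (V : Set G)) (hTR : (T₁ : Subgroup G) ≤ normalizer (BTwo.pt N o : Set G))
    (hdec : ∀ z ∈ zc (T₁ : Subgroup G), ∃ u ∈ V, ∃ z' ∈ BTwo.CenX V (BTwo.pt N),
      (∀ t ∈ (T₁ : Subgroup G), t * z' = z' * t) ∧ z = u * z')
    {z : G} (hz : z ∈ zc (T₁ : Subgroup G)) (hzX : z ∈ BTwo.CenX V (BTwo.pt N)) (hz1 : z ≠ 1) :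
    ∃ r, Pos T₁ ((T₁ : Subgroup G) ⊔ BTwo.XX V (BTwo.pt N)) V (BTwo.pt N) o r z := by
  have hXV : BTwo.XX V (BTwo.pt N) ≤ normalizer (V : Set G) := b.X_le_NV
  have hcardR : ∀ i : BTwo.Pt N, Nat.card (BTwo.pt N i) = 2 := by
    rintro ⟨_, w, hw, rfl⟩
    change Nat.card (N.line w) = 2
    rw [N.card_line hw, hF]
  obtain ⟨⟨r, hr⟩, hr1, hu⟩ := (Nat.card_eq_two_iff' (1 : BTwo.pt N o)).1 (hcardR o)
  have hr1' : r ≠ 1 := fun e => hr1 (Subtype.ext e)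
  set P₁ := (T₁ : Subgroup G) ⊔ BTwo.XX V (BTwo.pt N) with hP₁
  have hPV : P₁ ≤ normalizer (V : Set G) := sup_le hTV hXV
  refine ⟨r, {
    toBT := b, card_R := hcardR, char2 := hG, S_V := hTV, S_R := hTR, S_P := le_sup_left, P_V := hPV,
    P_trans := ?_, P_Z := ?_, r_ne := hr1', r_sq := b.V_sq _ (b.R_le o hr), r_iff := ?_, z_mem := ?_, z_ne := hz1 }⟩
  · intro k
    obtain ⟨y, hy, e⟩ := b.trans_X_one o k
    exact ⟨y, (le_sup_right : BTwo.XX V (BTwo.pt N) ≤ _) hy, e⟩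
  · intro y hy w hw
    obtain ⟨u, hu, w', hw', hc, rfl⟩ := hdec w hw
    have h1 : y * w' = w' * y :=
      mem_centralizer_iff.1 (mem_cen_sup hc fun x hx => mem_centralizer_iff.1 hw' x hx) y hy
    have h2 : y * (u * w') * y⁻¹ * (u * w')⁻¹ = y * u * y⁻¹ * u⁻¹ := by
      calc y * (u * w') * y⁻¹ * (u * w')⁻¹ = y * u * (w' * y⁻¹) * w'⁻¹ * u⁻¹ := by group
        _ = y * u * (y⁻¹ * (y * w') * y⁻¹) * w'⁻¹ * u⁻¹ := by group
        _ = y * u * (y⁻¹ * (w' * y) * y⁻¹) * w'⁻¹ * u⁻¹ := by rw [h1]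
        _ = y * u * y⁻¹ * u⁻¹ := by group
    rw [h2]
    exact mul_mem ((mem_normalizer_iff.1 (hPV hy) _).1 hu) (inv_mem hu)
  · intro y
    constructor
    · intro hy
      by_cases h : y = 1
      · exact Or.inl h
      · exact Or.inr (congrArg Subtype.val (hu ⟨y, hy⟩ fun hh => h (congrArg Subtype.val hh)))
    · rintro (rfl | rfl)
      · exact one_mem _
      · exact hr
  · exact mem_inf.2 ⟨hz, mem_cen_sup (fun x hx => (VModule.mem_zc.1 hz).2.1 x hx)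
      fun x hx => mem_centralizer_iff.1 hzX x hx⟩

end pos

section one

variable {G : Type u} [Group G] [Finite G] {F F' : Type} [Field F] [Finite F] [CharP F 2] [Field F'] [Finite F']
  [CharP F' 2] {S S' : Sylow 2 G} {P P' V V' D D' : Subgroup G} {k : ℕ} (M : NatD F S P V D k)
  (M' : NatD F' S' P' V' D' 1) (hF' : Nat.card F' = 2)

include M M' hF' in
/-- `D' ≠ 1` if `D ≠ 1` -/
theorem D_ne_bot_one [NeZero k] (hD : D ≠ ⊥) : D' ≠ ⊥ := by
  rintro rfl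
  have h2 : Nat.card (line M'.toNatV 0) = 2 := by rw [card_line, hF']
  obtain ⟨⟨r, hr⟩, hr1, hu⟩ := (Nat.card_eq_two_iff' (1 : line M'.toNatV 0)).1 h2
  obtain ⟨z, hz, hz1, hzr⟩ := exists_third M hD S' r
  obtain ⟨n, hn, d, hd, rfl⟩ := M'.dec z (zc_le_zl _ _ hz)
  rw [mem_bot] at hd
  subst hd
  rw [mul_one] at hz hz1 hzr
  have h3 : n ∈ fac M'.toNatV 0 := by rwa [fac_one M']
  have h4 : n ∈ line M'.toNatV 0 := fix_le_line M'.toNatV (SP M') h3 fun t ht =>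
    (VModule.mem_zc.1 hz).2.1 t (stab_le _ _ ht)
  exact hzr (congrArg Subtype.val (hu ⟨n, h4⟩ fun hh => hz1 (congrArg Subtype.val hh)))

include hF' in
/-- **the position**, `k = 1`, `q = 2` -/
theorem pos_one {i : Fin 1} (hD : D' ≠ ⊥) (hu : UnMx M' i) :
    ∃ (N : NatMod F' (fac M'.toNatV i)) (P₁ : Subgroup G) (o : BTwo.Pt N) (r z : G),
      Pos S' P₁ (fac M'.toNatV i) (BTwo.pt N) o r z := by
  obtain ⟨N, B⟩ := bts_one_two M' hF' hu
  have hSP := SP M'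
  let o : BTwo.Pt N := ⟨line M'.toNatV i, ![1, 0], FourSide.vec_ne, B.line.symm⟩
  obtain ⟨d, hd, hd1⟩ := (Subgroup.bot_or_exists_ne_one D').resolve_left hD
  have hdc : ∀ e ∈ D', ∀ t ∈ (S' : Subgroup G), t * e = e * t := fun e he t ht =>
    (mem_centralizer_iff.1 (M'.cD (hSP ht)) e he).symm
  have hdS : d ∈ zc (S' : Subgroup G) := VModule.mem_zc.2
    ⟨o2_le_S M' (VModule.zc_le _ (zl_le_zz M' (M'.D_le hd))), hdc d hd, D_sq M' hd⟩
  obtain ⟨r, p⟩ := pos_of N hF' M'.hG B.bts.toBT o (hSP.trans (P_le_fac M' i)) (S_le_line M' i) (fun z hz => by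
    obtain ⟨n, hn, e, he, rfl⟩ := M'.dec z (zc_le_zl _ _ hz)
    exact ⟨n, by rwa [fac_one M'], e, B.cenD he, hdc e he, rfl⟩) hdS (B.cenD hd) hd1
  exact ⟨N, _, o, r, d, p⟩

end one

end Cfsg.Agent.Omega.IId.NV

namespace Cfsg.Agent.Omega.IId.Cv

open Subgroup Cfsg Cfsg.Agent.ZN
open Cfsg.Agent.Omega.IId.NV
open Cfsg.Agent.Omega.MinPar
open Cfsg.Agent.Omega.HOne.Cut (TS0 Three0 More0 EndL known_of_pos)

universe u

section sockets

variable (K : Cfsg.Agent.Omega.Frame.Cls.{u})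

/-- `CvOne`, `q = 2`. -/
def CvOne2 : Prop :=
  ∀ (G : Type u) [Group G] [Finite G] (S S' : Sylow 2 G), HypN K S → ∀ (P P' : Subgroup G), Pair S S' P P' →
    ∀ (F F' : Type) [Field F] [Finite F] [CharP F 2] [Field F'] [Finite F'] [CharP F' 2]
      (V V' D D' : Subgroup G) (M : NatD F S P V D 2) (M' : NatD F' S' P' V' D' 1),
      D ≠ ⊥ ∨ D' ≠ ⊥ → ∀ i i', LineD M M' i i' → UnM M' i' → Nat.card F = 2 → IsKnownSimple' G

/-- `CvOne`, `q ≥ 4`. -/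
def CvOne4 : Prop :=
  ∀ (G : Type u) [Group G] [Finite G] (S S' : Sylow 2 G), HypN K S → ∀ (P P' : Subgroup G), Pair S S' P P' →
    ∀ (F F' : Type) [Field F] [Finite F] [CharP F 2] [Field F'] [Finite F'] [CharP F' 2]
      (V V' D D' : Subgroup G) (M : NatD F S P V D 2) (M' : NatD F' S' P' V' D' 1),
      D ≠ ⊥ ∨ D' ≠ ⊥ → ∀ i i', LineD M M' i i' → UnM M' i' → 4 ≤ Nat.card F → IsKnownSimple' G

end sockets

/-- **`CvOne`, `q = 2`.** -/
theorem cvOne2 {K : Cfsg.Agent.Omega.Frame.Cls.{u}} (hT : TS0.{u, u}) (h3 : Three0.{u, u}) (hm : More0.{u, u})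
    (hE : EndL.{u}) : CvOne2 K := by
  intro G _ _ S S' hH P P' hp F F' _ _ _ _ _ _ V V' D D' M M' hD i i' L hu hF
  have hF' : Nat.card F' = 2 := L.card.trans hF
  have hD' : D' ≠ ⊥ := by
    rcases hD with hD | hD
    · exact D_ne_bot_one M M' hF' hD
    · exact hD
  obtain ⟨N, P₁, o, r, z, p⟩ := pos_one M' hF' hD' hu
  exact known_of_pos hT h3 hm hE (hH.conj S').ctx (hH.conj S').full (hH.conj S').allIn p

/-- **`CvOne` from its case `q ≥ 4`.** -/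
theorem cvOne_of {K : Cfsg.Agent.Omega.Frame.Cls.{u}} (h2 : CvOne2 K) (h4 : CvOne4 K) : CvOne K := by
  intro G _ _ S S' hH P P' hp F F' _ _ _ _ _ _ V V' D D' M M' hD i i' L hu
  rcases FrameFF.two_le_card (F := F) with hq | hq
  · exact h2 G S S' hH P P' hp F F' V V' D D' M M' hD i i' L hu hq
  · exact h4 G S S' hH P P' hp F F' V V' D D' M M' hD i i' L hu hq

end Cfsg.Agent.Omega.IId.Cv
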