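import Cfsg.Agent.Omega.IId.Cv.Sit
import Cfsg.Agent.Omega.IId.Cv.NatMod
import Cfsg.Agent.Omega.IId.Cv.TwoBTwo
import Cfsg.Agent.Omega.IId.Cv.OneTwo

/-!
# II.d, `V_P = V × D`: `CvTwoB`, `CvOne` for `q ≥ 4`

* `DNe` : `D' ≠ 1` for `k = 2`, `k' = 1`;
* `cvTwoB4`, `cvOne4` : from `ChainT`, `EndL` (and `DNe`).
-/

set_option autoImplicit false
set_option linter.unusedSectionVars false

namespace Cfsg.Agent.Omega.IId.Cv

open Subgroup Pointwise Cfsg Cfsg.Agent.ZN Cfsg.Agent.ZN.ChoiceBase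
open Cfsg.Agent.Omega.MinPar Cfsg.Agent.Omega.Frame Cfsg.Agent.Omega.FFThm Cfsg.Agent.Omega.FrameMulti
open Cfsg.Agent.Omega.NatPair (NatMod)
open Cfsg.Agent.Omega.HOne.Cut (EndL)

universe u

/-- `D' ≠ 1` for `k = 2`, `k' = 1`. -/
def DNe : Prop :=
  ∀ (G : Type u) [Group G] [Finite G] (S S' : Sylow 2 G) (P P' : Subgroup G) (F F' : Type) [Field F] [Finite F]
    [CharP F 2] [Field F'] [Finite F'] [CharP F' 2] (V V' D D' : Subgroup G) (M : NatD F S P V D 2)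
    (M' : NatD F' S' P' V' D' 1) (i : Fin 2) (i' : Fin 1), LineD M M' i i' → D ≠ ⊥ ∨ D' ≠ ⊥ → D' ≠ ⊥

/-- **CASE 2b, `q ≥ 4`** -/
theorem cvTwoB4 {K : Cls.{u}} (hC : ChainT.{u}) (hE : EndL.{u}) : CvTwoB4 K := by
  intro G _ _ S hH P F _ _ _ V D M i hD hu T₁ _ hT h4
  obtain ⟨j, hji⟩ := exists_ne i
  obtain ⟨N, e⟩ := NV.bts_of M hji.symm (NV.nm_of_unM M (Or.inr rfl) i hu) hu
  obtain ⟨o, ho⟩ : ∃ o, BTwo.pt N o = NV.line M.toNatV i := ⟨⟨N.line ![1, 0], _, vec_one_ne, rfl⟩, e.line⟩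
  refine known_four hC hE (hH.conj T₁).toHyp h4 N e.bts (o := o) (hT.trans inf_le_left) ?_
    fun h => hD (le_bot_iff.1 (e.cenD.trans h.le))
  rw [ho]
  exact hT.trans inf_le_right

/-- **`k' = 1`, `q ≥ 4`** -/
theorem cvOne4 {K : Cls.{u}} (hC : ChainT.{u}) (hE : EndL.{u}) (hDn : DNe.{u}) : CvOne4 K := by
  intro G _ _ S S' hH P P' _ F F' _ _ _ _ _ _ V V' D D' M M' hDD i i' L hu h4
  have hD := hDn G S S' P P' F F' V V' D D' M M' i i' L hDD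
  obtain ⟨N, e⟩ := NV.bts_of_one M' (NV.nm_of_unM M' (Or.inl rfl) i' hu) hu
  obtain ⟨o, ho⟩ : ∃ o, BTwo.pt N o = NV.line M'.toNatV i' := ⟨⟨N.line ![1, 0], _, vec_one_ne, rfl⟩, e.line⟩
  refine known_four hC hE (hH.conj S').toHyp (L.card ▸ h4) N e.bts (o := o)
    ((NV.SP M').trans (NV.P_le_fac M' i')) ?_ fun h => hD (le_bot_iff.1 (e.cenD.trans h.le))
  rw [ho]
  exact NV.S_le_line M' i'

end Cfsg.Agent.Omega.IId.Cv
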