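import Cfsg.Agent.Omega.IId.Cv.LemE
import Cfsg.Agent.Omega.IId.Cv.Bts
import Cfsg.Agent.Omega.IId.Cv.Syl
import Cfsg.Agent.Omega.HT.Basic

/-!
# WrCv, CASE 1, `q = 2`: the structure `HTT` for `T = stab M i`, `V₁ = fac M i`

`Dat M i j R o` : `R` the points of `V₁ = fac M i`, `R o = line M i`, `T = stab M i` Sylow in `N_G(R o)`.

* `exists_dat` : the data for an unmixed factor;
* `Dat.half` : HALF LEMMA for `X` : `O₂(H)` centralises `V₁` for `H ≥ T, X` of characteristic 2;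
* `Dat.htt` : `HTT T (T ⊔ X) V₁ R o`.
-/

set_option autoImplicit false
set_option linter.unusedSectionVars false

namespace Cfsg.Agent.Omega.IId.NV.Htt

open Subgroup Cfsg Cfsg.Agent.ZN Cfsg.Agent.ZN.ChoiceBase
open Cfsg.Agent.Omega.MinPar Cfsg.Agent.Omega.FFThm
open Cfsg.Agent.MinSimple
open Cfsg.Agent.Omega.BTwo (BT BTS QQ WW XX CenX O2)
open Cfsg.Agent.Omega.IId.Cv (UnM)
open Cfsg.Agent.Omega.NatPair (NatMod)

universe u

variable {G : Type u} [Group G] [Finite G] {F : Type} [Field F] [Finite F] [CharP F 2] {S : Sylow 2 G}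
  {P V D : Subgroup G} {M : NatD F S P V D 2} {i j : Fin 2}
  {ι : Type*} {R : ι → Subgroup G} {o : ι}

/-- the standing data -/
structure Dat (M : NatD F S P V D 2) (i j : Fin 2) (R : ι → Subgroup G) (o : ι) : Prop where
  ne : i ≠ j
  card : Nat.card F = 2
  b : BTS (NV.fac M.toNatV i) R
  Ro : R o = NV.line M.toNatV i
  Rg : ∀ k, ∃ g ∈ NV.grp M.toNatV {i}, BTwo.cj g (R o) = R k
  odd : ¬ 2 ∣ (NV.stab M.toNatV i).relIndex (normalizer (NV.line M.toNatV i : Set G))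

/-- the data of an unmixed factor -/
theorem exists_dat (M : NatD F S P V D 2) (hij : i ≠ j) (hF : Nat.card F = 2) (hu : UnM M i)
    (hd : ¬ 2 ∣ (NV.stab M.toNatV i).relIndex (normalizer (NV.line M.toNatV i : Set G))) :
    ∃ (κ : Type u) (R : κ → Subgroup G) (o : κ), Dat M i j R o := by
  obtain ⟨N, hN⟩ := bts_two M hij hF hu
  have hw : (![1, 0] : Fin 2 → F) ≠ 0 := fun h => one_ne_zero (congrFun h 0)
  refine ⟨BTwo.Pt N, BTwo.pt N, ⟨N.line ![1, 0], ![1, 0], hw, rfl⟩, hij, hF, hN.bts, hN.line, ?_, hd⟩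
  intro k
  obtain ⟨o, ho⟩ : ∃ o : BTwo.Pt N, o = ⟨N.line ![1, 0], ![1, 0], hw, rfl⟩ := ⟨_, rfl⟩
  rw [← ho]
  have hRo : BTwo.pt N o = line M.toNatV i := by rw [ho]; exact hN.line
  have hc : Nat.card (BTwo.pt N o) = 2 := by rw [hRo, card_line, hF]
  obtain ⟨y, -, e⟩ := hN.bts.trans_X_one o k
  have hck : Nat.card (BTwo.pt N k) = 2 := by rw [← e, BTwo.card_cj, hc]
  obtain ⟨a, ha, ha1⟩ := hN.bts.exists_ne o
  obtain ⟨v, hv, hv1⟩ := hN.bts.exists_ne k
  obtain ⟨g, hg, hgv⟩ := exists_grp M.toNatV (hN.bts.R_le o ha) (hN.bts.R_le k hv) ha1 hv1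
  refine ⟨g, hg, ?_⟩
  refine eq_of_le_of_card_ge (BTwo.cj_le_iff.2 fun x hx => ?_) (by rw [BTwo.card_cj, hc, hck])
  rcases Two.eq_or_eq_of_card_two hc ha ha1 hx with rfl | rfl
  · rw [mul_one, mul_inv_cancel]; exact one_mem _
  · rw [hgv]; exact hv

namespace Dat

variable (h : Dat M i j R o)
include h

theorem card_R (k : ι) : Nat.card (R k) = 2 := by
  obtain ⟨g, -, e⟩ := h.Rg k
  rw [← e, BTwo.card_cj, h.Ro, card_line, h.card]

theorem SR : NV.stab M.toNatV i ≤ normalizer (R o : Set G) := by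
  rw [h.Ro]; exact stab_normalizes_line M.toNatV (SP M) i

theorem cenX {z : G} (hz : z ∈ NV.fac M.toNatV j ∨ z ∈ DT M) {x : G} (hx : x ∈ XX (NV.fac M.toNatV i) R) :
    x * z = z * x :=
  mem_centralizer_iff.1 (mem_CenX M h.ne h.b.toBT h.Ro h.Rg hz) x hx

theorem X_norm : XX (NV.fac M.toNatV i) R ≤ normalizer (NV.fac M.toNatV i : Set G) := h.b.toBT.X_le_NV

/-- an element of `X` which permutes the points cyclically -/
theorem exists_x : ∃ x ∈ XX (NV.fac M.toNatV i) R, ∀ v ∈ NV.fac M.toNatV i, nx x v = 1 := by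
  obtain ⟨y, a, b, c, hy⟩ := exists_abc M h.card i
  have hao : a ∈ R o := by rw [h.Ro]; exact hy.a_mem
  obtain ⟨p, hp⟩ := h.b.R_cov b hy.b_mem
  obtain ⟨q, hq⟩ := h.b.R_cov c hy.c_mem
  have hop : o ≠ p := by
    rintro rfl
    rcases Two.eq_or_eq_of_card_two (h.card_R o) hao hy.a1 hp with h1 | h1
    · exact hy.b1 h1
    · exact hy.ab h1.symm
  have hpq : p ≠ q := by
    rintro rfl
    rcases Two.eq_or_eq_of_card_two (h.card_R p) hp hy.b1 hq with h1 | h1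
    · exact hy.c1 h1
    · exact hy.bc h1.symm
  obtain ⟨x, hx, e1, e2⟩ := h.b.toBT.trans_X hop hpq
  have conj1 : ∀ {v : G}, x * v * x⁻¹ = 1 → v = 1 := fun {v} hv => by
    have e : v = x⁻¹ * (x * v * x⁻¹) * x := by group
    rw [e, hv]; group
  have xa : x * a * x⁻¹ = b := by
    have h1 : x * a * x⁻¹ ∈ R p := by rw [← e1]; exact BTwo.conj_mem_cj hao
    exact (Two.eq_or_eq_of_card_two (h.card_R p) hp hy.b1 h1).resolve_left fun h2 => hy.a1 (conj1 h2)
  have xb : x * b * x⁻¹ = c := by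
    have h1 : x * b * x⁻¹ ∈ R q := by rw [← e2]; exact BTwo.conj_mem_cj hp
    exact (Two.eq_or_eq_of_card_two (h.card_R q) hq hy.c1 h1).resolve_left fun h2 => hy.b1 (conj1 h2)
  have cm : ∀ {v w : G}, v ∈ NV.fac M.toNatV i → w ∈ NV.fac M.toNatV i → v * w = w * v := fun {v w} hv hw =>
    h.b.V_comm v hv w hw
  have sq : ∀ {v : G}, v ∈ NV.fac M.toNatV i → v * v = 1 := fun {v} hv => h.b.V_sq v hv
  have ha := hy.a_fac
  have hb := hy.b_mem
  have hc := hy.c_mem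
  have xc : x * c * x⁻¹ = a := by
    have e : x * c * x⁻¹ = (x * a * x⁻¹) * (x * b * x⁻¹) := by rw [← hy.mul]; group
    rw [e, xa, xb, ← hy.mul, ← mul_assoc, cm hb ha, mul_assoc, sq hb, mul_one]
  refine ⟨x, hx, fun v hv => ?_⟩
  have habc : a * b * c = 1 := by rw [hy.mul, sq hc]
  rcases hy.all v hv with rfl | rfl | rfl | rfl
  · exact nx_one x
  · show v * (x * v * x⁻¹) * (x * (x * v * x⁻¹) * x⁻¹) = 1
    rw [xa, xb, habc]
  · show v * (x * v * x⁻¹) * (x * (x * v * x⁻¹) * x⁻¹) = 1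
    rw [xb, xc, cm (mul_mem hb hc) ha, ← mul_assoc, habc]
  · show v * (x * v * x⁻¹) * (x * (x * v * x⁻¹) * x⁻¹) = 1
    rw [xc, xa, mul_assoc, cm hc (mul_mem ha hb), habc]

/-- `V₁` is irreducible for `X` -/
theorem irr {Y : Subgroup G} (hY : Y ≤ NV.fac M.toNatV i) (hn : XX (NV.fac M.toNatV i) R ≤ normalizer (Y : Set G)) :
    Y = ⊥ ∨ Y = NV.fac M.toNatV i := by
  by_cases h0 : Y = ⊥
  · exact Or.inl h0
  right
  obtain ⟨y, hy, hy1⟩ := (Subgroup.bot_or_exists_ne_one Y).resolve_left h0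
  obtain ⟨k, hk⟩ := h.b.R_cov y (hY hy)
  refine le_antisymm hY fun v hv => ?_
  obtain ⟨l, hl⟩ := h.b.R_cov v hv
  obtain ⟨x, hx, e⟩ := h.b.toBT.trans_X_one k l
  have h1 : R l ≤ Y := by
    rw [← e, BTwo.cj_le_iff]
    intro w hw
    refine BTwo.conj_mem_of_normalizer (hn hx) ?_
    rcases Two.eq_or_eq_of_card_two (h.card_R k) hk hy1 hw with rfl | rfl
    · exact one_mem _
    · exact hy
  exact h1 hl

theorem V_ne : NV.fac M.toNatV i ≠ ⊥ := fac_ne_bot M.toNatV i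

theorem V_le_T : NV.fac M.toNatV i ≤ NV.stab M.toNatV i :=
  (fac_le _ _).trans (part_le_stb (blk_two M i))

theorem T_p : IsPGroup 2 (NV.stab M.toNatV i) := S.isPGroup'.to_le (stab_le _ _)

/-- `O₂(L)` centralises `V₁` for `X ≤ L ≤ N(V₁)` -/
theorem o2_le {L : Subgroup G} (hX : XX (NV.fac M.toNatV i) R ≤ L)
    (hL : L ≤ normalizer (NV.fac M.toNatV i : Set G)) : o2 L ≤ centralizer (NV.fac M.toNatV i : Set G) := by
  have hV2 : IsPGroup 2 (NV.fac M.toNatV i) := h.T_p.to_le h.V_le_T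
  obtain ⟨v, hv, hv1, hvc⟩ := Half.exists_fixed hV2 h.V_ne (VModule.o2_isPGroup L) ((VModule.o2_le L).trans hL)
  have hinv : L ≤ normalizer ((NV.fac M.toNatV i ⊓ centralizer (o2 L : Set G) : Subgroup G) : Set G) := by
    refine Half.le_normalizer_inf hL ?_
    apply Two.le_normalizer_of
    intro k hk v hv
    rw [mem_centralizer_iff] at hv ⊢
    intro y hy
    have h2 := (mem_normalizer_iff.1 (inv_mem (VModule.le_normalizer_o2 _ hk)) y).1 hy
    have h3 := hv _ h2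
    rw [inv_inv] at h3
    calc y * (k * v * k⁻¹) = k * (k⁻¹ * y * k * v) * k⁻¹ := by group
      _ = k * (v * (k⁻¹ * y * k)) * k⁻¹ := by rw [h3]
      _ = k * v * k⁻¹ * y := by group
  rcases h.irr inf_le_left (hX.trans hinv) with h1 | h1
  · exfalso
    apply hv1
    have h2 : v ∈ NV.fac M.toNatV i ⊓ centralizer (o2 L : Set G) := by
      refine mem_inf.2 ⟨hv, mem_centralizer_iff.2 fun t ht => ?_⟩
      exact mul_inv_eq_iff_eq_mul.1 (hvc t ht)
    rwa [h1, mem_bot] at h2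
  · intro x hx
    rw [mem_centralizer_iff]
    intro y hy
    rw [SetLike.mem_coe, ← h1] at hy
    exact (mem_centralizer_iff.1 (mem_inf.1 hy).2 x hx).symm

/-- `Ω₁(Z(T)) = (V₁ ∩ Z)(V₂ ∩ Z) DT M` -/
theorem zc_dec {f : G} (hf : f ∈ zc (NV.stab M.toNatV i)) :
    ∃ u ∈ NV.fac M.toNatV i, ∃ e, e ∈ zc (NV.stab M.toNatV i) ∧ (∀ x ∈ XX (NV.fac M.toNatV i) R, x * e = e * x) ∧
      u ∈ zc (NV.stab M.toNatV i) ∧ f = u * e := by
  obtain ⟨u, hu, w, hw, m, hm, huz, hwz, rfl⟩ := zc_stab_eq h.card h.ne hf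
  refine ⟨u, hu, w * m, mul_mem hwz ((mem_DT M (i := i)).1 hm).1, fun x hx => ?_, huz, by rw [mul_assoc]⟩
  have h1 := h.cenX (Or.inl hw) hx
  have h2 := h.cenX (Or.inr hm) hx
  calc x * (w * m) = x * w * m := by group
    _ = w * (x * m) := by rw [h1]; group
    _ = w * m * x := by rw [h2]; group

/-- an element of `Ω₁(Z(T))` with trivial norm lies in `V₁` -/
theorem mem_of_nx {x f : G} (hx : x ∈ XX (NV.fac M.toNatV i) R) (hx1 : ∀ v ∈ NV.fac M.toNatV i, nx x v = 1)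
    (hf : f ∈ zc (NV.stab M.toNatV i)) (h1 : nx x f = 1) : f ∈ NV.fac M.toNatV i := by
  obtain ⟨u, hu, e, he, hxe, -, rfl⟩ := h.zc_dec hf
  have hxV : ∀ v ∈ NV.fac M.toNatV i, x * v * x⁻¹ ∈ NV.fac M.toNatV i := fun v hv =>
    BTwo.conj_mem_of_normalizer (h.X_norm hx) hv
  have hev : ∀ v ∈ NV.fac M.toNatV i, v * e = e * v := fun v hv => (VModule.mem_zc.1 he).2.1 v (h.V_le_T hv)
  have hee : e * e = 1 := by rw [← pow_two]; exact (VModule.mem_zc.1 he).2.2
  have hxe' := hxe x hx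
  have hue : nx x (u * e) = nx x u * e := by
    have k1 : x * (u * e) * x⁻¹ = x * u * x⁻¹ * e := by
      calc x * (u * e) * x⁻¹ = x * u * (e * x⁻¹) := by group
        _ = x * u * (x⁻¹ * (x * e) * x⁻¹) := by group
        _ = x * u * (x⁻¹ * (e * x) * x⁻¹) := by rw [hxe']
        _ = x * u * x⁻¹ * e := by group
    have k2 : x * (x * u * x⁻¹ * e) * x⁻¹ = x * (x * u * x⁻¹) * x⁻¹ * e := by
      calc x * (x * u * x⁻¹ * e) * x⁻¹ = x * (x * u * x⁻¹) * (e * x⁻¹) := by group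
        _ = x * (x * u * x⁻¹) * (x⁻¹ * (x * e) * x⁻¹) := by group
        _ = x * (x * u * x⁻¹) * (x⁻¹ * (e * x) * x⁻¹) := by rw [hxe']
        _ = x * (x * u * x⁻¹) * x⁻¹ * e := by group
    show u * e * (x * (u * e) * x⁻¹) * (x * (x * (u * e) * x⁻¹) * x⁻¹) = _
    rw [k1, k2]
    have k3 := hev _ (hxV _ hu)
    have k4 := hev _ (hxV _ (hxV _ hu))
    calc u * e * (x * u * x⁻¹ * e) * (x * (x * u * x⁻¹) * x⁻¹ * e)
        = u * (e * (x * u * x⁻¹)) * (e * (x * (x * u * x⁻¹) * x⁻¹)) * e := by group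
      _ = u * (x * u * x⁻¹) * (e * (x * (x * u * x⁻¹) * x⁻¹)) * (e * e) := by
          rw [← k3, ← k4]
          calc u * (x * u * x⁻¹ * e) * (x * (x * u * x⁻¹) * x⁻¹ * e) * e
              = u * (x * u * x⁻¹) * (e * (x * (x * u * x⁻¹) * x⁻¹)) * (e * e) := by group
            _ = u * (x * u * x⁻¹) * (x * (x * u * x⁻¹) * x⁻¹ * e) * (e * e) := by rw [← k4]
      _ = u * (x * u * x⁻¹) * (x * (x * u * x⁻¹) * x⁻¹) * e := by rw [hee, mul_one, ← k4]; group
  rw [hue, hx1 u hu, one_mul] at h1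
  rw [h1, mul_one]
  exact hu

/-- `T` is Sylow in `T ⊔ X` -/
theorem odd_sup : ¬ 2 ∣ (NV.stab M.toNatV i).relIndex
    (XX (NV.fac M.toNatV i) R ⊔ NV.stab M.toNatV i : Subgroup G) := by
  have h1 : (XX (NV.fac M.toNatV i) R ⊔ NV.stab M.toNatV i : Subgroup G) ≤
      normalizer (NV.line M.toNatV j : Set G) := by
    refine sup_le ?_ ?_
    · refine le_trans (fun x hx => ?_) (centralizer_le_normalizer _)
      exact mem_centralizer_iff.2 fun z hz => (h.cenX (Or.inl (line_le _ _ hz)) hx).symm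
    · rw [stab_eq M.toNatV (SP M) h.ne]
      exact stab_normalizes_line M.toNatV (SP M) j
  intro h2
  apply syl_other M h.ne h.odd
  rw [← relIndex_mul_relIndex _ _ _ le_sup_right h1]
  exact Dvd.dvd.mul_right h2 _

/-- **HALF LEMMA for `X`** -/
theorem half {H : Subgroup G} (hH : H ⊓ centralizer (o2 H : Set G) ≤ o2 H) (hS : NV.stab M.toNatV i ≤ H)
    (hX : XX (NV.fac M.toNatV i) R ≤ H) : o2 H ≤ centralizer (NV.fac M.toNatV i : Set G) := by
  have hLV : (XX (NV.fac M.toNatV i) R ⊔ NV.stab M.toNatV i : Subgroup G) ≤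
      normalizer (NV.fac M.toNatV i : Set G) := sup_le h.X_norm (stab_normalizes _ i)
  refine (half_of S (stab_le _ _) (card_two M i) hH le_sup_right (sup_le hX hS) h.odd_sup h.V_le_T hLV
    h.b.V_comm (fun Y hY hn => h.irr hY (le_sup_left.trans hn)) (h.o2_le le_sup_left hLV) ?_).2
  intro w hw hw' heq hc
  obtain ⟨y, a, b, c, hy⟩ := exists_abc M h.card i
  obtain ⟨x, hx, hx1⟩ := h.exists_x
  have ha := hy.a_fac
  have hac : ∀ t ∈ NV.stab M.toNatV i, t * a = a * t := fun t ht => mul_inv_eq_iff_eq_mul.1 (hy.stab_a ht)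
  refine ⟨a, ha, hy.a1, ?_⟩
  have haa : a * a = 1 := h.b.V_sq a ha
  have hz2 : w * a * w⁻¹ ∈ NV.stab M.toNatV i := hw a (h.V_le_T ha)
  have hfz : a * (w * a * w⁻¹) ∈ zc (NV.stab M.toNatV i) := by
    refine VModule.mem_zc.2 ⟨mul_mem (h.V_le_T ha) hz2, fun t ht => ?_, ?_⟩
    · have h1 := hac _ (hw' t ht)
      have h2 : t * (w * a * w⁻¹) = (w * a * w⁻¹) * t := by
        calc t * (w * a * w⁻¹) = w * (w⁻¹ * t * w * a) * w⁻¹ := by group
          _ = w * (a * (w⁻¹ * t * w)) * w⁻¹ := by rw [h1]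
          _ = (w * a * w⁻¹) * t := by group
      calc t * (a * (w * a * w⁻¹)) = (t * a) * (w * a * w⁻¹) := by group
        _ = a * (t * (w * a * w⁻¹)) := by rw [hac t ht, mul_assoc]
        _ = a * (w * a * w⁻¹) * t := by rw [h2, ← mul_assoc]
    · have h1 := hc a ha a ha
      rw [pow_two]
      calc a * (w * a * w⁻¹) * (a * (w * a * w⁻¹)) = a * ((w * a * w⁻¹) * a) * (w * a * w⁻¹) := by group
        _ = a * (a * (w * a * w⁻¹)) * (w * a * w⁻¹) := by rw [h1]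
        _ = (a * a) * (w * (a * a) * w⁻¹) := by group
        _ = 1 := by rw [haa]; group
  have hnorm : nx x (a * (w * a * w⁻¹)) = 1 := by
    have h1 := nx_map (x := x) (fun a => a * (w * a * w⁻¹)) (B := NV.fac M.toNatV i)
      (fun a ha b hb => by
        have h2 := hc b hb a ha
        change a * b * (w * (a * b) * w⁻¹) = a * (w * a * w⁻¹) * (b * (w * b * w⁻¹))
        calc a * b * (w * (a * b) * w⁻¹) = a * (b * (w * a * w⁻¹)) * (w * b * w⁻¹) := by group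
          _ = a * ((w * a * w⁻¹) * b) * (w * b * w⁻¹) := by rw [h2]
          _ = _ := by group)
      (h.X_norm hx)
      (fun a ha => by
        rw [← heq x (mem_sup_left hx) a ha]
        group) ha
    rw [hx1 a ha] at h1
    rw [h1]
    group
  have h1 := h.mem_of_nx hx hx1 hfz hnorm
  have h2 := mul_mem (inv_mem ha) h1
  rwa [inv_mul_cancel_left] at h2

/-- **the structure `HTT`** -/
theorem htt : HT.HTT (NV.stab M.toNatV i) (NV.stab M.toNatV i ⊔ XX (NV.fac M.toNatV i) R)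
    (NV.fac M.toNatV i) R o where
  toBT := h.b.toBT
  card_R := h.card_R
  char2 := M.hG
  S_p := h.T_p
  S_odd := by rw [h.Ro]; exact h.odd
  S_V := stab_normalizes _ i
  S_R := h.SR
  S_P := le_sup_left
  P_V := sup_le (stab_normalizes _ i) h.X_norm
  P_trans := fun k => by
    obtain ⟨x, hx, e⟩ := h.b.toBT.trans_X_one o k
    exact ⟨x, mem_sup_right hx, e⟩
  P_Z := by
    intro x hx z hz
    obtain ⟨u, hu, e, he, hxe, -, rfl⟩ := h.zc_dec hz
    have hPe : NV.stab M.toNatV i ⊔ XX (NV.fac M.toNatV i) R ≤ centralizer ({e} : Set G) := by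
      refine sup_le (fun t ht => ?_) fun t ht => ?_
      · exact mem_centralizer_singleton_iff.2 ((VModule.mem_zc.1 he).2.1 t ht)
      · exact mem_centralizer_singleton_iff.2 (hxe t ht)
    have h1 : x * e = e * x := mem_centralizer_singleton_iff.1 (hPe hx)
    have hxN : x ∈ normalizer (NV.fac M.toNatV i : Set G) :=
      (sup_le (stab_normalizes _ i) h.X_norm : NV.stab M.toNatV i ⊔ XX (NV.fac M.toNatV i) R ≤ _) hx
    have e2 : x * (u * e) * x⁻¹ * (u * e)⁻¹ = x * u * x⁻¹ * u⁻¹ := by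
      calc x * (u * e) * x⁻¹ * (u * e)⁻¹ = x * u * (e * x⁻¹) * e⁻¹ * u⁻¹ := by group
        _ = x * u * (x⁻¹ * (x * e) * x⁻¹) * e⁻¹ * u⁻¹ := by group
        _ = x * u * (x⁻¹ * (e * x) * x⁻¹) * e⁻¹ * u⁻¹ := by rw [h1]
        _ = x * u * x⁻¹ * u⁻¹ := by group
    rw [e2]
    exact mul_mem (BTwo.conj_mem_of_normalizer hxN hu) (inv_mem hu)
  loc := fun H hS hX _ hH => h.half hH hS hX

end Dat

end Cfsg.Agent.Omega.IId.NV.Htt
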