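import Cfsg.Agent.Omega.IId.Cv.LemE
import Cfsg.Agent.Omega.HT.Final
import Cfsg.Agent.Omega.HT.CoreE

/-!
# WrCv, CASE 1, `q = 2`: from the two instances of `HTT` to the contradiction

`M : NatD F S P V D 2`, `T = stab M i`, `P₁ = T ⊔ X`.

* `mem_cz_iff` : `C_{Ω₁Z(T)}(P₁) = Ω₁Z(T) ∩ C_X`; `DT M`, `fac M j ∩ Ω₁Z(T)` lie in it;
* `mem_DT_of` : an element of it centralised by `grp M {j}` lies in `DT M`;
* `card_le_stab` : 2-subgroups of `G` have order `≤ 2 |T|`; `odd_MZ` : `T` is Sylow in `⟨C(Z), X⟩`;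
* `false_of_htt` : CASE 1, `D ≠ 1`, `HTT` for both factors: contradiction.
-/

set_option autoImplicit false
set_option linter.unusedSectionVars false

namespace Cfsg.Agent.Omega.IId.NV

open Subgroup Cfsg Cfsg.Agent.ZN Cfsg.Agent.ZN.ChoiceBase
open Cfsg.Agent.Omega.MinPar Cfsg.Agent.Omega.FFThm
open Cfsg.Agent.MinSimple
open Cfsg.Agent.Omega.BTwo (BT BTS QQ WW XX CenX O2)
open Cfsg.Agent.Omega.HTwo.ThmA (LE)
open Cfsg.Agent.Omega.HT (HTT)
open Cfsg.Agent.Omega.HT.JunAB (MZ)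
open Cfsg.Agent.Omega.IId.Cv (UnM)

universe u

variable {G : Type u} [Group G] [Finite G] {F : Type} [Field F] [Finite F] [CharP F 2] {S : Sylow 2 G}
  {P V D : Subgroup G} (M : NatD F S P V D 2) {i j : Fin 2} (hij : i ≠ j) {ι : Type*}
  {R : ι → Subgroup G} {o : ι}

/-- every 2-subgroup of `G` has order at most `2 |stab M i|` -/
theorem card_le_stab (i : Fin 2) (Q : Subgroup G) (hQ : IsPGroup 2 Q) :
    Nat.card Q ≤ 2 * Nat.card (stab M.toNatV i) := by
  obtain ⟨S', hS'⟩ := hQ.exists_le_sylow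
  have h1 : Nat.card (S' : Subgroup G) = Nat.card (S : Subgroup G) := Nat.card_congr (S'.equiv S).toEquiv
  have h2 : Nat.card (S : Subgroup G) = 2 * Nat.card (stab M.toNatV i) := card_stab M.toNatV (SP M) i
  rw [← h2, ← h1]
  exact Nat.le_of_dvd Nat.card_pos (card_dvd_of_le hS')

theorem mem_cz_iff {T : Subgroup G} {z : G} :
    z ∈ zc T ⊓ centralizer ((T ⊔ XX (fac M.toNatV i) R : Subgroup G) : Set G) ↔
      z ∈ zc T ∧ z ∈ CenX (fac M.toNatV i) R := by
  constructor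
  · rintro ⟨h1, h2⟩
    exact ⟨h1, centralizer_le (SetLike.coe_subset_coe.2 le_sup_right) h2⟩
  · rintro ⟨h1, h2⟩
    refine mem_inf.2 ⟨h1, ?_⟩
    have h3 : T ⊔ XX (fac M.toNatV i) R ≤ centralizer ({z} : Set G) := by
      refine sup_le (fun t ht => ?_) fun x hx => ?_
      · exact mem_centralizer_singleton_iff.2 ((VModule.mem_zc.1 h1).2.1 t ht)
      · exact mem_centralizer_singleton_iff.2 (mem_centralizer_iff.1 h2 x hx)
    rw [mem_centralizer_iff]
    exact fun x hx => mem_centralizer_singleton_iff.1 (h3 hx)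

include hij

/-- `DT M ∩ fac M j = 1` -/
theorem not_mem_DT {z : G} (hz : z ∈ fac M.toNatV j) (h1 : z ≠ 1) : z ∉ DT M := by
  intro h
  apply h1
  have h2 : z ∈ fac M.toNatV j ⊓ centralizer (grp M.toNatV {j} : Set G) :=
    mem_inf.2 ⟨hz, mem_centralizer_iff.2 fun g hg => DT_comm_grp M hij.symm h hg⟩
  rwa [fac_inf_centralizer, mem_bot] at h2

/-- an element of `Ω₁Z(T) ∩ C_X` centralised by `grp M {j}` lies in `DT M` -/
theorem mem_DT_of (hF : Nat.card F = 2) (b : BTS (fac M.toNatV i) R) (hRo : R o = line M.toNatV i)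
    (hRg : ∀ k, ∃ g ∈ grp M.toNatV {i}, BTwo.cj g (R o) = R k) {z : G} (hz : z ∈ zc (stab M.toNatV i))
    (hzX : z ∈ CenX (fac M.toNatV i) R) (hc : ∀ g ∈ grp M.toNatV {j}, g * z = z * g) : z ∈ DT M := by
  have hCX : ∀ {z : G}, z ∈ fac M.toNatV j ∨ z ∈ DT M → z ∈ CenX (fac M.toNatV i) R := fun {z} hz =>
    mem_CenX M hij b.toBT hRo hRg hz
  obtain ⟨u, hu, w, hw, m, hm, -, -, rfl⟩ := zc_stab_eq hF hij hz
  have h1 : w * m ∈ CenX (fac M.toNatV i) R := mul_mem (hCX (Or.inl hw)) (hCX (Or.inr hm))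
  have hu1 : u = 1 := by
    refine b.cen_VX hu ?_
    have h2 : u = u * w * m * (w * m)⁻¹ := by group
    rw [h2]
    exact mul_mem hzX (inv_mem h1)
  subst hu1
  rw [one_mul] at hc ⊢
  have hw1 : w = 1 := by
    have h2 : w ∈ fac M.toNatV j ⊓ centralizer (grp M.toNatV {j} : Set G) := by
      refine mem_inf.2 ⟨hw, mem_centralizer_iff.2 fun g hg => ?_⟩
      have h3 := hc g hg
      have h4 := DT_comm_grp M hij.symm hm hg
      have h5 : g * w * m = w * g * m := by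
        calc g * w * m = g * (w * m) := by group
          _ = w * m * g := h3
          _ = w * (g * m) := by rw [h4]; group
          _ = w * g * m := by group
      exact mul_right_cancel h5
    rwa [fac_inf_centralizer, mem_bot] at h2
  rw [hw1, one_mul]
  exact hm

/-- **`T` is a Sylow 2-subgroup of `⟨C(Ω₁Z(T)), X⟩`** in CASE 1 -/
theorem odd_MZ (hF : Nat.card F = 2) (b : BT (fac M.toNatV i) R) (hRo : R o = line M.toNatV i)
    (hRg : ∀ k, ∃ g ∈ grp M.toNatV {i}, BTwo.cj g (R o) = R k)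
    (hd : ¬ 2 ∣ (stab M.toNatV i).relIndex (normalizer (line M.toNatV i : Set G))) :
    ¬ 2 ∣ (stab M.toNatV i).relIndex (MZ (stab M.toNatV i) (fac M.toNatV i) R) := by
  obtain ⟨z, hz, hz1, hzc⟩ := exists_fac_zc M hij
  -- `z ∈ line M j`
  obtain ⟨y, a, b', c, hy⟩ := exists_abc M hF j
  have hst : stab M.toNatV j = stab M.toNatV i := stab_eq M.toNatV (SP M) hij.symm
  have ha : a ∈ zc (stab M.toNatV i) := by
    rw [← hst]
    exact VModule.mem_zc.2 ⟨part_le_stb (blk_two M j) hy.a_fac.1,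
      fun t ht => mul_inv_eq_iff_eq_mul.1 (hy.stab_a ht), (VModule.mem_zc.1 (V_le_zz M hy.a_fac.1)).2.2⟩
  have hl : centralizer ({a} : Set G) ≤ normalizer (line M.toNatV j : Set G) := by
    have h2 : Nat.card (line M.toNatV j) = 2 := by rw [card_line, hF]
    intro g hg
    have hga : g * a * g⁻¹ = a := by
      rw [mem_centralizer_singleton_iff] at hg
      rw [hg, mul_inv_cancel_right]
    refine BTwo.mem_normalizer_of_conj fun v hv => ?_
    rcases Two.eq_or_eq_of_card_two h2 hy.a_mem hy.a1 hv with h | h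
    · rw [h]
      have e : g * 1 * g⁻¹ = 1 := by group
      rw [e]
      exact one_mem _
    · rw [h, hga]
      exact hy.a_mem
  have hMZ : MZ (stab M.toNatV i) (fac M.toNatV i) R ≤ centralizer ({a} : Set G) := by
    refine sup_le (centralizer_le ?_) ?_
    · rw [Set.singleton_subset_iff]
      exact ha
    · have h1 := mem_CenX M hij b hRo hRg (Or.inl hy.a_fac)
      intro x hx
      exact mem_centralizer_singleton_iff.2 (mem_centralizer_iff.1 h1 x hx)
  have hT : stab M.toNatV i ≤ MZ (stab M.toNatV i) (fac M.toNatV i) R := by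
    refine le_trans (fun t ht => ?_) le_sup_left
    rw [mem_centralizer_iff]
    exact fun z hz => ((VModule.mem_zc.1 hz).2.1 t ht).symm
  intro h
  refine syl_other M hij hd (h.trans ⟨_, (relIndex_mul_relIndex _ _ _ hT (hMZ.trans hl)).symm⟩)

/-- **WrCv, CASE 1, `q = 2`** from the two instances of `HTT` -/
theorem false_of_htt (hF : Nat.card F = 2) (hD : D ≠ ⊥) (hu : UnM M i)
    (hd : ¬ 2 ∣ (stab M.toNatV i).relIndex (normalizer (line M.toNatV i : Set G)))
    (b : HTT (stab M.toNatV i) (stab M.toNatV i ⊔ XX (fac M.toNatV i) R) (fac M.toNatV i) R o)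
    (hRo : R o = line M.toNatV i) (hRg : ∀ k, ∃ g ∈ grp M.toNatV {i}, BTwo.cj g (R o) = R k)
    {P₂ : Subgroup G} {κ : Type*} {R₂ : κ → Subgroup G} {o₂ : κ}
    (b₂ : HTT (stab M.toNatV i) P₂ (fac M.toNatV j) R₂ o₂)
    (hRo₂ : R₂ o₂ = line M.toNatV j) (hRg₂ : ∀ k, ∃ g ∈ grp M.toNatV {j}, BTwo.cj g (R₂ o₂) = R₂ k) : False := by
  have hLE : ∀ l, LE (fac M.toNatV i) R l := fun l => lemE M hF b.toBTS hRo hRg hu hd l
  obtain ⟨⟨z₀, hz₀D⟩, h0'⟩ := Subgroup.ne_bot_iff_exists_ne_one.1 hD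
  have h0 : z₀ ≠ 1 := fun h => h0' (Subtype.ext h)
  have hz₀ : z₀ ∈ DT M := D_le_DT M hz₀D
  obtain ⟨z₁, hz₁, h1, hz₁c⟩ := exists_fac_zc M hij
  have hcz : ∀ {z : G}, z ∈ zc (stab M.toNatV i) → z ∈ CenX (fac M.toNatV i) R →
      z ∈ zc (stab M.toNatV i) ⊓ centralizer ((stab M.toNatV i ⊔ XX (fac M.toNatV i) R : Subgroup G) : Set G) :=
    fun h1 h2 => (mem_cz_iff M).2 ⟨h1, h2⟩
  have hzDT : ∀ {z : G}, z ∈ DT M →
      z ∈ zc (stab M.toNatV i) ⊓ centralizer ((stab M.toNatV i ⊔ XX (fac M.toNatV i) R : Subgroup G) : Set G) :=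
    fun {z} hz => hcz ((mem_DT M (i := i)).1 hz).1 (mem_CenX M hij b.toBT hRo hRg (Or.inr hz))
  have key : ∀ z ∈ zc (stab M.toNatV i) ⊓
      centralizer ((stab M.toNatV i ⊔ XX (fac M.toNatV i) R : Subgroup G) : Set G),
      (z = z₀ ∨ ∀ g ∈ normalizer (fac M.toNatV i : Set G), g ∈ normalizer (R o : Set G) → g * z = z * g) →
      z ∈ DT M := by
    rintro z hz (h | h)
    · rw [h]; exact hz₀
    · obtain ⟨h3, h4⟩ := (mem_cz_iff M).1 hz
      refine mem_DT_of M hij hF b.toBTS hRo hRg h3 h4 fun g hg => h g ?_ ?_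
      · exact centralizer_le_normalizer _ (grp_le_centralizer M.toNatV (by simpa using hij.symm) hg)
      · rw [hRo]
        exact grp_le_line M hij hg
  have hcard := card_le_stab M i
  refine HT.Final.false_of b hLE (hzDT hz₀) h0 (hcz hz₁c (mem_CenX M hij b.toBT hRo hRg (Or.inl hz₁))) h1 ?_
    (odd_MZ M hij hF b.toBT hRo hRg hd) ?_ ?_
  · rintro rfl
    exact not_mem_DT M hij hz₁ h1 hz₀
  · intro z hz hz1 h
    have hzm := key z hz h
    obtain ⟨r, hr1, -, hr⟩ := b.exists_gen o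
    have hrf : r ∈ fac M.toNatV i := b.R_le o ((hr r).2 (Or.inr rfl))
    refine HT.Core.not_alpha_two b b₂ hLE hcard hr hz hz1 fun x hx => ?_
    have h3 : z * r ∈ CenX (fac M.toNatV j) R₂ :=
      mul_mem (mem_CenX M hij.symm b₂.toBT hRo₂ hRg₂ (Or.inr hzm))
        (mem_CenX M hij.symm b₂.toBT hRo₂ hRg₂ (Or.inl hrf))
    exact mem_centralizer_iff.1 h3 x hx
  · intro z hz hz1 _ r hr hr1 B hB hn h2
    exact HT.Core.ho2 b hcard hr hr1 hz hz1 B hB hn h2

end Cfsg.Agent.Omega.IId.NV
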