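import Cfsg.Agent.Omega.IId.Cv.KillQ

/-!
# WrCv, mixed partners, CASE 2: (2a) is impossible for `q ≥ 4`, END (helper330)

`Kill.norm : Kill M₁ M₂ R T T₁ w x → w ∈ N_G(V₁)`.
-/

set_option autoImplicit false
set_option linter.unusedSectionVars false

namespace Cfsg.Agent.Omega.IId.MQ

open Subgroup Cfsg.Agent.Lib.SL2Mat Cfsg.Agent.Omega.BTwo Cfsg.Agent.Omega.Mix Cfsg.Agent.Omega.MixOne
open Cfsg.Agent.Omega.NatPair (dt dt_add dt_smul exists_smul_of_dt exists_comb ap ap_smul ap_add ap_zero' ap_one'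
  ap_mul ap_inv_ap ap_ap_inv ap_one exists_ap exists_ap_e ap_up_e ext2)

variable {G : Type*} [Group G]

/-! ### General lemmas -/

/-- the elements of `N(A) ∩ N(B)` with `[A, g] ≤ B` -/
def St (A B : Subgroup G) : Subgroup G where
  carrier := {g | g ∈ normalizer (A : Set G) ∧ g ∈ normalizer (B : Set G) ∧ ∀ y ∈ A, g * y * g⁻¹ * y⁻¹ ∈ B}
  one_mem' := ⟨one_mem _, one_mem _, fun y _ => by
    have e : (1 : G) * y * 1⁻¹ * y⁻¹ = 1 := by group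
    rw [e]; exact one_mem _⟩
  mul_mem' := by
    rintro g h ⟨g1, g2, g3⟩ ⟨h1, h2, h3⟩
    refine ⟨mul_mem g1 h1, mul_mem g2 h2, fun y hy => ?_⟩
    have e : g * h * y * (g * h)⁻¹ * y⁻¹ = g * (h * y * h⁻¹ * y⁻¹) * g⁻¹ * (g * y * g⁻¹ * y⁻¹) := by group
    rw [e]
    exact mul_mem (conj_mem_of_normalizer g2 (h3 y hy)) (g3 y hy)
  inv_mem' := by
    rintro g ⟨g1, g2, g3⟩
    refine ⟨inv_mem g1, inv_mem g2, fun y hy => ?_⟩
    have e : g⁻¹ * y * g⁻¹⁻¹ * y⁻¹ = g⁻¹ * (g * y * g⁻¹ * y⁻¹)⁻¹ * g := by group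
    rw [e]
    exact conj_inv_mem_of_normalizer g2 (inv_mem (g3 y hy))

theorem mem_St {A B : Subgroup G} {g : G} : g ∈ St A B ↔ g ∈ normalizer (A : Set G) ∧ g ∈ normalizer (B : Set G) ∧
    ∀ y ∈ A, g * y * g⁻¹ * y⁻¹ ∈ B := Iff.rfl

theorem St_conj {A B : Subgroup G} {g h : G} (g1 : g ∈ normalizer (A : Set G)) (g2 : g ∈ normalizer (B : Set G))
    (hh : h ∈ St A B) : g * h * g⁻¹ ∈ St A B := by
  obtain ⟨h1, h2, h3⟩ := hh
  refine ⟨mul_mem (mul_mem g1 h1) (inv_mem g1), mul_mem (mul_mem g2 h2) (inv_mem g2), fun y hy => ?_⟩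
  have h4 := conj_mem_of_normalizer g2 (h3 _ (conj_inv_mem_of_normalizer g1 hy))
  have e : g * (h * (g⁻¹ * y * g) * h⁻¹ * (g⁻¹ * y * g)⁻¹) * g⁻¹ = g * h * g⁻¹ * y * (g * h * g⁻¹)⁻¹ * y⁻¹ := by
    group
  rwa [e] at h4

/-- a fixed-point-free `b` on the abelian group `A` : every element is a commutator -/
theorem exists_comm_eq [Finite G] {A : Subgroup G} {b : G}
    (hb : b ∈ normalizer (A : Set G)) (hf : ∀ a ∈ A, b * a = a * b → a = 1) {a : G} (ha : a ∈ A) :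
    ∃ c ∈ A, b * c * b⁻¹ * c⁻¹ = a := by
  let f : A → A := fun c => ⟨b * c * b⁻¹ * (c : G)⁻¹, mul_mem (conj_mem_of_normalizer hb c.2) (inv_mem c.2)⟩
  have hinj : Function.Injective f := by
    rintro ⟨c, hc⟩ ⟨d, hd⟩ h
    have h1 : b * c * b⁻¹ * c⁻¹ = b * d * b⁻¹ * d⁻¹ := congrArg Subtype.val h
    have hbc := conj_mem_of_normalizer hb hc
    have hbd := conj_mem_of_normalizer hb hd
    have h2 : b * (d⁻¹ * c) = d⁻¹ * c * b := by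
      have h3 : b * d⁻¹ * b⁻¹ ∈ A := conj_mem_of_normalizer hb (inv_mem hd)
      have h4 : b * (d⁻¹ * c) * b⁻¹ = d⁻¹ * c := by
        calc b * (d⁻¹ * c) * b⁻¹ = (b * d⁻¹ * b⁻¹) * (b * c * b⁻¹ * c⁻¹) * c := by group
          _ = (b * d⁻¹ * b⁻¹) * (b * d * b⁻¹ * d⁻¹) * c := by rw [h1]
          _ = d⁻¹ * c := by group
      exact mul_inv_eq_iff_eq_mul.1 h4
    have h3 := hf _ (mul_mem (inv_mem hd) hc) h2
    exact Subtype.ext (inv_mul_eq_one.1 h3).symm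
  obtain ⟨c, hc⟩ := (Finite.injective_iff_surjective.1 hinj) ⟨a, ha⟩
  exact ⟨c, c.2, congrArg Subtype.val hc⟩

/-- `X = (T₁ ∩ X) N` if `X / N` is a 2-group -/
theorem exists_mul_of_sylow [Finite G] {X N : Subgroup G} (T₁ : Sylow 2 G)
    (hT : (T₁ : Subgroup G) ≤ normalizer (X : Set G)) (hN : N ≤ X) (hXN : X ≤ normalizer (N : Set G))
    (h2 : ∀ g ∈ X, ∃ n : ℕ, g ^ 2 ^ n ∈ N) {g : G} (hg : g ∈ X) :
    ∃ s ∈ (T₁ : Subgroup G), s ∈ X ∧ ∃ c ∈ N, g = s * c := by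
  have : Fact (Nat.Prime 2) := ⟨Nat.prime_two⟩
  have hodd : Odd (((T₁ : Subgroup G) ⊓ X).relIndex X) := by
    refine M4.odd_rel (H := ⊤) le_top ?_ le_top hT
    rw [relIndex_top_right]
    exact T₁.not_dvd_index
  have hNn : (N.subgroupOf X).Normal := normal_subgroupOf_of_le_normalizer hXN
  have hp : IsPGroup 2 (X ⧸ N.subgroupOf X) := by
    intro q
    obtain ⟨⟨g, hg⟩, rfl⟩ := QuotientGroup.mk_surjective q
    obtain ⟨n, hn⟩ := h2 g hg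
    refine ⟨n, ?_⟩
    rw [← QuotientGroup.mk_pow, QuotientGroup.eq_one_iff]
    exact hn
  obtain ⟨m, hm⟩ := IsPGroup.iff_card.1 hp
  set Y : Subgroup G := ((T₁ : Subgroup G) ⊓ X) ⊔ N with hY
  have hYX : Y ≤ X := sup_le inf_le_right hN
  have h3 : Y.relIndex X ∣ 2 ^ m := by
    rw [← hm]
    exact relIndex_dvd_of_le_left X (le_sup_right : N ≤ Y)
  have h4 : Y.relIndex X ∣ ((T₁ : Subgroup G) ⊓ X).relIndex X :=
    relIndex_dvd_of_le_left X (le_sup_left : (T₁ : Subgroup G) ⊓ X ≤ Y)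
  have h5 : Y.relIndex X = 1 := by
    have h6 : Nat.Coprime (2 ^ m) (((T₁ : Subgroup G) ⊓ X).relIndex X) :=
      Nat.Coprime.pow_left m (Nat.coprime_two_left.2 hodd)
    exact Nat.dvd_one.1 (h6 ▸ Nat.dvd_gcd h3 h4)
  have h7 : g ∈ Y := (relIndex_eq_one.1 h5) hg
  have h8 : ((T₁ : Subgroup G) ⊓ X) ≤ normalizer (N : Set G) := inf_le_right.trans hXN
  rw [hY, ← SetLike.mem_coe, coe_mul_of_left_le_normalizer_right _ _ h8] at h7
  obtain ⟨s, hs, c, hc, rfl⟩ := h7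
  exact ⟨s, hs.1, hs.2, c, hc, rfl⟩

/-! ### The kill -/

namespace Kill

variable {F₁ F₂ : Type*} [Field F₁] [Field F₂] {V₁ V₂ N₁ N₂ : Subgroup G} {M₁ : RMod F₁ V₁ N₁}
  {M₂ : RMod F₂ V₂ N₂} {R T : Subgroup G} {T₁ : Sylow 2 G} {w x : G}
  [Finite G] [Finite F₁] [Finite F₂] [CharP F₁ 2] [CharP F₂ 2] (k : Kill M₁ M₂ R T T₁ w x)

/-- `V₁V'` -/
def PI : Subgroup G := NN V₁ (cj w V₁) fun _ hv _ ha => k.VV' hv ha

/-- `C_{V₁V'}(W₂(R))` -/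
def CP : Subgroup G := k.PI ⊓ centralizer (LL V₂ R R : Set G)

include k

theorem V_le_PI : V₁ ≤ k.PI := fun v hv => ⟨v, hv, 1, one_mem _, (mul_one v).symm⟩

theorem V'_le_PI : cj w V₁ ≤ k.PI := fun a ha => ⟨1, one_mem _, a, ha, (one_mul a).symm⟩

theorem PI_le_U : k.PI ≤ UX x := by
  rintro _ ⟨v, hv, a, ha, rfl⟩
  exact mul_mem (k.V_le_U hv) (k.V'_le_U ha)

theorem PI_comm {y z : G} (hy : y ∈ k.PI) (hz : z ∈ k.PI) : y * z = z * y :=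
  UX_comm (k.PI_le_U hy) (k.PI_le_U hz)

theorem PI_sq {y : G} (hy : y ∈ k.PI) : y * y = 1 := by
  obtain ⟨v, hv, a, ha, rfl⟩ := hy
  have h1 : a * a = 1 := by
    have h2 := M₁.sq (mem_cj.1 ha)
    calc a * a = w * (w⁻¹ * a * w * (w⁻¹ * a * w)) * w⁻¹ := by group
      _ = 1 := by rw [h2]; group
  have h3 := k.VV' hv ha
  calc v * a * (v * a) = v * (a * v) * a := by group
    _ = v * (v * a) * a := by rw [h3]
    _ = v * v * (a * a) := by group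
    _ = 1 := by rw [M₁.sq hv, h1, one_mul]

/-- `V₁V' = V₁ × C(X)` -/
theorem dec_PI {y : G} (hy : y ∈ k.PI) : ∃ v ∈ V₁, ∃ f ∈ k.PI,
    (∀ p, ∀ b ∈ LL V₂ R (pt M₁ p), b * f = f * b) ∧ y = v * f := by
  obtain ⟨v, hv, a, ha, rfl⟩ := hy
  obtain ⟨u, hu, h⟩ := k.exists_f ha
  refine ⟨v * u⁻¹, mul_mem hv (inv_mem hu), u * a, mul_mem (k.V_le_PI hu) (k.V'_le_PI ha), h, by group⟩

theorem NB : normalizer (R : Set G) ≤ normalizer (LL V₂ R R : Set G) := normalizer_le_LL V₂ R R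

theorem T_V {t : G} (ht : t ∈ T) : t ∈ normalizer (V₁ : Set G) := M₁.le (k.TN ht)

theorem T_V'n {t : G} (ht : t ∈ T) : t ∈ normalizer (cj w V₁ : Set G) := by
  have h1 : w⁻¹ * t * w ∈ T := by rw [← mem_cj, k.cjT]; exact ht
  rw [← cj_eq_self_iff, ← cj_mul]
  have e : t * w = w * (w⁻¹ * t * w) := by group
  rw [e, cj_mul, cj_eq_self_iff.2 (k.T_V h1)]

theorem w_V' : cj w (cj w V₁) = V₁ := by
  rw [← cj_mul, cj_eq_self_iff.2 (k.T_V k.ww)]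

theorem T_PI {t : G} (ht : t ∈ T) : t ∈ normalizer (k.PI : Set G) := by
  refine mem_normalizer_of_conj ?_
  rintro _ ⟨v, hv, a, ha, rfl⟩
  exact ⟨_, conj_mem_of_normalizer (k.T_V ht) hv, _, conj_mem_of_normalizer (k.T_V'n ht) ha, by group⟩

theorem w_PI : w ∈ normalizer (k.PI : Set G) := by
  refine mem_normalizer_of_conj ?_
  rintro _ ⟨v, hv, a, ha, rfl⟩
  have h1 : w * a * w⁻¹ ∈ V₁ := by rw [← k.w_V']; exact conj_mem_cj ha
  have h2 : w * v * w⁻¹ ∈ cj w V₁ := conj_mem_cj hv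
  refine ⟨_, h1, _, h2, ?_⟩
  rw [k.VV' h1 h2]
  group

theorem T₁_PI : (T₁ : Subgroup G) ≤ normalizer (k.PI : Set G) := by
  intro t ht
  rcases k.cov t ht with h | h
  · exact k.T_PI h
  · have h1 := mul_mem k.w_PI (k.T_PI h)
    rwa [mul_inv_cancel_left] at h1

theorem B_PI (p : Pt M₁) : LL V₂ R (pt M₁ p) ≤ normalizer (k.PI : Set G) := by
  intro b hb
  refine mem_normalizer_of_conj ?_
  rintro _ ⟨v, hv, a, ha, rfl⟩
  have h1 := conj_mem_of_normalizer (k.sideW.B_NV p hb) hv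
  have h2 := k.sideW.R_V p (k.V'_B p ha hb)
  refine ⟨b * v * b⁻¹ * (a * b * a⁻¹ * b⁻¹)⁻¹, mul_mem h1 (inv_mem h2), a, ha, by group⟩

theorem X_PI : (⨆ p, LL V₂ R (pt M₁ p)) ≤ normalizer (k.PI : Set G) := iSup_le k.B_PI

theorem X_V : (⨆ p, LL V₂ R (pt M₁ p)) ≤ normalizer (V₁ : Set G) := iSup_le k.sideW.B_NV

omit k in
theorem X_f {f : G} (hf : ∀ p, ∀ b ∈ LL V₂ R (pt M₁ p), b * f = f * b) {g : G}
    (hg : g ∈ ⨆ p, LL V₂ R (pt M₁ p)) : g * f = f * g := by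
  have h1 : (⨆ p, LL V₂ R (pt M₁ p)) ≤ centralizer ({f} : Set G) :=
    iSup_le fun p b hb => mem_centralizer_singleton_iff.2 (hf p b hb)
  exact mem_centralizer_singleton_iff.1 (h1 hg)

theorem BR (b : G) (hb : b ∈ LL V₂ R R) : ∃ p : Pt M₁, b ∈ LL V₂ R (pt M₁ p) := by
  obtain ⟨i, hi⟩ := k.exists_i
  exact ⟨i, by rw [hi]; exact hb⟩

theorem f_CP {f : G} (hf : f ∈ k.PI) (h : ∀ p, ∀ b ∈ LL V₂ R (pt M₁ p), b * f = f * b) : f ∈ k.CP := by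
  refine ⟨hf, mem_centralizer_iff.2 fun b hb => ?_⟩
  obtain ⟨p, hp⟩ := k.BR b hb
  exact h p b hp

theorem R_CP : R ≤ k.CP := fun _ hr => ⟨k.V_le_PI (k.toMixedQ.RV hr), mem_centralizer_iff.2 fun _ hb =>
  k.QR (k.symm.C_le_QQ hb) hr⟩

/-- an element of `V₁V'` which commutes with one root element is in `C` -/
theorem mem_CP {e y : G} (he : e ∈ LL V₂ R R) (hne : ∃ v ∈ V₁, e * v ≠ v * e) (hy : y ∈ k.PI) (hc : e * y = y * e) :
    y ∈ k.CP := by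
  obtain ⟨u, hu, hRu⟩ := k.line₁
  have a := k.toMixedQ.atR hu hRu
  obtain ⟨v, hv, f, hf, hfB, rfl⟩ := k.dec_PI hy
  obtain ⟨p, hp⟩ := k.BR e he
  have h1 := hfB p e hp
  have h2 : e * v = v * e := by
    have h3 : e * v * f = v * e * f := by
      calc e * v * f = e * (v * f) := by group
        _ = v * f * e := hc
        _ = v * e * f := by rw [mul_assoc, ← h1, ← mul_assoc]
    exact mul_right_cancel h3
  exact mul_mem (k.R_CP (line_of_comm a he hne hv h2)) (k.f_CP hf hfB)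

/-- the elements of `C` are `r f` -/
theorem dec_CP {y : G} (hy : y ∈ k.CP) : ∃ r ∈ R, ∃ f ∈ k.PI,
    (∀ p, ∀ b ∈ LL V₂ R (pt M₁ p), b * f = f * b) ∧ y = r * f := by
  obtain ⟨v, hv, f, hf, hfB, rfl⟩ := k.dec_PI hy.1
  obtain ⟨i, hi⟩ := k.exists_i
  refine ⟨v, ?_, f, hf, hfB, rfl⟩
  rw [← hi]
  refine k.sideW.VB i v hv fun b hb => ?_
  have hb' : b ∈ LL V₂ R R := by rwa [hi] at hb
  have h1 : b * (v * f) = v * f * b := mem_centralizer_iff.1 hy.2 b hb'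
  have h2 := hfB i b hb
  have h3 : b * v * f = v * b * f := by
    calc b * v * f = b * (v * f) := by group
      _ = v * f * b := h1
      _ = v * b * f := by rw [mul_assoc, ← h2, ← mul_assoc]
  exact mul_right_cancel h3

/-- what normalises `V₁V'` and `R` normalises `C` -/
theorem N_CP {g : G} (h1 : g ∈ normalizer (k.PI : Set G)) (h2 : g ∈ normalizer (R : Set G)) :
    g ∈ normalizer (k.CP : Set G) := by
  rw [← cj_eq_self_iff, CP, cj_inf, ← centralizer_cj, cj_eq_self_iff.2 h1, cj_eq_self_iff.2 (k.NB h2)]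

/-- the torus element on `V₁V'` -/
theorem exists_fq_PI {e e' : G} (he : e ∈ LL V₂ R R) (he' : e' ∈ LL V₂ R R) (hne : ∃ v ∈ V₁, e * v ≠ v * e)
    (hne' : ∃ v ∈ V₁, e' * v ≠ v * e') :
    ∃ b ∈ ⨆ i, LL V₂ R (pt M₁ i), b ∈ normalizer (R : Set G) ∧
      (∀ y ∈ k.PI, e' * (b * y * b⁻¹) * e'⁻¹ * (b * y * b⁻¹)⁻¹ = e * y * e⁻¹ * y⁻¹ ∧
        b * (e * y * e⁻¹ * y⁻¹) * b⁻¹ = e' * y * e'⁻¹ * y⁻¹) ∧
      ((∃ v ∈ V₁, e⁻¹ * e' * v ≠ v * (e⁻¹ * e')) → ∀ v ∈ V₁, b * v = v * b → v = 1) := by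
  obtain ⟨u, hu, hRu⟩ := k.line₁
  obtain ⟨b, hb, hbR, h1, h2⟩ := exists_fq (k.toMixedQ.atR hu hRu) he he' hne hne'
  refine ⟨b, hb, hbR, fun y hy => ?_, h2⟩
  obtain ⟨v, hv, f, hf, hfB, rfl⟩ := k.dec_PI hy
  obtain ⟨p, hp⟩ := k.BR e he
  obtain ⟨p', hp'⟩ := k.BR e' he'
  have c1 := hfB p e hp
  have c2 := hfB p' e' hp'
  have c3 : b * f = f * b := X_f hfB hb
  have e1 : e * (v * f) * e⁻¹ * (v * f)⁻¹ = e * v * e⁻¹ * v⁻¹ := by
    have : f * e⁻¹ * f⁻¹ = e⁻¹ := by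
      rw [mul_inv_eq_iff_eq_mul, eq_inv_mul_iff_mul_eq, ← mul_assoc, c1, mul_inv_cancel_right]
    calc e * (v * f) * e⁻¹ * (v * f)⁻¹ = e * v * (f * e⁻¹ * f⁻¹) * v⁻¹ := by group
      _ = e * v * e⁻¹ * v⁻¹ := by rw [this]
  have e2 : e' * (v * f) * e'⁻¹ * (v * f)⁻¹ = e' * v * e'⁻¹ * v⁻¹ := by
    have : f * e'⁻¹ * f⁻¹ = e'⁻¹ := by
      rw [mul_inv_eq_iff_eq_mul, eq_inv_mul_iff_mul_eq, ← mul_assoc, c2, mul_inv_cancel_right]
    calc e' * (v * f) * e'⁻¹ * (v * f)⁻¹ = e' * v * (f * e'⁻¹ * f⁻¹) * v⁻¹ := by group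
      _ = e' * v * e'⁻¹ * v⁻¹ := by rw [this]
  have e3 : b * (v * f) * b⁻¹ = b * v * b⁻¹ * f := by
    have : f * b⁻¹ = b⁻¹ * f := by
      rw [eq_inv_mul_iff_mul_eq, ← mul_assoc, c3, mul_inv_cancel_right]
    calc b * (v * f) * b⁻¹ = b * v * (f * b⁻¹) := by group
      _ = b * v * b⁻¹ * f := by rw [this]; group
  have e4 : e' * (b * v * b⁻¹ * f) * e'⁻¹ * (b * v * b⁻¹ * f)⁻¹ =
      e' * (b * v * b⁻¹) * e'⁻¹ * (b * v * b⁻¹)⁻¹ := by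
    have : f * e'⁻¹ * f⁻¹ = e'⁻¹ := by
      rw [mul_inv_eq_iff_eq_mul, eq_inv_mul_iff_mul_eq, ← mul_assoc, c2, mul_inv_cancel_right]
    calc e' * (b * v * b⁻¹ * f) * e'⁻¹ * (b * v * b⁻¹ * f)⁻¹ =
        e' * (b * v * b⁻¹) * (f * e'⁻¹ * f⁻¹) * (b * v * b⁻¹)⁻¹ := by group
      _ = _ := by rw [this]
  rw [e3, e4, e1, e2]
  exact h1 v hv

/-- `w⁻¹ e w` moves `V₁` if `e` does -/
theorem move_conj {e : G} (he : e ∈ LL V₂ R R) (hne : ∃ v ∈ V₁, e * v ≠ v * e) :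
    ∃ v ∈ V₁, w⁻¹ * e * w * v ≠ v * (w⁻¹ * e * w) := by
  by_contra hcon
  push Not at hcon
  obtain ⟨i, hi⟩ := k.exists_i
  have hwB : cj w (LL V₂ R R) = LL V₂ R R := cj_eq_self_iff.2 (k.NB (k.T₁R k.wT₁))
  have h1 : w⁻¹ * e * w ∈ TT V₁ (LL V₂ R (pt M₁ i)) := by
    rw [mem_TT, hi]
    refine ⟨?_, hcon⟩
    rw [← mem_cj, hwB]
    exact he
  -- it commutes with `V' = V₁^w`, so `e` commutes with `V₁^{w²} = V₁`
  obtain ⟨v, hv, hev⟩ := hne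
  apply hev
  have h2 : w⁻¹ * v * w ∈ cj w V₁ := by
    have h3 : v ∈ cj w (cj w V₁) := by rw [k.w_V']; exact hv
    exact mem_cj.1 h3
  have h3 := k.V'_TT i h2 h1
  calc e * v = w * (w⁻¹ * e * w * (w⁻¹ * v * w)) * w⁻¹ := by group
    _ = w * (w⁻¹ * v * w * (w⁻¹ * e * w)) * w⁻¹ := by rw [h3]
    _ = v * e := by group

/-- **the kill** -/
theorem norm : cj w V₁ = V₁ := by
  by_contra hne0
  obtain ⟨u, hu, hRu⟩ := k.line₁
  have a := k.toMixedQ.atR hu hRu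
  obtain ⟨c, hc0, hc1⟩ := exists_ne_zero_one k.q4
  obtain ⟨e, he, e', he', m1, m2, m3⟩ := exists_ee a hc0 hc1
  have hwR := k.T₁R k.wT₁
  have hwB : cj w (LL V₂ R R) = LL V₂ R R := cj_eq_self_iff.2 (k.NB hwR)
  have hwe : w⁻¹ * e * w ∈ LL V₂ R R := by rw [← mem_cj, hwB]; exact he
  have hwe' : w⁻¹ * e' * w ∈ LL V₂ R R := by rw [← mem_cj, hwB]; exact he'
  obtain ⟨b, hb, hbR, p1, p2⟩ := k.exists_fq_PI he he' m1 m2
  obtain ⟨b₂, hb₂, hb₂R, q1, q2⟩ := k.exists_fq_PI hwe hwe' (k.move_conj he m1) (k.move_conj he' m2)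
  have hbf := p2 m3
  have hb₂f := q2 (by
    obtain ⟨v, hv, h⟩ := k.move_conj (mul_mem (inv_mem he) he') m3
    refine ⟨v, hv, ?_⟩
    have e1 : (w⁻¹ * e * w)⁻¹ * (w⁻¹ * e' * w) = w⁻¹ * (e⁻¹ * e') * w := by group
    rwa [e1])
  have hbPI : b ∈ normalizer (k.PI : Set G) := k.X_PI hb
  have hb₂PI : b₂ ∈ normalizer (k.PI : Set G) := k.X_PI hb₂
  have hbV : b ∈ normalizer (V₁ : Set G) := k.X_V hb
  have hb₂V : b₂ ∈ normalizer (V₁ : Set G) := k.X_V hb₂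
  set b' := w * b₂ * w⁻¹ with hb'
  have hwPI := k.w_PI
  have hb'PI : b' ∈ normalizer (k.PI : Set G) := mul_mem (mul_mem hwPI hb₂PI) (inv_mem hwPI)
  have hb'R : b' ∈ normalizer (R : Set G) := mul_mem (mul_mem hwR hb₂R) (inv_mem hwR)
  have r1 : ∀ y ∈ k.PI, e' * (b' * y * b'⁻¹) * e'⁻¹ * (b' * y * b'⁻¹)⁻¹ = e * y * e⁻¹ * y⁻¹ ∧
      b' * (e * y * e⁻¹ * y⁻¹) * b'⁻¹ = e' * y * e'⁻¹ * y⁻¹ := by
    intro y hy
    obtain ⟨h1, h2⟩ := q1 _ (conj_inv_mem_of_normalizer hwPI hy)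
    constructor
    · calc e' * (b' * y * b'⁻¹) * e'⁻¹ * (b' * y * b'⁻¹)⁻¹ =
          w * (w⁻¹ * e' * w * (b₂ * (w⁻¹ * y * w) * b₂⁻¹) * (w⁻¹ * e' * w)⁻¹ * (b₂ * (w⁻¹ * y * w) * b₂⁻¹)⁻¹) *
            w⁻¹ := by rw [hb']; group
        _ = e * y * e⁻¹ * y⁻¹ := by rw [h1]; group
    · calc b' * (e * y * e⁻¹ * y⁻¹) * b'⁻¹ =
          w * (b₂ * (w⁻¹ * e * w * (w⁻¹ * y * w) * (w⁻¹ * e * w)⁻¹ * (w⁻¹ * y * w)⁻¹) * b₂⁻¹) * w⁻¹ := by
            rw [hb']; group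
        _ = e' * y * e'⁻¹ * y⁻¹ := by rw [h2]; group
  have hbC := k.N_CP hbPI hbR
  have hb'C := k.N_CP hb'PI hb'R
  have hwC := k.N_CP hwPI hwR
  -- `[C, b] ≤ R`
  have cst : ∀ g ∈ ⨆ i, LL V₂ R (pt M₁ i), g ∈ normalizer (k.PI : Set G) → g ∈ normalizer (R : Set G) →
      g ∈ St k.CP R := by
    intro g hg h1 h2
    refine ⟨k.N_CP h1 h2, h2, fun y hy => ?_⟩
    obtain ⟨r, hr, f, hf, hfB, rfl⟩ := k.dec_CP hy
    have h3 : g * f = f * g := X_f hfB hg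
    have h4 : f * g⁻¹ * f⁻¹ = g⁻¹ := by
      rw [mul_inv_eq_iff_eq_mul, eq_inv_mul_iff_mul_eq, ← mul_assoc, h3, mul_inv_cancel_right]
    have e1 : g * (r * f) * g⁻¹ * (r * f)⁻¹ = g * r * g⁻¹ * r⁻¹ := by
      calc g * (r * f) * g⁻¹ * (r * f)⁻¹ = g * r * (f * g⁻¹ * f⁻¹) * r⁻¹ := by group
        _ = g * r * g⁻¹ * r⁻¹ := by rw [h4]
    rw [e1]
    exact mul_mem (conj_mem_of_normalizer h2 hr) (inv_mem hr)
  have s1 := cst b hb hbPI hbR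
  have s2 : b' ∈ St k.CP R := St_conj hwC hwR (cst b₂ hb₂ hb₂PI hb₂R)
  -- `δ`
  set Sg : Subgroup G := St k.PI k.CP ⊓ St k.CP R ⊓ centralizer (R : Set G) with hSg
  set δ := b⁻¹ * b' with hδ
  have hδS : δ ∈ Sg := by
    refine ⟨⟨⟨mul_mem (inv_mem hbPI) hb'PI, mul_mem (inv_mem hbC) hb'C, fun y hy => ?_⟩,
      (St k.CP R).mul_mem ((St k.CP R).inv_mem s1) s2⟩, mem_centralizer_iff.2 fun r hr => ?_⟩
    · -- `[V₁V', δ] ≤ C`
      have h1 : (b * y * b⁻¹)⁻¹ * (b' * y * b'⁻¹) ∈ k.CP := by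
        have h2 := conj_mem_of_normalizer hbPI hy
        have h3 := conj_mem_of_normalizer hb'PI hy
        refine k.mem_CP he' m2 (mul_mem (inv_mem h2) h3) ?_
        have h4 := (p1 y hy).1.trans (r1 y hy).1.symm
        set y₁ := b * y * b⁻¹
        set y₂ := b' * y * b'⁻¹
        -- `e' y₁ e'⁻¹ y₁⁻¹ = e' y₂ e'⁻¹ y₂⁻¹`
        have h5 : e' * (y₁⁻¹ * y₂) * e'⁻¹ = y₁⁻¹ * y₂ := by
          have h6 : e' * y₂ * e'⁻¹ = e' * y₁ * e'⁻¹ * y₁⁻¹ * y₂ := by rw [h4]; group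
          have h7 : e' * y₁⁻¹ * e'⁻¹ = (e' * y₁ * e'⁻¹)⁻¹ := by group
          calc e' * (y₁⁻¹ * y₂) * e'⁻¹ = (e' * y₁⁻¹ * e'⁻¹) * (e' * y₂ * e'⁻¹) := by group
            _ = y₁⁻¹ * y₂ := by rw [h6, h7]; group
        exact mul_inv_eq_iff_eq_mul.1 h5
      have h2 : (b' * y * b'⁻¹) * (b * y * b⁻¹)⁻¹ ∈ k.CP := by
        rwa [k.PI_comm (conj_mem_of_normalizer hb'PI hy) (inv_mem (conj_mem_of_normalizer hbPI hy))]
      have h3 := conj_inv_mem_of_normalizer hbC h2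
      have e1 : b⁻¹ * (b' * y * b'⁻¹ * (b * y * b⁻¹)⁻¹) * b = δ * y * δ⁻¹ * y⁻¹ := by
        rw [hδ]; group
      rwa [e1] at h3
    · obtain ⟨v, hv, rfl⟩ := exists_comm_R a he m1 hr
      have h1 := (p1 v (k.V_le_PI hv)).2
      have h2 := (r1 v (k.V_le_PI hv)).2
      set r := e * v * e⁻¹ * v⁻¹
      have h3 : b' * r * b'⁻¹ = b * r * b⁻¹ := by rw [h1, h2]
      calc r * δ = b⁻¹ * (b * r * b⁻¹) * b' := by rw [hδ]; group
        _ = b⁻¹ * (b' * r * b'⁻¹) * b' := by rw [h3]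
        _ = δ * r := by rw [hδ]; group
  -- `J = W₂(R) C(V₁V')`
  set CPI : Subgroup G := centralizer (k.PI : Set G) with hCPI
  set J : Subgroup G := LL V₂ R R ⊔ CPI with hJ
  have hBR : LL V₂ R R ≤ normalizer (R : Set G) := k.symm.C_le_QQ.trans (O2_le _)
  have hBPI : LL V₂ R R ≤ normalizer (k.PI : Set G) := fun b hb => by
    obtain ⟨p, hp⟩ := k.BR b hb
    exact k.B_PI p hp
  have hBX : LL V₂ R R ≤ ⨆ i, LL V₂ R (pt M₁ i) := fun b hb => by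
    obtain ⟨p, hp⟩ := k.BR b hb
    exact le_iSup (fun i => LL V₂ R (pt M₁ i)) p hp
  have hRPI : R ≤ k.PI := (k.toMixedQ.RV).trans k.V_le_PI
  have hCPIV : CPI ≤ St k.PI V₁ := by
    intro g hg
    refine ⟨centralizer_le_normalizer _ hg, centralizer_le_normalizer _ (centralizer_le k.V_le_PI hg),
      fun y hy => ?_⟩
    have h1 := mem_centralizer_iff.1 hg y hy
    rw [← h1, mul_inv_cancel_right, mul_inv_cancel]
    exact one_mem _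
  have stV : ∀ g ∈ ⨆ i, LL V₂ R (pt M₁ i), g ∈ St k.PI V₁ := by
    intro g hg
    refine ⟨k.X_PI hg, k.X_V hg, fun y hy => ?_⟩
    obtain ⟨v, hv, f, hf, hfB, rfl⟩ := k.dec_PI hy
    have h3 : g * f = f * g := X_f hfB hg
    have h4 : f * g⁻¹ * f⁻¹ = g⁻¹ := by
      rw [mul_inv_eq_iff_eq_mul, eq_inv_mul_iff_mul_eq, ← mul_assoc, h3, mul_inv_cancel_right]
    have e1 : g * (v * f) * g⁻¹ * (v * f)⁻¹ = g * v * g⁻¹ * v⁻¹ := by
      calc g * (v * f) * g⁻¹ * (v * f)⁻¹ = g * v * (f * g⁻¹ * f⁻¹) * v⁻¹ := by group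
        _ = g * v * g⁻¹ * v⁻¹ := by rw [h4]
    rw [e1]
    exact mul_mem (conj_mem_of_normalizer (k.X_V hg) hv) (inv_mem hv)
  have hJV : J ≤ St k.PI V₁ := sup_le (fun g hg => stV g (hBX hg)) hCPIV
  have hJb : b ∈ normalizer (J : Set G) := by
    rw [← cj_eq_self_iff, hJ, cj_sup, cj_eq_self_iff.2 (k.NB hbR), hCPI, ← centralizer_cj, cj_eq_self_iff.2 hbPI]
  -- `T ∩ Sg ≤ J`
  have hTJ : ∀ t ∈ T, t ∈ Sg → t ∈ J := by
    intro t ht htS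
    have htR : ∀ r ∈ R, t * r = r * t := fun r hr => (mem_centralizer_iff.1 htS.2 r hr).symm
    obtain ⟨A, hA, hA'⟩ := k.T_UW ht htR hu hRu
    obtain ⟨y, hy, hyA⟩ := a.full A hA
    have hyT : y ∈ T := k.QT (k.symm.C_le_QQ hy)
    have h1 : ∀ v ∈ V₁, y⁻¹ * t * v = v * (y⁻¹ * t) := by
      intro v hv
      obtain ⟨z, rfl⟩ := (M₁.mem_iff v).1 hv
      have h2 : y * M₁.e z * y⁻¹ = t * M₁.e z * t⁻¹ := by rw [hyA, hA']
      calc y⁻¹ * t * M₁.e z = y⁻¹ * (t * M₁.e z * t⁻¹) * t := by group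
        _ = y⁻¹ * (y * M₁.e z * y⁻¹) * t := by rw [h2]
        _ = M₁.e z * (y⁻¹ * t) := by group
    have h2 : y⁻¹ * t ∈ CPI := by
      rw [hCPI, mem_centralizer_iff]
      rintro _ ⟨v, hv, c, hc, rfl⟩
      have h3 := k.T_V' (mul_mem (inv_mem hyT) ht) h1 hc
      calc v * c * (y⁻¹ * t) = v * (c * (y⁻¹ * t)) := by group
        _ = v * (y⁻¹ * t * c) := by rw [h3]
        _ = v * (y⁻¹ * t) * c := by group
        _ = y⁻¹ * t * v * c := by rw [h1 v hv]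
        _ = y⁻¹ * t * (v * c) := by group
    have h3 := mul_mem ((le_sup_left : _ ≤ J) hy) ((le_sup_right : CPI ≤ J) h2)
    rwa [mul_inv_cancel_left] at h3
  -- `Sg = (T₁ ∩ Sg) C(V₁V')`
  have hT₁C : (T₁ : Subgroup G) ≤ normalizer (k.CP : Set G) := fun t ht => k.N_CP (k.T₁_PI ht) (k.T₁R ht)
  have nSg : ∀ g, g ∈ normalizer (k.PI : Set G) → g ∈ normalizer (R : Set G) → ∀ h ∈ Sg, g * h * g⁻¹ ∈ Sg := by
    rintro g g1 g2 h ⟨⟨h1, h2⟩, h3⟩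
    have g3 := k.N_CP g1 g2
    exact ⟨⟨St_conj g1 g3 h1, St_conj g3 g2 h2⟩,
      conj_mem_of_normalizer (normalizer_le_normalizer_centralizer R g2) h3⟩
  have hCS : CPI ≤ Sg := by
    intro g hg
    have hgc := mem_centralizer_iff.1 hg
    have g1 : g ∈ normalizer (k.PI : Set G) := centralizer_le_normalizer _ hg
    have g2 : g ∈ centralizer (R : Set G) := centralizer_le hRPI hg
    have g3 := k.N_CP g1 (centralizer_le_normalizer _ g2)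
    have key : ∀ {A : Subgroup G}, ∀ y ∈ k.PI, g * y * g⁻¹ * y⁻¹ ∈ A := by
      intro A y hy
      rw [← hgc y hy, mul_inv_cancel_right, mul_inv_cancel]
      exact one_mem _
    exact ⟨⟨⟨g1, g3, fun y hy => key y hy⟩, ⟨g3, centralizer_le_normalizer _ g2, fun y hy => key y hy.1⟩⟩, g2⟩
  have hpow : ∀ g ∈ Sg, ∃ n : ℕ, g ^ 2 ^ n ∈ CPI := by
    rintro g ⟨⟨g1, g2⟩, g3⟩
    refine ⟨2, ?_⟩
    rw [hCPI, mem_centralizer_iff]
    -- `g² y g⁻² y⁻¹ ∈ R` for `y ∈ V₁V'`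
    have h1 : ∀ y ∈ k.PI, g * g * y * (g * g)⁻¹ * y⁻¹ ∈ R := by
      intro y hy
      set c := g * y * g⁻¹ * y⁻¹ with hc
      have hcC : c ∈ k.CP := g1.2.2 y hy
      have h2 : g * c * g⁻¹ * c⁻¹ ∈ R := g2.2.2 c hcC
      have h3 : g * g * y * (g * g)⁻¹ * y⁻¹ = g * c * g⁻¹ * c⁻¹ * (c * c) := by
        rw [hc]; group
      rw [h3, k.PI_sq hcC.1, mul_one]
      exact h2
    intro y hy
    set r := g * g * y * (g * g)⁻¹ * y⁻¹ with hr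
    have hrR : r ∈ R := h1 y hy
    have h2 : g * g * r = r * (g * g) := by
      have h3 := mem_centralizer_iff.1 g3 r hrR
      rw [mul_assoc, ← h3, ← mul_assoc, ← h3, mul_assoc]
    have h4 : r * r = 1 := k.PI_sq (hRPI hrR)
    have h5 : g * g * y * (g * g)⁻¹ = r * y := by rw [hr]; group
    have e : g ^ 2 ^ 2 = (g * g) * (g * g) := by
      rw [show (2 : ℕ) ^ 2 = 2 + 2 from rfl, pow_add, pow_two]
    have h6 : g * g * (g * g) * y * (g * g * (g * g))⁻¹ = y := by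
      calc g * g * (g * g) * y * (g * g * (g * g))⁻¹ = g * g * (g * g * y * (g * g)⁻¹) * (g * g)⁻¹ := by group
        _ = (g * g * r) * y * (g * g)⁻¹ := by rw [h5]; group
        _ = r * (g * g * y * (g * g)⁻¹) := by rw [h2]; group
        _ = r * r * y := by rw [h5]; group
        _ = y := by rw [h4, one_mul]
    rw [e]
    exact (mul_inv_eq_iff_eq_mul.1 h6).symm
  have hSn : (T₁ : Subgroup G) ≤ normalizer (Sg : Set G) := fun t ht =>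
    mem_normalizer_of_conj fun h hh => nSg t (k.T₁_PI ht) (k.T₁R ht) h hh
  have hSC : Sg ≤ normalizer (CPI : Set G) := fun g hg =>
    normalizer_le_normalizer_centralizer _ hg.1.1.1
  have fac : ∀ g ∈ Sg, ∃ s ∈ (T₁ : Subgroup G), s ∈ Sg ∧ ∃ c ∈ CPI, g = s * c := fun g hg =>
    exists_mul_of_sylow T₁ hSn hCS hSC hpow hg
  -- `[δ, b] ∈ J`
  have hδb : b⁻¹ * δ * b ∈ Sg := by
    have := nSg b⁻¹ (inv_mem hbPI) (inv_mem hbR) δ hδS
    rwa [inv_inv] at this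
  have hCJ : CPI ≤ J := le_sup_right
  have hcomm : δ⁻¹ * (b⁻¹ * δ * b) ∈ J := by
    obtain ⟨s, hs, hsS, d, hd, e1⟩ := fac δ hδS
    obtain ⟨s', hs', hs'S, d', hd', e2⟩ := fac _ hδb
    have hJδ : δ ∈ J → δ⁻¹ * (b⁻¹ * δ * b) ∈ J := fun h =>
      mul_mem (inv_mem h) (conj_inv_mem_of_normalizer hJb h)
    by_cases h1 : s ∈ T
    · apply hJδ
      rw [e1]
      exact mul_mem (hTJ s h1 hsS) (hCJ hd)
    by_cases h2 : s' ∈ T
    · apply hJδ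
      have h3 : b⁻¹ * δ * b ∈ J := by
        rw [e2]
        exact mul_mem (hTJ s' h2 hs'S) (hCJ hd')
      have h4 := conj_mem_of_normalizer hJb h3
      have e : b * (b⁻¹ * δ * b) * b⁻¹ = δ := by group
      rwa [e] at h4
    · have h3 : s⁻¹ * s' ∈ T := by
        have h4 := (k.cov s hs).resolve_left h1
        have h5 := (k.cov s' hs').resolve_left h2
        have h6 := mul_mem (inv_mem h4) h5
        have e : (w⁻¹ * s)⁻¹ * (w⁻¹ * s') = s⁻¹ * s' := by group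
        rwa [e] at h6
      have h4 := hTJ _ h3 (Sg.mul_mem (Sg.inv_mem hsS) hs'S)
      rw [e2, e1]
      have e : (s * d)⁻¹ * (s' * d') = d⁻¹ * (s⁻¹ * s') * d' := by group
      rw [e]
      exact mul_mem (mul_mem (inv_mem (hCJ hd)) h4) (hCJ hd')
  -- `δ` normalises `V₁`
  have hβ : δ⁻¹ * b * δ ∈ St k.PI V₁ := by
    have e : δ⁻¹ * b * δ = b * (δ⁻¹ * (b⁻¹ * δ * b))⁻¹ := by group
    rw [e]
    exact (St k.PI V₁).mul_mem (stV b hb) ((St k.PI V₁).inv_mem (hJV hcomm))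
  have hδPI : δ ∈ normalizer (k.PI : Set G) := hδS.1.1.1
  have hδV' : δ⁻¹ ∈ normalizer (V₁ : Set G) := by
    refine mem_normalizer_of_conj fun v hv => ?_
    obtain ⟨v₁, hv₁, e1⟩ := exists_comm_eq hbV hbf hv
    have h1 := conj_inv_mem_of_normalizer hδPI (k.V_le_PI hv₁)
    have h2 := hβ.2.2 _ h1
    have e2 : δ⁻¹ * b * δ * (δ⁻¹ * v₁ * δ) * (δ⁻¹ * b * δ)⁻¹ * (δ⁻¹ * v₁ * δ)⁻¹ = δ⁻¹ * v * δ⁻¹⁻¹ := by
      rw [← e1]; group
    rwa [e2] at h2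
  have hδV : δ ∈ normalizer (V₁ : Set G) := inv_mem_iff.1 hδV'
  have hδst : δ ∈ St k.PI V₁ := by
    refine ⟨hδPI, hδV, fun y hy => ?_⟩
    obtain ⟨v, hv, f, hf, hfB, rfl⟩ := k.dec_PI hy
    have h1 := hδS.1.2.2.2 f (k.f_CP hf hfB)
    have e1 : δ * (v * f) * δ⁻¹ * (v * f)⁻¹ = (δ * v * δ⁻¹) * (δ * f * δ⁻¹ * f⁻¹) * v⁻¹ := by group
    rw [e1]
    exact mul_mem (mul_mem (conj_mem_of_normalizer hδV hv) (k.toMixedQ.RV h1)) (inv_mem hv)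
  have hb'st : b' ∈ St k.PI V₁ := by
    have e : b' = b * δ := by rw [hδ]; group
    rw [e]
    exact (St k.PI V₁).mul_mem (stV b hb) hδst
  -- `V' = [V', b'] ≤ V₁`
  apply hne0
  refine eq_of_le_of_card_ge ?_ (card_cj w V₁).ge
  intro y hy
  have hb'V' : b' ∈ normalizer (cj w V₁ : Set G) := by
    rw [← cj_eq_self_iff, hb', ← cj_mul]
    have e : w * b₂ * w⁻¹ * w = w * b₂ := by group
    rw [e, cj_mul, cj_eq_self_iff.2 hb₂V]
  have hb'f : ∀ c ∈ cj w V₁, b' * c = c * b' → c = 1 := by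
    intro c hc h
    have h1 := hb₂f _ (mem_cj.1 hc) (by
      calc b₂ * (w⁻¹ * c * w) = w⁻¹ * (b' * c) * w := by rw [hb']; group
        _ = w⁻¹ * (c * b') * w := by rw [h]
        _ = w⁻¹ * c * w * b₂ := by rw [hb']; group)
    have e : c = w * (w⁻¹ * c * w) * w⁻¹ := by group
    rw [e, h1]; group
  obtain ⟨c, hc, e1⟩ := exists_comm_eq hb'V' hb'f hy
  rw [← e1]
  exact hb'st.2.2 c (k.V'_le_PI hc)

end Kill

end Cfsg.Agent.Omega.IId.MQ
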