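import Cfsg.Agent.Omega.IId.Cv.MixQ
import Cfsg.Agent.Omega.Mix.Local

/-!
# WrCv, mixed partners, CASE 2: (2a) is impossible for `q ≥ 4` (helper796 #18009 in K-form; helper330 #18683, #18786)

`Kill M₁ M₂ R T T₁ w x` : the setting: `MixedQ M₁ M₂ R`, `T₁` a Sylow 2-subgroup of `G` in `N_G(R)`, `T` a subgroup of
index 2 of `T₁` in `N₁`, `w ∈ T₁`, `O₂(N_G(R)), O₂(C_G(V₁)) ≤ T`, `1 ≠ x ∈ Z(T₁)` centralised by all `W₂(R')`,
`V₁ ≤ Z(O₂(C_G(x)))`.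

First part: `V' = V₁^w` is in `O₂(N_G(R'))` for all lines `R'` of `V₁`, `V₁V' = V₁ × F`, `F = C(X)`, and `C_T(V₁)`
centralises `V'`.
-/

set_option autoImplicit false
set_option linter.unusedSectionVars false

namespace Cfsg.Agent.Omega.IId.MQ

open Subgroup Cfsg.Agent.Lib.SL2Mat Cfsg.Agent.Omega.BTwo Cfsg.Agent.Omega.Mix Cfsg.Agent.Omega.MixOne
open Cfsg.Agent.Omega.NatPair (dt dt_add dt_smul exists_smul_of_dt exists_comb ap ap_smul ap_add ap_zero' ap_one'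
  ap_mul ap_inv_ap ap_ap_inv ap_one exists_ap exists_ap_e ap_up_e ext2)

variable {G : Type*} [Group G]

/-- the setting of the (2a)-kill -/
structure Kill {F₁ F₂ : Type*} [Field F₁] [Field F₂] {V₁ V₂ N₁ N₂ : Subgroup G} (M₁ : RMod F₁ V₁ N₁)
    (M₂ : RMod F₂ V₂ N₂) (R T : Subgroup G) (T₁ : Sylow 2 G) (w x : G) : Prop extends MixedQ M₁ M₂ R where
  q4 : 4 ≤ Nat.card F₁
  T₁R : (T₁ : Subgroup G) ≤ normalizer (R : Set G)
  TT₁ : T ≤ T₁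
  TN : T ≤ N₁
  QT : QQ R ≤ T
  OT : O2 (centralizer (V₁ : Set G)) ≤ T
  wT₁ : w ∈ (T₁ : Subgroup G)
  cov : ∀ t ∈ (T₁ : Subgroup G), t ∈ T ∨ w⁻¹ * t ∈ T
  ww : w * w ∈ T
  nT : (T₁ : Subgroup G) ≤ normalizer (T : Set G)
  x1 : x ≠ 1
  xT₁ : x ∈ (T₁ : Subgroup G)
  xc : ∀ t ∈ (T₁ : Subgroup G), t * x = x * t
  xB : ∀ i, ∀ b ∈ LL V₂ R (pt M₁ i), b * x = x * b
  VU : V₁ ≤ O2 (centralizer ({x} : Set G))
  UV : O2 (centralizer ({x} : Set G)) ≤ centralizer (V₁ : Set G)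

/-- `Z(O₂(C_G(x)))` -/
def UX (x : G) : Subgroup G :=
  O2 (centralizer ({x} : Set G)) ⊓ centralizer (O2 (centralizer ({x} : Set G)) : Set G)

theorem UX_comm {x y z : G} (hy : y ∈ UX x) (hz : z ∈ UX x) : y * z = z * y :=
  (mem_centralizer_iff.1 hz.2 y hy.1)

theorem UX_conj {x g y : G} (hg : g * x = x * g) (hy : y ∈ UX x) : g * y * g⁻¹ ∈ UX x := by
  have h1 : g ∈ normalizer (O2 (centralizer ({x} : Set G)) : Set G) :=
    le_normalizer_O2 _ (mem_centralizer_singleton_iff.2 hg)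
  exact ⟨conj_mem_of_normalizer h1 hy.1,
    conj_mem_of_normalizer (normalizer_le_normalizer_centralizer _ h1) hy.2⟩

theorem UX_conj' {x g y : G} (hg : g * x = x * g) (hy : y ∈ UX x) : g⁻¹ * y * g ∈ UX x := by
  have h1 : g⁻¹ * x = x * g⁻¹ := by
    rw [inv_mul_eq_iff_eq_mul, ← mul_assoc, hg, mul_inv_cancel_right]
  have h2 := UX_conj h1 hy
  rwa [inv_inv] at h2

namespace Kill

variable {F₁ F₂ : Type*} [Field F₁] [Field F₂] {V₁ V₂ N₁ N₂ : Subgroup G} {M₁ : RMod F₁ V₁ N₁}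
  {M₂ : RMod F₂ V₂ N₂} {R T : Subgroup G} {T₁ : Sylow 2 G} {w x : G}
  [Finite G] [Finite F₁] [Finite F₂] [CharP F₁ 2] [CharP F₂ 2] (k : Kill M₁ M₂ R T T₁ w x)

include k

theorem exists_i : ∃ i : Pt M₁, pt M₁ i = R := by
  obtain ⟨u, hu, hR⟩ := k.line₁
  exact ⟨⟨R, u, hu, hR⟩, rfl⟩

theorem exists_g (p : Pt M₁) : ∃ g : G, g * x = x * g ∧ cj g R = pt M₁ p ∧ cj g V₁ = V₁ := by
  obtain ⟨i, hi⟩ := k.exists_i
  obtain ⟨m, -, -, b, hb, h⟩ := k.sideW.trans_B i p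
  exact ⟨b, k.xB m b hb, by rw [← hi]; exact h, cj_eq_self_iff.2 (k.sideW.B_NV m hb)⟩

theorem cV_le (p : Pt M₁) : centralizer (V₁ : Set G) ≤ normalizer (pt M₁ p : Set G) := fun _ hg =>
  k.sideW.cV_le_NR (fun v hv => (mem_centralizer_iff.1 hg v hv).symm) p

theorem B_le_QQ (p : Pt M₁) : LL V₂ R (pt M₁ p) ≤ QQ (pt M₁ p) := by
  obtain ⟨g, -, h1, -⟩ := k.exists_g p
  have h3 := cj_mono (g := g) k.symm.C_le_QQ
  rwa [cj_LL h1, cj_QQ, h1] at h3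

theorem V_le_QQ' (p : Pt M₁) : V₁ ≤ QQ (pt M₁ p) := by
  obtain ⟨g, -, h1, h2⟩ := k.exists_g p
  have h3 := cj_mono (g := g) k.toMixedQ.V_le_QQ
  rwa [cj_QQ, h1, h2] at h3

theorem QB (p : Pt M₁) {q b : G} (hq : q ∈ QQ (pt M₁ p)) (hb : b ∈ LL V₂ R (pt M₁ p)) :
    q * b * q⁻¹ * b⁻¹ ∈ pt M₁ p := by
  obtain ⟨g, -, h1, -⟩ := k.exists_g p
  have h2 : g⁻¹ * q * g ∈ QQ R := by
    rw [← mem_cj, cj_QQ, h1]; exact hq
  have h3 : g⁻¹ * b * g ∈ LL V₂ R R := by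
    rw [← mem_cj, cj_LL h1]; exact hb
  have h4 := k.symm.QC h2 h3
  rw [← h1, mem_cj]
  have e : g⁻¹ * (q * b * q⁻¹ * b⁻¹) * g =
      g⁻¹ * q * g * (g⁻¹ * b * g) * (g⁻¹ * q * g)⁻¹ * (g⁻¹ * b * g)⁻¹ := by group
  rwa [e]

theorem QR {q r : G} (hq : q ∈ QQ R) (hr : r ∈ R) : q * r = r * q := by
  obtain ⟨w', hw, hR⟩ := k.line₁
  obtain ⟨B, hB, hB'⟩ := k.QQ_le_UW hw hR hq
  rw [hR] at hr
  obtain ⟨c, rfl⟩ := hr
  have h1 := hB' (c • w')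
  rw [ap_smul, hB] at h1
  exact mul_inv_eq_iff_eq_mul.1 h1

theorem QR' (p : Pt M₁) {q r : G} (hq : q ∈ QQ (pt M₁ p)) (hr : r ∈ pt M₁ p) : q * r = r * q := by
  obtain ⟨g, -, h1, -⟩ := k.exists_g p
  have h2 : g⁻¹ * q * g ∈ QQ R := by
    rw [← mem_cj, cj_QQ, h1]; exact hq
  have h3 : g⁻¹ * r * g ∈ R := by
    rw [← mem_cj, h1]; exact hr
  have h4 := k.QR h2 h3
  calc q * r = g * (g⁻¹ * q * g * (g⁻¹ * r * g)) * g⁻¹ := by group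
    _ = g * (g⁻¹ * r * g * (g⁻¹ * q * g)) * g⁻¹ := by rw [h4]
    _ = r * q := by group

theorem ch : Char2 (normalizer (R : Set G)) := k.char R k.toMixedQ.R_pGroup k.toMixedQ.R_ne

/-! ### (1) -/

theorem xQ : x ∈ QQ R :=
  k.ch x (k.T₁R k.xT₁) fun q hq => (k.xc q (k.TT₁ (k.QT hq))).symm

theorem N_le : LL (zpowers x) R R ≤ QQ R ⊓ centralizer (QQ R : Set G) := by
  have h1 : zpowers x ≤ QQ R ⊓ centralizer (QQ R : Set G) := by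
    rw [zpowers_le]
    exact ⟨k.xQ, mem_centralizer_iff.2 fun q hq => k.xc q (k.TT₁ (k.QT hq))⟩
  refine Mix.LL_le fun g hg => ?_
  have h2 : cj g (QQ R) = QQ R := by rw [cj_QQ, hg]
  have h3 := cj_mono (g := g) h1
  rwa [cj_inf, ← centralizer_cj, h2] at h3

theorem U_N_R {y : G} (hy : y ∈ UX x) (hN : ∀ n ∈ LL (zpowers x) R R, y * n = n * y) : y ∈ QQ R := by
  set N := LL (zpowers x) R R with hNdef
  set C := normalizer (R : Set G) ⊓ centralizer (N : Set G) with hC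
  have hxN : x ∈ N := cj_le_LL (cj_one R) (by rw [cj_one]; exact mem_zpowers x)
  have hyR : y ∈ normalizer (R : Set G) := by
    apply centralizer_le_normalizer
    rw [mem_centralizer_iff]
    intro r hr
    exact mem_centralizer_iff.1 hy.2 r (k.VU (k.toMixedQ.RV hr))
  have hyC : y ∈ C := ⟨hyR, mem_centralizer_iff.2 fun n hn => (hN n hn).symm⟩
  have h1 : UX x ⊓ C ≤ O2 C := by
    refine le_O2_of_normal inf_le_right ((O2_isPGroup _).to_le (inf_le_left.trans inf_le_left)) ?_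
    rintro g hg a ⟨ha, haC⟩
    refine ⟨UX_conj ?_ ha, C.mul_mem (C.mul_mem hg haC) (C.inv_mem hg)⟩
    exact (mem_centralizer_iff.1 hg.2 x hxN).symm
  have hCn : normalizer (R : Set G) ≤ normalizer (C : Set G) := by
    intro g hg
    rw [← cj_eq_self_iff, hC, cj_inf, ← centralizer_cj, cj_eq_self_iff.2 (normalizer_le_LL (zpowers x) R R hg),
      cj_of_mem hg]
  have h2 : O2 C ≤ QQ R := by
    refine le_O2_of_normal ((O2_le _).trans inf_le_left) (O2_isPGroup _) ?_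
    intro g hg a ha
    have h3 : cj g (O2 C) = O2 C := by rw [cj_O2, cj_eq_self_iff.2 (hCn hg)]
    rw [← h3]
    exact conj_mem_cj ha
  exact h2 (h1 ⟨hy, hyC⟩)

theorem U_N (p : Pt M₁) {y : G} (hy : y ∈ UX x) (hN : ∀ n ∈ LL (zpowers x) R (pt M₁ p), y * n = n * y) :
    y ∈ QQ (pt M₁ p) := by
  obtain ⟨g, h0, h1, -⟩ := k.exists_g p
  rw [← h1, ← cj_QQ, mem_cj]
  refine k.U_N_R (UX_conj' h0 hy) fun n hn => ?_
  have h2 : g * n * g⁻¹ ∈ LL (zpowers x) R (pt M₁ p) := by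
    rw [← cj_LL h1]; exact conj_mem_cj hn
  have h3 := hN _ h2
  calc g⁻¹ * y * g * n = g⁻¹ * (y * (g * n * g⁻¹)) * g := by group
    _ = g⁻¹ * (g * n * g⁻¹ * y) * g := by rw [h3]
    _ = n * (g⁻¹ * y * g) := by group

theorem N_le' (p : Pt M₁) : LL (zpowers x) R (pt M₁ p) ≤ QQ (pt M₁ p) ⊓ centralizer (QQ (pt M₁ p) : Set G) := by
  obtain ⟨g, h0, h1, -⟩ := k.exists_g p
  have h2 := cj_mono (g := g) k.N_le
  rwa [cj_LL h1, cj_inf, ← centralizer_cj, cj_QQ, h1] at h2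

/-! ### (2) -/

theorem V_le_U : V₁ ≤ UX x := fun v hv => mem_inf.2 ⟨k.VU hv, mem_centralizer_iff.2 fun _ hy =>
  (mem_centralizer_iff.1 (k.UV hy) v hv).symm⟩

theorem V'_le_U : cj w V₁ ≤ UX x := by
  rw [cj_le_iff]
  exact fun v hv => UX_conj (k.xc w k.wT₁) (k.V_le_U hv)

theorem VV' {v a : G} (hv : v ∈ V₁) (ha : a ∈ cj w V₁) : v * a = a * v := UX_comm (k.V_le_U hv) (k.V'_le_U ha)

theorem cjR : cj w R = R := cj_eq_self_iff.2 (k.T₁R k.wT₁)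

theorem cjT : cj w T = T := cj_eq_self_iff.2 (k.nT k.wT₁)

theorem cjQ : cj w (QQ R) = QQ R := by rw [cj_QQ, k.cjR]

theorem two_pow {t : G} (ht : t ∈ T) : ∃ n : ℕ, t ^ 2 ^ n = 1 := by
  obtain ⟨n, hn⟩ := (T₁.isPGroup'.to_le k.TT₁) ⟨t, ht⟩
  exact ⟨n, congrArg Subtype.val hn⟩

/-- an element of `T` which centralises `R` acts on `V₁` as an element of `W₂(R)` -/
theorem T_UW {t : G} (ht : t ∈ T) (hR : ∀ r ∈ R, t * r = r * t) {u : Fin 2 → F₁} (hu : u ≠ 0) (hRu : R = M₁.line u) :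
    t ∈ M₁.UW u := by
  obtain ⟨n, hn⟩ := k.two_pow ht
  exact mem_UW_of_two M₁ hu (k.TN ht) hn fun r hr => hR r (by rw [hRu]; exact hr)

theorem T_comm_V {t v : G} (ht : t ∈ T) (hR : ∀ r ∈ R, t * r = r * t) (hv : v ∈ V₁) : t * v * t⁻¹ * v⁻¹ ∈ R := by
  obtain ⟨u, hu, hRu⟩ := k.line₁
  have h1 := M₁.comm_UW hu (k.T_UW ht hR hu hRu) hv
  rwa [← hRu] at h1

theorem T_comm {t a : G} (ht : t ∈ T) (hV : ∀ v ∈ V₁, t * v = v * t) (ha : a ∈ cj w V₁) :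
    t * a * t⁻¹ * a⁻¹ ∈ R := by
  have h1 : w⁻¹ * t * w ∈ T := by rw [← mem_cj, k.cjT]; exact ht
  have h2 : ∀ r ∈ R, w⁻¹ * t * w * r = r * (w⁻¹ * t * w) := by
    intro r hr
    have h3 : w * r * w⁻¹ ∈ R := by rw [← k.cjR]; exact conj_mem_cj hr
    have h4 := hV _ (k.toMixedQ.RV h3)
    calc w⁻¹ * t * w * r = w⁻¹ * (t * (w * r * w⁻¹)) * w := by group
      _ = w⁻¹ * (w * r * w⁻¹ * t) * w := by rw [h4]
      _ = r * (w⁻¹ * t * w) := by group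
  have h3 := k.T_comm_V h1 h2 (mem_cj.1 ha)
  have h4 : w * (w⁻¹ * t * w * (w⁻¹ * a * w) * (w⁻¹ * t * w)⁻¹ * (w⁻¹ * a * w)⁻¹) * w⁻¹ ∈ R := by
    rw [← k.cjR]; exact conj_mem_cj h3
  have e : w * (w⁻¹ * t * w * (w⁻¹ * a * w) * (w⁻¹ * t * w)⁻¹ * (w⁻¹ * a * w)⁻¹) * w⁻¹ = t * a * t⁻¹ * a⁻¹ := by
    group
  rwa [e] at h4

theorem le_T {K : Subgroup G} (h1 : K ≤ centralizer (V₁ : Set G)) (h2 : IsPGroup 2 K)
    (h3 : centralizer (V₁ : Set G) ≤ normalizer (K : Set G)) : K ≤ T :=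
  (le_O2_of_normal h1 h2 fun _ hg _ ha => conj_mem_of_normalizer (h3 hg) ha).trans k.OT

/-- **(2)** -/
theorem V'_le_Q (p : Pt M₁) : cj w V₁ ≤ QQ (pt M₁ p) := by
  by_cases hp : pt M₁ p = R
  · rw [hp]
    have := cj_mono (g := w) k.toMixedQ.V_le_QQ
    rwa [k.cjQ] at this
  obtain ⟨i, hi⟩ := k.exists_i
  have hip : i ≠ p := by
    rintro rfl
    exact hp hi
  set N := LL (zpowers x) R (pt M₁ p) with hN
  have hNZ := k.N_le' p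
  have hNV : N ≤ centralizer (V₁ : Set G) := by
    intro n hn
    rw [mem_centralizer_iff]
    intro v hv
    exact mem_centralizer_iff.1 (hNZ hn).2 v (k.V_le_QQ' p hv)
  have hcN : centralizer (V₁ : Set G) ≤ normalizer (N : Set G) :=
    (k.cV_le p).trans (normalizer_le_LL (zpowers x) R (pt M₁ p))
  have hNT : N ≤ T := k.le_T hNV ((O2_isPGroup _).to_le (hNZ.trans inf_le_left)) hcN
  intro a ha
  refine k.U_N p (k.V'_le_U ha) fun n hn => ?_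
  have hnV : ∀ v ∈ V₁, n * v = v * n := fun v hv => (mem_centralizer_iff.1 (hNV hn) v hv).symm
  have h1 := k.T_comm (hNT hn) hnV ha
  have haV : a ∈ centralizer (V₁ : Set G) := mem_centralizer_iff.2 fun v hv => k.VV' hv ha
  have h2 : n * a * n⁻¹ * a⁻¹ ∈ N := by
    have h3 := conj_mem_of_normalizer (hcN haV) (inv_mem hn)
    have e : n * a * n⁻¹ * a⁻¹ = n * (a * n⁻¹ * a⁻¹) := by group
    rw [e]
    exact mul_mem hn h3
  have h3 : n * a * n⁻¹ * a⁻¹ ∈ pt M₁ p := by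
    refine k.sideW.VB p _ (k.toMixedQ.RV h1) fun b hb => ?_
    exact mem_centralizer_iff.1 (hNZ h2).2 b (k.B_le_QQ p hb)
  have h4 : n * a * n⁻¹ * a⁻¹ ∈ pt M₁ i ⊓ pt M₁ p := ⟨by rw [hi]; exact h1, h3⟩
  rw [k.sideW.R_inf i p hip, mem_bot] at h4
  exact (comm_of_eq_one h4).symm

/-! ### (3) -/

theorem V'_B (p : Pt M₁) {a b : G} (ha : a ∈ cj w V₁) (hb : b ∈ LL V₂ R (pt M₁ p)) :
    a * b * a⁻¹ * b⁻¹ ∈ pt M₁ p := k.QB p (k.V'_le_Q p ha) hb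

theorem TT_le_T (p : Pt M₁) : TT V₁ (LL V₂ R (pt M₁ p)) ≤ T := by
  refine k.le_T inf_le_right (((O2_isPGroup _).to_le (k.B_le_QQ p)).to_le inf_le_left) ?_
  intro g hg
  rw [← cj_eq_self_iff, TT, cj_inf, cj_eq_self_iff.2 (normalizer_le_LL V₂ R (pt M₁ p) (k.cV_le p hg)), cj_of_mem hg]

theorem V'_TT (p : Pt M₁) {a t : G} (ha : a ∈ cj w V₁) (ht : t ∈ TT V₁ (LL V₂ R (pt M₁ p))) : t * a = a * t := by
  have key : ∀ p : Pt M₁, pt M₁ p ≠ R → ∀ a ∈ cj w V₁, ∀ t ∈ TT V₁ (LL V₂ R (pt M₁ p)), t * a = a * t := by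
    intro p hp a ha t ht
    obtain ⟨i, hi⟩ := k.exists_i
    have hip : i ≠ p := by
      rintro rfl
      exact hp hi
    have h1 := k.T_comm (k.TT_le_T p ht) (mem_TT.1 ht).2 ha
    have h2 : t * a * t⁻¹ * a⁻¹ ∈ pt M₁ p := by
      have h3 := inv_mem (k.V'_B p ha ht.1)
      have e : (a * t * a⁻¹ * t⁻¹)⁻¹ = t * a * t⁻¹ * a⁻¹ := by group
      rwa [e] at h3
    have h4 : t * a * t⁻¹ * a⁻¹ ∈ pt M₁ i ⊓ pt M₁ p := ⟨by rw [hi]; exact h1, h2⟩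
    rw [k.sideW.R_inf i p hip, mem_bot] at h4
    exact comm_of_eq_one h4
  by_cases hp : pt M₁ p = R
  · obtain ⟨m, hmp, -⟩ := k.sideW.third p p
    obtain ⟨l, hlp, hlm⟩ := k.sideW.third p m
    obtain ⟨b, hb, hbl⟩ := k.sideW.trans m p l (Ne.symm hmp) hlm
    have hbV : cj b V₁ = V₁ := cj_eq_self_iff.2 (k.sideW.B_NV m hb)
    have h1 : b * t * b⁻¹ ∈ TT V₁ (LL V₂ R (pt M₁ l)) := by
      rw [← k.sideW.cj_T (cj_eq_self_iff.1 hbV) hbl]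
      exact conj_mem_cj ht
    have hl : pt M₁ l ≠ R := by
      rw [← hp]
      intro h
      exact hlp (k.sideW.R_index h)
    have h2 := k.V'_B m ha hb
    have h3 : (a * b * a⁻¹ * b⁻¹)⁻¹ ∈ V₁ := inv_mem (k.sideW.R_V m h2)
    have h4 := (mem_TT.1 h1).2 _ h3
    have h5 := key l hl a ha _ h1
    have e : b * a * b⁻¹ = (a * b * a⁻¹ * b⁻¹)⁻¹ * a := by group
    have h6 : b * t * b⁻¹ * (b * a * b⁻¹) = b * a * b⁻¹ * (b * t * b⁻¹) := by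
      rw [e, ← mul_assoc, h4, mul_assoc, h5, ← mul_assoc]
    calc t * a = b⁻¹ * (b * t * b⁻¹ * (b * a * b⁻¹)) * b := by group
      _ = b⁻¹ * (b * a * b⁻¹ * (b * t * b⁻¹)) * b := by rw [h6]
      _ = a * t := by group
  · exact key p hp a ha t ht

/-! ### (4), (5) -/

theorem dec_p (p : Pt M₁) {q : G} (hq : q ∈ QQ (pt M₁ p))
    (hqT : ∀ t ∈ TT V₁ (LL V₂ R (pt M₁ p)), q * t = t * q) :
    ∃ v ∈ V₁, ∀ b ∈ LL V₂ R (pt M₁ p), b * (v * q) = v * q * b := by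
  obtain ⟨g, -, h1, h2⟩ := k.exists_g p
  have h3 : g⁻¹ * q * g ∈ QQ R := by
    rw [← mem_cj, cj_QQ, h1]; exact hq
  have h4 : ∀ t ∈ TT V₁ (LL V₂ R R), g⁻¹ * q * g * t = t * (g⁻¹ * q * g) := by
    intro t ht
    have h5 : g * t * g⁻¹ ∈ TT V₁ (LL V₂ R (pt M₁ p)) := by
      rw [← cj_TT h2 (cj_LL h1)]
      exact conj_mem_cj ht
    have h6 := hqT _ h5
    calc g⁻¹ * q * g * t = g⁻¹ * (q * (g * t * g⁻¹)) * g := by group
      _ = g⁻¹ * (g * t * g⁻¹ * q) * g := by rw [h6]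
      _ = t * (g⁻¹ * q * g) := by group
  obtain ⟨v, hv, h5⟩ := k.dec h3 h4
  refine ⟨g * v * g⁻¹, by rw [← h2]; exact conj_mem_cj hv, fun b hb => ?_⟩
  have h6 : g⁻¹ * b * g ∈ LL V₂ R R := by
    rw [← mem_cj, cj_LL h1]; exact hb
  have h7 := h5 _ h6
  calc b * (g * v * g⁻¹ * q) = g * (g⁻¹ * b * g * (v * (g⁻¹ * q * g))) * g⁻¹ := by group
    _ = g * (v * (g⁻¹ * q * g) * (g⁻¹ * b * g)) * g⁻¹ := by rw [h7]
    _ = g * v * g⁻¹ * q * b := by group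

omit k in
theorem R_sup {i j : Pt M₁} (hij : i ≠ j) {v : G} (hv : v ∈ V₁) : ∃ r ∈ pt M₁ i, ∃ r' ∈ pt M₁ j, v = r * r' := by
  obtain ⟨_, a, ha, rfl⟩ := i
  obtain ⟨_, b, hb, rfl⟩ := j
  have h1 : dt a b ≠ 0 := by
    intro h
    apply hij
    apply Subtype.ext
    exact ((line_eq_iff_dt M₁ ha hb).2 h).symm
  obtain ⟨y, rfl⟩ := (M₁.mem_iff v).1 hv
  obtain ⟨c, d, rfl⟩ := exists_comb h1 y
  exact ⟨_, ⟨c, rfl⟩, _, ⟨d, rfl⟩, M₁.e_add _ _⟩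

/-- **(5)** `V' ≤ V₁ C(X)` -/
theorem exists_f {a : G} (ha : a ∈ cj w V₁) :
    ∃ v ∈ V₁, ∀ p, ∀ b ∈ LL V₂ R (pt M₁ p), b * (v * a) = v * a * b := by
  obtain ⟨i, hi⟩ := k.exists_i
  obtain ⟨j, hji, -⟩ := k.sideW.third i i
  obtain ⟨v₁, hv₁, h1⟩ := k.dec_p i (k.V'_le_Q i ha) fun t ht => (k.V'_TT i ha ht).symm
  obtain ⟨v₂, hv₂, h2⟩ := k.dec_p j (q := v₁ * a) (mul_mem (k.V_le_QQ' j hv₁) (k.V'_le_Q j ha)) fun t ht => by
    rw [mul_assoc, ← k.V'_TT j ha ht, ← mul_assoc, ← (mem_TT.1 ht).2 v₁ hv₁, mul_assoc]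
  obtain ⟨r, hr, r', hr', rfl⟩ := R_sup (Ne.symm hji) hv₂
  have hrV := k.sideW.R_V i hr
  have hr'V := k.sideW.R_V j hr'
  have hrr' : r * r' = r' * r := M₁.comm hrV hr'V
  refine ⟨r * v₁, mul_mem hrV hv₁, ?_⟩
  have h3 : ∀ b ∈ LL V₂ R (pt M₁ i), b * (r * v₁ * a) = r * v₁ * a * b := by
    intro b hb
    have h4 : b * r = r * b := k.QR' i (k.B_le_QQ i hb) hr
    have h5 := h1 b hb
    calc b * (r * v₁ * a) = b * r * (v₁ * a) := by group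
      _ = r * (b * (v₁ * a)) := by rw [h4]; group
      _ = r * v₁ * a * b := by rw [h5]; group
  have h4 : ∀ b ∈ LL V₂ R (pt M₁ j), b * (r * v₁ * a) = r * v₁ * a * b := by
    intro b hb
    have h4 : b * r'⁻¹ = r'⁻¹ * b := k.QR' j (k.B_le_QQ j hb) (inv_mem hr')
    have h5 := h2 b hb
    have e : r * v₁ * a = r'⁻¹ * (r * r' * (v₁ * a)) := by rw [hrr']; group
    rw [e]
    calc b * (r'⁻¹ * (r * r' * (v₁ * a))) = b * r'⁻¹ * (r * r' * (v₁ * a)) := by group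
      _ = r'⁻¹ * (b * (r * r' * (v₁ * a))) := by rw [h4]; group
      _ = r'⁻¹ * (r * r' * (v₁ * a)) * b := by rw [h5]; group
  exact fun p b hb => k.sideW.comm_all (Ne.symm hji) h3 h4 p b hb

/-- **(6)** `C_T(V₁)` centralises `V'` -/
theorem T_V' {t a : G} (ht : t ∈ T) (hV : ∀ v ∈ V₁, t * v = v * t) (ha : a ∈ cj w V₁) : t * a = a * t := by
  obtain ⟨i, hi⟩ := k.exists_i
  obtain ⟨j, hji, -⟩ := k.sideW.third i i
  obtain ⟨v, hv, h1⟩ := k.exists_f ha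
  have h2 := k.T_comm ht hV ha
  have htc : t ∈ centralizer (V₁ : Set G) := mem_centralizer_iff.2 fun v hv => (hV v hv).symm
  -- `[t, v a] = [t, a]`
  have e1 : t * (v * a) * t⁻¹ * (v * a)⁻¹ = t * a * t⁻¹ * a⁻¹ := by
    have h3 := M₁.comm hv (k.toMixedQ.RV h2)
    calc t * (v * a) * t⁻¹ * (v * a)⁻¹ = (t * v) * a * t⁻¹ * a⁻¹ * v⁻¹ := by group
      _ = v * (t * a * t⁻¹ * a⁻¹) * v⁻¹ := by rw [hV v hv]; group
      _ = t * a * t⁻¹ * a⁻¹ := by rw [h3, mul_inv_cancel_right]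
  have h3 : ∀ p, ∀ b ∈ LL V₂ R (pt M₁ p), b * (t * a * t⁻¹ * a⁻¹) = t * a * t⁻¹ * a⁻¹ * b := by
    intro p b hb
    have h4 : t⁻¹ * b * t ∈ LL V₂ R (pt M₁ p) :=
      conj_inv_mem_of_normalizer (normalizer_le_LL V₂ R (pt M₁ p) (k.cV_le p htc)) hb
    have h5 := h1 p _ h4
    have h6 := h1 p b hb
    have h7 : b * (t * (v * a) * t⁻¹) = t * (v * a) * t⁻¹ * b := by
      calc b * (t * (v * a) * t⁻¹) = t * (t⁻¹ * b * t * (v * a)) * t⁻¹ := by group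
        _ = t * (v * a * (t⁻¹ * b * t)) * t⁻¹ := by rw [h5]
        _ = t * (v * a) * t⁻¹ * b := by group
    have h8 : b * (v * a)⁻¹ = (v * a)⁻¹ * b := by
      rw [mul_inv_eq_iff_eq_mul, mul_assoc, h6, inv_mul_cancel_left]
    rw [← e1]
    calc b * (t * (v * a) * t⁻¹ * (v * a)⁻¹) = b * (t * (v * a) * t⁻¹) * (v * a)⁻¹ := by group
      _ = t * (v * a) * t⁻¹ * (b * (v * a)⁻¹) := by rw [h7]; group
      _ = t * (v * a) * t⁻¹ * (v * a)⁻¹ * b := by rw [h8]; group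
  have h4 : t * a * t⁻¹ * a⁻¹ ∈ pt M₁ i ⊓ pt M₁ j :=
    ⟨by rw [hi]; exact h2, k.sideW.VB j _ (k.toMixedQ.RV h2) (h3 j)⟩
  rw [k.sideW.R_inf i j (Ne.symm hji), mem_bot] at h4
  exact comm_of_eq_one h4

end Kill

end Cfsg.Agent.Omega.IId.MQ
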