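import Cfsg.Agent.Omega.IId.Cv.HalfGen
import Cfsg.Agent.Lib.SylowNormalInf

/-!
# The norm `∏_{x ∈ E/U} f^x` and the decomposition of `C_A(So)`

`A` an elementary abelian 2-group with an action `ρ` of the finite group `Γ`; `U ≤ E ≤ Γ`;
`nrm ρ E U : A →* A`, `f ↦ ∏_{x ∈ E/U} ρ x f`.  If `|E : U|` is odd, then `nrm` is a projection of `C_A(U)` onto
`C_A(E)`.

`decomp` : `S = So ∪ s So`, `s` swaps `(E₁, U₁)` and `(E₂, U₂)`, `E₁` and `E₂` commute on `A`, every `S`-fixed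
element of `A` is in `V₁V₂D`, `E₁` centralises `V₂D` and has no fixed element in `V₁`, the same for `E₂`.  Then every
`f ∈ C_A(So U₁U₂)` is `a b d` with `a ∈ V₁`, `b ∈ V₂`, `d ∈ C_A(E₁E₂)`.
-/

set_option autoImplicit false
set_option linter.unusedSectionVars false
set_option linter.style.haveILetI false

namespace Cfsg.Agent.Omega.IId.Cv.XNorm

open Subgroup

universe u v

section norm

variable {Γ : Type u} [Group Γ] [Finite Γ] {A : Type v} [CommGroup A] (ρ : Γ →* MulAut A)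

open Classical in
/-- `f ↦ ∏_{x ∈ E/U} ρ x f` -/
noncomputable def nrm (E U : Subgroup Γ) : A →* A :=
  letI : Fintype (E ⧸ U.subgroupOf E) := Fintype.ofFinite _
  ∏ x : E ⧸ U.subgroupOf E, (ρ ((Quotient.out x : E) : Γ)).toMonoidHom

variable {ρ}

open Classical in
theorem nrm_apply (E U : Subgroup Γ) (f : A) :
    letI : Fintype (E ⧸ U.subgroupOf E) := Fintype.ofFinite _
    nrm ρ E U f = ∏ x : E ⧸ U.subgroupOf E, ρ ((Quotient.out x : E) : Γ) f := by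
  rw [nrm, MonoidHom.finsetProd_apply]
  rfl

/-- the value of `ρ x f` depends only on the coset `xU` -/
theorem out_eq {E U : Subgroup Γ} {f : A} (hf : ∀ u ∈ U, ρ u f = f) (x : E) :
    ρ ((Quotient.out (QuotientGroup.mk x : E ⧸ U.subgroupOf E) : E) : Γ) f = ρ (x : Γ) f := by
  obtain ⟨u, hu⟩ := QuotientGroup.mk_out_eq_mul (U.subgroupOf E) x
  rw [show (Quotient.out (QuotientGroup.mk x : E ⧸ U.subgroupOf E) : E) = x * u from hu, coe_mul, map_mul,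
    MulAut.mul_apply, hf _ (mem_subgroupOf.1 u.2)]

open Classical in
/-- the norm of a `U`-fixed element is `E`-fixed -/
theorem nrm_fixed {E U : Subgroup Γ} {f : A} (hf : ∀ u ∈ U, ρ u f = f) {g : Γ} (hg : g ∈ E) :
    ρ g (nrm ρ E U f) = nrm ρ E U f := by
  letI : Fintype (E ⧸ U.subgroupOf E) := Fintype.ofFinite _
  rw [nrm_apply, map_prod]
  refine Fintype.prod_equiv (MulAction.toPerm (⟨g, hg⟩ : E)) _ _ fun x => ?_
  rw [MulAction.toPerm_apply]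
  induction x using QuotientGroup.induction_on with | _ x =>
  rw [out_eq hf x]
  change _ = ρ ((Quotient.out (QuotientGroup.mk ((⟨g, hg⟩ : E) * x) : E ⧸ U.subgroupOf E) : E) : Γ) f
  rw [out_eq hf, coe_mul, map_mul, MulAut.mul_apply]

open Classical in
/-- the norm of an `E`-fixed element -/
theorem nrm_of_fixed {E U : Subgroup Γ} (hodd : Odd (U.relIndex E)) {f : A} (h2 : f * f = 1)
    (hf : ∀ u ∈ E, ρ u f = f) : nrm ρ E U f = f := by
  letI : Fintype (E ⧸ U.subgroupOf E) := Fintype.ofFinite _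
  have h1 : nrm ρ E U f = ∏ _x : E ⧸ U.subgroupOf E, f := by
    rw [nrm_apply]
    exact Finset.prod_congr rfl fun x _ => hf _ (Quotient.out x : E).2
  rw [h1, Finset.prod_const, Finset.card_univ, ← Nat.card_eq_fintype_card]
  obtain ⟨m, hm⟩ := hodd
  have e : Nat.card (E ⧸ U.subgroupOf E) = 2 * m + 1 := hm
  rw [e, pow_succ, pow_mul, pow_two, h2, one_pow, one_mul]

open Classical in
/-- the norm of an element of an `E`-invariant subgroup -/
theorem nrm_mem {E U : Subgroup Γ} {V : Subgroup A} (hV : ∀ x ∈ E, ∀ a ∈ V, ρ x a ∈ V) {f : A} (hf : f ∈ V) :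
    nrm ρ E U f ∈ V := by
  letI : Fintype (E ⧸ U.subgroupOf E) := Fintype.ofFinite _
  rw [nrm_apply]
  exact prod_mem fun x _ => hV _ (Quotient.out x : E).2 _ hf

open Classical in
/-- an element which commutes with `E` on `A` commutes with the norm -/
theorem nrm_comm {E U : Subgroup Γ} {y : Γ} (hy : ∀ x ∈ E, ∀ a : A, ρ x (ρ y a) = ρ y (ρ x a)) (f : A) :
    ρ y (nrm ρ E U f) = nrm ρ E U (ρ y f) := by
  letI : Fintype (E ⧸ U.subgroupOf E) := Fintype.ofFinite _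
  rw [nrm_apply, nrm_apply, map_prod]
  exact Finset.prod_congr rfl fun x _ => (hy _ (Quotient.out x : E).2 f).symm

open Classical in
/-- the norms of two groups which commute on `A` commute -/
theorem nrm_nrm {E U E' U' : Subgroup Γ} (hc : ∀ x ∈ E, ∀ y ∈ E', ∀ a : A, ρ x (ρ y a) = ρ y (ρ x a)) (f : A) :
    nrm ρ E U (nrm ρ E' U' f) = nrm ρ E' U' (nrm ρ E U f) := by
  letI : Fintype (E ⧸ U.subgroupOf E) := Fintype.ofFinite _
  letI : Fintype (E' ⧸ U'.subgroupOf E') := Fintype.ofFinite _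
  rw [nrm_apply E' U' f, map_prod, nrm_apply E' U']
  exact Finset.prod_congr rfl fun y _ => (nrm_comm (fun x hx a => hc x hx _ (Quotient.out y : E').2 a) f).symm

open Classical in
/-- conjugation -/
theorem nrm_conj {E U E' U' : Subgroup Γ} {s : Γ} (hE : ∀ x, x ∈ E → s * x * s⁻¹ ∈ E')
    (hE' : ∀ x, x ∈ E' → s⁻¹ * x * s ∈ E) (hU : ∀ x, x ∈ U → s * x * s⁻¹ ∈ U')
    (hU' : ∀ x, x ∈ U' → s⁻¹ * x * s ∈ U) {f : A} (hf : ∀ u ∈ U, ρ u f = f) :
    ρ s (nrm ρ E U f) = nrm ρ E' U' (ρ s f) := by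
  letI : Fintype (E ⧸ U.subgroupOf E) := Fintype.ofFinite _
  letI : Fintype (E' ⧸ U'.subgroupOf E') := Fintype.ofFinite _
  have hf' : ∀ u ∈ U', ρ u (ρ s f) = ρ s f := by
    intro u hu
    have h1 := hf _ (hU' u hu)
    rw [← MulAut.mul_apply, ← map_mul, show u * s = s * (s⁻¹ * u * s) by group, map_mul, MulAut.mul_apply, h1]
  rw [nrm_apply, nrm_apply, map_prod]
  refine Fintype.prod_bijective
    (fun x => (QuotientGroup.mk (⟨s * (Quotient.out x : E) * s⁻¹, hE _ (Quotient.out x : E).2⟩ : E') :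
      E' ⧸ U'.subgroupOf E')) ⟨?_, ?_⟩ _ _ fun x => ?_
  · intro x y hxy
    have h1 := QuotientGroup.eq.1 hxy
    rw [mem_subgroupOf] at h1
    have h2 := hU' _ h1
    have e : s⁻¹ * (((⟨s * (Quotient.out x : E) * s⁻¹, hE _ (Quotient.out x : E).2⟩ : E')⁻¹ *
        (⟨s * (Quotient.out y : E) * s⁻¹, hE _ (Quotient.out y : E).2⟩ : E') : E') : Γ) * s =
        (((Quotient.out x : E)⁻¹ * (Quotient.out y : E) : E) : Γ) := by
      push_cast
      group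
    rw [e] at h2
    have h3 : (QuotientGroup.mk (Quotient.out x : E) : E ⧸ U.subgroupOf E) = QuotientGroup.mk (Quotient.out y : E) :=
      QuotientGroup.eq.2 (mem_subgroupOf.2 h2)
    rwa [QuotientGroup.out_eq', QuotientGroup.out_eq'] at h3
  · intro y
    induction y using QuotientGroup.induction_on with | _ y =>
    refine ⟨QuotientGroup.mk (⟨s⁻¹ * y * s, hE' _ y.2⟩ : E), ?_⟩
    obtain ⟨u, hu⟩ := QuotientGroup.mk_out_eq_mul (U.subgroupOf E) (⟨s⁻¹ * y * s, hE' _ y.2⟩ : E)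
    refine QuotientGroup.eq.2 (mem_subgroupOf.2 ?_)
    have h1 := hU _ (inv_mem (mem_subgroupOf.1 u.2))
    have e : (Quotient.out (QuotientGroup.mk (⟨s⁻¹ * y * s, hE' _ y.2⟩ : E) : E ⧸ U.subgroupOf E) : E) =
      (⟨s⁻¹ * y * s, hE' _ y.2⟩ : E) * u := hu
    have e2 : (((⟨s * ((Quotient.out (QuotientGroup.mk (⟨s⁻¹ * y * s, hE' _ y.2⟩ : E) : E ⧸ U.subgroupOf E) : E) : Γ)
        * s⁻¹, hE _ (Quotient.out (QuotientGroup.mk (⟨s⁻¹ * y * s, hE' _ y.2⟩ : E) : E ⧸ U.subgroupOf E) : E).2⟩ :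
          E')⁻¹ * y : E') : Γ) = s * ((u : E) : Γ)⁻¹ * s⁻¹ := by
      rw [coe_mul, coe_inv]
      change (s * ((Quotient.out (QuotientGroup.mk (⟨s⁻¹ * y * s, hE' _ y.2⟩ : E) : E ⧸ U.subgroupOf E) : E) : Γ)
        * s⁻¹)⁻¹ * (y : Γ) = _
      rw [e, coe_mul]
      group
    rw [e2]
    exact h1
  · rw [out_eq hf']
    change ρ s (ρ (Quotient.out x : E) f) = ρ (s * (Quotient.out x : E) * s⁻¹) (ρ s f)
    rw [← MulAut.mul_apply, ← MulAut.mul_apply, ← map_mul, ← map_mul, inv_mul_cancel_right]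

end norm

/-! ### The decomposition -/

section main

variable {Γ : Type u} [Group Γ] [Finite Γ] {A : Type v} [CommGroup A] {ρ : Γ →* MulAut A}

/-- **The decomposition of `C_A(So)`.** -/
theorem decomp (hA : ∀ a : A, a * a = 1) {So E U E' U' : Subgroup Γ} {s : Γ}
    (hso' : ∀ t ∈ So, s⁻¹ * t * s ∈ So) (hss : s * s ∈ So)
    (hE : ∀ t ∈ So, ∀ x ∈ E, t * x * t⁻¹ ∈ E) (hU : ∀ t ∈ So, ∀ x ∈ U, t * x * t⁻¹ ∈ U)
    (hE' : ∀ t ∈ So, ∀ x ∈ E', t * x * t⁻¹ ∈ E') (hU' : ∀ t ∈ So, ∀ x ∈ U', t * x * t⁻¹ ∈ U')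
    (sE : ∀ x ∈ E, s * x * s⁻¹ ∈ E') (sE' : ∀ x ∈ E', s * x * s⁻¹ ∈ E)
    (sU : ∀ x ∈ U, s * x * s⁻¹ ∈ U') (sU' : ∀ x ∈ U', s * x * s⁻¹ ∈ U)
    (sEi : ∀ x ∈ E, s⁻¹ * x * s ∈ E') (sEi' : ∀ x ∈ E', s⁻¹ * x * s ∈ E)
    (sUi : ∀ x ∈ U, s⁻¹ * x * s ∈ U') (sUi' : ∀ x ∈ U', s⁻¹ * x * s ∈ U)
    (hUE : U ≤ E) (hUE' : U' ≤ E') (hUS : U ≤ So) (hUS' : U' ≤ So)
    (odd : Odd (U.relIndex E)) (odd' : Odd (U'.relIndex E'))
    (hc : ∀ x ∈ E, ∀ y ∈ E', ∀ a : A, ρ x (ρ y a) = ρ y (ρ x a))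
    {V V' D : Subgroup A} (hV : ∀ x ∈ E, ∀ a ∈ V, ρ x a ∈ V) (hV' : ∀ x ∈ E', ∀ a ∈ V', ρ x a ∈ V')
    (hf : ∀ a ∈ V, (∀ x ∈ E, ρ x a = a) → a = 1) (hf' : ∀ a ∈ V', (∀ x ∈ E', ρ x a = a) → a = 1)
    (h12 : ∀ x ∈ E, ∀ a ∈ V', ρ x a = a) (h21 : ∀ x ∈ E', ∀ a ∈ V, ρ x a = a)
    (hD : ∀ x ∈ E, ∀ a ∈ D, ρ x a = a) (hD' : ∀ x ∈ E', ∀ a ∈ D, ρ x a = a)
    (hZ : ∀ z : A, (∀ t ∈ So, ρ t z = z) → ρ s z = z → ∃ a ∈ V, ∃ b ∈ V', ∃ d ∈ D, z = a * b * d)
    {f : A} (hfo : ∀ t ∈ So, ρ t f = f) :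
    ∃ a ∈ V, ∃ b ∈ V', ∃ d : A, (∀ x ∈ E, ρ x d = d) ∧ (∀ x ∈ E', ρ x d = d) ∧ f = a * b * d := by
  set N := nrm ρ E U with hN
  set N' := nrm ρ E' U' with hN'
  -- `N` and `N'` commute with `So`
  have nSo : ∀ g : A, (∀ u ∈ So, ρ u g = g) → ∀ t ∈ So, ρ t (N g) = N g := by
    intro g hg t ht
    have hi : ∀ {X : Subgroup Γ}, (∀ t ∈ So, ∀ x ∈ X, t * x * t⁻¹ ∈ X) → ∀ x, x ∈ X → t⁻¹ * x * t ∈ X := by
      intro X hX x hx
      have := hX t⁻¹ (inv_mem ht) x hx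
      rwa [inv_inv] at this
    rw [hN, nrm_conj (hE t ht) (hi hE) (hU t ht) (hi hU) (fun u hu => hg u (hUS hu)), hg t ht]
  have nSo' : ∀ g : A, (∀ u ∈ So, ρ u g = g) → ∀ t ∈ So, ρ t (N' g) = N' g := by
    intro g hg t ht
    have hi : ∀ {X : Subgroup Γ}, (∀ t ∈ So, ∀ x ∈ X, t * x * t⁻¹ ∈ X) → ∀ x, x ∈ X → t⁻¹ * x * t ∈ X := by
      intro X hX x hx
      have := hX t⁻¹ (inv_mem ht) x hx
      rwa [inv_inv] at this
    rw [hN', nrm_conj (hE' t ht) (hi hE') (hU' t ht) (hi hU') (fun u hu => hg u (hUS' hu)), hg t ht]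
  -- `s` swaps `N` and `N'`
  have ns : ∀ g : A, (∀ u ∈ So, ρ u g = g) → ρ s (N g) = N' (ρ s g) := fun g hg =>
    nrm_conj sE sEi' sU sUi' fun u hu => hg u (hUS hu)
  have ns' : ∀ g : A, (∀ u ∈ So, ρ u g = g) → ρ s (N' g) = N (ρ s g) := fun g hg =>
    nrm_conj sE' sEi sU' sUi fun u hu => hg u (hUS' hu)
  have sSo : ∀ g : A, (∀ u ∈ So, ρ u g = g) → ∀ t ∈ So, ρ t (ρ s g) = ρ s g := by
    intro g hg t ht
    rw [← MulAut.mul_apply, ← map_mul, show t * s = s * (s⁻¹ * t * s) by group, map_mul, MulAut.mul_apply,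
      hg _ (hso' t ht)]
  -- fixed by `E`
  have nE : ∀ g : A, (∀ u ∈ So, ρ u g = g) → ∀ x ∈ E, ρ x (N g) = N g := fun g hg x hx =>
    nrm_fixed (fun u hu => hg u (hUS hu)) hx
  have nE' : ∀ g : A, (∀ u ∈ So, ρ u g = g) → ∀ x ∈ E', ρ x (N' g) = N' g := fun g hg x hx =>
    nrm_fixed (fun u hu => hg u (hUS' hu)) hx
  have nf : ∀ g : A, (∀ x ∈ E, ρ x g = g) → N g = g := fun g hg => nrm_of_fixed odd (hA g) hg
  have nf' : ∀ g : A, (∀ x ∈ E', ρ x g = g) → N' g = g := fun g hg => nrm_of_fixed odd' (hA g) hg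
  have nn : ∀ g : A, N (N' g) = N' (N g) := fun g => nrm_nrm hc g
  have nV : ∀ a ∈ V, (∀ u ∈ U, ρ u a = a) → N a = 1 := fun a ha haU =>
    hf _ (nrm_mem hV ha) fun x hx => nrm_fixed haU hx
  have nV' : ∀ a ∈ V', (∀ u ∈ U', ρ u a = a) → N' a = 1 := fun a ha haU =>
    hf' _ (nrm_mem hV' ha) fun x hx => nrm_fixed haU hx
  clear_value N N'
  -- the norms of the `S`-fixed elements
  have key : ∀ z : A, (∀ t ∈ So, ρ t z = z) → ρ s z = z →
      ∃ a ∈ V, ∃ b ∈ V', ∃ d ∈ D, z = a * b * d ∧ N z = b * d ∧ N' z = a * d := by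
    intro z h1 h2
    obtain ⟨a, ha, b, hb, d, hd, hz⟩ := hZ z h1 h2
    have haU : ∀ u ∈ U, ρ u a = a := by
      intro u hu
      have h3 := h1 u (hUS hu)
      rw [hz, map_mul, map_mul, h12 u (hUE hu) b hb, hD u (hUE hu) d hd] at h3
      exact mul_right_cancel (mul_right_cancel h3)
    have hbU : ∀ u ∈ U', ρ u b = b := by
      intro u hu
      have h3 := h1 u (hUS' hu)
      rw [hz, map_mul, map_mul, h21 u (hUE' hu) a ha, hD' u (hUE' hu) d hd] at h3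
      exact mul_left_cancel (mul_right_cancel h3)
    have e1 : N a = 1 := nV a ha haU
    have e2 : N' b = 1 := nV' b hb hbU
    refine ⟨a, ha, b, hb, d, hd, hz, ?_, ?_⟩
    · rw [hz, map_mul, map_mul, e1, nf b fun x hx => h12 x hx b hb, nf d fun x hx => hD x hx d hd, one_mul]
    · rw [hz, map_mul, map_mul, e2, nf' a fun x hx => h21 x hx a ha, nf' d fun x hx => hD' x hx d hd, mul_one]
  -- `f f^s`
  have prod_fixed : ∀ g : A, (∀ t ∈ So, ρ t g = g) →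
      (∀ t ∈ So, ρ t (g * ρ s g) = g * ρ s g) ∧ ρ s (g * ρ s g) = g * ρ s g := by
    intro g hg
    refine ⟨fun t ht => by rw [map_mul, hg t ht, sSo g hg t ht], ?_⟩
    rw [map_mul, ← MulAut.mul_apply, ← map_mul, hg _ hss, mul_comm]
  -- swapping `g2`
  have swp : ∀ g : A, (∀ x ∈ E', ρ x g = g) → ∀ x ∈ E, ρ x (ρ s g) = ρ s g := by
    intro g g2 x hx
    rw [← MulAut.mul_apply, ← map_mul, show x * s = s * (s⁻¹ * x * s) by group, map_mul, MulAut.mul_apply,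
      g2 _ (sEi x hx)]
  have swp' : ∀ g : A, (∀ x ∈ E, ρ x g = g) → ∀ x ∈ E', ρ x (ρ s g) = ρ s g := by
    intro g g2 x hx
    rw [← MulAut.mul_apply, ← map_mul, show x * s = s * (s⁻¹ * x * s) by group, map_mul, MulAut.mul_apply,
      g2 _ (sEi' x hx)]
  have fN := nSo f hfo
  have fN' := nSo' f hfo
  have fNN' : ∀ t ∈ So, ρ t (N (N' f)) = N (N' f) := nSo _ fN'
  -- the joint part is trivial
  have h0 : f * N f * N' f * N (N' f) = 1 := by
    set z := f * N f * N' f * N (N' f) with hz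
    have z1 : ∀ t ∈ So, ρ t z = z := by
      intro t ht
      rw [hz, map_mul, map_mul, map_mul, hfo t ht, fN t ht, fN' t ht, fNN' t ht]
    have z2 : ρ s z = z := by
      obtain ⟨p1, p2⟩ := prod_fixed f hfo
      set p := f * ρ s f with hp
      have hsf : ρ s f = f * p := by
        rw [hp, ← mul_assoc, hA, one_mul]
      obtain ⟨a, ha, b, hb, d, hd, e0, e1, e2⟩ := key p p1 p2
      have e3 : N (N' p) = d := by
        have e4 : N' a = a := nf' a fun x hx => h21 x hx a ha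
        have e5 : N' d = d := nf' d fun x hx => hD' x hx d hd
        have e6 : N d = d := nf d fun x hx => hD x hx d hd
        have e7 : N a = 1 := by
          have h3 : N p = N a * N b * N d := by rw [e0, map_mul, map_mul]
          rw [e1, e6, nf b fun x hx => h12 x hx b hb] at h3
          have h4 := mul_right_cancel h3
          exact (mul_eq_right.1 h4.symm)
        rw [e2, map_mul, e7, e6, one_mul]
      have e8 : ρ s z = ρ s f * N' (ρ s f) * N (ρ s f) * N' (N (ρ s f)) := by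
        rw [hz, map_mul, map_mul, map_mul, ns f hfo, ns' f hfo, ns _ fN', ns' f hfo]
      clear_value p
      rw [e8, hsf, ← nn (f * p), map_mul N' f p, map_mul N f p, map_mul N (N' f) (N' p), e3, e1, e2, e0, hz]
      calc f * (a * b * d) * (N' f * (a * d)) * (N f * (b * d)) * (N (N' f) * d) =
          f * N f * N' f * N (N' f) * (a * a) * (b * b) * (d * d) * (d * d) := by
            simp only [mul_assoc, mul_comm, mul_left_comm]
        _ = f * N f * N' f * N (N' f) := by rw [hA, hA, hA, mul_one, mul_one, mul_one, mul_one]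
    obtain ⟨a, ha, b, hb, d, hd, e0, e1, e2⟩ := key z z1 z2
    have k1 : N z = 1 := by
      rw [hz, map_mul, map_mul, map_mul, nf _ (nE f hfo), nf _ (nE _ fN')]
      rw [hA, one_mul, hA]
    have k2 : N' z = 1 := by
      have h3 : N' (N (N' f)) = N (N' f) := by
        rw [← nn, nf' _ (nE' f hfo)]
      rw [hz, map_mul, map_mul, map_mul, nf' _ (nE' f hfo), h3, ← nn]
      calc N' f * N (N' f) * N' f * N (N' f) = (N' f * N' f) * (N (N' f) * N (N' f)) := by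
            simp only [mul_assoc, mul_comm, mul_left_comm]
        _ = 1 := by rw [hA, hA, one_mul]
    rw [k1] at e1
    rw [k2] at e2
    -- `d = 1`
    have hb1 : b = 1 := by
      refine hf' b hb fun x hx => ?_
      have : b = d⁻¹ := eq_inv_of_mul_eq_one_left e1.symm
      rw [this, map_inv, hD' x hx d hd]
    have hd1 : d = 1 := by
      rw [hb1, one_mul] at e1
      exact e1.symm
    rw [hd1, mul_one] at e2
    rw [e0, hb1, hd1, ← e2, one_mul, one_mul]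
  -- the first part
  have h1 : N' f * N (N' f) ∈ V := by
    set g := N' f * N (N' f) with hg
    have g1 : ∀ t ∈ So, ρ t g = g := by
      intro t ht
      rw [hg, map_mul, fN' t ht, fNN' t ht]
    have g2 : ∀ x ∈ E', ρ x g = g := by
      intro x hx
      rw [hg, nn, map_mul, nE' f hfo x hx, nE' _ fN x hx]
    have g3 : N g = 1 := by
      rw [hg, map_mul, nf _ (nE _ fN'), hA]
    have g4 : ∀ x ∈ E, ρ x (ρ s g) = ρ s g := swp g g2
    clear_value g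
    obtain ⟨p1, p2⟩ := prod_fixed g g1
    obtain ⟨a, ha, b, hb, d, hd, e0, e1, -⟩ := key _ p1 p2
    rw [map_mul, g3, one_mul, nf _ g4] at e1
    rw [e1, mul_assoc] at e0
    rw [mul_right_cancel e0]
    exact ha
  -- the second part
  have h2 : N f * N (N' f) ∈ V' := by
    set g := N f * N (N' f) with hg
    have g1 : ∀ t ∈ So, ρ t g = g := by
      intro t ht
      rw [hg, map_mul, fN t ht, fNN' t ht]
    have g2 : ∀ x ∈ E, ρ x g = g := by
      intro x hx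
      rw [hg, map_mul, nE f hfo x hx, nE _ fN' x hx]
    have g3 : N' g = 1 := by
      have h3 : N' (N (N' f)) = N (N' f) := by
        rw [← nn, nf' _ (nE' f hfo)]
      rw [hg, map_mul, h3, ← nn, hA]
    have g4 : ∀ x ∈ E', ρ x (ρ s g) = ρ s g := swp' g g2
    clear_value g
    obtain ⟨p1, p2⟩ := prod_fixed g g1
    obtain ⟨a, ha, b, hb, d, hd, e0, -, e2⟩ := key _ p1 p2
    rw [map_mul, g3, one_mul, nf' _ g4] at e2
    rw [e2] at e0
    have e3 : a * b * d = b * (a * d) := by rw [mul_comm a b, mul_assoc]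
    rw [e3] at e0
    rw [mul_right_cancel e0]
    exact hb
  refine ⟨_, h1, _, h2, N (N' f), nE _ fN', fun x hx => by rw [nn]; exact nE' _ fN x hx, ?_⟩
  calc f = f * (f * N f * N' f * N (N' f)) := by rw [h0, mul_one]
    _ = (f * f) * (N f * N' f * N (N' f)) := by simp only [mul_assoc]
    _ = N f * N' f * N (N' f) := by rw [hA, one_mul]
    _ = N' f * N (N' f) * (N f * N (N' f)) * N (N' f) * (N (N' f) * N (N' f))⁻¹ := by
        rw [hA, inv_one, mul_one]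
        calc N f * N' f * N (N' f) = N f * N' f * N (N' f) * (N (N' f) * N (N' f)) := by rw [hA, mul_one]
          _ = _ := by simp only [mul_assoc, mul_comm, mul_left_comm]
    _ = _ := by rw [hA, inv_one, mul_one]

end main

/-! ### The same for subgroups of `G` -/

section conc

variable {G : Type u} [Group G]

theorem relIndex_sup_eq [Finite G] {X E : Subgroup G} (h : X ≤ normalizer (E : Set G)) :
    X.relIndex (E ⊔ X) = X.relIndex E := by
  have hK : E ⊔ X ≤ normalizer (E : Set G) := sup_le le_normalizer h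
  have hn : (E.subgroupOf (E ⊔ X)).Normal := normal_subgroupOf_iff_le_normalizer le_sup_left |>.2 hK
  have h1 := Lib.SylowNormalInf.relIndex_sup_of_normal (X.subgroupOf (E ⊔ X)) (E.subgroupOf (E ⊔ X))
  have h2 : X.subgroupOf (E ⊔ X) ⊔ E.subgroupOf (E ⊔ X) = ⊤ := by
    rw [← subgroupOf_sup le_sup_right le_sup_left, sup_comm X E, subgroupOf_self]
  rw [h2, relIndex_top_right, relIndex_subgroupOf le_sup_left] at h1
  exact h1

/-- **The decomposition of `C_W(So)`**, for subgroups of `G`. -/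
theorem decomp' [Finite G] {W So E U E' U' V V' D : Subgroup G} {s : G}
    (hW : ∀ a ∈ W, ∀ b ∈ W, a * b = b * a) (hA : ∀ a ∈ W, a * a = 1)
    (nE : E ≤ normalizer (W : Set G)) (nE' : E' ≤ normalizer (W : Set G)) (nSo : So ≤ normalizer (W : Set G))
    (ns : s ∈ normalizer (W : Set G))
    (hso' : ∀ t ∈ So, s⁻¹ * t * s ∈ So) (hss : s * s ∈ So)
    (hE : ∀ t ∈ So, ∀ x ∈ E, t * x * t⁻¹ ∈ E) (hU : ∀ t ∈ So, ∀ x ∈ U, t * x * t⁻¹ ∈ U)
    (hE' : ∀ t ∈ So, ∀ x ∈ E', t * x * t⁻¹ ∈ E') (hU' : ∀ t ∈ So, ∀ x ∈ U', t * x * t⁻¹ ∈ U')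
    (sE : ∀ x ∈ E, s * x * s⁻¹ ∈ E') (sE' : ∀ x ∈ E', s * x * s⁻¹ ∈ E)
    (sU : ∀ x ∈ U, s * x * s⁻¹ ∈ U') (sU' : ∀ x ∈ U', s * x * s⁻¹ ∈ U)
    (sEi : ∀ x ∈ E, s⁻¹ * x * s ∈ E') (sEi' : ∀ x ∈ E', s⁻¹ * x * s ∈ E)
    (sUi : ∀ x ∈ U, s⁻¹ * x * s ∈ U') (sUi' : ∀ x ∈ U', s⁻¹ * x * s ∈ U)
    (hUE : U ≤ E) (hUE' : U' ≤ E') (hUS : U ≤ So) (hUS' : U' ≤ So)
    (odd : Odd (U.relIndex E)) (odd' : Odd (U'.relIndex E'))
    (hc : ∀ x ∈ E, ∀ y ∈ E', ∀ a ∈ W, x * (y * a * y⁻¹) * x⁻¹ = y * (x * a * x⁻¹) * y⁻¹)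
    (hVW : V ≤ W) (hVW' : V' ≤ W) (hDW : D ≤ W)
    (hV : ∀ x ∈ E, ∀ a ∈ V, x * a * x⁻¹ ∈ V) (hV' : ∀ x ∈ E', ∀ a ∈ V', x * a * x⁻¹ ∈ V')
    (hf : ∀ a ∈ V, (∀ x ∈ E, x * a = a * x) → a = 1) (hf' : ∀ a ∈ V', (∀ x ∈ E', x * a = a * x) → a = 1)
    (h12 : ∀ x ∈ E, ∀ a ∈ V', x * a = a * x) (h21 : ∀ x ∈ E', ∀ a ∈ V, x * a = a * x)
    (hD : ∀ x ∈ E, ∀ a ∈ D, x * a = a * x) (hD' : ∀ x ∈ E', ∀ a ∈ D, x * a = a * x)
    (hZ : ∀ z ∈ W, (∀ t ∈ So, t * z = z * t) → s * z = z * s → ∃ a ∈ V, ∃ b ∈ V', ∃ d ∈ D, z = a * b * d)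
    {f : G} (hfW : f ∈ W) (hfo : ∀ t ∈ So, t * f = f * t) :
    ∃ a ∈ V, ∃ b ∈ V', ∃ d ∈ W, (∀ x ∈ E, x * d = d * x) ∧ (∀ x ∈ E', x * d = d * x) ∧ f = a * b * d := by
  set N := normalizer (W : Set G) with hN
  letI : CommGroup W := { (inferInstance : Group W) with mul_comm := fun a b => Subtype.ext (hW a a.2 b b.2) }
  have hv : ∀ (x : N) (a : W), ((W.normalizerMonoidHom x a : W) : G) = (x : G) * a * (x : G)⁻¹ := fun x a => rfl
  have hfix : ∀ (x : N) (a : W), W.normalizerMonoidHom x a = a ↔ (x : G) * a = a * x := by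
    intro x a
    rw [Subtype.ext_iff, hv]
    exact mul_inv_eq_iff_eq_mul
  have hor : ∀ {X Y : Subgroup G}, Y ≤ N → Odd (X.relIndex Y) → Odd ((X.subgroupOf N).relIndex (Y.subgroupOf N)) := by
    intro X Y hY h
    rwa [relIndex_subgroupOf hY]
  obtain ⟨a, ha, b, hb, d, hd1, hd2, hfe⟩ := decomp (A := W) (ρ := W.normalizerMonoidHom)
    (fun a => Subtype.ext (hA a a.2)) (So := So.subgroupOf N) (E := E.subgroupOf N) (U := U.subgroupOf N)
    (E' := E'.subgroupOf N) (U' := U'.subgroupOf N) (s := (⟨s, ns⟩ : N))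
    (fun t ht => hso' t ht) hss
    (fun t ht x hx => hE t ht x hx) (fun t ht x hx => hU t ht x hx)
    (fun t ht x hx => hE' t ht x hx) (fun t ht x hx => hU' t ht x hx)
    (fun x hx => sE x hx) (fun x hx => sE' x hx) (fun x hx => sU x hx) (fun x hx => sU' x hx)
    (fun x hx => sEi x hx) (fun x hx => sEi' x hx) (fun x hx => sUi x hx) (fun x hx => sUi' x hx)
    (fun x hx => hUE hx) (fun x hx => hUE' hx) (fun x hx => hUS hx) (fun x hx => hUS' hx)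
    (hor nE odd) (hor nE' odd')
    (fun x hx y hy a => Subtype.ext (hc x hx y hy a a.2))
    (V := V.subgroupOf W) (V' := V'.subgroupOf W) (D := D.subgroupOf W)
    (fun x hx a ha => hV x hx a ha) (fun x hx a ha => hV' x hx a ha)
    (fun a ha h => Subtype.ext (hf a ha fun x hx => (hfix ⟨x, nE hx⟩ a).1 (h ⟨x, nE hx⟩ hx)))
    (fun a ha h => Subtype.ext (hf' a ha fun x hx => (hfix ⟨x, nE' hx⟩ a).1 (h ⟨x, nE' hx⟩ hx)))
    (fun x hx a ha => (hfix x a).2 (h12 x hx a ha)) (fun x hx a ha => (hfix x a).2 (h21 x hx a ha))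
    (fun x hx a ha => (hfix x a).2 (hD x hx a ha)) (fun x hx a ha => (hfix x a).2 (hD' x hx a ha))
    (fun z h1 h2 => by
      obtain ⟨a, ha, b, hb, d, hd, he⟩ := hZ z z.2 (fun t ht => (hfix ⟨t, nSo ht⟩ z).1 (h1 ⟨t, nSo ht⟩ ht))
        ((hfix ⟨s, ns⟩ z).1 h2)
      exact ⟨⟨a, hVW ha⟩, ha, ⟨b, hVW' hb⟩, hb, ⟨d, hDW hd⟩, hd, Subtype.ext he⟩)
    (f := ⟨f, hfW⟩) (fun t ht => (hfix t _).2 (hfo t ht))
  exact ⟨a, ha, b, hb, d, d.2, fun x hx => (hfix ⟨x, nE hx⟩ d).1 (hd1 ⟨x, nE hx⟩ hx),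
    fun x hx => (hfix ⟨x, nE' hx⟩ d).1 (hd2 ⟨x, nE' hx⟩ hx), congrArg Subtype.val hfe⟩

end conc

end Cfsg.Agent.Omega.IId.Cv.XNorm
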