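import Cfsg.Agent.Omega.IId.Cv.Half
import Cfsg.Agent.Omega.IId.Cv.XNorm

/-!
# II.d, `V_P = V × D`, two blocks: `Ω₁(Z(S₁)) = C_{V_1}(S₁) × C_{V_2}(S₁) × D_T` (helper994, (0) of CASE 2)

`M : NatD F S P V D k`, `hB : Blk M B`, `V_1 = part M B`, `V_2 = part M Bᶜ`, `S₁ = stb M B = N_S(V_1)`,
`E_1 = grp M B`, `E_2 = grp M Bᶜ`.

* `DT M B` : the elements of `Ω₁(Z(S₁))` centralised by `E_1` and `E_2`;
* `zc_stb` : every `f ∈ Ω₁(Z(S₁))` is `a b d` with `a ∈ V_1`, `b ∈ V_2`, `a b ∈ Ω₁(Z(S₁))`, `d ∈ D_T`;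
* `zc_stb'`: every `f ∈ Ω₁(Z(S₁))` is `a c` with `a ∈ V_1`, `c ∈ Ω₁(Z(S₁))` centralised by `E_1`;
* `D_le_DT`, `mem_D_of_comm` : `D = C_{D_T}(s)`.
-/

set_option autoImplicit false
set_option linter.unusedSectionVars false

namespace Cfsg.Agent.Omega.IId.NV.XZ

open Subgroup Cfsg Cfsg.Agent.ZN Cfsg.Agent.ZN.ChoiceBase
open Cfsg.Agent.Omega.MinPar Cfsg.Agent.Omega.FFThm
open Cfsg.Agent.Lib.SL2Mat
open Cfsg.Agent.MinSimple.VModule (zc_le zc_comm zc_sq zc_le_zl le_normalizer_o2 o2_isPGroup o2_le)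
open Cfsg.Agent.MinSimple

universe u

section parts

variable {G : Type u} [Group G] {F : Type} [Field F] {S P V : Subgroup G} {k : ℕ}
  (N : NatV F S P V k)

include N in
/-- `C_{part B}(grp B) = 1` -/
theorem part_eq_one {B : Set (Fin k)} {a : G} (ha : a ∈ part N B) (h : ∀ x ∈ grp N B, x * a = a * x) : a = 1 := by
  refine (e_eq_zero N ha.1).1 (funext fun i => ?_)
  by_cases hi : i ∈ B
  · obtain ⟨c, hc, h1, h2⟩ := exists_component N ha.1 i
    have h3 : c ∈ fac N i ⊓ centralizer (grp N {i} : Set G) := by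
      refine mem_inf.2 ⟨hc, mem_centralizer_iff.2 fun g hg => ?_⟩
      have h4 := h g (grp_mono N (Set.singleton_subset_iff.2 hi) hg)
      have h5 := grp_comm N (Set.disjoint_compl_right_iff_subset.2 le_rfl) hg h2
      have e : c = a * (c⁻¹ * a)⁻¹ := by group
      calc g * c = (g * a) * (c⁻¹ * a)⁻¹ := by rw [mul_assoc, ← e]
        _ = a * (g * (c⁻¹ * a)⁻¹) := by rw [h4, mul_assoc]
        _ = a * ((c⁻¹ * a)⁻¹ * g) := by
            congr 1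
            rw [eq_comm, inv_mul_eq_iff_eq_mul, ← mul_assoc, ← h5, mul_inv_cancel_right]
        _ = c * g := by rw [← mul_assoc, ← e]
    rw [fac_inf_centralizer, mem_bot] at h3
    rw [h3, e_one] at h1
    rw [← h1]
  · exact ha.2 i hi

end parts

section natD

variable {G : Type u} [Group G] [Finite G] {F : Type} [Field F] {S : Sylow 2 G} {P V D : Subgroup G} {k : ℕ}
  (M : NatD F S P V D k) {B : Set (Fin k)}

include M in
/-- `grp M B` and `grp M Bᶜ` commute on `Ω₁(Z(O₂(P)))` -/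
theorem grp_comm_zz {x y z : G} (hx : x ∈ grp M.toNatV B) (hyB : y ∈ grp M.toNatV Bᶜ) (hz : z ∈ zc (o2 P)) :
    x * (y * z * y⁻¹) * x⁻¹ = y * (x * z * x⁻¹) * y⁻¹ := by
  have hxP : x ∈ P := grp_le _ _ hx
  have hyP : y ∈ P := grp_le _ _ hyB
  have hdj : Disjoint B Bᶜ := disjoint_compl_right
  have hxb : ∀ b ∈ part M.toNatV Bᶜ, x * b = b * x := fun b hb => grp_comm M.toNatV hdj hx hb
  have hya : ∀ a ∈ part M.toNatV B, y * a = a * y := fun a ha => grp_comm M.toNatV hdj.symm hyB ha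
  have hc : (y * x)⁻¹ * (x * y) ∈ P := mul_mem (inv_mem (mul_mem hyP hxP)) (mul_mem hxP hyP)
  have hcV : ∀ v ∈ V, (y * x)⁻¹ * (x * y) * v = v * ((y * x)⁻¹ * (x * y)) := by
    intro v hv
    obtain ⟨a, ha, b, hb, rfl⟩ := exists_comp M.toNatV hv B
    have hxa : x * a * x⁻¹ ∈ part M.toNatV B := (mem_normalizer_iff.1 (grp_normalizes _ B B hx) a).1 ha
    have hyb' : y * b * y⁻¹ ∈ part M.toNatV Bᶜ := (mem_normalizer_iff.1 (grp_normalizes _ Bᶜ Bᶜ hyB) b).1 hb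
    have e1 : x * y * (a * b) * (x * y)⁻¹ = (x * a * x⁻¹) * (y * b * y⁻¹) := by
      calc x * y * (a * b) * (x * y)⁻¹ = x * ((y * a) * b) * y⁻¹ * x⁻¹ := by group
        _ = (x * a * x⁻¹) * (x * (y * b * y⁻¹)) * x⁻¹ := by rw [hya a ha]; group
        _ = (x * a * x⁻¹) * (y * b * y⁻¹) := by rw [hxb _ hyb']; group
    have e2 : y * x * (a * b) * (y * x)⁻¹ = (x * a * x⁻¹) * (y * b * y⁻¹) := by
      calc y * x * (a * b) * (y * x)⁻¹ = y * (x * a * x⁻¹) * (x * b) * x⁻¹ * y⁻¹ := by group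
        _ = (y * (x * a * x⁻¹)) * b * y⁻¹ := by rw [hxb b hb]; group
        _ = (x * a * x⁻¹) * (y * b * y⁻¹) := by rw [hya _ hxa]; group
    have e3 : x * y * (a * b) * (x * y)⁻¹ = y * x * (a * b) * (y * x)⁻¹ := e1.trans e2.symm
    calc (y * x)⁻¹ * (x * y) * (a * b) = (y * x)⁻¹ * (x * y * (a * b) * (x * y)⁻¹) * (x * y) := by group
      _ = (y * x)⁻¹ * (y * x * (a * b) * (y * x)⁻¹) * (x * y) := by rw [e3]
      _ = a * b * ((y * x)⁻¹ * (x * y)) := by group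
  have h1 := comm_zz M hc hcV hz
  calc x * (y * z * y⁻¹) * x⁻¹ = (y * x) * ((y * x)⁻¹ * (x * y) * z) * (x * y)⁻¹ := by group
    _ = (y * x) * (z * ((y * x)⁻¹ * (x * y))) * (x * y)⁻¹ := by rw [h1]
    _ = y * (x * z * x⁻¹) * y⁻¹ := by group

/-- the elements of `Ω₁(Z(S₁))` centralised by `E_1` and `E_2` -/
def DT (B : Set (Fin k)) : Subgroup G :=
  zc (stb M.toNatV B) ⊓ (centralizer (grp M.toNatV B : Set G) ⊓ centralizer (grp M.toNatV Bᶜ : Set G))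

variable {M}

theorem mem_DT {d : G} : d ∈ DT M B ↔ d ∈ zc (stb M.toNatV B) ∧ (∀ x ∈ grp M.toNatV B, x * d = d * x) ∧
    ∀ x ∈ grp M.toNatV Bᶜ, x * d = d * x := by
  rw [DT, mem_inf, mem_inf, mem_centralizer_iff, mem_centralizer_iff]
  rfl

include M in
/-- the component in `part M B` -/
theorem part_uniq {a a' c c' : G} (ha : a ∈ part M.toNatV B) (ha' : a' ∈ part M.toNatV B)
    (hc : ∀ x ∈ grp M.toNatV B, x * c = c * x) (hc' : ∀ x ∈ grp M.toNatV B, x * c' = c' * x)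
    (h : a * c = a' * c') : a = a' := by
  have h1 : a'⁻¹ * a = c' * c⁻¹ := by
    rw [eq_mul_inv_iff_mul_eq, mul_assoc, h, inv_mul_cancel_left]
  have h2 : a'⁻¹ * a = 1 := by
    refine part_eq_one M.toNatV (mul_mem (inv_mem ha') ha) fun x hx => ?_
    rw [h1]
    calc x * (c' * c⁻¹) = c' * (x * c⁻¹) := by rw [← mul_assoc, hc' x hx, mul_assoc]
      _ = c' * (c⁻¹ * x) := by
          congr 1
          rw [eq_comm, inv_mul_eq_iff_eq_mul, ← mul_assoc, ← hc x hx, mul_inv_cancel_right]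
      _ = c' * c⁻¹ * x := by rw [mul_assoc]
  exact (inv_mul_eq_one.1 h2).symm

section main

variable (hB : Blk M.toNatV B)

include hB

/-- an element of `Ω₁(Z(O₂(P)))` centralised by `stb M B` -/
theorem mem_zc_stb {z : G} (hz : z ∈ zc (o2 P)) (h : ∀ t ∈ stb M.toNatV B, t * z = z * t) :
    z ∈ zc (stb M.toNatV B) :=
  VModule.mem_zc.2 ⟨o2_le_stb M (zc_le _ hz), h, (VModule.mem_zc.1 hz).2.2⟩

theorem stb_conj_grp {t x : G} (ht : t ∈ stb M.toNatV B) (hx : x ∈ grp M.toNatV B) :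
    t * x * t⁻¹ ∈ grp M.toNatV B :=
  (mem_normalizer_iff.1 (normalizer_grp M.toNatV (SP M (stb_le _ _ ht)) ht.2) x).1 hx

/-- `stb M B ∩ grp M B` has odd index in `grp M B` -/
theorem odd_stb_inf : Odd ((stb M.toNatV B ⊓ grp M.toNatV B).relIndex (grp M.toNatV B)) := by
  rw [inf_relIndex_right, ← XNorm_relIndex hB, ← Nat.not_even_iff_odd, even_iff_two_dvd]
  exact not_dvd_sup hB
where
  XNorm_relIndex {G : Type u} [Group G] [Finite G] {F : Type} [Field F] {S : Sylow 2 G} {P V D : Subgroup G}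
    {k : ℕ} {M : NatD F S P V D k} {B : Set (Fin k)} (hB : Blk M.toNatV B) :
    (stb M.toNatV B).relIndex (grp M.toNatV B ⊔ stb M.toNatV B) = (stb M.toNatV B).relIndex (grp M.toNatV B) :=
    Cv.XNorm.relIndex_sup_eq fun t ht => normalizer_grp M.toNatV (SP M (stb_le _ _ ht)) ht.2

/-- **(0)**: `Ω₁(Z(S₁)) = C_{V_1}(S₁) × C_{V_2}(S₁) × D_T` -/
theorem zc_stb {f : G} (hf : f ∈ zc (stb M.toNatV B)) :
    ∃ a ∈ part M.toNatV B, ∃ b ∈ part M.toNatV Bᶜ, ∃ d ∈ DT M B,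
      a ∈ zc (stb M.toNatV B) ∧ b ∈ zc (stb M.toNatV B) ∧ f = a * b * d := by
  obtain ⟨s, hs, hs1⟩ := hB.exists_swap
  have hsi1 : s⁻¹ ∉ stb M.toNatV B := fun h => hs1 (inv_mem_iff.1 h)
  have hsP : s ∈ P := SP M hs
  have hcomm := zc_comm (o2 P)
  have hfz : f ∈ zc (o2 P) := zc_stb_le M hf
  have hVz := V_le_zz M
  have hDz : D ≤ zc (o2 P) := M.D_le.trans (zl_le_zz M)
  have hdj : Disjoint B Bᶜ := disjoint_compl_right
  have hstP : stb M.toNatV B ≤ P := (stb_le _ _).trans (SP M)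
  have hnst : ∀ t ∈ stb M.toNatV B, t ∈ stb M.toNatV Bᶜ := fun t ht => by rwa [hB.stb_compl]
  have hstc : ∀ t ∈ stb M.toNatV B, ∀ x ∈ stb M.toNatV B, t * x * t⁻¹ ∈ stb M.toNatV B := fun t ht x hx =>
    (stb M.toNatV B).mul_mem ((stb M.toNatV B).mul_mem ht hx) ((stb M.toNatV B).inv_mem ht)
  -- conjugation of the groups
  have hgrp : ∀ {s : G}, s ∈ (S : Subgroup G) → s ∉ stb M.toNatV B → ∀ x ∈ grp M.toNatV B,
      s * x * s⁻¹ ∈ grp M.toNatV Bᶜ := by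
    intro s hs hs1 x hx
    have h1 : cj s (grp M.toNatV B) = grp M.toNatV Bᶜ := by
      rw [conj_grp M.toNatV (SP M hs), (hB.not_mem hs).1 hs1]
    rw [← h1, mem_cj]
    have e : s⁻¹ * (s * x * s⁻¹) * s = x := by group
    rwa [e]
  have hgrp' : ∀ {s : G}, s ∈ (S : Subgroup G) → s ∉ stb M.toNatV B → ∀ x ∈ grp M.toNatV Bᶜ,
      s * x * s⁻¹ ∈ grp M.toNatV B := by
    intro s hs hs1 x hx
    have h0 : s ∉ stb M.toNatV Bᶜ := by rwa [hB.stb_compl]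
    have h1 : cj s (grp M.toNatV Bᶜ) = grp M.toNatV B := by
      rw [conj_grp M.toNatV (SP M hs), (hB.compl.not_mem hs).1 h0, compl_compl]
    rw [← h1, mem_cj]
    have e : s⁻¹ * (s * x * s⁻¹) * s = x := by group
    rwa [e]
  have inv2 : ∀ {X : Subgroup G} {x : G}, s⁻¹ * x * s⁻¹⁻¹ ∈ X → s⁻¹ * x * s ∈ X := by
    intro X x h
    rwa [inv_inv] at h
  have odd2 : Odd ((stb M.toNatV B ⊓ grp M.toNatV Bᶜ).relIndex (grp M.toNatV Bᶜ)) := by
    have := odd_stb_inf hB.compl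
    rwa [hB.stb_compl] at this
  obtain ⟨a, ha, b, hb, d, hd, h1, h2, he⟩ := Cv.XNorm.decomp' (W := zc (o2 P)) (So := stb M.toNatV B)
    (E := grp M.toNatV B) (U := stb M.toNatV B ⊓ grp M.toNatV B)
    (E' := grp M.toNatV Bᶜ) (U' := stb M.toNatV B ⊓ grp M.toNatV Bᶜ)
    (V := part M.toNatV B) (V' := part M.toNatV Bᶜ) (D := D) (s := s)
    hcomm (fun a ha => mul_self_zc ha)
    ((grp_le _ _).trans (zz_nor P)) ((grp_le _ _).trans (zz_nor P)) (hstP.trans (zz_nor P)) (zz_nor P hsP)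
    (fun t ht => inv2 (stb_conj hB (inv_mem hs) ht)) (mul_self_stb hB hs hs1)
    (fun t ht x hx => stb_conj_grp hB ht hx)
    (fun t ht x hx => ⟨hstc t ht x hx.1, stb_conj_grp hB ht hx.2⟩)
    (fun t ht x hx => stb_conj_grp hB.compl (hnst t ht) hx)
    (fun t ht x hx => ⟨hstc t ht x hx.1, stb_conj_grp hB.compl (hnst t ht) hx.2⟩)
    (fun x hx => hgrp hs hs1 x hx) (fun x hx => hgrp' hs hs1 x hx)
    (fun x hx => ⟨stb_conj hB hs hx.1, hgrp hs hs1 x hx.2⟩)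
    (fun x hx => ⟨stb_conj hB hs hx.1, hgrp' hs hs1 x hx.2⟩)
    (fun x hx => inv2 (hgrp (inv_mem hs) hsi1 x hx)) (fun x hx => inv2 (hgrp' (inv_mem hs) hsi1 x hx))
    (fun x hx => ⟨inv2 (stb_conj hB (inv_mem hs) hx.1), inv2 (hgrp (inv_mem hs) hsi1 x hx.2)⟩)
    (fun x hx => ⟨inv2 (stb_conj hB (inv_mem hs) hx.1), inv2 (hgrp' (inv_mem hs) hsi1 x hx.2)⟩)
    inf_le_right inf_le_right inf_le_left inf_le_left (odd_stb_inf hB) odd2
    (fun x hx y hy a ha => grp_comm_zz M hx hy ha)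
    ((part_le _ _).trans hVz) ((part_le _ _).trans hVz) hDz
    (fun x hx a ha => (mem_normalizer_iff.1 (grp_normalizes _ B B hx) a).1 ha)
    (fun x hx a ha => (mem_normalizer_iff.1 (grp_normalizes _ Bᶜ Bᶜ hx) a).1 ha)
    (fun a ha h => part_eq_one M.toNatV ha h) (fun a ha h => part_eq_one M.toNatV ha h)
    (fun x hx a ha => grp_comm M.toNatV hdj hx ha) (fun x hx a ha => grp_comm M.toNatV hdj.symm hx ha)
    (fun x hx d hd => (mem_centralizer_iff.1 (M.cD (grp_le _ _ hx)) d hd).symm)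
    (fun x hx d hd => (mem_centralizer_iff.1 (M.cD (grp_le _ _ hx)) d hd).symm)
    (fun z hz h1 h2 => by
      have h3 := mem_zc_of_comm hB hs hs1 (mem_zc_stb hB hz h1) (mul_inv_eq_iff_eq_mul.2 h2)
      exact split_eq hB (zc_le_zl _ P h3))
    hfz (fun t ht => (VModule.mem_zc.1 hf).2.1 t ht)
  -- the components are centralised by `stb M B`
  have hnorm : ∀ t ∈ stb M.toNatV B, ∀ x, (∀ y ∈ grp M.toNatV B, y * x = x * y) →
      ∀ y ∈ grp M.toNatV B, y * (t * x * t⁻¹) = t * x * t⁻¹ * y := by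
    intro t ht x hx y hy
    have h3 := stb_conj_grp hB (inv_mem ht) hy
    have h4 := hx _ h3
    rw [inv_inv] at h4
    calc y * (t * x * t⁻¹) = t * (t⁻¹ * y * t * x) * t⁻¹ := by group
      _ = t * x * t⁻¹ * y := by rw [h4]; group
  have hnorm' : ∀ t ∈ stb M.toNatV B, ∀ x, (∀ y ∈ grp M.toNatV Bᶜ, y * x = x * y) →
      ∀ y ∈ grp M.toNatV Bᶜ, y * (t * x * t⁻¹) = t * x * t⁻¹ * y := by
    intro t ht x hx y hy
    have h3 := stb_conj_grp hB.compl (inv_mem (hnst t ht)) hy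
    have h4 := hx _ h3
    rw [inv_inv] at h4
    calc y * (t * x * t⁻¹) = t * (t⁻¹ * y * t * x) * t⁻¹ := by group
      _ = t * x * t⁻¹ * y := by rw [h4]; group
  have hmulc : ∀ {x y : G}, (∀ g ∈ grp M.toNatV B, g * x = x * g) → (∀ g ∈ grp M.toNatV B, g * y = y * g) →
      ∀ g ∈ grp M.toNatV B, g * (x * y) = x * y * g := by
    intro x y hx hy g hg
    rw [← mul_assoc, hx g hg, mul_assoc, hy g hg, mul_assoc]
  have hmulc' : ∀ {x y : G}, (∀ g ∈ grp M.toNatV Bᶜ, g * x = x * g) → (∀ g ∈ grp M.toNatV Bᶜ, g * y = y * g) →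
      ∀ g ∈ grp M.toNatV Bᶜ, g * (x * y) = x * y * g := by
    intro x y hx hy g hg
    rw [← mul_assoc, hx g hg, mul_assoc, hy g hg, mul_assoc]
  have hbg : ∀ b ∈ part M.toNatV Bᶜ, ∀ g ∈ grp M.toNatV B, g * b = b * g := fun b hb g hg =>
    grp_comm M.toNatV hdj hg hb
  have hag : ∀ b ∈ part M.toNatV B, ∀ g ∈ grp M.toNatV Bᶜ, g * b = b * g := fun b hb g hg =>
    grp_comm M.toNatV hdj.symm hg hb
  have hta : ∀ t ∈ stb M.toNatV B, t * a * t⁻¹ = a ∧ t * b * t⁻¹ = b ∧ t * d * t⁻¹ = d := by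
    intro t ht
    have hft : t * f * t⁻¹ = f := mul_inv_eq_iff_eq_mul.2 ((VModule.mem_zc.1 hf).2.1 t ht)
    have ha' : t * a * t⁻¹ ∈ part M.toNatV B := (mem_normalizer_iff.1 ht.2 a).1 ha
    have hb' : t * b * t⁻¹ ∈ part M.toNatV Bᶜ := (mem_normalizer_iff.1 (hnst t ht).2 b).1 hb
    have hd' : t * d * t⁻¹ ∈ zc (o2 P) := zz_mem (hstP ht) hd
    have e0 : t * f * t⁻¹ = (t * a * t⁻¹) * ((t * b * t⁻¹) * (t * d * t⁻¹)) := by
      rw [he]; group
    have e1 : (t * a * t⁻¹) * ((t * b * t⁻¹) * (t * d * t⁻¹)) = a * (b * d) := by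
      rw [← e0, hft, he, mul_assoc]
    have k1 := part_uniq ha' ha (hmulc (hbg _ hb') (hnorm t ht d h1)) (hmulc (hbg _ hb) h1) e1
    have e2 : (t * b * t⁻¹) * ((t * a * t⁻¹) * (t * d * t⁻¹)) = b * (a * d) := by
      rw [← mul_assoc, hcomm _ (hVz hb'.1) _ (hVz ha'.1), mul_assoc, e1, ← mul_assoc, ← mul_assoc,
        hcomm _ (hVz ha.1) _ (hVz hb.1)]
    have k2 := part_uniq (B := Bᶜ) hb' hb (hmulc' (hag _ ha') (hnorm' t ht d h2)) (hmulc' (hag _ ha) h2) e2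
    refine ⟨k1, k2, ?_⟩
    rw [k1, k2] at e1
    exact mul_left_cancel (mul_left_cancel e1)
  refine ⟨a, ha, b, hb, d, mem_DT.2 ⟨?_, h1, h2⟩, ?_, ?_, he⟩
  · exact mem_zc_stb hB hd fun t ht => mul_inv_eq_iff_eq_mul.1 (hta t ht).2.2
  · exact mem_zc_stb hB (hVz ha.1) fun t ht => mul_inv_eq_iff_eq_mul.1 (hta t ht).1
  · exact mem_zc_stb hB (hVz hb.1) fun t ht => mul_inv_eq_iff_eq_mul.1 (hta t ht).2.1

/-- every `f ∈ Ω₁(Z(S₁))` is `a c` with `a ∈ C_{V_1}(S₁)`, `c ∈ C(E_1 S₁)` -/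
theorem zc_stb' {f : G} (hf : f ∈ zc (stb M.toNatV B)) :
    ∃ a ∈ part M.toNatV B, ∃ c ∈ zc (stb M.toNatV B), a ∈ zc (stb M.toNatV B) ∧
      (∀ x ∈ grp M.toNatV B ⊔ stb M.toNatV B, x * c = c * x) ∧ f = a * c := by
  obtain ⟨a, ha, b, hb, d, hd, h1, h2, he⟩ := zc_stb hB hf
  obtain ⟨hd1, hd2, hd3⟩ := mem_DT.1 hd
  have hbd : b * d ∈ zc (stb M.toNatV B) := mul_mem h2 hd1
  refine ⟨a, ha, b * d, hbd, h1, ?_, by rw [he, mul_assoc]⟩
  have h3 : grp M.toNatV B ⊔ stb M.toNatV B ≤ centralizer ({b * d} : Set G) := by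
    refine sup_le (fun x hx => mem_centralizer_singleton_iff.2 ?_) fun x hx =>
      mem_centralizer_singleton_iff.2 ((VModule.mem_zc.1 hbd).2.1 x hx)
    rw [← mul_assoc, grp_comm M.toNatV disjoint_compl_right hx hb, mul_assoc, hd2 x hx, mul_assoc]
  exact fun x hx => mem_centralizer_singleton_iff.1 (h3 hx)

/-- `D ≤ D_T` -/
theorem D_le_DT : D ≤ DT M B := by
  intro d hd
  have hdz : d ∈ zc (o2 P) := zl_le_zz M (M.D_le hd)
  have hc : ∀ x ∈ P, x * d = d * x := fun x hx => (mem_centralizer_iff.1 (M.cD hx) d hd).symm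
  exact mem_DT.2 ⟨mem_zc_stb hB hdz fun t ht => hc t (SP M (stb_le _ _ ht)), fun x hx => hc x (grp_le _ _ hx),
    fun x hx => hc x (grp_le _ _ hx)⟩

/-- `C_{D_T}(s) ≤ D` -/
theorem mem_D_of_comm {d s : G} (hd : d ∈ DT M B) (hs : s ∈ (S : Subgroup G)) (hs1 : s ∉ stb M.toNatV B)
    (h : s * d = d * s) : d ∈ D := by
  obtain ⟨hd1, hd2, hd3⟩ := mem_DT.1 hd
  have h1 := mem_zc_of_comm hB hs hs1 hd1 (mul_inv_eq_iff_eq_mul.2 h)
  obtain ⟨a, ha, b, hb, c, hc, he⟩ := split_eq hB (zc_le_zl _ P h1)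
  have hcc : ∀ x ∈ P, x * c = c * x := fun x hx => (mem_centralizer_iff.1 (M.cD hx) c hc).symm
  have hdj : Disjoint B Bᶜ := disjoint_compl_right
  have hcomm := zc_comm (o2 P)
  have hVz := V_le_zz M
  have k1 : a = 1 := by
    refine part_uniq (M := M) (B := B) ha (one_mem _) (c := b * c) (c' := d) (fun x hx => ?_) hd2 ?_
    · rw [← mul_assoc, grp_comm M.toNatV hdj hx hb, mul_assoc, hcc x (grp_le _ _ hx), mul_assoc]
    · rw [one_mul, he, mul_assoc]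
  have k2 : b = 1 := by
    refine part_uniq (M := M) (B := Bᶜ) hb (one_mem _) (c := c) (c' := d) (fun x hx => hcc x (grp_le _ _ hx)) hd3 ?_
    rw [one_mul, he, k1, one_mul]
  rw [he, k1, k2, one_mul, one_mul]
  exact hc

end main

end natD

end Cfsg.Agent.Omega.IId.NV.XZ
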