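import Cfsg.Agent.Omega.IId.Cv.MixPlug
import Cfsg.Agent.Omega.IId.Cv.KillEnd
import Cfsg.Agent.Omega.IId.Cv.XZero
import Cfsg.Agent.Omega.BTwo.Avg

/-!
# WrCv, mixed partners, CASE 2, `q ≥ 4`: the two sides (helper330, bb OMEGA #18683, #18786)

* `mixedQ_of` : `MixedQ` from `LineD`;
* `zc_dec` : `Ω₁(Z(stab M i)) ≤ line M i × C(grp M {i})`;
* `exists_transfer` : **LEMMA X**: an element of `Ω₁(Z(T₁)) ∩ C(grp M {i})` is conjugate in `N_G(R)` to one of
  `Ω₁(Z(T₁')) ∩ C(grp M' {i'})`;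
* `exists_norm4` : `fac M i` and `line M i` are normalised by a Sylow 2-subgroup of `G`.
-/

set_option autoImplicit false
set_option linter.unusedSectionVars false

namespace Cfsg.Agent.Omega.IId.NV

open Subgroup Cfsg Cfsg.Agent.Lib.SL2Mat Cfsg.Agent.MinSimple
open Cfsg.Agent.ZN (o2 zc zl)
open Cfsg.Agent.Omega.BTwo (cj mem_cj cj_mono cj_eq_self_iff conj_mem_cj QQ card_cj)
open Cfsg.Agent.Omega.Mix (RMod LL LL_conj V_le_LL char2_normalizer pt Pt)
open Cfsg.Agent.Omega.IId.M4 (toRMod toRMod_line nmG exists_cj_eq LL_comm mem_nmG)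
open Cfsg.Agent.Omega.IId.FourSide (vec_ne)
open Cfsg.Agent.Omega.IId.Cv (LineD UnM)
open Cfsg.Agent.Omega.IId.MQ (MixedQ Kill)

universe u

variable {G : Type u} [Group G] [Finite G] {F F' : Type} [Field F] [Finite F] [CharP F 2] [Field F'] [Finite F']
  [CharP F' 2] {S S' : Sylow 2 G} {P V D P' V' D' : Subgroup G} {k k' : ℕ}

/-- `MixedQ` from `LineD` -/
theorem mixedQ_of {M : NatD F S P V D k} {M' : NatD F' S' P' V' D' k'} (hk : k = 1 ∨ k = 2) (hk' : k' = 1 ∨ k' = 2)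
    {i : Fin k} {i' : Fin k'} (hl : line M.toNatV i = line M'.toNatV i')
    (hne : ∃ v ∈ fac M.toNatV i, ∃ w ∈ fac M'.toNatV i', v * w ≠ w * v) (hu : ¬ UnM M i) (hu' : ¬ UnM M' i') :
    MixedQ (toRMod (pre M.toNatV i)) (toRMod (pre M'.toNatV i')) (line M.toNatV i) where
  line₁ := ⟨![1, 0], vec_ne, by rw [toRMod_line, pre_line]⟩
  line₂ := ⟨![1, 0], vec_ne, by rw [toRMod_line, pre_line]; exact hl⟩
  QN₁ := (o2_line_le' M hk i).trans (stab_le_nmG (SP M) M.toNatV i)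
  QN₂ := by
    rw [hl]
    exact (o2_line_le' M' hk' i').trans (stab_le_nmG (SP M') M'.toNatV i')
  char := fun K hK hK1 => char2_normalizer M.hG hK hK1
  comm₁ := LL_comm (comm_of_not_unM hu)
  comm₂ := by
    rw [hl]
    exact LL_comm (comm_of_not_unM hu')
  ne := by
    obtain ⟨v, hv, w, hw, hvw⟩ := hne
    exact ⟨v, V_le_LL _ _ hv, w, V_le_LL _ _ hw, hvw⟩

section side

variable (M : NatD F S P V D k)

/-- an element of the line centralised by the stabilizer of the line in `grp M {i}` is `1` for `|F| ≥ 3` -/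
theorem line_eq_one (q4 : 4 ≤ Nat.card F) {i : Fin k} {r : G} (hr : r ∈ line M.toNatV i)
    (h : ∀ g ∈ grp M.toNatV {i}, g ∈ normalizer (line M.toNatV i : Set G) → g * r = r * g) : r = 1 := by
  by_contra hr1
  obtain ⟨w, hw, hw1, hwr⟩ : ∃ w ∈ line M.toNatV i, w ≠ 1 ∧ w ≠ r := by
    by_contra hcon
    push Not at hcon
    have h1 : Nat.card (line M.toNatV i) ≤ 2 := by
      have h2 : (line M.toNatV i : Set G) ⊆ {1, r} := by
        intro y hy
        by_cases hy1 : y = 1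
        · left; exact hy1
        · right; exact hcon y hy hy1
      have h3 : Set.ncard (line M.toNatV i : Set G) ≤ Set.ncard ({1, r} : Set G) :=
        Set.ncard_le_ncard h2 (Set.toFinite _)
      have h4 : Set.ncard ({1, r} : Set G) ≤ 2 := (Set.ncard_insert_le _ _).trans (by rw [Set.ncard_singleton])
      exact h3.trans h4
    rw [card_line] at h1
    omega
  obtain ⟨g, hg, hgn, hgr⟩ := exists_tor M.toNatV hr hw hr1 hw1
  apply hwr
  rw [← hgr, h g hg hgn, mul_inv_cancel_right]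

/-- `Ω₁(Z(stab M i)) ≤ line M i × C(grp M {i})`, `k = 1, 2` -/
theorem zc_dec (hk : k = 1 ∨ k = 2) {i : Fin k} {f : G} (hf : f ∈ zc (stab M.toNatV i)) :
    ∃ u ∈ line M.toNatV i, ∃ z, f = u * z ∧ (∀ g ∈ grp M.toNatV {i}, g * z = z * g) := by
  rcases hk with rfl | rfl
  · rw [stab_one M i] at hf
    obtain ⟨n, hn, d, hd, rfl⟩ := M.dec f (VModule.zc_le_zl _ _ hf)
    have hn' : n ∈ fac M.toNatV i := by rw [fac_one M i]; exact hn
    have hdS : ∀ t ∈ (S : Subgroup G), t * d = d * t := fun t ht => (mem_centralizer_iff.1 (M.cD (SP M ht)) d hd).symm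
    refine ⟨n, fix_le_line M.toNatV (SP M) hn' fun t ht => ?_, d, rfl, fun g hg =>
      (mem_centralizer_iff.1 (M.cD (grp_le _ _ hg)) d hd).symm⟩
    have h1 := (VModule.mem_zc.1 hf).2.1 t (stab_le _ _ ht)
    have h2 := hdS t (stab_le _ _ ht)
    have h3 : t * n * d = n * t * d := by
      calc t * n * d = t * (n * d) := by group
        _ = n * (d * t) := by rw [h1]; group
        _ = n * t * d := by rw [← h2]; group
    exact mul_right_cancel h3
  · obtain ⟨a, ha, c, hc, haz, hcc, rfl⟩ := XZ.zc_stb' (M := M) (blk_two M i) hf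
    exact ⟨a, fix_le_line M.toNatV (SP M) ha fun t ht => (VModule.mem_zc.1 haz).2.1 t ht, c, rfl, fun g hg =>
      hcc g (mem_sup_left hg)⟩

end side

theorem mem_zc_conj {T T' : Subgroup G} {h x : G} (hT : cj h T = T') (hx : x ∈ zc T) : h * x * h⁻¹ ∈ zc T' := by
  subst hT
  obtain ⟨h1, h2, h3⟩ := VModule.mem_zc.1 hx
  refine VModule.mem_zc.2 ⟨conj_mem_cj h1, fun y hy => ?_, ?_⟩
  · have h4 := h2 _ (mem_cj.1 hy)
    calc y * (h * x * h⁻¹) = h * (h⁻¹ * y * h * x) * h⁻¹ := by group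
      _ = h * (x * (h⁻¹ * y * h)) * h⁻¹ := by rw [h4]
      _ = _ := by group
  · calc (h * x * h⁻¹) ^ 2 = h * x ^ 2 * h⁻¹ := by rw [pow_two, pow_two]; group
      _ = 1 := by rw [h3]; group

/-- an element of `Ω₁(Z(T₁))`, `T₁` a Sylow 2-subgroup of `G` in `N_G(R)`, is in `Ω₁(Z(T))` if
`O₂(N_G(R)) ≤ T ≤ T₁`. -/
theorem mem_zc_stab {M : NatD F S P V D k} {T₁ : Sylow 2 G} (hk : k = 1 ∨ k = 2) {i : Fin k}
    (hT₁ : (T₁ : Subgroup G) ≤ normalizer (line M.toNatV i : Set G)) (hle : stab M.toNatV i ≤ T₁) {x : G}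
    (hx : x ∈ zc (T₁ : Subgroup G)) : x ∈ zc (stab M.toNatV i) := by
  obtain ⟨h1, h2, h3⟩ := VModule.mem_zc.1 hx
  refine VModule.mem_zc.2 ⟨o2_line_le' M hk i (char2_line' M i ⟨hT₁ h1, ?_⟩), fun t ht => h2 t (hle ht), h3⟩
  exact mem_centralizer_iff.2 fun y hy => h2 y (hle (o2_line_le' M hk i hy))

/-- **LEMMA X** -/
theorem exists_transfer {M : NatD F S P V D k} {M' : NatD F' S' P' V' D' k'} (hk' : k' = 1 ∨ k' = 2)
    {i : Fin k} {i' : Fin k'} (hl : line M.toNatV i = line M'.toNatV i') (q4 : 4 ≤ Nat.card F)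
    (q4' : 4 ≤ Nat.card F') {T₁ : Sylow 2 G} (hT₁ : (T₁ : Subgroup G) ≤ normalizer (line M.toNatV i : Set G))
    {x : G} (hx : x ∈ zc (T₁ : Subgroup G)) (hx1 : x ≠ 1) (hxg : ∀ g ∈ grp M.toNatV {i}, g * x = x * g)
    {T₂ : Sylow 2 G} (hT₂ : (T₂ : Subgroup G) ≤ normalizer (line M'.toNatV i' : Set G))
    (hle : stab M'.toNatV i' ≤ T₂) :
    ∃ y ∈ zc (T₂ : Subgroup G), y ≠ 1 ∧ ∀ g ∈ grp M'.toNatV {i'}, g * y = y * g := by
  have hfact : Fact (Nat.Prime 2) := ⟨Nat.prime_two⟩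
  have hT₂' : (T₂ : Subgroup G) ≤ normalizer (line M.toNatV i : Set G) := by rw [hl]; exact hT₂
  obtain ⟨h, hh, hhT⟩ := exists_cj_eq hT₂' hT₁ T₂.isPGroup' T₁.isPGroup'
    (MinSimple.Basic.not_dvd_relIndex T₂ hT₂') (MinSimple.Basic.not_dvd_relIndex T₁ hT₁)
  set R := line M.toNatV i with hR
  set y := h * x * h⁻¹ with hy
  have hyz : y ∈ zc (T₂ : Subgroup G) := mem_zc_conj hhT hx
  have hyz' : y ∈ zc (stab M'.toNatV i') := mem_zc_stab hk' hT₂ hle hyz
  have hRT : R ≤ T₂ := by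
    rw [hl]
    exact (((line_le _ _).trans (fac_le_o2 M' hk' i')).trans (o2_line_le' M' hk' i')).trans hle
  have hRc : ∀ a ∈ R, ∀ b ∈ R, a * b = b * a := fun a ha b hb =>
    NV.comm M.toNatV (fac_le _ _ (line_le _ _ ha)) (fac_le _ _ (line_le _ _ hb))
  have hRsq : ∀ a ∈ R, a * a = 1 := fun a ha => NV.sq M.toNatV (fac_le _ _ (line_le _ _ ha))
  have hyR : ∀ a ∈ R, a * y = y * a := fun a ha => (VModule.mem_zc.1 hyz).2.1 a (hRT ha)
  obtain ⟨u, hu, z, e, hz⟩ := zc_dec M' hk' hyz'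
  rw [← hl] at hu
  have hzR : ∀ a ∈ R, a * z = z * a := by
    intro a ha
    have h1 := hyR a ha
    rw [e] at h1
    have h2 : u * (a * z) = u * (z * a) := by
      calc u * (a * z) = u * a * z := by group
        _ = a * (u * z) := by rw [hRc u hu a ha]; group
        _ = u * (z * a) := by rw [h1]; group
    exact mul_left_cancel h2
  let N : Subgroup G :=
    { carrier := {g | g ∈ normalizer (R : Set G) ∧ y⁻¹ * g * y * g⁻¹ ∈ R}
      one_mem' := ⟨one_mem _, by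
        have e1 : y⁻¹ * 1 * y * 1⁻¹ = 1 := by group
        rw [e1]; exact one_mem _⟩
      mul_mem' := by
        rintro a b ⟨ha, ha1⟩ ⟨hb, hb1⟩
        refine ⟨mul_mem ha hb, ?_⟩
        have e1 : y⁻¹ * (a * b) * y * (a * b)⁻¹ = (y⁻¹ * a * y * a⁻¹) * (a * (y⁻¹ * b * y * b⁻¹) * a⁻¹) := by group
        rw [e1]
        exact mul_mem ha1 ((mem_normalizer_iff.1 ha _).1 hb1)
      inv_mem' := by
        rintro a ⟨ha, ha1⟩
        refine ⟨inv_mem ha, ?_⟩
        have e1 : y⁻¹ * a⁻¹ * y * a⁻¹⁻¹ = a⁻¹ * (y⁻¹ * a * y * a⁻¹)⁻¹ * a⁻¹⁻¹ := by group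
        rw [e1]
        exact (mem_normalizer_iff.1 (inv_mem ha) _).1 (inv_mem ha1) }
  have hNmem : ∀ g, g ∈ N ↔ g ∈ normalizer (R : Set G) ∧ y⁻¹ * g * y * g⁻¹ ∈ R := fun g => Iff.rfl
  have hcomm : ∀ g, g * y = y * g → y⁻¹ * g * y * g⁻¹ = 1 := by
    intro g hg
    rw [mul_assoc y⁻¹, hg]; group
  have hTN : (T₂ : Subgroup G) ≤ N := by
    intro t ht
    refine (hNmem t).2 ⟨by rw [hl]; exact hT₂ ht, ?_⟩
    rw [hcomm t ((VModule.mem_zc.1 hyz).2.1 t ht)]
    exact one_mem _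
  have hodd : Odd ((T₂ : Subgroup G).relIndex N) := by
    rw [← Nat.not_even_iff_odd, even_iff_two_dvd]
    exact MinSimple.Basic.not_dvd_relIndex T₂ hTN
  obtain ⟨c, hc, hcN⟩ := BTwo.Avg.avg (X := N) (P := (T₂ : Subgroup G)) (Y := R) (D := ⊥) (c := y) hTN hodd bot_le
    (fun g hg a ha => (mem_normalizer_iff.1 hg.1 a).1 ha)
    (fun g _ a ha => by rw [mem_bot] at ha ⊢; rw [ha]; group)
    (fun g _ a ha => by rw [mem_bot] at ha ⊢; rw [ha]; group)
    (fun a ha => by rw [mem_bot]; exact hRsq a ha)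
    (fun g hg => hg.2)
    (fun t ht => by rw [mem_bot]; exact hcomm t ((VModule.mem_zc.1 hyz).2.1 t ht))
  have hcN' : ∀ g ∈ N, g * (y * c) = y * c * g := by
    intro g hg
    have h1 := hcN g hg
    rw [mem_bot, mul_inv_eq_one] at h1
    calc g * (y * c) = y * c * ((y * c)⁻¹ * g * (y * c)) := by group
      _ = y * c * g := by rw [h1]
  -- `c = 1`
  have hc1 : c = 1 := by
    have h1 : h⁻¹ * c * h = 1 := by
      refine line_eq_one M q4 (i := i) ?_ fun g hg hgn => ?_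
      · have := (mem_normalizer_iff.1 (inv_mem hh) c).1 hc
        rwa [inv_inv] at this
      · have h2 : h * g * h⁻¹ * y = y * (h * g * h⁻¹) := by
          calc h * g * h⁻¹ * (h * x * h⁻¹) = h * (g * x) * h⁻¹ := by group
            _ = h * (x * g) * h⁻¹ := by rw [hxg g hg]
            _ = h * x * h⁻¹ * (h * g * h⁻¹) := by group
        have h3 : h * g * h⁻¹ ∈ N := by
          refine (hNmem _).2 ⟨mul_mem (mul_mem hh hgn) (inv_mem hh), ?_⟩
          rw [hcomm _ h2]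
          exact one_mem _
        have h4 := hcN' _ h3
        have h5 : h * g * h⁻¹ * c = c * (h * g * h⁻¹) := by
          have h6 : y * (h * g * h⁻¹ * c) = y * (c * (h * g * h⁻¹)) := by
            calc y * (h * g * h⁻¹ * c) = y * (h * g * h⁻¹) * c := by group
              _ = h * g * h⁻¹ * (y * c) := by rw [← h2]; group
              _ = y * (c * (h * g * h⁻¹)) := by rw [h4]; group
          exact mul_left_cancel h6
        calc g * (h⁻¹ * c * h) = h⁻¹ * (h * g * h⁻¹ * c) * h := by group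
          _ = h⁻¹ * (c * (h * g * h⁻¹)) * h := by rw [h5]
          _ = h⁻¹ * c * h * g := by group
    calc c = h * (h⁻¹ * c * h) * h⁻¹ := by group
      _ = 1 := by rw [h1]; group
  subst hc1
  -- `u = 1`
  have hu1 : u = 1 := by
    refine line_eq_one M' q4' (i := i') (by rw [← hl]; exact hu) fun g hg hgn => ?_
    have hgn' : g ∈ normalizer (R : Set G) := by rw [hl]; exact hgn
    have hgu : u⁻¹ * (g * u * g⁻¹) ∈ R := mul_mem (inv_mem hu) ((mem_normalizer_iff.1 hgn' u).1 hu)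
    have h1 : y⁻¹ * g * y * g⁻¹ = u⁻¹ * (g * u * g⁻¹) := by
      calc y⁻¹ * g * y * g⁻¹ = z⁻¹ * (u⁻¹ * (g * u * z) * g⁻¹) := by rw [e]; group
        _ = z⁻¹ * (u⁻¹ * (g * u * g⁻¹) * (g * z) * g⁻¹) := by group
        _ = z⁻¹ * (u⁻¹ * (g * u * g⁻¹) * z) := by rw [hz g hg]; group
        _ = z⁻¹ * (z * (u⁻¹ * (g * u * g⁻¹))) := by rw [hzR _ hgu]
        _ = _ := by group
    have h2 : g ∈ N := (hNmem g).2 ⟨hgn', by rw [h1]; exact hgu⟩
    have h3 := hcN' g h2
    rw [mul_one, e] at h3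
    have h4 : g * u * z = u * g * z := by
      calc g * u * z = g * (u * z) := by group
        _ = u * (z * g) := by rw [h3]; group
        _ = u * g * z := by rw [← hz g hg]; group
    exact mul_right_cancel h4
  refine ⟨y, hyz, fun h1 => hx1 ?_, fun g hg => ?_⟩
  · rw [hy, mul_inv_eq_one, mul_eq_left] at h1
    exact h1
  · rw [e, hu1, one_mul]
    exact hz g hg

/-- `grp M {i}` is transitive on the lines of `fac M i` -/
theorem exists_grp_pt (M : NatD F S P V D k) (i : Fin k) (p : Pt (toRMod (pre M.toNatV i))) :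
    ∃ g ∈ grp M.toNatV {i}, cj g (line M.toNatV i) = pt (toRMod (pre M.toNatV i)) p := by
  obtain ⟨w, hw, hp⟩ := p.2
  obtain ⟨A, hA⟩ := NatPair.exists_ap_e hw
  obtain ⟨g, hg, hgA⟩ := exists_lift M.toNatV i A
  refine ⟨g, hg, ?_⟩
  have hind : (toRMod (pre M.toNatV i)).Ind g A := by
    intro x
    change g * (pre M.toNatV i).e x * g⁻¹ = (pre M.toNatV i).e (NatPair.ap A x)
    exact ext_fac M.toNatV (grp_conj_fac hg ((pre M.toNatV i).e_mem x)) ((pre M.toNatV i).e_mem _)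
      ((hgA _ ((pre M.toNatV i).e_mem x).1).trans (by rw [pre_e, pre_e]))
  have h1 := (toRMod (pre M.toNatV i)).cj_line_of_ind hind ![1, 0]
  rw [toRMod_line, pre_line, hA] at h1
  exact h1.trans hp.symm

/-- **(2a) is impossible for `q ≥ 4`, mixed partners.** -/
theorem exists_norm4 {M : NatD F S P V D 2} {M' : NatD F' S' P' V' D' k'} {i : Fin 2} {i' : Fin k'}
    (m : MixedQ (toRMod (pre M.toNatV i)) (toRMod (pre M'.toNatV i')) (line M.toNatV i)) (q4 : 4 ≤ Nat.card F)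
    {T₁ : Sylow 2 G} {w : G} (h : Over M i T₁ w) (hT₁ : (T₁ : Subgroup G) ≤ normalizer (line M.toNatV i : Set G))
    {x : G} (hx : x ∈ zc (T₁ : Subgroup G)) (hx1 : x ≠ 1) (hxg : ∀ g ∈ grp M.toNatV {i}, g * x = x * g) :
    ∃ T₂ : Sylow 2 G,
      (T₂ : Subgroup G) ≤ normalizer (fac M.toNatV i : Set G) ⊓ normalizer (line M.toNatV i : Set G) := by
  by_contra hno
  have hsyl := syl_fac_of M (i := i) fun ⟨T₂, _, h⟩ => hno ⟨T₂, h⟩
  obtain ⟨j, hij⟩ : ∃ j : Fin 2, i ≠ j := ⟨i + 1, by omega⟩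
  have hT2 : IsPGroup 2 (stab M.toNatV i) := S.isPGroup'.to_le (stab_le _ _)
  have hxc : ∀ t ∈ (T₁ : Subgroup G), t * x = x * t := fun t ht => (VModule.mem_zc.1 hx).2.1 t ht
  have hOT : BTwo.O2 (centralizer (fac M.toNatV i : Set G)) ≤ stab M.toNatV i := by
    refine le_trans ?_ (VModule.o2_le_of_sylow hT2 hsyl)
    refine BTwo.le_O2_of_normal ((BTwo.O2_le _).trans (centralizer_le_normalizer _)) (BTwo.O2_isPGroup _) ?_
    intro g hg a ha
    have h1 : cj g (centralizer (fac M.toNatV i : Set G)) = centralizer (fac M.toNatV i : Set G) :=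
      cj_eq_self_iff.2 (BTwo.normalizer_le_normalizer_centralizer _ hg)
    have h2 : cj g (BTwo.O2 (centralizer (fac M.toNatV i : Set G))) =
        BTwo.O2 (centralizer (fac M.toNatV i : Set G)) := by rw [BTwo.cj_O2, h1]
    exact (mem_normalizer_iff.1 (cj_eq_self_iff.1 h2) a).1 ha
  obtain ⟨c1, c2⟩ := cent_half M hij (VModule.mem_zc.1 hx).2.2 hx1 (fun t ht => hxc t (h.le ht)) hxg
  have hQT : QQ (line M.toNatV i) ≤ stab M.toNatV i := o2_line_le' M (Or.inr rfl) i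
  have kl : Kill (toRMod (pre M.toNatV i)) (toRMod (pre M'.toNatV i')) (line M.toNatV i) (stab M.toNatV i) T₁ w x :=
    { m with
      q4 := q4
      T₁R := hT₁
      TT₁ := h.le
      TN := stab_le_nmG (SP M) M.toNatV i
      QT := hQT
      OT := hOT
      wT₁ := h.mem
      cov := fun t ht => h.cov ht
      ww := h.sq
      nT := h.norm
      x1 := hx1
      xT₁ := VModule.zc_le _ hx
      xc := hxc
      xB := by
        intro p b hb
        obtain ⟨g, hg, hgp⟩ := exists_grp_pt M i p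
        rw [← Mix.cj_LL hgp, mem_cj] at hb
        have h1 := hxc _ (h.le (hQT (m.symm.C_le_QQ hb)))
        have h2 := hxg g hg
        have h3 : g⁻¹ * x = x * g⁻¹ := by rw [inv_mul_eq_iff_eq_mul, ← mul_assoc, h2, mul_inv_cancel_right]
        calc b * x = g * (g⁻¹ * b * g * (g⁻¹ * x)) := by group
          _ = g * (g⁻¹ * b * g * x) * g⁻¹ := by rw [h3]; group
          _ = g * x * (g⁻¹ * b * g) * g⁻¹ := by rw [h1]; group
          _ = x * b := by rw [h2]; group
      VU := c1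
      UV := c2 }
  have h1 := kl.norm
  apply hno
  refine ⟨T₁, le_inf (fun t ht => ?_) hT₁⟩
  rcases h.cov ht with h2 | h2
  · exact stab_normalizes _ _ h2
  · have h3 := mul_mem (cj_eq_self_iff.1 h1) (stab_normalizes _ _ h2)
    rwa [mul_inv_cancel_left] at h3

end Cfsg.Agent.Omega.IId.NV
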