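import Cfsg.Agent.Omega.IId.Cv.Cut
import Cfsg.Agent.Omega.IId.Cv.Center
import Cfsg.Agent.Omega.HT.LemE

/-!
# WrCv, CASE 1, `q = 2`: LEMMA E over `T = stab M i` (#17094 (C), #17600 (F3))

`M : NatD F S P V D 2`, `R` the points of `fac M i` (`R o = line M i`, `R k` a `grp M {i}`-conjugate of `R o`).

* `mem_CenX` : `fac M j`, `DT M ≤ C_X`;
* `syl_other` : CASE 1 for `i` implies CASE 1 for `j`;
* `lemE` : `LE (fac M i) R l` for all `l`, if `fac M i` is unmixed and `stab M i` is Sylow in `N_G(line M i)`.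
-/

set_option autoImplicit false
set_option linter.unusedSectionVars false

namespace Cfsg.Agent.Omega.IId.NV

open Subgroup Cfsg Cfsg.Agent.ZN Cfsg.Agent.ZN.ChoiceBase
open Cfsg.Agent.Omega.MinPar Cfsg.Agent.Omega.FFThm
open Cfsg.Agent.MinSimple
open Cfsg.Agent.Omega.BTwo (BT BTS QQ WW XX CenX O2)
open Cfsg.Agent.Omega.HTwo.ThmA (LE)
open Cfsg.Agent.Omega.HT.LemE (Good le_T)
open Cfsg.Agent.Omega.IId.Cv (UnM)

universe u

variable {G : Type u} [Group G] [Finite G] {F : Type} [Field F] [Finite F] [CharP F 2] {S : Sylow 2 G}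
  {P V D : Subgroup G} (M : NatD F S P V D 2) {i j : Fin 2} (hij : i ≠ j) {ι : Type*}
  {R : ι → Subgroup G} {o : ι}

include hij in
/-- `fac M j`, `DT M ≤ C_X` -/
theorem mem_CenX (b : BT (fac M.toNatV i) R) (hRo : R o = line M.toNatV i)
    (hRg : ∀ k, ∃ g ∈ grp M.toNatV {i}, BTwo.cj g (R o) = R k) {z : G} (hz : z ∈ fac M.toNatV j ∨ z ∈ DT M) :
    z ∈ CenX (fac M.toNatV i) R := by
  have h1 : XX (fac M.toNatV i) R ≤ centralizer ({z} : Set G) := by
    refine iSup_le fun k => ?_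
    obtain ⟨g, hg, e⟩ := hRg k
    intro y hy
    have h2 : y ∈ QQ (R k) := b.W_le_Q k hy
    rw [← b.cj_QQ e, BTwo.mem_cj, hRo] at h2
    have h3 := o2_comm M hij hg h2 hz
    rw [mem_centralizer_singleton_iff]
    have e1 : g * (g⁻¹ * y * g) * g⁻¹ = y := by group
    rwa [e1] at h3
  rw [mem_centralizer_iff]
  intro x hx
  exact mem_centralizer_singleton_iff.1 (h1 hx)

include hij in
/-- CASE 1 for `i` implies CASE 1 for `j` -/
theorem syl_other (hd : ¬ 2 ∣ (stab M.toNatV i).relIndex (normalizer (line M.toNatV i : Set G))) :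
    ¬ 2 ∣ (stab M.toNatV i).relIndex (normalizer (line M.toNatV j : Set G)) := by
  have hSP := SP M
  obtain ⟨s, hs, hn⟩ : ∃ s ∈ (S : Subgroup G), s ∉ stab M.toNatV i := (blk_two M i).exists_swap
  have h0 := swap_fac M.toNatV hSP hij hs hn
  have hsg : sg M.toNatV (hSP hs) i = j := (sg_eq_iff M.toNatV (hSP hs)).2 h0
  have h1 : cj s (line M.toNatV i) = line M.toNatV j := by
    rw [conj_line M.toNatV hSP hs, hsg]
  have h2 : cj s (stab M.toNatV i) = stab M.toNatV j := by
    rw [conj_stab M.toNatV hSP hs, hsg]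
  rw [← h1]
  have h2' : stab M.toNatV i = cj s (stab M.toNatV i) := by
    rw [h2, stab_eq M.toNatV hSP hij]
  rw [h2', ← cj_normalizer]
  intro h
  apply hd
  have e : (cj s (stab M.toNatV i)).relIndex (cj s (normalizer (line M.toNatV i : Set G))) =
      (stab M.toNatV i).relIndex (normalizer (line M.toNatV i : Set G)) := by
    have h3 : stab M.toNatV i ≤ normalizer (line M.toNatV i : Set G) := stab_normalizes_line M.toNatV hSP i
    have h4 := Half.card_mul_relIndex h3
    have h5 := Half.card_mul_relIndex (cj_mono s h3)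
    rw [card_cj, card_cj, ← h4] at h5
    exact Nat.eq_of_mul_eq_mul_left Nat.card_pos h5
  rwa [e] at h

include hij in
/-- `r ∈ Z(O₂(C(e)))` for `r ∈ fac M i`, `e ∈ (fac M j)(DT M)`, `e ≠ 1` -/
theorem good_of {r w m : G} (hr : r ∈ fac M.toNatV i) (hw : w ∈ fac M.toNatV j) (hm : m ∈ DT M)
    (h1 : w * m ≠ 1) : Good r (w * m) := by
  obtain ⟨h2, h3⟩ := cent_half_all M hij hw hm h1
  refine ⟨h2 hr, mem_centralizer_iff.2 fun y hy => ?_⟩
  exact (mem_centralizer_iff.1 (h3 hy) r hr).symm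

/-- **LEMMA E over `T`** -/
theorem lemE (hF : Nat.card F = 2) (b : BTS (fac M.toNatV i) R) (hRo : R o = line M.toNatV i)
    (hRg : ∀ k, ∃ g ∈ grp M.toNatV {i}, BTwo.cj g (R o) = R k) (hu : UnM M i)
    (hd : ¬ 2 ∣ (stab M.toNatV i).relIndex (normalizer (line M.toNatV i : Set G))) (l : ι) :
    LE (fac M.toNatV i) R l := by
  obtain ⟨j, hji⟩ := exists_ne i
  have hij : i ≠ j := hji.symm
  obtain ⟨x, a, b', c, hx⟩ := exists_abc M hF i
  obtain ⟨y, a₂, b₂, c₂, hy⟩ := exists_abc M hF j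
  have hr : ∀ x ∈ R o, x = 1 ∨ x = a := by
    have hc : Nat.card (line M.toNatV i) = 2 := by rw [card_line, hF]
    intro x hx'
    rw [hRo] at hx'
    exact Two.eq_or_eq_of_card_two hc hx.a_mem hx.a1 hx'
  have hri : a ∈ R o := by rw [hRo]; exact hx.a_mem
  have hTo : stab M.toNatV i ≤ normalizer (R o : Set G) := by
    rw [hRo]; exact stab_normalizes_line M.toNatV (SP M) i
  have hCX : ∀ {z : G}, z ∈ fac M.toNatV j ∨ z ∈ DT M → z ∈ CenX (fac M.toNatV i) R := fun {z} hz =>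
    mem_CenX M hij b.toBT hRo hRg hz
  have hgN : grp M.toNatV {j} ≤ normalizer (R o : Set G) := by
    rw [hRo]; exact grp_le_line M hij
  refine le_T (i := o) b hr hri (T := stab M.toNatV i) (A := fac M.toNatV j)
    (S.isPGroup'.to_le (stab_le _ _)) (stab_normalizes M.toNatV i) hTo (by rw [hRo]; exact hd) ?_ ?_ ?_ ?_ ?_ l
  · obtain ⟨g, hg, v, hv, w, hw, hne⟩ := hu
    exact ⟨g, by rw [hRo]; exact hg, v, hv, g * w * g⁻¹, BTwo.conj_mem_cj hw, hne⟩
  · refine ⟨a₂, hy.a_fac, b₂, hy.b_mem, hy.a1, hy.b1, ?_⟩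
    rw [hy.mul]
    exact hy.c1 
  · exact fun z hz => hCX (Or.inl hz)
  · intro z hz hz1
    have h1 := good_of M hij hx.a_fac hz (one_mem (DT M)) (by rwa [mul_one])
    rwa [mul_one] at h1
  · intro e he he1 hee heT heX
    have hez : e ∈ zc (stab M.toNatV i) :=
      MinSimple.VModule.mem_zc.2 ⟨he, fun t ht => (heT t ht).symm, by rw [pow_two]; exact hee⟩
    obtain ⟨u, hu', w, hw, m, hm, huz, hwz, rfl⟩ := zc_stab_eq hF hij hez
    have h1 : w * m ∈ CenX (fac M.toNatV i) R := mul_mem (hCX (Or.inl hw)) (hCX (Or.inr hm))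
    have hu1 : u = 1 := by
      refine b.cen_VX hu' ?_
      have h2 : u = u * w * m * (w * m)⁻¹ := by group
      rw [h2]
      exact mul_mem heX (inv_mem h1)
    subst hu1
    rw [one_mul] at he1 ⊢
    by_cases hw1 : w = 1
    · left
      subst hw1
      refine ⟨good_of M hij hx.a_fac (one_mem _) hm he1, ?_⟩
      rw [one_mul] at he1 ⊢
      have haf : a ∈ fac M.toNatV i := hx.a_fac
      have haz : a ∈ zc (stab M.toNatV i) :=
        MinSimple.VModule.mem_zc.2 ⟨part_le_stb (blk_two M i) haf.1,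
          fun t ht => mul_inv_eq_iff_eq_mul.1 (hx.stab_a ht),
          (MinSimple.VModule.mem_zc.1 (V_le_zz M haf.1)).2.2⟩
      have hne : a * m ≠ 1 := by
        intro h
        have h2 : a ∈ CenX (fac M.toNatV i) R := by
          rw [mul_eq_one_iff_eq_inv] at h
          rw [h]
          exact inv_mem (hCX (Or.inr hm))
        exact hx.a1 (b.cen_VX hx.a_fac h2)
      obtain ⟨-, h3⟩ := case1_F2 M hij (syl_other M hij hd) hx.a_fac haz hm hne
      obtain ⟨h4, h5, -⟩ := MinSimple.VModule.mem_zc.1 (h3 haz)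
      exact ⟨h4, mem_centralizer_iff.2 fun t ht => h5 t ht⟩
    · right
      intro Λ hN hmem
      have key : ∀ g ∈ grp M.toNatV {j}, g * w * g⁻¹ * w⁻¹ ∈ Λ := by
        intro g hg
        have h2 := BTwo.conj_mem_of_normalizer (hN (hgN hg)) hmem
        have h3 : g * m = m * g := DT_comm_grp M hij.symm hm hg
        have h4 : g * (w * m) * g⁻¹ * (w * m)⁻¹ = g * w * g⁻¹ * w⁻¹ := by
          calc g * (w * m) * g⁻¹ * (w * m)⁻¹ = g * w * (m * g⁻¹) * m⁻¹ * w⁻¹ := by group
            _ = g * w * (g⁻¹ * (g * m) * g⁻¹) * m⁻¹ * w⁻¹ := by group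
            _ = g * w * (g⁻¹ * (m * g) * g⁻¹) * m⁻¹ * w⁻¹ := by rw [h3]
            _ = g * w * g⁻¹ * w⁻¹ := by group
        rw [← h4]
        exact mul_mem h2 (inv_mem hmem)
      have hX : Λ ⊓ fac M.toNatV j = ⊥ ∨ Λ ⊓ fac M.toNatV j = fac M.toNatV j := by
        refine fac_irreducible M.toNatV inf_le_right fun g hg => ?_
        refine BTwo.mem_normalizer_of_conj fun z hz => ?_
        exact ⟨BTwo.conj_mem_of_normalizer (hN (hgN hg)) hz.1,
          BTwo.conj_mem_of_normalizer (grp_normalizes M.toNatV {j} {j} hg) hz.2⟩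
      rcases hX with h0 | h0
      · exfalso
        -- `w` is moved by `grp M {j}`
        have h5 : w ∈ fac M.toNatV j ⊓ centralizer (grp M.toNatV {j} : Set G) := by
          refine ⟨hw, mem_centralizer_iff.2 fun g hg => ?_⟩
          have h6 : g * w * g⁻¹ * w⁻¹ ∈ Λ ⊓ fac M.toNatV j := by
            have h7 : g * w * g⁻¹ ∈ fac M.toNatV j :=
              BTwo.conj_mem_of_normalizer (grp_normalizes M.toNatV {j} {j} hg) hw
            exact mem_inf.2 ⟨key g hg, mul_mem h7 (inv_mem hw)⟩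
          rw [h0, mem_bot, mul_inv_eq_one, mul_inv_eq_iff_eq_mul] at h6
          exact h6
        rw [fac_inf_centralizer, mem_bot] at h5
        exact hw1 h5
      · rw [← h0]
        exact inf_le_left

end Cfsg.Agent.Omega.IId.NV
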