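import Cfsg.Agent.Omega.IId.Cv.Fac
import Cfsg.Agent.Omega.IId.TwoOf

/-!
# `M : NatV F S P V k`: the action of `S` and of the tori on the lines; `k = 2`

The same facts as in `IId/LineAct.lean`, `IId/TwoOf.lean` for an arbitrary `V`.
-/

set_option autoImplicit false
set_option linter.unusedSectionVars false

namespace Cfsg.Agent.Omega.IId.NV

open Subgroup Cfsg Cfsg.Agent.ZN Cfsg.Agent.ZN.ChoiceBase
open Cfsg.Agent.Omega.MinPar Cfsg.Agent.Omega.FFThm
open Cfsg.Agent.Lib.SL2Mat
open Cfsg.Agent.Omega.NatPair (ap ap_mul ap_one ap_inv_ap ap_ap_inv exists_ap ap_add)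

universe u

variable {G : Type u} [Group G] {F : Type} [Field F] {S P V : Subgroup G} {k : ℕ}

section act

variable (M : NatV F S P V k)

open Classical in
/-- An element of `S` maps the line of the factor `i` to the line of its image. -/
theorem e_conj_line (hSP : S ≤ P) {s : G} (hs : s ∈ S) {v : G} (hv : v ∈ V) (i : Fin k) :
    M.e (s * v * s⁻¹) (sg M (hSP hs) i) 1 = 0 ↔ M.e v i 1 = 0 := by
  obtain ⟨τ, hτ⟩ := M.line s hs
  have h1 : τ i = sg M (hSP hs) i := by
    by_contra hne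
    obtain ⟨w, hw, hwe⟩ := exists_fac M i ![0, 1]
    have h2 : s * w * s⁻¹ ∈ fac M (sg M (hSP hs) i) := by
      have h3 := conj_fac M (hSP hs) i
      rw [← h3, mem_cj_iff]
      have e : s⁻¹ * (s * w * s⁻¹) * s = w := by group
      rwa [e]
    have h4 : M.e (s * w * s⁻¹) (τ i) 1 = 0 := by
      rw [h2.2 (τ i) hne]; rfl
    have h5 := (hτ w hw.1 i).1 h4
    rw [hwe] at h5
    simp at h5
  rw [← h1]
  exact hτ v hv i

theorem conj_line (hSP : S ≤ P) {s : G} (hs : s ∈ S) (i : Fin k) :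
    cj s (line M i) = line M (sg M (hSP hs) i) := by
  have key : ∀ {t : G} (ht : t ∈ S) (j : Fin k), ∀ v ∈ line M j, t * v * t⁻¹ ∈ line M (sg M (hSP ht) j) := by
    intro t ht j v hv
    rw [mem_line] at hv ⊢
    refine ⟨?_, (e_conj_line M hSP ht hv.1.1 j).2 hv.2⟩
    rw [← conj_fac M (hSP ht), mem_cj_iff]
    have e : t⁻¹ * (t * v * t⁻¹) * t = v := by group
    rw [e]
    exact hv.1
  ext v
  rw [mem_cj_iff]
  constructor
  · intro h
    have h1 := key hs i _ h
    have e : s * (s⁻¹ * v * s) * s⁻¹ = v := by group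
    rwa [e] at h1
  · intro h
    have h1 := key (inv_mem hs) _ _ h
    rw [inv_inv] at h1
    have h2 : sg M (hSP (inv_mem hs)) (sg M (hSP hs) i) = i := by
      rw [sg_eq_iff, ← conj_fac M (hSP hs), cj_inv_cj]
    rwa [h2] at h1

theorem stab_normalizes_line (hSP : S ≤ P) (i : Fin k) : stab M i ≤ normalizer (line M i : Set G) := by
  intro s hs
  rw [mem_normalizer_iff_cj, conj_line M hSP hs.1]
  congr 1
  exact (mem_normalizer_fac_iff M (hSP hs.1)).1 hs.2

open Classical in
/-- The root group of the factor `i` is in the stabiliser. -/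
theorem exists_root (hSP : S ≤ P) (i : Fin k) (b : F) :
    ∃ t ∈ stab M i, t ∈ grp M {i} ∧ ActsSL M.e (V) ⊥ t fun j => up ((Function.update 0 i b : Fin k → F) j) := by
  obtain ⟨t, ht, h1⟩ := M.unip (Function.update 0 i b)
  have h2 : t ∈ grp M {i} := ⟨hSP ht, _, h1, fun j hj => by
    have hj' : j ≠ i := by simpa using hj
    rw [Function.update_of_ne hj']
    exact up_zero⟩
  exact ⟨t, ⟨ht, grp_normalizes M {i} {i} h2⟩, h2, h1⟩

/-- `C_{fac M i}(stab M i) ≤ line M i`. -/
theorem fix_le_line (hSP : S ≤ P) {i : Fin k} {v : G} (hv : v ∈ fac M i)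
    (hc : ∀ t ∈ stab M i, t * v = v * t) : v ∈ line M i := by
  classical
  rw [mem_line]
  refine ⟨hv, ?_⟩
  obtain ⟨t, ht, -, h1⟩ := exists_root M hSP i 1
  have h2 : t * v * t⁻¹ = v := by rw [hc t ht, mul_inv_cancel_right]
  have h3 := h1.1 v hv.1 i
  rw [h2] at h3
  have h4 := congrFun h3 0
  rw [NatPair.ap_zero'] at h4
  simp only [Function.update_self, up_00, up_01, one_mul] at h4
  exact (left_eq_add.1 h4)

open Classical in
/-- The torus of the factor `i` is transitive on the nontrivial elements of the line. -/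
theorem exists_tor {i : Fin k} {v w : G} (hv : v ∈ line M i) (hw : w ∈ line M i) (hv1 : v ≠ 1) (hw1 : w ≠ 1) :
    ∃ g ∈ grp M {i}, g ∈ normalizer (line M i : Set G) ∧ g * v * g⁻¹ = w := by
  rw [mem_line] at hv hw
  have a0 : M.e v i 0 ≠ 0 := by
    intro h0
    apply hv1
    rw [← fac_eq_one M hv.1]
    exact NatPair.ext2 h0 hv.2
  have b0 : M.e w i 0 ≠ 0 := by
    intro h0
    apply hw1
    rw [← fac_eq_one M hw.1]
    exact NatPair.ext2 h0 hw.2
  set c : F := M.e w i 0 / M.e v i 0 with hc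
  have c0 : c ≠ 0 := div_ne_zero b0 a0
  obtain ⟨g, hg, h1⟩ := M.lift (Function.update 1 i (mk c 0 0 c⁻¹ (by rw [mul_inv_cancel₀ c0]; ring)))
  have hg' : g ∈ grp M {i} := ⟨hg, _, h1, fun j hj => Function.update_of_ne hj _ _⟩
  have hfac : ∀ u ∈ fac M i, g * u * g⁻¹ ∈ fac M i := fun u hu =>
    (mem_normalizer_iff.1 (grp_normalizes M {i} {i} hg') u).1 hu
  have he0 : ∀ u ∈ fac M i, M.e (g * u * g⁻¹) i 0 = c * M.e u i 0 := by
    intro u hu
    rw [h1.1 u hu.1 i, Function.update_self, NatPair.ap_zero']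
    simp
  have he1 : ∀ u ∈ fac M i, M.e (g * u * g⁻¹) i 1 = c⁻¹ * M.e u i 1 := by
    intro u hu
    rw [h1.1 u hu.1 i, Function.update_self, NatPair.ap_one']
    simp
  refine ⟨g, hg', ?_, ?_⟩
  · rw [mem_normalizer_iff]
    intro u
    rw [mem_line, mem_line]
    constructor
    · rintro ⟨h2, h3⟩
      exact ⟨hfac u h2, by rw [he1 u h2, h3, mul_zero]⟩
    · rintro ⟨h2, h3⟩
      have h4 : u ∈ fac M i := (mem_normalizer_iff.1 (grp_normalizes M {i} {i} hg') u).2 h2
      refine ⟨h4, ?_⟩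
      rw [he1 u h4] at h3
      exact (mul_eq_zero.1 h3).resolve_left (inv_ne_zero c0)
  · refine ext_fac M (hfac v hv.1) hw.1 (NatPair.ext2 ?_ ?_)
    · rw [he0 v hv.1, hc, div_mul_cancel₀ _ a0]
    · rw [he1 v hv.1, hv.2, hw.2, mul_zero]

theorem mem_stab {i : Fin k} {x : G} : x ∈ stab M i ↔ x ∈ S ∧ cj x (fac M i) = fac M i := by
  rw [stab, mem_inf, mem_normalizer_iff_cj]

theorem conj_stab (hSP : S ≤ P) {s : G} (hs : s ∈ S) (i : Fin k) :
    cj s (stab M i) = stab M (sg M (hSP hs) i) := by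
  ext x
  rw [mem_cj_iff, mem_stab, mem_stab, ← conj_fac M (hSP hs), cj_cj, ← cj_cj, ← cj_cj]
  have h1 : s⁻¹ * x * s ∈ S ↔ x ∈ S := by
    rw [mul_mem_cancel_right hs, mul_mem_cancel_left (inv_mem hs)]
  have h2 : cj s⁻¹ (cj x (cj s (fac M i))) = fac M i ↔ cj (x * s) (fac M i) = cj s (fac M i) := by
    rw [← cj_cj]
    constructor
    · intro h
      have := congrArg (cj s) h
      rwa [cj_cj_inv] at this
    · intro h
      rw [h, cj_inv_cj]
  rw [h1, h2]

end act

section two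

variable (M : NatV F S P V 2)

theorem stab_normalizes' (hSP : S ≤ P) {i j : Fin 2} (h : i ≠ j) :
    stab M i ≤ normalizer (fac M j : Set G) := by
  have := stab_normalizes_compl M hSP i
  rwa [compl_eq h] at this

theorem sup_fac {i j : Fin 2} (h : i ≠ j) : fac M i ⊔ fac M j = V := by
  have := part_sup M {i}
  rwa [compl_eq h] at this

theorem stab_eq (hSP : S ≤ P) {i j : Fin 2} (h : i ≠ j) : stab M i = stab M j :=
  le_antisymm (le_inf (stab_le M i) (stab_normalizes' M hSP h))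
    (le_inf (stab_le M j) (stab_normalizes' M hSP h.symm))

/-- An element of `S` which does not normalise `fac M i` swaps the factors. -/
theorem swap_fac (hSP : S ≤ P) {i j : Fin 2} (h : i ≠ j) {s : G} (hs : s ∈ S) (hn : s ∉ stab M i) :
    cj s (fac M i) = fac M j := by
  have h1 : sg M (hSP hs) i ≠ i := by
    intro h1
    apply hn
    exact ⟨hs, (mem_normalizer_fac_iff M (hSP hs)).2 h1⟩
  rw [conj_fac M (hSP hs)]
  congr 1
  omega

/-- The component of an element of `V` in the factor `i`: the other component is in `fac M j`. -/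
theorem exists_comp2 {i j : Fin 2} (h : i ≠ j) {v : G} (hv : v ∈ V) :
    ∃ a ∈ fac M i, ∃ b ∈ fac M j, v = a * b := by
  obtain ⟨a, ha, -, h2⟩ := exists_component M hv i
  rw [compl_eq h] at h2
  exact ⟨a, ha, a⁻¹ * v, h2, by group⟩

end two

end Cfsg.Agent.Omega.IId.NV
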