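import Cfsg.Agent.Omega.IId.Cv.Cut
import Cfsg.Agent.Omega.IId.SymMain

/-!
# II.d: the socket `CvSym` of `Cv/Cut.lean`: one factor is enough (assembler: helper36)

* `CvSymOne K` : `CvSym K` for `P'` with ONE factor `S_{2^m'+1}`; `cvSym_of : LeafSymWr K → CvSymOne K → CvSym K`.
-/

set_option autoImplicit false

namespace Cfsg.Agent.Omega.IId.Cv

open Subgroup Pointwise Cfsg Cfsg.Agent.ZN.ChoiceBase
open Cfsg.Agent.ZN (o2 zc zl)
open Cfsg.Agent.Omega.MinPar Cfsg.Agent.Omega.Frame Cfsg.Agent.Omega.FFThm Cfsg.Agent.Omega.FrameMulti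
open Cfsg.Agent.Omega.FrameLE (AllIn)
open Cfsg.Agent.Omega.FrameFF (cv Free)

universe u

/-- `CvSym`, `P'` with one factor `S_{2^m'+1}`. (head: helper356) -/
def CvSymOne (K : Cls.{u}) : Prop :=
  ∀ (G : Type u) [Group G] [Finite G] (S S' : Sylow 2 G), HypN K S → ∀ (P P' : Subgroup G), Pair S S' P P' →
    ∀ (F : Type) [Field F] [Finite F] [CharP F 2] (k m' : ℕ)
      (_ : NatK F (S : Subgroup G) P (zl (S : Subgroup G) P) (cv (S : Subgroup G) P) k)
      (_ : SymK (S' : Subgroup G) P' (zl (S' : Subgroup G) P') (cv (S' : Subgroup G) P') 1 m'), 2 ≤ k → 2 ≤ m' →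
      ¬ (Free (S : Subgroup G) P ∧ Free (S' : Subgroup G) P') → IsKnownSimple' G

/-- A pair with a member which has at least two factors `S_{2^m'+1}` is `LeafSymWr`. -/
theorem of_symWr {K : Cls.{u}} (hSW : LeafSymWr K) {G : Type u} [Group G] [Finite G] {S S' : Sylow 2 G}
    (hH : Hyp K S) {P P' : Subgroup G} (hp : Pair S S' P P') {k' m' : ℕ} (hk : 2 ≤ k') (hm : 2 ≤ m')
    (h : IsSym (S' : Subgroup G) P' k' m') : IsKnownSimple' G := by
  obtain ⟨g, hg, hmu⟩ := Sym.exists_mutual hp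
  have h2 : cj g⁻¹ (S' : Subgroup G) = (S : Subgroup G) := by rw [hg, cj_inv_cj]
  have h3 : IsSym (S : Subgroup G) (cj g⁻¹ P') k' m' := by
    have h4 := isSym_cj h g⁻¹
    rwa [h2] at h4
  exact hSW G hH.ctx hH.cls S hH.full hH.allIn hH.typed _ _ _ hmu k' m' hk hm h3

/-- `CvSym` from its one-factor part. -/
theorem cvSym_of {K : Cls.{u}} (hSW : LeafSymWr K) (h : CvSymOne K) : CvSym K := by
  intro G _ _ S S' hH P P' hp k hk hN hf k' m' hk' hm' hS'
  obtain rfl | hk2 : k' = 1 ∨ 2 ≤ k' := by omega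
  · obtain ⟨F, i1, i2, i3, ⟨M⟩⟩ := hN
    obtain ⟨M'⟩ := hS'
    exact h G S S' hH P P' hp F k m' M M' hk hm' hf
  · exact of_symWr hSW hH.toHyp hp hk2 hm' hS'

end Cfsg.Agent.Omega.IId.Cv
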