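import Cfsg.Agent.Omega.IId.Cv.MixNode
import Cfsg.Agent.Omega.IId.Cv.TwoAEnd

/-!
# THEOREM MIX2 (helper994): mixed mutual pairs, `k = 2`, `q = 2`, any partner

`M : NatD F S P V D 2`, `|F| = 2`, `V_i = fac M i`, `n` the nontrivial element of `line M i`, `C = C_G(n)`.
`E` a four-group, `n ∈ E`, `N_G(E)` transitive on `E#`, `E ≤ KX ⟨n⟩`, `[V_i, E] ≠ 1`.  Then `⟨V_i^C⟩` and `⟨E^C⟩` are
not both abelian (`mix_two`).
-/

set_option autoImplicit false
set_option linter.unusedSectionVars false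

namespace Cfsg.Agent.Omega.IId.NV

open Subgroup Cfsg Cfsg.Agent.ZN Cfsg.Agent.ZN.ChoiceBase
open Cfsg.Agent.Omega.MinPar Cfsg.Agent.Omega.FFThm
open Cfsg.Agent.Lib.SL2Mat
open Cfsg.Agent.MinSimple
open Cfsg.Agent.MinSimple.VModule (zc_le zc_comm zc_sq zc_le_zl le_normalizer_o2 o2_isPGroup o2_le
  normalizer_le_normalizer_zc le_normalizer_zl)
open Cfsg.Agent.Omega.NatPair (ap ap_mul ap_one ap_inv_ap ap_ap_inv exists_ap ap_add ext2)
open Cfsg.Agent.Omega.IId.Cv.TwoA (KK KK_conj mem_cs le_normalizer_of)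

universe u

section clC

variable {G : Type u} [Group G] {H A : Subgroup G}

/-- `⟨A^H⟩` -/
def clC (H A : Subgroup G) : Subgroup G := closure {y | ∃ g ∈ H, ∃ a ∈ A, y = g * a * g⁻¹}

theorem conj_mem_clC {g a : G} (hg : g ∈ H) (ha : a ∈ A) : g * a * g⁻¹ ∈ clC H A :=
  subset_closure ⟨g, hg, a, ha, rfl⟩

theorem le_clC : A ≤ clC H A := by
  intro a ha
  have := conj_mem_clC (one_mem H) ha
  rwa [one_mul, inv_one, mul_one] at this

theorem clC_conj {g y : G} (hg : g ∈ H) (hy : y ∈ clC H A) : g * y * g⁻¹ ∈ clC H A := by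
  have h1 : clC H A ≤ (clC H A).comap (MulAut.conj g).toMonoidHom := by
    rw [clC, closure_le]
    rintro _ ⟨h, hh, a, ha, rfl⟩
    change (MulAut.conj g) (h * a * h⁻¹) ∈ clC H A
    rw [MulAut.conj_apply]
    have e : g * (h * a * h⁻¹) * g⁻¹ = g * h * a * (g * h)⁻¹ := by group
    rw [e]
    exact conj_mem_clC (mul_mem hg hh) ha
  exact h1 hy

theorem clC_le {K : Subgroup G} (hK : H ≤ normalizer (K : Set G)) (hA : A ≤ K) : clC H A ≤ K := by
  rw [clC, closure_le]
  rintro _ ⟨g, hg, a, ha, rfl⟩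
  exact (mem_normalizer_iff.1 (hK hg) a).1 (hA ha)

theorem clC_comm (h : ∀ g ∈ H, ∀ v ∈ A, ∀ w ∈ A, v * (g * w * g⁻¹) = g * w * g⁻¹ * v) :
    ∀ x ∈ clC H A, ∀ y ∈ clC H A, x * y = y * x := by
  have h1 : clC H A ≤ centralizer (clC H A : Set G) := by
    rw [clC, closure_le]
    rintro _ ⟨g, hg, a, ha, rfl⟩
    rw [SetLike.mem_coe, mem_centralizer_iff]
    have h2 : closure {y | ∃ g ∈ H, ∃ a ∈ A, y = g * a * g⁻¹} ≤ centralizer ({g * a * g⁻¹} : Set G) := by
      rw [closure_le]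
      rintro _ ⟨g', hg', a', ha', rfl⟩
      rw [SetLike.mem_coe, mem_centralizer_singleton_iff]
      have h3 := h (g⁻¹ * g') (mul_mem (inv_mem hg) hg') a ha a' ha'
      calc g' * a' * g'⁻¹ * (g * a * g⁻¹) = g * ((g⁻¹ * g') * a' * (g⁻¹ * g')⁻¹ * a) * g⁻¹ := by group
        _ = g * (a * ((g⁻¹ * g') * a' * (g⁻¹ * g')⁻¹)) * g⁻¹ := by rw [h3]
        _ = g * a * g⁻¹ * (g' * a' * g'⁻¹) := by group
    intro y hy
    exact mem_centralizer_singleton_iff.1 (h2 hy)
  intro x hx y hy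
  exact (mem_centralizer_iff.1 (h1 hx) y hy).symm

theorem clC_sq (h : ∀ g ∈ H, ∀ v ∈ A, ∀ w ∈ A, v * (g * w * g⁻¹) = g * w * g⁻¹ * v) (hA : ∀ a ∈ A, a * a = 1) :
    ∀ x ∈ clC H A, x * x = 1 := by
  intro x hx
  have hc := clC_comm h
  rw [clC] at hx
  induction hx using closure_induction with
  | mem y hy =>
    obtain ⟨g, hg, a, ha, rfl⟩ := hy
    calc g * a * g⁻¹ * (g * a * g⁻¹) = g * (a * a) * g⁻¹ := by group
      _ = 1 := by rw [hA a ha]; group
  | one => rw [one_mul]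
  | mul y z hy hz h1 h2 =>
    have h3 := hc y hy z hz
    calc y * z * (y * z) = y * (z * y) * z := by group
      _ = y * (y * z) * z := by rw [h3]
      _ = (y * y) * (z * z) := by group
      _ = 1 := by rw [h1, h2, one_mul]
  | inv y hy h1 =>
    rw [← mul_inv_rev, h1, inv_one]

end clC

section mixTwo

variable {G : Type u} [Group G] [Finite G] {F : Type} [Field F] [Finite F] [CharP F 2] {S : Sylow 2 G}
  {P V D : Subgroup G} (M : NatD F S P V D 2) (hF : Nat.card F = 2)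

/-- `4` does not divide `|N_G(line M i) : stab M i|` -/
theorem not_four_dvd (i : Fin 2) :
    ¬ 4 ∣ (stab M.toNatV i).relIndex (normalizer (line M.toNatV i : Set G)) := by
  have : Fact (Nat.Prime 2) := ⟨Nat.prime_two⟩
  intro h4
  have hSP := SP M
  have hT2 : IsPGroup 2 (stab M.toNatV i) := S.isPGroup'.to_le (stab_le _ _)
  have hcard : Nat.card (S : Subgroup G) = 2 * Nat.card (stab M.toNatV i) := card_stab M.toNatV hSP i
  obtain ⟨T', h1, h2, h3, hn⟩ := Half.exists_sylow_le hT2 (stab_normalizes_line M.toNatV hSP i)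
  have h5 := relIndex_mul_relIndex _ _ _ h1 h2
  have h6 : (stab M.toNatV i).relIndex T' ≤ 2 := by
    have h7 := Half.card_mul_relIndex h1
    have h8 : Nat.card T' ≤ Nat.card (S : Subgroup G) := Half.card_le_sylow S h3
    have hpos : 0 < Nat.card (stab M.toNatV i) := Nat.card_pos
    by_contra hcon
    push Not at hcon
    have h9 : 3 * Nat.card (stab M.toNatV i) ≤ Nat.card T' := by
      rw [← h7, mul_comm]
      exact Nat.mul_le_mul_left _ hcon
    omega
  rw [← h5] at h4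
  have h7 : (stab M.toNatV i).relIndex T' ≠ 0 := fun h => by
    have h8 := Half.card_mul_relIndex h1
    rw [h, mul_zero] at h8
    exact Nat.card_pos.ne h8
  have h8 : (stab M.toNatV i).relIndex T' = 1 ∨ (stab M.toNatV i).relIndex T' = 2 := by omega
  rcases h8 with h8 | h8
  · rw [h8, one_mul] at h4
    exact hn (dvd_trans (by norm_num) h4)
  · rw [h8] at h4
    exact hn (Nat.dvd_of_mul_dvd_mul_left (by norm_num : 0 < 2) h4)

include hF in
/-- **THEOREM MIX2** -/
theorem mix_two {i j : Fin 2} (hij : i ≠ j)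
    (hu : ∀ g ∈ normalizer (line M.toNatV i : Set G), ∀ v ∈ fac M.toNatV i, ∀ w ∈ fac M.toNatV i,
      v * (g * w * g⁻¹) = g * w * g⁻¹ * v)
    {E : Subgroup G} (hE4 : Nat.card E = 4) (hEsq : ∀ e ∈ E, e * e = 1) (hlE : line M.toNatV i ≤ E)
    (hEt : ∀ u ∈ line M.toNatV i, u ≠ 1 → ∀ v ∈ E, v ≠ 1 → ∃ g ∈ normalizer (E : Set G), g * u * g⁻¹ = v)
    (hEK : E ≤ KX (line M.toNatV i))
    (hmove : ∃ e ∈ E, ∃ v ∈ fac M.toNatV i, e * v ≠ v * e)
    (hu' : ∀ g ∈ normalizer (line M.toNatV i : Set G), ∀ v ∈ E, ∀ w ∈ E,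
      v * (g * w * g⁻¹) = g * w * g⁻¹ * v) : False := by
  obtain ⟨x, a, b, c, h⟩ := exists_abc M hF i
  obtain ⟨x', a', b', c', h'⟩ := exists_abc M hF j
  have hSP := SP M
  set C := normalizer (line M.toNatV i : Set G) with hC
  have hCa : C = centralizer ({a} : Set G) := normalizer_line_eq M hF h.a_mem h.a1
  have haa : a * a = 1 := NV.sq M.toNatV h.a_fac.1
  have hline : ∀ y, y ∈ line M.toNatV i ↔ y = 1 ∨ y = a := by
    intro y
    refine ⟨fun hy => line_cases M hF h.a_mem h.a1 hy, ?_⟩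
    rintro (rfl | rfl)
    · exact one_mem _
    · exact h.a_mem
  have hlz : line M.toNatV i = zpowers a := by
    ext y
    rw [hline, MixAny.mem_zp haa]
  have haE : a ∈ E := hlE h.a_mem
  -- `KX`
  have hKQ : KX (line M.toNatV i) ≤ o2 C :=
    KX_le (char2_line' M i) fun _ hy => NV.sq M.toNatV ((mem_line _).1 hy).1.1
  have hKC : C ≤ normalizer (KX (line M.toNatV i) : Set G) := normalizer_le_normalizer_KX _
  have hjQ := fac_le_o2_line M hij
  have hVK : V ≤ KX (line M.toNatV i) := by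
    refine (NV.sup_fac M.toNatV hij).ge.trans (sup_le (fac_le_KX' M (Or.inr rfl) i) ?_)
    intro v hv
    rw [mem_KX]
    refine ⟨fun y hy => NV.comm M.toNatV hv.1 ((mem_line _).1 hy).1.1, fun q hq => ?_⟩
    rw [mem_centralizer_iff.1 (hjQ.2 hq) v hv, mul_inv_cancel_right, mul_inv_cancel]
    exact one_mem _
  have hVQ : V ≤ o2 C := hVK.trans hKQ
  -- `W`, `W'`
  have hV : ∀ g ∈ C, ∀ v ∈ V, ∀ w ∈ V, v * (g * w * g⁻¹) = g * w * g⁻¹ * v := by
    intro g hg v hv w hw
    obtain ⟨p, hp, q, hq, rfl⟩ := exists_comp2 M.toNatV hij hv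
    obtain ⟨r, hr, s, hs, rfl⟩ := exists_comp2 M.toNatV hij hw
    have hgr : g * r * g⁻¹ ∈ o2 C := (mem_normalizer_iff.1 (le_normalizer_o2 _ hg) r).1 (hVQ hr.1)
    have h1 := hu g hg p hp r hr
    have h2 : q * (g * r * g⁻¹) = g * r * g⁻¹ * q := mem_centralizer_iff.1 (hjQ.2 hgr) q hq
    have h3 : p * (g * s * g⁻¹) = g * s * g⁻¹ * p := by
      have hgp : g⁻¹ * p * g ∈ o2 C := by
        have := (mem_normalizer_iff.1 (le_normalizer_o2 _ (inv_mem hg)) p).1 (hVQ hp.1)
        rwa [inv_inv] at this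
      have h4 : s * (g⁻¹ * p * g) = g⁻¹ * p * g * s := mem_centralizer_iff.1 (hjQ.2 hgp) s hs
      calc p * (g * s * g⁻¹) = g * (g⁻¹ * p * g * s) * g⁻¹ := by group
        _ = g * (s * (g⁻¹ * p * g)) * g⁻¹ := by rw [h4]
        _ = g * s * g⁻¹ * p := by group
    have h4 : q * (g * s * g⁻¹) = g * s * g⁻¹ * q := by
      have hgs : g * s * g⁻¹ ∈ o2 C := (mem_normalizer_iff.1 (le_normalizer_o2 _ hg) s).1 (hVQ hs.1)
      exact mem_centralizer_iff.1 (hjQ.2 hgs) q hq
    calc p * q * (g * (r * s) * g⁻¹) = p * (q * (g * r * g⁻¹)) * (g * s * g⁻¹) := by group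
      _ = (p * (g * r * g⁻¹)) * (q * (g * s * g⁻¹)) := by rw [h2]; group
      _ = (g * r * g⁻¹) * (p * (g * s * g⁻¹)) * q := by rw [h1, h4]; group
      _ = g * (r * s) * g⁻¹ * (p * q) := by rw [h3]; group
  have hEQ : E ≤ o2 C := hEK.trans hKQ
  set W := clC C V with hW
  set W' := clC C E with hW'
  have W_comm : ∀ x ∈ W, ∀ y ∈ W, x * y = y * x := clC_comm hV
  have W_sq : ∀ x ∈ W, x * x = 1 := clC_sq hV fun v hv => NV.sq M.toNatV hv
  have W'_comm : ∀ x ∈ W', ∀ y ∈ W', x * y = y * x := clC_comm hu'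
  have W'_sq : ∀ x ∈ W', x * x = 1 := clC_sq hu' hEsq
  have hWK : W ≤ KX (line M.toNatV i) := clC_le hKC hVK
  have hW'K : W' ≤ KX (line M.toNatV i) := clC_le hKC hEK
  have hWQ : W ≤ o2 C := hWK.trans hKQ
  have hW'Q : W' ≤ o2 C := hW'K.trans hKQ
  have hcC : ∀ g : G, g * a = a * g → g ∈ C := fun g hg => by
    rw [hCa, mem_centralizer_singleton_iff]; exact hg
  have nW : ∀ g : G, g * a = a * g → ∀ y ∈ W, g * y * g⁻¹ ∈ W := fun g hg y hy => clC_conj (hcC g hg) hy
  have nW' : ∀ g : G, g * a = a * g → ∀ y ∈ W', g * y * g⁻¹ ∈ W' := fun g hg y hy => clC_conj (hcC g hg) hy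
  have hfW : fac M.toNatV i ≤ W := (fac_le _ _).trans le_clC
  have hEW' : E ≤ W' := le_clC
  have comm1 : ∀ y ∈ W, ∀ z ∈ o2 C, y * z * y⁻¹ * z⁻¹ = 1 ∨ y * z * y⁻¹ * z⁻¹ = a := fun y hy z hz =>
    (hline _).1 ((mem_KX.1 (hWK hy)).2 z hz)
  have comm2 : ∀ y ∈ W', ∀ z ∈ o2 C, y * z * y⁻¹ * z⁻¹ = 1 ∨ y * z * y⁻¹ * z⁻¹ = a := fun y hy z hz =>
    (hline _).1 ((mem_KX.1 (hW'K hy)).2 z hz)
  obtain ⟨e, he, v, hv, hne⟩ := hmove
  -- the two nodes
  have N1 : MixAny.Node (fac M.toNatV i) W' W a :=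
    { card := by rw [card_fac, hF]; norm_num
      sq := fun v hv => NV.sq M.toNatV hv.1
      n_mem := h.a_fac
      n_ne := h.a1
      trans := by
        intro v hv hv1
        have hxn : x ∈ normalizer (fac M.toNatV i : Set G) := grp_normalizes _ {i} {i} h.x_mem
        rcases h.all v hv with h1 | h1 | h1 | h1
        · exact absurd h1 hv1
        · exact ⟨1, one_mem _, by rw [h1]; group⟩
        · exact ⟨x, hxn, by rw [h1, h.xa]⟩
        · refine ⟨x * x, mul_mem hxn hxn, ?_⟩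
          rw [h1, ← h.xb, ← h.xa]
          group
      nA := nW'
      nC := nW
      A_comm := W'_comm
      A_sq := W'_sq
      C_comm := W_comm
      C_sq := W_sq
      n_A := hEW' haE
      V_C := hfW
      CA := fun c hc y hy => comm1 c hc y (hW'Q hy)
      move := ⟨e, hEW' he, v, hv, hne⟩ }
  have N2 : MixAny.Node E W W' a :=
    { card := hE4
      sq := hEsq
      n_mem := haE
      n_ne := h.a1
      trans := hEt a h.a_mem h.a1
      nA := nW
      nC := nW'
      A_comm := W_comm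
      A_sq := W_sq
      C_comm := W'_comm
      C_sq := W'_sq
      n_A := hfW h.a_fac
      V_C := hEW'
      CA := fun c hc y hy => comm2 c hc y (hWQ hy)
      move := ⟨v, hfW hv, e, he, hne.symm⟩ }
  have hza : normalizer (zpowers a : Set G) = C := by rw [hC, hlz]
  let i₀ : MixAny.Pt (fac M.toNatV i) := ⟨a, h.a_fac, h.a1⟩
  let j₀ : MixAny.Pt E := ⟨a, haE, h.a1⟩
  have t : MixAny.TwoS (fac M.toNatV i) E (fun x : MixAny.Pt (fac M.toNatV i) => zpowers x.1)
      (fun x => MixAny.tr W' a x.1) (fun x => MixAny.tr W a x.1) (fun x : MixAny.Pt E => zpowers x.1)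
      (fun x => MixAny.tr W a x.1) (fun x => MixAny.tr W' a x.1) i₀ j₀ :=
    { s₁ := N1.side
      s₂ := N2.side
      hR := rfl
      hB := rfl
      hC := rfl
      ch := by
        intro y hy hyc
        change y ∈ o2 (normalizer (zpowers a : Set G))
        have hy' : y ∈ normalizer (zpowers a : Set G) := hy
        have hyc' : ∀ q ∈ o2 (normalizer (zpowers a : Set G)), y * q = q * y := hyc
        rw [hza] at hy' hyc' ⊢
        exact char2_line' M i ⟨hy', mem_centralizer_iff.2 fun q hq => (hyc' q hq).symm⟩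
      NL := by
        intro K hK h1 h2 h3
        by_contra hK1
        rw [N1.ST_eq] at h1
        rw [N2.ST_eq] at h2
        have h3' : C ≤ normalizer (K : Set G) := hza ▸ h3
        have hH := MinSimple.Basic.char2_normalizer M.hG hK hK1
        have hT : stab M.toNatV i ≤ normalizer (K : Set G) := (stab_normalizes_line M.toNatV hSP i).trans h3'
        obtain ⟨h4, h5⟩ := half_two M hij.symm hH (by rw [← stab_eq M.toNatV hSP hij]; exact hT)
          ((grp_normalizes _ {i} {i}).trans h1)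
        apply hne
        have h6 : e ∈ o2 (normalizer (K : Set G)) := by
          by_cases he1 : e = 1
          · rw [he1]; exact one_mem _
          obtain ⟨g, hg, hge⟩ := hEt a h.a_mem h.a1 e he he1
          rw [← hge]
          exact (mem_normalizer_iff.1 (le_normalizer_o2 _ (h2 hg)) a).1 (h4 h.a_fac)
        exact (mem_centralizer_iff.1 (h5 h6) v hv).symm }
  have hWj : ∀ z ∈ fac M.toNatV j, z ∈ W ⊓ Mix.YY W W' := by
    intro z hz
    have hzW : z ∈ W := le_clC (fac_le _ _ hz)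
    refine mem_inf.2 ⟨hzW, ?_⟩
    rw [Mix.mem_YY]
    exact ⟨fun y hy => W_comm z hzW y hy, fun y hy => mem_centralizer_iff.1 (hjQ.2 (hW'Q hy)) z hz⟩
  have hB2 : MixAny.tr W a a = W := N2.tr_n
  have hC2 : MixAny.tr W' a a = W' := N2.tr_n'
  have hWj' : ∀ z ∈ fac M.toNatV j, z ∈ MixAny.tr W a a ⊓ Mix.YY (MixAny.tr W a a) (MixAny.tr W' a a) := by
    rw [hB2, hC2]; exact hWj
  have good_a : ∀ z : G, (∃ y ∈ grp M.toNatV {j}, z = y * a' * y⁻¹) → a ∈ o2 (centralizer ({z} : Set G)) ∧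
      ∀ q ∈ o2 (centralizer ({z} : Set G)), v * q = q * v := by
    have hst : stab M.toNatV i = stab M.toNatV j := stab_eq M.toNatV hSP hij
    have g0 := cent_half M hij (e := a') (by rw [pow_two]; exact NV.sq M.toNatV h'.a_fac.1) h'.a1
      (fun t ht => mul_inv_eq_iff_eq_mul.1 (h'.stab_a (hst ▸ ht)))
      (fun g hg => grp_comm M.toNatV (by simpa using hij) hg h'.a_fac)
    rintro z ⟨y, hy, rfl⟩
    have hyc : ∀ w ∈ fac M.toNatV i, y * w = w * y := fun w hw => grp_comm M.toNatV (by simpa using hij.symm) hy hw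
    have e1 : centralizer ({y * a' * y⁻¹} : Set G) = BTwo.cj y (centralizer ({a'} : Set G)) := by
      ext g
      rw [BTwo.mem_cj, mem_centralizer_singleton_iff, mem_centralizer_singleton_iff]
      constructor
      · intro h1
        calc y⁻¹ * g * y * a' = y⁻¹ * (g * (y * a' * y⁻¹)) * y := by group
          _ = y⁻¹ * (y * a' * y⁻¹ * g) * y := by rw [h1]
          _ = a' * (y⁻¹ * g * y) := by group
      · intro h1
        calc g * (y * a' * y⁻¹) = y * (y⁻¹ * g * y * a') * y⁻¹ := by group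
          _ = y * (a' * (y⁻¹ * g * y)) * y⁻¹ := by rw [h1]
          _ = y * a' * y⁻¹ * g := by group
    have e2 : o2 (centralizer ({y * a' * y⁻¹} : Set G)) = BTwo.cj y (o2 (centralizer ({a'} : Set G))) := by
      rw [e1]
      exact (BTwo.cj_O2 y _).symm
    rw [e2]
    refine ⟨?_, fun q hq => ?_⟩
    · rw [BTwo.mem_cj]
      have e3 : y⁻¹ * a * y = a := by
        have := hyc a h.a_fac
        rw [mul_assoc, ← this, inv_mul_cancel_left]
      rw [e3]
      exact g0.1 h.a_fac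
    · rw [BTwo.mem_cj] at hq
      have h1 := mem_centralizer_iff.1 (g0.2 hq) v hv
      have h2 := hyc v hv
      calc v * q = (v * y) * (y⁻¹ * q * y) * y⁻¹ := by group
        _ = y * (v * (y⁻¹ * q * y)) * y⁻¹ := by rw [← h2]; group
        _ = q * (y * v) * y⁻¹ := by rw [h1]; group
        _ = q * v := by rw [h2]; group
  refine t.false_of (n := a) (T := stab M.toNatV i) (b := v) (x := a') (y := b')
    (fun g => MixAny.mem_zp haa) ?_ ?_ ?_ ?_ ?_ ?_ (hWj' a' h'.a_fac) (hWj' b' h'.b_mem) ?_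
  · intro q hq w hw
    change w * q * w⁻¹ * q⁻¹ ∈ zpowers a
    have hq' : q ∈ o2 (normalizer (zpowers a : Set G)) := hq
    rw [hza] at hq'
    have hw' : w ∈ W := hB2 ▸ hw
    rw [MixAny.mem_zp haa]
    exact comm1 w hw' q hq'
  · change stab M.toNatV i ≤ normalizer (zpowers a : Set G)
    rw [hza]
    exact stab_normalizes_line M.toNatV hSP i
  · change ¬ 4 ∣ (stab M.toNatV i).relIndex (normalizer (zpowers a : Set G))
    rw [hza]
    exact not_four_dvd M i
  · change v ∈ MixAny.tr W a a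
    rw [hB2]
    exact hfW hv
  · intro hall
    exact hne (hall e he).symm
  · intro s hs
    change v * s * v⁻¹ * s⁻¹ ∈ zpowers a
    rw [MixAny.mem_zp haa]
    have hsa := h.stab_a hs
    have hvv : v⁻¹ = v := inv_eq_of_mul_eq_one_left (NV.sq M.toNatV hv.1)
    have e1 : v * s * v⁻¹ * s⁻¹ = v * (s * v * s⁻¹) := by rw [hvv]; group
    rw [e1]
    have hvv' : v * v = 1 := NV.sq M.toNatV hv.1
    have hbb : b * b = 1 := NV.sq M.toNatV h.b_mem.1
    have hcc : c * c = 1 := NV.sq M.toNatV h.c_mem.1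
    have hab : a * b = b * a := NV.comm M.toNatV h.a_fac.1 h.b_mem.1
    have hbc : b * c = a := by
      rw [← h.mul, hab, ← mul_assoc, hbb, one_mul]
    have hcb : c * b = a := by
      rw [← h.mul, mul_assoc, hbb, mul_one]
    rcases h.all v hv with h1 | h1 | h1 | h1
    · left; rw [h1]; group
    · left; rw [h1, hsa, haa]
    · rcases h.conj_b (stab_normalizes _ i hs) hsa with ⟨h2, -⟩ | ⟨h2, -⟩
      · left; rw [h1, h2, hbb]
      · right; rw [h1, h2, hbc]
    · rcases h.conj_b (stab_normalizes _ i hs) hsa with ⟨-, h2⟩ | ⟨-, h2⟩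
      · left; rw [h1, h2, hcc]
      · right; rw [h1, h2, hcb]
  · rintro z (rfl | rfl | rfl)
    · exact good_a _ ⟨1, one_mem _, by group⟩
    · exact good_a _ ⟨x', h'.x_mem, h'.xa.symm⟩
    · refine good_a _ ⟨x' * x', mul_mem h'.x_mem h'.x_mem, ?_⟩
      rw [h'.mul, ← h'.xb, ← h'.xa]
      group

end mixTwo

end Cfsg.Agent.Omega.IId.NV
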