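import Cfsg.Agent.Omega.IId.Cv.MixNode

/-!
# THEOREM MIX-S (helper994): the count

* `SylIdx.exists_conj_pow` : `2^(d+1) ∤ |O : A|`, `J` a 2-subgroup of `O`: `|J : J ∩ A^g| ≤ 2^d` for some `g ∈ O`;
* `MixAny.relIndex_B0_le` : `|I i : B₀| ≤ 2^(d+1)` if a 2-group `T ≤ N(R i)`, `2^(d+1) ∤ |N(R i) : T|`, fixes a coset
  `b (R i)`, `b ∈ B i` moving `V`;
* `MixAny.false_of_goodPt` : no `z ∈ B₀` with `n ∈ O₂(C_G(z))`, `[b, O₂(C_G(z))] = 1`, `b ∈ B i` moving `V`;
* `MixAny.exists_pigeon` : pigeonhole.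
-/

set_option autoImplicit false
set_option linter.unusedSectionVars false

namespace Cfsg.Agent.Omega.IId.SylIdx

open Subgroup Cfsg.Agent.Omega.BTwo

theorem exists_conj_top_pow {O : Type*} [Group O] [Finite O] {A J : Subgroup O} (hJ : IsPGroup 2 J) {d : ℕ}
    (h4 : ¬ 2 ^ (d + 1) ∣ A.index) : ∃ g : O, (cj g A).relIndex J ≤ 2 ^ d := by
  have : Fact (Nat.Prime 2) := ⟨Nat.prime_two⟩
  obtain ⟨Pa, hPa⟩ := hJ.exists_le_sylow
  obtain ⟨B⟩ : Nonempty (Sylow 2 A) := inferInstance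
  have hB' : IsPGroup 2 ((B : Subgroup A).map A.subtype) := B.isPGroup'.map _
  obtain ⟨Pb, hPb⟩ := hB'.exists_le_sylow
  obtain ⟨g, hg⟩ := MulAction.exists_smul_eq O Pb Pa
  refine ⟨g, ?_⟩
  set Bg := cj g ((B : Subgroup A).map A.subtype) with hBg
  have h1 : Bg ≤ cj g A := cj_mono (map_subtype_le _)
  have h2 : Bg ≤ (Pa : Subgroup O) := by
    rw [← hg]
    rw [Sylow.coe_subgroup_smul]
    rintro x ⟨y, hy, rfl⟩
    exact Subgroup.smul_mem_pointwise_smul _ (MulAut.conj g) _ (hPb hy)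
  have c1 : Nat.card Bg = 2 ^ (Nat.card A).factorization 2 := by
    rw [hBg, card_cj, ← B.card_eq_multiplicity]
    exact Nat.card_congr ((B : Subgroup A).equivMapOfInjective A.subtype A.subtype_injective).toEquiv.symm
  have c2 := Pa.card_eq_multiplicity
  have hc : Nat.card O = Nat.card A * A.index := (A.card_mul_index).symm
  have hi0 : A.index ≠ 0 := A.index_ne_zero_of_finite
  have hA0 : Nat.card A ≠ 0 := Nat.card_pos.ne'
  have hf : A.index.factorization 2 ≤ d := by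
    by_contra h
    apply h4
    exact (Nat.prime_two.pow_dvd_iff_le_factorization hi0).2 (by omega)
  have c3 : Nat.card (Pa : Subgroup O) ≤ 2 ^ d * Nat.card Bg := by
    rw [c2, c1, hc, Nat.factorization_mul hA0 hi0, Finsupp.add_apply, pow_add, mul_comm]
    exact Nat.mul_le_mul_right _ (Nat.pow_le_pow_right (by norm_num) hf)
  have c4 : Bg.relIndex (Pa : Subgroup O) ≤ 2 ^ d := by
    have h5 : Nat.card Bg * Bg.relIndex (Pa : Subgroup O) = Nat.card (Pa : Subgroup O) := by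
      have h6 := relIndex_mul_relIndex ⊥ Bg (Pa : Subgroup O) bot_le h2
      rwa [relIndex_bot_left, relIndex_bot_left] at h6
    have h7 : Nat.card Bg * Bg.relIndex (Pa : Subgroup O) ≤ Nat.card Bg * 2 ^ d := by
      rw [h5, mul_comm]; exact c3
    exact Nat.le_of_mul_le_mul_left h7 Nat.card_pos
  have fin : ∀ H K : Subgroup O, H.relIndex K ≠ 0 := fun H K => Subgroup.index_ne_zero_of_finite
  calc (cj g A).relIndex J ≤ Bg.relIndex J := relIndex_le_of_le_left h1 (fin _ _)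
    _ ≤ Bg.relIndex (Pa : Subgroup O) := relIndex_le_of_le_right hPa (fin _ _)
    _ ≤ 2 ^ d := c4

theorem exists_conj_pow {G : Type*} [Group G] [Finite G] {O A J : Subgroup G} (hAO : A ≤ O) (hJO : J ≤ O)
    (hJ : IsPGroup 2 J) {d : ℕ} (h4 : ¬ 2 ^ (d + 1) ∣ A.relIndex O) : ∃ g ∈ O, (cj g A).relIndex J ≤ 2 ^ d := by
  obtain ⟨g, hg⟩ := exists_conj_top_pow (O := O) (A := A.subgroupOf O) (J := J.subgroupOf O)
    (hJ.comap_of_injective _ O.subtype_injective) h4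
  refine ⟨g, g.2, ?_⟩
  have e1 : (J.subgroupOf O).map O.subtype = J := by
    rw [subgroupOf_map_subtype, inf_eq_left.2 hJO]
  have e2 : (cj g (A.subgroupOf O)).map O.subtype = cj (g : G) A := by
    rw [cj, map_map, cj]
    conv_rhs => rw [← inf_eq_left.2 hAO, ← subgroupOf_map_subtype, map_map]
    rfl
  have h1 := relIndex_map_map_of_injective (cj g (A.subgroupOf O)) (J.subgroupOf O) O.subtype_injective
  rw [e1, e2] at h1
  rw [h1]
  exact hg

theorem relIndex_cj {G : Type*} [Group G] (g : G) (A B : Subgroup G) :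
    (cj g A).relIndex (cj g B) = A.relIndex B :=
  relIndex_map_map_of_injective A B (MulAut.conj g).injective

/-- `A ∩ J ≤ X`, `|X : X ∩ B| ≤ b`, `|J : J ∩ A| ≤ a` imply `|J : J ∩ B| ≤ b a` -/
theorem relIndex_le_mul {G : Type*} [Group G] [Finite G] {A J X B : Subgroup G} (hX : A ⊓ J ≤ X) {a b : ℕ}
    (ha : A.relIndex J ≤ a) (hb : B.relIndex X ≤ b) : B.relIndex J ≤ b * a := by
  have fin : ∀ H K : Subgroup G, H.relIndex K ≠ 0 := fun H K => Subgroup.index_ne_zero_of_finite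
  have h1 : (B ⊓ (A ⊓ J)).relIndex (A ⊓ J) * (A ⊓ J).relIndex J = (B ⊓ (A ⊓ J)).relIndex J :=
    relIndex_mul_relIndex _ _ _ inf_le_right inf_le_right
  rw [inf_relIndex_right, inf_relIndex_right] at h1
  calc B.relIndex J ≤ (B ⊓ (A ⊓ J)).relIndex J := relIndex_le_of_le_left inf_le_left (fin _ _)
    _ = B.relIndex (A ⊓ J) * A.relIndex J := h1.symm
    _ ≤ b * a := Nat.mul_le_mul ((relIndex_le_of_le_right hX (fin _ _)).trans hb) ha

end Cfsg.Agent.Omega.IId.SylIdx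

namespace Cfsg.Agent.Omega.IId.MixAny

open Subgroup Cfsg.Agent.Omega.BTwo Cfsg.Agent.Omega.Mix Cfsg.Agent.Omega.MixOne
open Cfsg.Agent.Omega.IId.SylIdx

variable {G : Type*} [Group G] {ι : Type*} {V : Subgroup G} {R B C : ι → Subgroup G} (s : SideW V R B C)
include s

/-- `B₀` has index at most 2 in a subgroup of `(R j) B₀` -/
theorem B0_relIndex_le [Finite G] {j : ι} (hR2 : Nat.card (R j) = 2) {X : Subgroup G} (hX : ∀ x ∈ X, InK R B j x) :
    (⨅ k, B k).relIndex X ≤ 2 := by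
  have fin : ∀ H K : Subgroup G, H.relIndex K ≠ 0 := fun H K => Subgroup.index_ne_zero_of_finite
  have h1 : X ≤ R j ⊔ ⨅ k, B k := by
    intro x hx
    obtain ⟨r, hr, y, hy, rfl⟩ := hX x hx
    exact mul_mem_sup hr hy
  have h2 : (⨅ k, B k) ≤ normalizer (R j : Set G) := by
    intro y hy
    refine mem_normalizer_of_conj fun r hr => ?_
    rw [← s.B0_comm hy j r (s.R_B j hr), mul_inv_cancel_right]
    exact hr
  have h3 : (⨅ k, B k).relIndex (R j ⊔ ⨅ k, B k) = (⨅ k, B k).relIndex (R j) := by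
    rw [sup_comm]
    exact (relIndex_sup_of_normalizes h2).symm
  calc (⨅ k, B k).relIndex X ≤ (⨅ k, B k).relIndex (R j ⊔ ⨅ k, B k) := relIndex_le_of_le_right h1 (fin _ _)
    _ = (⨅ k, B k).relIndex (R j) := h3
    _ ≤ (⊥ : Subgroup G).relIndex (R j) := relIndex_le_of_le_left bot_le (fin _ _)
    _ = 2 := by rw [relIndex_bot_left, hR2]

/-- **The count.** -/
theorem relIndex_B0_le [Finite G] {i j : ι} (hij : i ≠ j) (hR2 : Nat.card (R j) = 2) {T : Subgroup G}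
    (hTR : T ≤ normalizer (R i : Set G)) {d : ℕ}
    (h4 : ¬ 2 ^ (d + 1) ∣ T.relIndex (normalizer (R i : Set G))) {b : G} (hb : b ∈ B i)
    (hbV : ¬ ∀ v ∈ V, b * v = v * b) (hbT : ∀ t ∈ T, b * t * b⁻¹ * t⁻¹ ∈ R i) :
    (⨅ k, B k).relIndex (B i ⊓ YY (B i) (C i)) ≤ 2 ^ (d + 1) := by
  set H := normalizer (R i : Set G) with hH
  set I := B i ⊓ YY (B i) (C i) with hI
  have hnB : H ≤ normalizer (B i : Set G) := s.nB i
  have hnI : H ≤ normalizer (I : Set G) := nII s i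
  let O : Subgroup G :=
    { carrier := {g | g ∈ H ∧ ∀ w ∈ B i, g * w * g⁻¹ * w⁻¹ ∈ I}
      one_mem' := ⟨one_mem _, fun w _ => by
        have e : 1 * w * 1⁻¹ * w⁻¹ = 1 := by group
        rw [e]; exact one_mem _⟩
      mul_mem' := by
        rintro a c ⟨a1, a2⟩ ⟨c1, c2⟩
        refine ⟨mul_mem a1 c1, fun w hw => ?_⟩
        have e : a * c * w * (a * c)⁻¹ * w⁻¹ = (a * (c * w * c⁻¹ * w⁻¹) * a⁻¹) * (a * w * a⁻¹ * w⁻¹) := by group
        rw [e]
        exact mul_mem (conj_mem_of_normalizer (hnI a1) (c2 w hw)) (a2 w hw)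
      inv_mem' := by
        rintro a ⟨a1, a2⟩
        refine ⟨inv_mem a1, fun w hw => ?_⟩
        have h1 : a⁻¹ * w * a ∈ B i := conj_inv_mem_of_normalizer (hnB a1) hw
        have h2 := inv_mem (a2 _ h1)
        have e : (a * (a⁻¹ * w * a) * a⁻¹ * (a⁻¹ * w * a)⁻¹)⁻¹ = a⁻¹ * w * a⁻¹⁻¹ * w⁻¹ := by group
        rwa [e] at h2 }
  let A : Subgroup G :=
    { carrier := {g | g ∈ O ∧ g * b * g⁻¹ * b⁻¹ ∈ R i}
      one_mem' := ⟨one_mem _, by
        have e : 1 * b * 1⁻¹ * b⁻¹ = 1 := by group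
        rw [e]; exact one_mem _⟩
      mul_mem' := by
        rintro a c ⟨a1, a2⟩ ⟨c1, c2⟩
        refine ⟨mul_mem a1 c1, ?_⟩
        have e : a * c * b * (a * c)⁻¹ * b⁻¹ = (a * (c * b * c⁻¹ * b⁻¹) * a⁻¹) * (a * b * a⁻¹ * b⁻¹) := by group
        rw [e]
        exact mul_mem (conj_mem_of_normalizer a1.1 c2) a2
      inv_mem' := by
        rintro a ⟨a1, a2⟩
        refine ⟨inv_mem a1, ?_⟩
        have h1 := conj_inv_mem_of_normalizer a1.1 (inv_mem a2)
        have e : a⁻¹ * b * a⁻¹⁻¹ * b⁻¹ = a⁻¹ * (a * b * a⁻¹ * b⁻¹)⁻¹ * a := by group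
        rw [e]; exact h1 }
  have hOH : O ≤ H := fun g hg => hg.1
  have hAO : A ≤ O := fun g hg => hg.1
  have hOn : H ≤ normalizer (O : Set G) := by
    intro h hh
    refine mem_normalizer_of_conj fun a ha => ?_
    refine ⟨H.mul_mem (H.mul_mem hh ha.1) (H.inv_mem hh), fun w hw => ?_⟩
    have h1 := conj_mem_of_normalizer (hnI hh) (ha.2 _ (conj_inv_mem_of_normalizer (hnB hh) hw))
    have e : h * (a * (h⁻¹ * w * h) * a⁻¹ * (h⁻¹ * w * h)⁻¹) * h⁻¹ =
        h * a * h⁻¹ * w * (h * a * h⁻¹)⁻¹ * w⁻¹ := by group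
    rwa [e] at h1
  have hTA : T ⊓ O ≤ A := by
    rintro t ⟨ht, htO⟩
    refine ⟨htO, ?_⟩
    have h1 := inv_mem (hbT t ht)
    have e : (b * t * b⁻¹ * t⁻¹)⁻¹ = t * b * t⁻¹ * b⁻¹ := by group
    rwa [e] at h1
  have hA4 : ¬ 2 ^ (d + 1) ∣ A.relIndex O := by
    intro h
    apply h4
    refine h.trans ((relIndex_dvd_of_le_left O hTA).trans ?_)
    rw [inf_relIndex_right, relIndex_sup_of_normalizes (hTR.trans hOn)]
    exact Dvd.intro _ (relIndex_mul_relIndex _ _ _ le_sup_left (sup_le hTR hOH))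
  have hJO : B j ⊓ YY (B j) (C j) ≤ O := by
    intro u hu
    refine ⟨s.cV_le_NR (s.Y_V hu.2) i, fun w hw => ?_⟩
    have h1 := inv_mem (comm_II s hw hu.2)
    have e : (w * u * w⁻¹ * u⁻¹)⁻¹ = u * w * u⁻¹ * w⁻¹ := by group
    rwa [e] at h1
  have hJ2 : IsPGroup 2 (B j ⊓ YY (B j) (C j) : Subgroup G) := fun x => ⟨1, by
    apply Subtype.ext
    change (x : G) ^ 2 ^ 1 = 1
    rw [pow_one, pow_two]
    exact s.B_sq j _ x.2.1⟩
  obtain ⟨g, hg, hidx⟩ := exists_conj_pow hAO hJO hJ2 hA4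
  have key : ∀ u ∈ cj g A ⊓ (B j ⊓ YY (B j) (C j)), InK R B j u := by
    intro u hu0
    obtain ⟨hug, hu⟩ := mem_inf.1 hu0
    rw [mem_cj] at hug
    have h1 := conj_mem_of_normalizer hg.1 hug.2
    set b' := g * b * g⁻¹ with hb'
    have e1 : g * (g⁻¹ * u * g * b * (g⁻¹ * u * g)⁻¹ * b⁻¹) * g⁻¹ = u * b' * u⁻¹ * b'⁻¹ := by rw [hb']; group
    rw [e1] at h1
    have h2 := hg.2 b hb
    have hb'B : b' ∈ B i := conj_mem_of_normalizer (hnB hg.1) hb
    have hb'V : ¬ ∀ v ∈ V, b' * v = v * b' := by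
      intro hall
      apply hbV
      intro v hv
      have h3 := s.Y_V h2.2 v hv
      have e : b = (g * b * g⁻¹ * b⁻¹)⁻¹ * b' := by rw [hb']; group
      have h4 : (g * b * g⁻¹ * b⁻¹)⁻¹ * v = v * (g * b * g⁻¹ * b⁻¹)⁻¹ := by
        rw [inv_mul_eq_iff_eq_mul, ← mul_assoc, h3, mul_inv_cancel_right]
      rw [e]
      calc (g * b * g⁻¹ * b⁻¹)⁻¹ * b' * v = (g * b * g⁻¹ * b⁻¹)⁻¹ * (b' * v) := by group
        _ = ((g * b * g⁻¹ * b⁻¹)⁻¹ * v) * b' := by rw [hall v hv]; group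
        _ = v * ((g * b * g⁻¹ * b⁻¹)⁻¹ * b') := by rw [h4]; group
    have h5 := inv_mem h1
    have e2 : (u * b' * u⁻¹ * b'⁻¹)⁻¹ = b' * u * b'⁻¹ * u⁻¹ := by group
    rw [e2] at h5
    exact s.mem_R_of_comm hij hb'B hb'V hu.1 h5
  have hJ : (⨅ k, B k).relIndex (B j ⊓ YY (B j) (C j)) ≤ 2 ^ (d + 1) := by
    have h1 := B0_relIndex_le s hR2 key
    have h2 := relIndex_le_mul le_rfl hidx h1
    rwa [← pow_succ'] at h2
  -- transport to `i`
  obtain ⟨m, -, -, x, hx, e⟩ := s.trans_B i j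
  have e1 : B j ⊓ YY (B j) (C j) = cj x I := by
    rw [hI, cj_inf, s.cB x i j e, s.cY e]
  have e2 : (⨅ k, B k) = cj x (⨅ k, B k) := by
    apply le_antisymm
    · intro y hy
      rw [mem_cj]
      have h1 := s.B0_comm hy m x hx
      rw [mul_assoc, ← h1, inv_mul_cancel_left]
      exact hy
    · rw [cj_le_iff]
      intro y hy
      rw [s.B0_comm hy m x hx, mul_inv_cancel_right]
      exact hy
  rw [e1, e2, relIndex_cj] at hJ
  exact hJ

/-- **The end**: a good `z ∈ B₀`. -/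
theorem false_of_goodPt [Finite G] {i : ι} {n : G} (mem_R : ∀ g, g ∈ R i ↔ g = 1 ∨ g = n) {b z : G} (hb : b ∈ B i)
    (hbV : ¬ ∀ v ∈ V, b * v = v * b) (hz : z ∈ ⨅ k, B k) (g1 : n ∈ O2 (centralizer ({z} : Set G)))
    (g2 : ∀ q ∈ O2 (centralizer ({z} : Set G)), b * q = q * b) : False := by
  have hBz : ∀ k, ∀ c ∈ B k, c ∈ centralizer ({z} : Set G) := fun k c hc =>
    mem_centralizer_singleton_iff.2 (s.B0_comm hz k c hc)
  obtain ⟨k, hki, -⟩ := s.third i i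
  obtain ⟨m, -, -, w, hw, e⟩ := s.trans_B i k
  have hRk : ∀ r ∈ R k, b * r = r * b := by
    intro r hr
    rw [← e, mem_cj] at hr
    apply g2
    rcases (mem_R _).1 hr with h | h
    · have h1 : r = 1 := by
        calc r = w * (w⁻¹ * r * w) * w⁻¹ := by group
          _ = 1 := by rw [h]; group
      rw [h1]; exact one_mem _
    · have h1 : r = w * n * w⁻¹ := by
        calc r = w * (w⁻¹ * r * w) * w⁻¹ := by group
          _ = w * n * w⁻¹ := by rw [h]
      rw [h1]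
      exact conj_mem_of_normalizer (le_normalizer_O2 _ (hBz m w hw)) g1
  apply hbV
  refine s.free i k hki b hb ?_
  rw [cj_eq_self_iff]
  refine mem_normalizer_of_conj fun r hr => ?_
  rw [hRk r hr, mul_inv_cancel_right]
  exact hr

omit s in
/-- pigeonhole -/
theorem exists_pigeon [Finite G] {B₀ I : Subgroup G} {α : Type*} [Finite α] (f : α → G) (hf : ∀ a, f a ∈ I)
    (hlt : B₀.relIndex I < Nat.card α) : ∃ a b, a ≠ b ∧ (f a)⁻¹ * f b ∈ B₀ := by
  by_contra hcon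
  push Not at hcon
  have h1 : Function.Injective (fun a : α => (QuotientGroup.mk (⟨f a, hf a⟩ : I) : I ⧸ B₀.subgroupOf I)) := by
    intro a b hab
    by_contra hne
    apply hcon a b hne
    have h2 := QuotientGroup.eq.1 hab
    exact h2
  have h2 := Nat.card_le_card_of_injective _ h1
  have h3 : Nat.card (I ⧸ B₀.subgroupOf I) = B₀.relIndex I := rfl
  omega

end Cfsg.Agent.Omega.IId.MixAny
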