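import Cfsg.Agent.Omega.BTwo.Conj

/-!
# A 2-subgroup `J` of `O` against a subgroup `A` with `4 ∤ |O : A|`

* `exists_conj` : some conjugate `A^g`, `g ∈ O`, meets `J` in a subgroup of index at most 2.
-/

set_option autoImplicit false

namespace Cfsg.Agent.Omega.IId.SylIdx

open Subgroup Cfsg.Agent.Omega.BTwo

/-- `4 ∤ |O : A|`, `J` a 2-subgroup of `O`: `|J : J ∩ A^g| ≤ 2` for some `g ∈ O`. -/
theorem exists_conj_top {O : Type*} [Group O] [Finite O] {A J : Subgroup O} (hJ : IsPGroup 2 J)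
    (h4 : ¬ 4 ∣ A.index) : ∃ g : O, (cj g A).relIndex J ≤ 2 := by
  have : Fact (Nat.Prime 2) := ⟨Nat.prime_two⟩
  obtain ⟨Pa, hPa⟩ := hJ.exists_le_sylow
  obtain ⟨B⟩ : Nonempty (Sylow 2 A) := inferInstance
  have hB' : IsPGroup 2 ((B : Subgroup A).map A.subtype) := B.isPGroup'.map _
  obtain ⟨Pb, hPb⟩ := hB'.exists_le_sylow
  obtain ⟨g, hg⟩ := MulAction.exists_smul_eq O Pb Pa
  refine ⟨g, ?_⟩
  set Bg := cj g ((B : Subgroup A).map A.subtype) with hBg
  have h1 : Bg ≤ cj g A := cj_mono (map_subtype_le _)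
  have h2 : Bg ≤ (Pa : Subgroup O) := by
    rw [← hg]
    rw [Sylow.coe_subgroup_smul]
    rintro x ⟨y, hy, rfl⟩
    exact Subgroup.smul_mem_pointwise_smul _ (MulAut.conj g) _ (hPb hy)
  -- orders
  have c1 : Nat.card Bg = 2 ^ (Nat.card A).factorization 2 := by
    rw [hBg, card_cj, ← B.card_eq_multiplicity]
    exact Nat.card_congr ((B : Subgroup A).equivMapOfInjective A.subtype A.subtype_injective).toEquiv.symm
  have c2 := Pa.card_eq_multiplicity
  have hc : Nat.card O = Nat.card A * A.index := (A.card_mul_index).symm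
  have hi0 : A.index ≠ 0 := A.index_ne_zero_of_finite
  have hA0 : Nat.card A ≠ 0 := Nat.card_pos.ne'
  have hf : A.index.factorization 2 ≤ 1 := by
    by_contra h
    apply h4
    have h3 : 2 ^ 2 ∣ A.index := (Nat.prime_two.pow_dvd_iff_le_factorization hi0).2 (by omega)
    simpa using h3
  have c3 : Nat.card (Pa : Subgroup O) ≤ 2 * Nat.card Bg := by
    rw [c2, c1, hc, Nat.factorization_mul hA0 hi0, Finsupp.add_apply, pow_add, mul_comm]
    refine Nat.mul_le_mul_right _ ?_
    calc 2 ^ A.index.factorization 2 ≤ 2 ^ 1 := Nat.pow_le_pow_right (by norm_num) hf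
      _ = 2 := pow_one 2
  have c4 : Bg.relIndex (Pa : Subgroup O) ≤ 2 := by
    have h5 : Nat.card Bg * Bg.relIndex (Pa : Subgroup O) = Nat.card (Pa : Subgroup O) := by
      have h6 := relIndex_mul_relIndex ⊥ Bg (Pa : Subgroup O) bot_le h2
      rwa [relIndex_bot_left, relIndex_bot_left] at h6
    have h7 : Nat.card Bg * Bg.relIndex (Pa : Subgroup O) ≤ Nat.card Bg * 2 := by
      rw [h5, mul_comm]; exact c3
    exact Nat.le_of_mul_le_mul_left h7 Nat.card_pos
  have fin : ∀ H K : Subgroup O, H.relIndex K ≠ 0 := fun H K => Subgroup.index_ne_zero_of_finite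
  calc (cj g A).relIndex J ≤ Bg.relIndex J := relIndex_le_of_le_left h1 (fin _ _)
    _ ≤ Bg.relIndex (Pa : Subgroup O) := relIndex_le_of_le_right hPa (fin _ _)
    _ ≤ 2 := c4

theorem exists_conj {G : Type*} [Group G] [Finite G] {O A J : Subgroup G} (hAO : A ≤ O) (hJO : J ≤ O)
    (hJ : IsPGroup 2 J) (h4 : ¬ 4 ∣ A.relIndex O) : ∃ g ∈ O, (cj g A).relIndex J ≤ 2 := by
  obtain ⟨g, hg⟩ := exists_conj_top (O := O) (A := A.subgroupOf O) (J := J.subgroupOf O)
    (hJ.comap_of_injective _ O.subtype_injective) h4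
  refine ⟨g, g.2, ?_⟩
  have e1 : (J.subgroupOf O).map O.subtype = J := by
    rw [subgroupOf_map_subtype, inf_eq_left.2 hJO]
  have e2 : (cj g (A.subgroupOf O)).map O.subtype = cj (g : G) A := by
    rw [cj, map_map, cj]
    conv_rhs => rw [← inf_eq_left.2 hAO, ← subgroupOf_map_subtype, map_map]
    rfl
  have h1 := relIndex_map_map_of_injective (cj g (A.subgroupOf O)) (J.subgroupOf O) O.subtype_injective
  rw [e1, e2] at h1
  rw [h1]
  exact hg

/-- index at most 2: the product of two elements outside lies inside -/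
theorem mul_mem_of_le_two {G : Type*} [Group G] [Finite G] {A J : Subgroup G} (h : A.relIndex J ≤ 2) {u w : G}
    (hu : u ∈ J) (hw : w ∈ J) : u ∈ A ∨ w ∈ A ∨ u * w ∈ A := by
  have h0 : A.relIndex J ≠ 0 := Subgroup.index_ne_zero_of_finite
  rcases (show A.relIndex J = 1 ∨ A.relIndex J = 2 by omega) with h1 | h2
  · exact Or.inl (relIndex_eq_one.1 h1 hu)
  · by_cases hu' : u ∈ A
    · exact Or.inl hu'
    by_cases hw' : w ∈ A
    · exact Or.inr (Or.inl hw')
    right; right
    have h3 := (mul_mem_iff_of_index_two (H := A.subgroupOf J) h2 (a := ⟨u, hu⟩) (b := ⟨w, hw⟩))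
    rw [mem_subgroupOf, mem_subgroupOf, mem_subgroupOf] at h3
    exact h3.2 ⟨fun h => absurd h hu', fun h => absurd h hw'⟩

end Cfsg.Agent.Omega.IId.SylIdx
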