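import Cfsg.Agent.Omega.IId.Cv.MixNode
import Cfsg.Agent.Omega.IId.Cv.SylIdx

/-!
# MIX3, abstract part (helper747)

`s : MixOne.SideW V R B C`, `I k = B k ∩ C_G(B k C k)`, `B₀ = ⨅ B k` (helper994's MIX2 with `4` replaced by `2 ^ (e + 1)`).

* `exists_conj_pow` : `2 ^ (e + 1) ∤ |O : A|`, `J` a 2-subgroup of `O`: `|J : J ∩ A^g| ≤ 2 ^ e`;
* `index_le` : `|I j : (R j) B₀| ≤ 2 ^ e`, if a 2-group `T ≤ N(R i)`, `2 ^ (e + 1) ∤ |N(R i) : T|`, `[b, T] ≤ R i`;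
* `index_B0_le` : `|I i : B₀| ≤ 2 ^ (e + 1)` (`|R i| = 2`);
* `false_of_good` : the contradiction.
-/

set_option autoImplicit false
set_option linter.unusedSectionVars false

namespace Cfsg.Agent.Omega.IId.MixAny

open Subgroup Cfsg.Agent.Omega.BTwo Cfsg.Agent.Omega.Mix Cfsg.Agent.Omega.MixOne

section idx

/-- `2 ^ (e + 1) ∤ |O : A|`, `J` a 2-subgroup of `O`: `|J : J ∩ A^g| ≤ 2 ^ e` for some `g ∈ O`. -/
theorem exists_conj_pow_top {O : Type*} [Group O] [Finite O] {A J : Subgroup O} (hJ : IsPGroup 2 J) {e : ℕ}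
    (h4 : ¬ 2 ^ (e + 1) ∣ A.index) : ∃ g : O, (cj g A).relIndex J ≤ 2 ^ e := by
  have : Fact (Nat.Prime 2) := ⟨Nat.prime_two⟩
  obtain ⟨Pa, hPa⟩ := hJ.exists_le_sylow
  obtain ⟨B⟩ : Nonempty (Sylow 2 A) := inferInstance
  have hB' : IsPGroup 2 ((B : Subgroup A).map A.subtype) := B.isPGroup'.map _
  obtain ⟨Pb, hPb⟩ := hB'.exists_le_sylow
  obtain ⟨g, hg⟩ := MulAction.exists_smul_eq O Pb Pa
  refine ⟨g, ?_⟩
  set Bg := cj g ((B : Subgroup A).map A.subtype) with hBg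
  have h1 : Bg ≤ cj g A := cj_mono (map_subtype_le _)
  have h2 : Bg ≤ (Pa : Subgroup O) := by
    rw [← hg]
    rw [Sylow.coe_subgroup_smul]
    rintro x ⟨y, hy, rfl⟩
    exact Subgroup.smul_mem_pointwise_smul _ (MulAut.conj g) _ (hPb hy)
  -- orders
  have c1 : Nat.card Bg = 2 ^ (Nat.card A).factorization 2 := by
    rw [hBg, card_cj, ← B.card_eq_multiplicity]
    exact Nat.card_congr ((B : Subgroup A).equivMapOfInjective A.subtype A.subtype_injective).toEquiv.symm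
  have c2 := Pa.card_eq_multiplicity
  have hc : Nat.card O = Nat.card A * A.index := (A.card_mul_index).symm
  have hi0 : A.index ≠ 0 := A.index_ne_zero_of_finite
  have hA0 : Nat.card A ≠ 0 := Nat.card_pos.ne'
  have hf : A.index.factorization 2 ≤ e := by
    by_contra h
    apply h4
    exact (Nat.prime_two.pow_dvd_iff_le_factorization hi0).2 (by omega)
  have c3 : Nat.card (Pa : Subgroup O) ≤ 2 ^ e * Nat.card Bg := by
    rw [c2, c1, hc, Nat.factorization_mul hA0 hi0, Finsupp.add_apply, pow_add, mul_comm]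
    exact Nat.mul_le_mul_right _ (Nat.pow_le_pow_right (by norm_num) hf)
  have c4 : Bg.relIndex (Pa : Subgroup O) ≤ 2 ^ e := by
    have h5 : Nat.card Bg * Bg.relIndex (Pa : Subgroup O) = Nat.card (Pa : Subgroup O) := by
      have h6 := relIndex_mul_relIndex ⊥ Bg (Pa : Subgroup O) bot_le h2
      rwa [relIndex_bot_left, relIndex_bot_left] at h6
    have h7 : Nat.card Bg * Bg.relIndex (Pa : Subgroup O) ≤ Nat.card Bg * 2 ^ e := by
      rw [h5, mul_comm]; exact c3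
    exact Nat.le_of_mul_le_mul_left h7 Nat.card_pos
  have fin : ∀ H K : Subgroup O, H.relIndex K ≠ 0 := fun H K => Subgroup.index_ne_zero_of_finite
  calc (cj g A).relIndex J ≤ Bg.relIndex J := relIndex_le_of_le_left h1 (fin _ _)
    _ ≤ Bg.relIndex (Pa : Subgroup O) := relIndex_le_of_le_right hPa (fin _ _)
    _ ≤ 2 ^ e := c4

theorem exists_conj_pow {G : Type*} [Group G] [Finite G] {O A J : Subgroup G} (hAO : A ≤ O) (hJO : J ≤ O)
    (hJ : IsPGroup 2 J) {e : ℕ} (h4 : ¬ 2 ^ (e + 1) ∣ A.relIndex O) : ∃ g ∈ O, (cj g A).relIndex J ≤ 2 ^ e := by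
  obtain ⟨g, hg⟩ := exists_conj_pow_top (O := O) (A := A.subgroupOf O) (J := J.subgroupOf O)
    (hJ.comap_of_injective _ O.subtype_injective) h4
  refine ⟨g, g.2, ?_⟩
  have e1 : (J.subgroupOf O).map O.subtype = J := by
    rw [subgroupOf_map_subtype, inf_eq_left.2 hJO]
  have e2 : (cj g (A.subgroupOf O)).map O.subtype = cj (g : G) A := by
    rw [cj, map_map, cj]
    conv_rhs => rw [← inf_eq_left.2 hAO, ← subgroupOf_map_subtype, map_map]
    rfl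
  have h1 := relIndex_map_map_of_injective (cj g (A.subgroupOf O)) (J.subgroupOf O) O.subtype_injective
  rw [e1, e2] at h1
  rw [h1]
  exact hg

end idx

variable {G : Type*} [Group G] {ι : Type*}

section side

variable {V : Subgroup G} {R B C : ι → Subgroup G} (s : SideW V R B C)
include s

/-- `|I j : (R j) B₀| ≤ 2 ^ e` -/
theorem index_le [Finite G] {i j : ι} (hij : i ≠ j) {e : ℕ} {T : Subgroup G} (hTR : T ≤ normalizer (R i : Set G))
    (h4 : ¬ 2 ^ (e + 1) ∣ T.relIndex (normalizer (R i : Set G))) {b : G} (hb : b ∈ B i)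
    (hbV : ¬ ∀ v ∈ V, b * v = v * b) (hbT : ∀ t ∈ T, b * t * b⁻¹ * t⁻¹ ∈ R i) :
    (R j ⊔ ⨅ m, B m).relIndex (B j ⊓ YY (B j) (C j)) ≤ 2 ^ e := by
  set H := normalizer (R i : Set G) with hH
  set I := B i ⊓ YY (B i) (C i) with hI
  have hnB : H ≤ normalizer (B i : Set G) := s.nB i
  have hnI : H ≤ normalizer (I : Set G) := nII s i
  let O : Subgroup G :=
    { carrier := {g | g ∈ H ∧ ∀ w ∈ B i, g * w * g⁻¹ * w⁻¹ ∈ I}
      one_mem' := ⟨one_mem _, fun w _ => by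
        have e : 1 * w * 1⁻¹ * w⁻¹ = 1 := by group
        rw [e]; exact one_mem _⟩
      mul_mem' := by
        rintro a c ⟨a1, a2⟩ ⟨c1, c2⟩
        refine ⟨mul_mem a1 c1, fun w hw => ?_⟩
        have e : a * c * w * (a * c)⁻¹ * w⁻¹ = (a * (c * w * c⁻¹ * w⁻¹) * a⁻¹) * (a * w * a⁻¹ * w⁻¹) := by group
        rw [e]
        exact mul_mem (conj_mem_of_normalizer (hnI a1) (c2 w hw)) (a2 w hw)
      inv_mem' := by
        rintro a ⟨a1, a2⟩
        refine ⟨inv_mem a1, fun w hw => ?_⟩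
        have h1 : a⁻¹ * w * a ∈ B i := conj_inv_mem_of_normalizer (hnB a1) hw
        have h2 := inv_mem (a2 _ h1)
        have e : (a * (a⁻¹ * w * a) * a⁻¹ * (a⁻¹ * w * a)⁻¹)⁻¹ = a⁻¹ * w * a⁻¹⁻¹ * w⁻¹ := by group
        rwa [e] at h2 }
  let A : Subgroup G :=
    { carrier := {g | g ∈ O ∧ g * b * g⁻¹ * b⁻¹ ∈ R i}
      one_mem' := ⟨one_mem _, by
        have e : 1 * b * 1⁻¹ * b⁻¹ = 1 := by group
        rw [e]; exact one_mem _⟩
      mul_mem' := by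
        rintro a c ⟨a1, a2⟩ ⟨c1, c2⟩
        refine ⟨mul_mem a1 c1, ?_⟩
        have e : a * c * b * (a * c)⁻¹ * b⁻¹ = (a * (c * b * c⁻¹ * b⁻¹) * a⁻¹) * (a * b * a⁻¹ * b⁻¹) := by group
        rw [e]
        exact mul_mem (conj_mem_of_normalizer a1.1 c2) a2
      inv_mem' := by
        rintro a ⟨a1, a2⟩
        refine ⟨inv_mem a1, ?_⟩
        have h1 := conj_inv_mem_of_normalizer a1.1 (inv_mem a2)
        have e : a⁻¹ * b * a⁻¹⁻¹ * b⁻¹ = a⁻¹ * (a * b * a⁻¹ * b⁻¹)⁻¹ * a := by group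
        rw [e]; exact h1 }
  have hOH : O ≤ H := fun g hg => hg.1
  have hAO : A ≤ O := fun g hg => hg.1
  have hOn : H ≤ normalizer (O : Set G) := by
    intro h hh
    refine mem_normalizer_of_conj fun a ha => ?_
    refine ⟨H.mul_mem (H.mul_mem hh ha.1) (H.inv_mem hh), fun w hw => ?_⟩
    have h1 := conj_mem_of_normalizer (hnI hh) (ha.2 _ (conj_inv_mem_of_normalizer (hnB hh) hw))
    have e : h * (a * (h⁻¹ * w * h) * a⁻¹ * (h⁻¹ * w * h)⁻¹) * h⁻¹ =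
        h * a * h⁻¹ * w * (h * a * h⁻¹)⁻¹ * w⁻¹ := by group
    rwa [e] at h1
  have hTA : T ⊓ O ≤ A := by
    rintro t ⟨ht, htO⟩
    refine ⟨htO, ?_⟩
    have h1 := inv_mem (hbT t ht)
    have e : (b * t * b⁻¹ * t⁻¹)⁻¹ = t * b * t⁻¹ * b⁻¹ := by group
    rwa [e] at h1
  have hA4 : ¬ 2 ^ (e + 1) ∣ A.relIndex O := by
    intro h
    apply h4
    refine h.trans ((relIndex_dvd_of_le_left O hTA).trans ?_)
    rw [inf_relIndex_right, relIndex_sup_of_normalizes (hTR.trans hOn)]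
    exact Dvd.intro _ (relIndex_mul_relIndex _ _ _ le_sup_left (sup_le hTR hOH))
  have hJO : B j ⊓ YY (B j) (C j) ≤ O := by
    intro u hu
    refine ⟨s.cV_le_NR (s.Y_V hu.2) i, fun w hw => ?_⟩
    have h1 := inv_mem (comm_II s hw hu.2)
    have e : (w * u * w⁻¹ * u⁻¹)⁻¹ = u * w * u⁻¹ * w⁻¹ := by group
    rwa [e] at h1
  have hJ2 : IsPGroup 2 (B j ⊓ YY (B j) (C j) : Subgroup G) := fun x => ⟨1, by
    apply Subtype.ext
    change (x : G) ^ 2 ^ 1 = 1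
    rw [pow_one, pow_two]
    exact s.B_sq j _ x.2.1⟩
  obtain ⟨g, hg, hidx⟩ := exists_conj_pow hAO hJO hJ2 hA4
  have key : ∀ u ∈ B j ⊓ YY (B j) (C j), u ∈ cj g A → InK R B j u := by
    intro u hu hug
    rw [mem_cj] at hug
    have h1 := conj_mem_of_normalizer hg.1 hug.2
    set b' := g * b * g⁻¹ with hb'
    have e1 : g * (g⁻¹ * u * g * b * (g⁻¹ * u * g)⁻¹ * b⁻¹) * g⁻¹ = u * b' * u⁻¹ * b'⁻¹ := by rw [hb']; group
    rw [e1] at h1
    have h2 := hg.2 b hb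
    have hb'B : b' ∈ B i := conj_mem_of_normalizer (hnB hg.1) hb
    have hb'V : ¬ ∀ v ∈ V, b' * v = v * b' := by
      intro hall
      apply hbV
      intro v hv
      have h3 := s.Y_V h2.2 v hv
      have e : b = (g * b * g⁻¹ * b⁻¹)⁻¹ * b' := by rw [hb']; group
      have h4 : (g * b * g⁻¹ * b⁻¹)⁻¹ * v = v * (g * b * g⁻¹ * b⁻¹)⁻¹ := by
        rw [inv_mul_eq_iff_eq_mul, ← mul_assoc, h3, mul_inv_cancel_right]
      rw [e]
      calc (g * b * g⁻¹ * b⁻¹)⁻¹ * b' * v = (g * b * g⁻¹ * b⁻¹)⁻¹ * (b' * v) := by group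
        _ = ((g * b * g⁻¹ * b⁻¹)⁻¹ * v) * b' := by rw [hall v hv]; group
        _ = v * ((g * b * g⁻¹ * b⁻¹)⁻¹ * b') := by rw [h4]; group
    have h5 := inv_mem h1
    have e2 : (u * b' * u⁻¹ * b'⁻¹)⁻¹ = b' * u * b'⁻¹ * u⁻¹ := by group
    rw [e2] at h5
    exact s.mem_R_of_comm hij hb'B hb'V hu.1 h5
  have hle : cj g A ⊓ (B j ⊓ YY (B j) (C j)) ≤ R j ⊔ ⨅ m, B m := by
    rintro u ⟨hu1, hu2⟩
    obtain ⟨r, hr, y, hy, rfl⟩ := key u hu2 hu1
    exact mul_mem (mem_sup_left hr) (mem_sup_right hy)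
  calc (R j ⊔ ⨅ m, B m).relIndex (B j ⊓ YY (B j) (C j))
      ≤ (cj g A ⊓ (B j ⊓ YY (B j) (C j))).relIndex (B j ⊓ YY (B j) (C j)) :=
        relIndex_le_of_le_left hle (Subgroup.index_ne_zero_of_finite)
    _ = (cj g A).relIndex (B j ⊓ YY (B j) (C j)) := inf_relIndex_right _ _
    _ ≤ 2 ^ e := hidx

/-- `|I i : B₀| ≤ 2 ^ (e + 1)` -/
theorem index_B0_le [Finite G] {i : ι} (hR : Nat.card (R i) = 2) {e : ℕ} {T : Subgroup G}
    (hTR : T ≤ normalizer (R i : Set G)) (h4 : ¬ 2 ^ (e + 1) ∣ T.relIndex (normalizer (R i : Set G))) {b : G}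
    (hb : b ∈ B i) (hbV : ¬ ∀ v ∈ V, b * v = v * b) (hbT : ∀ t ∈ T, b * t * b⁻¹ * t⁻¹ ∈ R i) :
    (⨅ m, B m).relIndex (B i ⊓ YY (B i) (C i)) ≤ 2 ^ (e + 1) := by
  obtain ⟨j, hji, -⟩ := s.third i i
  obtain ⟨m, -, -, x, hx, ex⟩ := s.trans_B i j
  set B₀ := ⨅ m, B m with hB₀
  set Ii := B i ⊓ YY (B i) (C i) with hIi
  have hxB₀ : cj x B₀ = B₀ := by
    rw [cj_eq_self_iff]
    refine mem_normalizer_of_conj fun y hy => ?_
    rw [s.B0_comm hy m x hx, mul_inv_cancel_right]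
    exact hy
  have h1 := index_le s (Ne.symm hji) hTR h4 hb hbV hbT
  have e1 : B j ⊓ YY (B j) (C j) = cj x Ii := by
    rw [hIi, cj_inf, s.cB x i j ex, s.cY ex]
  have e2 : R j ⊔ B₀ = cj x (R i ⊔ B₀) := by
    have h2 : cj x (R i ⊔ B₀) = cj x (R i) ⊔ cj x B₀ := by
      rw [cj, cj, cj, Subgroup.map_sup]
    rw [h2, ex, hxB₀]
  have h2 : (R i ⊔ B₀).relIndex Ii ≤ 2 ^ e := by
    rw [e1, e2] at h1
    have h3 := relIndex_map_map_of_injective (R i ⊔ B₀) Ii (f := (MulAut.conj x).toMonoidHom)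
      (MulAut.conj x).injective
    change ((R i ⊔ B₀).map (MulAut.conj x).toMonoidHom).relIndex (Ii.map (MulAut.conj x).toMonoidHom) ≤ 2 ^ e at h1
    rwa [h3] at h1
  have hRI : B₀ ≤ centralizer (R i : Set G) := by
    intro y hy
    rw [mem_centralizer_iff]
    intro r hr
    exact s.B0_comm hy i r (s.R_B i hr)
  have h3 : B₀.relIndex (R i ⊔ B₀) ≤ 2 := by
    have h4 : B₀.relIndex (R i ⊔ B₀) = B₀.relIndex (R i) := by
      rw [sup_comm]
      exact (relIndex_sup_of_normalizes (hRI.trans (centralizer_le_normalizer _))).symm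
    rw [h4, ← hR]
    exact Nat.le_of_dvd Nat.card_pos (relIndex_dvd_card _ _)
  have h5 : (B₀ ⊓ Ii).relIndex ((R i ⊔ B₀) ⊓ Ii) * ((R i ⊔ B₀) ⊓ Ii).relIndex Ii = (B₀ ⊓ Ii).relIndex Ii :=
    relIndex_mul_relIndex _ _ _ (inf_le_inf_right _ le_sup_right) inf_le_right
  rw [inf_relIndex_right, inf_relIndex_right] at h5
  rw [← h5, pow_succ']
  refine Nat.mul_le_mul ?_ h2
  have fin : ∀ H K : Subgroup G, H.relIndex K ≠ 0 := fun H K => Subgroup.index_ne_zero_of_finite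
  calc (B₀ ⊓ Ii).relIndex ((R i ⊔ B₀) ⊓ Ii) ≤ B₀.relIndex ((R i ⊔ B₀) ⊓ Ii) := by
        have h6 : B₀ ⊓ ((R i ⊔ B₀) ⊓ Ii) ≤ B₀ ⊓ Ii := inf_le_inf_left _ inf_le_right
        calc (B₀ ⊓ Ii).relIndex ((R i ⊔ B₀) ⊓ Ii) ≤ (B₀ ⊓ ((R i ⊔ B₀) ⊓ Ii)).relIndex ((R i ⊔ B₀) ⊓ Ii) :=
              relIndex_le_of_le_left h6 (fin _ _)
          _ = B₀.relIndex ((R i ⊔ B₀) ⊓ Ii) := inf_relIndex_right _ _
    _ ≤ B₀.relIndex (R i ⊔ B₀) := relIndex_le_of_le_right inf_le_left (fin _ _)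
    _ ≤ 2 := h3

/-- two of more than `2 ^ (e + 1)` elements of `I i` are congruent modulo `B₀` -/
theorem exists_mem_B0 [Finite G] {i : ι} (hR : Nat.card (R i) = 2) {e : ℕ} {T : Subgroup G}
    (hTR : T ≤ normalizer (R i : Set G)) (h4 : ¬ 2 ^ (e + 1) ∣ T.relIndex (normalizer (R i : Set G))) {b : G}
    (hb : b ∈ B i) (hbV : ¬ ∀ v ∈ V, b * v = v * b) (hbT : ∀ t ∈ T, b * t * b⁻¹ * t⁻¹ ∈ R i)
    {κ : Type*} (f : κ → G) (hf : ∀ x, f x ∈ B i ⊓ YY (B i) (C i)) (hcard : 2 ^ (e + 1) < Nat.card κ) :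
    ∃ x y, x ≠ y ∧ (f x)⁻¹ * f y ∈ ⨅ m, B m := by
  have h1 := index_B0_le s hR hTR h4 hb hbV hbT
  set B₀ := ⨅ m, B m with hB₀
  set Ii := B i ⊓ YY (B i) (C i) with hIi
  let g : κ → Ii ⧸ B₀.subgroupOf Ii := fun x => QuotientGroup.mk ⟨f x, hf x⟩
  have h2 : ¬ Function.Injective g := by
    intro hg
    have h3 := Nat.card_le_card_of_injective g hg
    have h4 : Nat.card (Ii ⧸ B₀.subgroupOf Ii) = B₀.relIndex Ii := rfl
    rw [h4] at h3
    omega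
  rw [Function.Injective] at h2
  push Not at h2
  obtain ⟨x, y, hxy, hne⟩ := h2
  refine ⟨x, y, hne, ?_⟩
  have h3 := QuotientGroup.eq.1 hxy
  exact h3

/-- **the contradiction** -/
theorem false_of_good [Finite G] {i : ι} {n : G} (hR : Nat.card (R i) = 2) (hnR : ∀ g ∈ R i, g = 1 ∨ g = n) {e : ℕ}
    {T : Subgroup G} (hTR : T ≤ normalizer (R i : Set G))
    (h4 : ¬ 2 ^ (e + 1) ∣ T.relIndex (normalizer (R i : Set G))) {b : G}
    (hb : b ∈ B i) (hbV : ¬ ∀ v ∈ V, b * v = v * b) (hbT : ∀ t ∈ T, b * t * b⁻¹ * t⁻¹ ∈ R i)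
    {κ : Type*} (f : κ → G) (hf : ∀ x, f x ∈ B i ⊓ YY (B i) (C i)) (hcard : 2 ^ (e + 1) < Nat.card κ)
    (good : ∀ x y, x ≠ y → ∃ b' ∈ B i, (¬ ∀ v ∈ V, b' * v = v * b') ∧
      n ∈ O2 (centralizer ({(f x)⁻¹ * f y} : Set G)) ∧
      ∀ q ∈ O2 (centralizer ({(f x)⁻¹ * f y} : Set G)), b' * q = q * b') : False := by
  obtain ⟨x, y, hxy, hzB⟩ := exists_mem_B0 s hR hTR h4 hb hbV hbT f hf hcard
  obtain ⟨b', hb', hbV', g1, g2⟩ := good x y hxy
  set z := (f x)⁻¹ * f y with hz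
  have hBz : ∀ k, ∀ c ∈ B k, c ∈ centralizer ({z} : Set G) := fun k c hc =>
    mem_centralizer_singleton_iff.2 (s.B0_comm hzB k c hc)
  obtain ⟨k, hki, -⟩ := s.third i i
  obtain ⟨m, -, -, w, hw, ew⟩ := s.trans_B i k
  have hRk : ∀ r ∈ R k, b' * r = r * b' := by
    intro r hr
    rw [← ew, mem_cj] at hr
    apply g2
    rcases hnR _ hr with h | h
    · have h1 : r = 1 := by
        calc r = w * (w⁻¹ * r * w) * w⁻¹ := by group
          _ = 1 := by rw [h]; group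
      rw [h1]; exact one_mem _
    · have h1 : r = w * n * w⁻¹ := by
        calc r = w * (w⁻¹ * r * w) * w⁻¹ := by group
          _ = w * n * w⁻¹ := by rw [h]
      rw [h1]
      exact conj_mem_of_normalizer (le_normalizer_O2 _ (hBz m w hw)) g1
  apply hbV'
  refine s.free i k hki b' hb' ?_
  rw [cj_eq_self_iff]
  refine mem_normalizer_of_conj fun r hr => ?_
  rw [hRk r hr, mul_inv_cancel_right]
  exact hr

end side

end Cfsg.Agent.Omega.IId.MixAny
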