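import Cfsg.Agent.Omega.IId.Cv.MixSym
import Cfsg.Agent.Omega.IId.Cv.Split

/-!
# II.d: `P` free with `k` natural factors, `P'` with one natural factor (helper592)

`P` free with `k` natural factors over `F`, `P'` with one natural factor over `F'` (any `D' = C_{V'}(O²(P'))`).

* `Nat1.exists_line` : `[V, V'] = line M i` for some `i`;
* `Nat1.le_normalizer` : `S'` normalises `[V, V']`;
* `nat1_false` : `k = 2` is impossible.
-/

set_option autoImplicit false
set_option linter.unusedSectionVars false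

namespace Cfsg.Agent.Omega.IId.Cv

open Subgroup Pointwise Cfsg Cfsg.Agent.ZN.ChoiceBase
open Cfsg.Agent.ZN (o2 zc zl)
open Cfsg.Agent.Omega.MinPar Cfsg.Agent.Omega.Frame Cfsg.Agent.Omega.FFThm Cfsg.Agent.Omega.FrameMulti
open Cfsg.Agent.Omega.FrameFF (cv Free)
open Cfsg.Agent.Lib.SL2Mat
open Cfsg.Agent.Omega.NatPair (ap ap_zero' ap_one' ext2)
open Cfsg.Agent.Omega.HOne (cv_le conj_mem_zl conj_mem_cv)
open Cfsg.Agent.MinSimple.VModule (zl_sq zl_comm)
open scoped commutatorElement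

universe u

namespace Nat1

variable {G : Type u} [Group G] [Finite G] {S S' : Sylow 2 G} {P P' : Subgroup G} {F F' : Type} [Field F]
  [Finite F] [CharP F 2] [Field F'] [Finite F'] [CharP F' 2] {k : ℕ}
  (M : NatK F (S : Subgroup G) P (zl (S : Subgroup G) P) ⊥ k)
  (M' : NatK F' (S' : Subgroup G) P' (zl (S' : Subgroup G) P') (cv (S' : Subgroup G) P') 1)

/-- `g` acts on `V' / D'` as the upper unitriangular matrix with entry `c`. -/
def Up (g : G) (c : F') : Prop := ActsSL M'.e (zl (S' : Subgroup G) P') (cv (S' : Subgroup G) P') g fun _ => up c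

variable {M'}

theorem Up.e0 {g a : G} {c : F'} (h : Up M' g c) (ha : a ∈ zl (S' : Subgroup G) P') :
    M'.e (g * a * g⁻¹) 0 0 = M'.e a 0 0 + c * M'.e a 0 1 := by
  have h1 := congrFun (h.1 a ha 0) 0
  rw [ap_zero', up_00, up_01, one_mul] at h1
  exact h1

theorem Up.e1 {g a : G} {c : F'} (h : Up M' g c) (ha : a ∈ zl (S' : Subgroup G) P') :
    M'.e (g * a * g⁻¹) 0 1 = M'.e a 0 1 := by
  have h1 := congrFun (h.1 a ha 0) 1
  rw [ap_one', up_10, up_11, one_mul, zero_mul, zero_add] at h1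
  exact h1

theorem Up.comm0 {g a : G} {c : F'} (h : Up M' g c) (hg : g ∈ P') (ha : a ∈ zl (S' : Subgroup G) P') :
    M'.e ⁅g, a⁆ 0 0 = c * M'.e a 0 1 := by
  have e : ⁅g, a⁆ = g * a * g⁻¹ * a⁻¹ := rfl
  rw [e, e_div M' (conj_mem_zl hg ha) ha, Pi.sub_apply, Pi.sub_apply, h.e0 ha]
  ring

theorem Up.unique {g g' : G} {c c' : F'} (h : Up M' g c) (h' : Up M' g' c')
    (hgg : ∀ a ∈ zl (S' : Subgroup G) P', g * a * g⁻¹ = g' * a * g'⁻¹) : c = c' := by
  obtain ⟨a, ha, h1⟩ := M'.surj fun _ => ![0, 1]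
  have h2 := h.e0 ha
  have h3 := h'.e0 ha
  rw [hgg a ha, h3, h1] at h2
  simpa using h2.symm

variable (hc : IsCharacteristicTwoType G) (hp : Pair S S' P P')
  (hN : NoOver (zl (S : Subgroup G) P) P) (hN' : NoOver (zl (S' : Subgroup G) P') P')
include hc hp

/-- two elements of `S'` which act in the same way on `V' / D'` act in the same way on `V'` -/
theorem same {g g' : G} (hg : g ∈ (S' : Subgroup G)) (hg' : g' ∈ (S' : Subgroup G)) (B : Matrix.SpecialLinearGroup (Fin 2) F')
    (h : ∀ a ∈ zl (S' : Subgroup G) P', M'.e (g * a * g⁻¹) 0 = ap B (M'.e a 0))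
    (h' : ∀ a ∈ zl (S' : Subgroup G) P', M'.e (g' * a * g'⁻¹) 0 = ap B (M'.e a 0)) :
    ∀ a ∈ zl (S' : Subgroup G) P', g * a * g⁻¹ = g' * a * g'⁻¹ := by
  have hP' := hp.star'.le
  have h1 : g'⁻¹ * g ∈ kern M' := by
    rw [mem_kern]
    refine ⟨mul_mem (inv_mem (hP' hg')) (hP' hg), fun a ha => ?_⟩
    have h2 : M'.e (g * a * g⁻¹) = M'.e (g' * a * g'⁻¹) := by
      funext x
      rw [Subsingleton.elim x 0, h a ha, h' a ha]
    have h3 := e_conj_congr M' (inv_mem (hP' hg')) (conj_mem_zl (hP' hg) ha) (conj_mem_zl (hP' hg') ha) h2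
    have e1 : g'⁻¹ * (g * a * g⁻¹) * g'⁻¹⁻¹ = g'⁻¹ * g * a * (g'⁻¹ * g)⁻¹ := by group
    have e2 : g'⁻¹ * (g' * a * g'⁻¹) * g'⁻¹⁻¹ = a := by group
    rwa [e1, e2] at h3
  intro a ha
  have h2 := comm_of_quot hc S' hp.star' M' one_pos (mul_mem (inv_mem hg') hg) h1 a ha
  calc g * a * g⁻¹ = g' * (g'⁻¹ * g * a) * g⁻¹ := by group
    _ = g' * (a * (g'⁻¹ * g)) * g⁻¹ := by rw [h2]
    _ = g' * a * g'⁻¹ := by group

theorem Up.same {g g' : G} (hg : g ∈ (S' : Subgroup G)) (hg' : g' ∈ (S' : Subgroup G)) {c : F'} (h : Up M' g c)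
    (h' : Up M' g' c) : ∀ a ∈ zl (S' : Subgroup G) P', g * a * g⁻¹ = g' * a * g'⁻¹ :=
  Nat1.same hc hp hg hg' (up c) (fun a ha => h.1 a ha 0) fun a ha => h'.1 a ha 0

variable (M')
include hN

/-- `V` acts on `V' / D'` as the full root group. -/
theorem root_full : (∀ v ∈ zl (S : Subgroup G) P, ∃ c, Up M' v c) ∧ ∀ c, ∃ v ∈ zl (S : Subgroup G) P, Up M' v c := by
  obtain ⟨I, h1, h2⟩ := M'.off _ hp.le' (hp.symm.off hc hN)
  by_cases h0 : (0 : Fin 1) ∈ I
  · have hf : ∀ b : Fin 1 → F', b = fun _ => b 0 := fun b => funext fun x => by rw [Subsingleton.elim x 0]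
    refine ⟨fun v hv => ?_, fun c => ?_⟩
    · obtain ⟨b, -, h3⟩ := h1 v hv
      refine ⟨b 0, ?_⟩
      rw [hf b] at h3
      exact h3
    · exact h2 (fun _ => c) fun i hi => absurd (by rw [Subsingleton.elim i 0]; exact h0) hi
  · exfalso
    apply hp.ne
    rw [commutator_eq_bot_iff_le_centralizer]
    intro v hv
    obtain ⟨b, hb, h3⟩ := h1 v hv
    have hb0 : ∀ i, b i = 0 := fun i => hb i (by rw [Subsingleton.elim i 0]; exact h0)
    have hP' := hp.star'.le
    have h4 : v ∈ kern M' := by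
      rw [mem_kern]
      refine ⟨hP' (hp.le' hv), fun a ha => funext fun i => ?_⟩
      have h5 := h3.1 a ha i
      have h6 : up (b i) = (1 : Matrix.SpecialLinearGroup (Fin 2) F') := by rw [hb0, up_zero]
      rw [h5]
      change ap (up (b i)) (M'.e a i) = M'.e a i
      rw [h6, NatPair.ap_one]
    rw [mem_centralizer_iff]
    intro a ha
    exact (comm_of_quot hc S' hp.star' M' one_pos (hp.le' hv) h4 a ha).symm

include M' in
/-- `S'` normalises `[V, V']`. -/
theorem le_normalizer : (S' : Subgroup G) ≤ normalizer (⁅zl (S : Subgroup G) P, zl (S' : Subgroup G) P'⁆ : Subgroup G) := by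
  obtain ⟨r1, r2⟩ := root_full M' hc hp hN
  have hP' := hp.star'.le
  have hVS' := hp.le'
  have hmem : ∀ t ∈ (S' : Subgroup G), ∀ v ∈ zl (S : Subgroup G) P, ∀ a ∈ zl (S' : Subgroup G) P',
      t * ⁅v, a⁆ * t⁻¹ ∈ ⁅zl (S : Subgroup G) P, zl (S' : Subgroup G) P'⁆ := by
    intro t ht v hv a ha
    obtain ⟨c, hvc⟩ := r1 v hv
    set w := t * v * t⁻¹ with hw
    have hwS : w ∈ (S' : Subgroup G) := mul_mem (mul_mem ht (hVS' hv)) (inv_mem ht)
    obtain ⟨B, hB⟩ := M'.norm t (hP' ht) v (hP' (hVS' hv)) _ hvc.1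
    rw [← hw] at hB
    obtain ⟨σ, hσ⟩ := M'.line w hwS
    have hσ0 : ∀ x : Fin 1, σ x = x := fun x => Subsingleton.elim _ _
    -- `B 0` is upper triangular
    have hB10 : ent (B 0) 1 0 = 0 := by
      obtain ⟨x, hx, h1⟩ := M'.surj fun _ => ![1, 0]
      have x0 : M'.e x 0 0 = 1 := by rw [h1]; rfl
      have x1 : M'.e x 0 1 = 0 := by rw [h1]; rfl
      have h2 := (hσ x hx 0).2 x1
      rw [hσ0, hB x hx 0, ap_one', x0, x1, mul_one, mul_zero, add_zero] at h2
      exact h2
    have hv2 : v * v = 1 := by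
      rw [← pow_two]
      exact zl_sq hp.star.le S.isPGroup' (MinSimple.Basic.not_dvd_relIndex S hp.star.le) (hp.star.isLoc.char2 S hc) v hv
    have hw2 : w * w = 1 := by
      rw [hw]
      calc t * v * t⁻¹ * (t * v * t⁻¹) = t * (v * v) * t⁻¹ := by group
        _ = 1 := by rw [hv2]; group
    have hsq : ∀ x ∈ zl (S' : Subgroup G) P', ap (B 0) (ap (B 0) (M'.e x 0)) = M'.e x 0 := by
      intro x hx
      rw [← hB x hx 0, ← hB _ (conj_mem_zl (hP' hwS) hx) 0]
      have e : w * (w * x * w⁻¹) * w⁻¹ = w * w * x * (w * w)⁻¹ := by group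
      rw [e, hw2]
      congr 2
      group
    have hB00 : ent (B 0) 0 0 = 1 := by
      obtain ⟨x, hx, h1⟩ := M'.surj fun _ => ![1, 0]
      have x0 : M'.e x 0 0 = 1 := by rw [h1]; rfl
      have x1 : M'.e x 0 1 = 0 := by rw [h1]; rfl
      have h2 := congrFun (hsq x hx) 0
      rw [ap_zero', ap_zero', ap_one', x0, x1, hB10] at h2
      have h3 : ent (B 0) 0 0 * ent (B 0) 0 0 = 1 := by
        simpa using h2
      have h4 : (ent (B 0) 0 0 - 1) ^ 2 = 0 := by
        rw [sub_sq, one_pow, pow_two, h3, mul_one]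
        have : (2 : F') = 0 := CharTwo.two_eq_zero
        rw [this, zero_mul, sub_zero, ← two_mul, this, zero_mul]
      exact sub_eq_zero.1 (pow_eq_zero_iff (two_ne_zero)|>.1 h4)
    have hB11 : ent (B 0) 1 1 = 1 := by
      have h2 := det_eq (B 0)
      rw [hB00, hB10, mul_zero, sub_zero, one_mul] at h2
      exact h2
    obtain ⟨v', hv', hv'c⟩ := r2 (ent (B 0) 0 1)
    have hBup : B 0 = up (ent (B 0) 0 1) :=
      ext_ent (by rw [hB00, up_00]) (by rw [up_01]) (by rw [hB10, up_10]) (by rw [hB11, up_11])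
    have h5 := Nat1.same (M' := M') hc hp hwS (hVS' hv') (B 0) (fun a ha => hB a ha 0) (by
      intro a ha
      rw [hBup]
      simpa using hv'c.1 a ha 0)
    have h6 := conj_mem_zl (hP' ht) ha
    have e : t * ⁅v, a⁆ * t⁻¹ = ⁅v', t * a * t⁻¹⁆ := by
      rw [commutatorElement_def, commutatorElement_def, ← h5 _ h6, hw]
      group
    rw [e]
    exact commutator_mem_commutator hv' h6
  have key : ∀ t ∈ (S' : Subgroup G), ∀ x ∈ ⁅zl (S : Subgroup G) P, zl (S' : Subgroup G) P'⁆,
      t * x * t⁻¹ ∈ ⁅zl (S : Subgroup G) P, zl (S' : Subgroup G) P'⁆ := by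
    intro t ht x hx
    have h1 : ⁅zl (S : Subgroup G) P, zl (S' : Subgroup G) P'⁆ ≤
        cj t⁻¹ ⁅zl (S : Subgroup G) P, zl (S' : Subgroup G) P'⁆ := by
      rw [commutator_le]
      intro v hv a ha
      rw [mem_cj, inv_inv]
      exact hmem t ht v hv a ha
    have h2 := h1 hx
    rw [mem_cj, inv_inv] at h2
    exact h2
  intro t ht
  rw [mem_normalizer_iff]
  intro x
  refine ⟨key t ht x, fun hx => ?_⟩
  have h1 := key t⁻¹ (inv_mem ht) _ hx
  have e : t⁻¹ * (t * x * t⁻¹) * t⁻¹⁻¹ = x := by group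
  rwa [e] at h1

include hN' M'

/-- **`[V, V']` is one line of `V`.** -/
theorem exists_line : ∃ i, ⁅zl (S : Subgroup G) P, zl (S' : Subgroup G) P'⁆ = line M i := by
  classical
  obtain ⟨r1, r2⟩ := root_full M' hc hp hN
  obtain ⟨I, hI⟩ := exists_ind M hp.le (hp.off hc hN')
  have hVP : zl (S' : Subgroup G) P' ≤ P := hp.le.trans hp.star.isLoc.le
  have hP' := hp.star'.le
  have hVS' := hp.le'
  have hk : 0 < k := by
    by_contra h0
    obtain rfl : k = 0 := by omega
    apply hp.ne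
    have h1 : zl (S : Subgroup G) P = ⊥ := by
      rw [eq_bot_iff]
      intro v hv
      exact (M.ker v hv).1 (funext fun i => i.elim0)
    rw [h1, commutator_bot_left]
  -- elements of `V` with coordinates `0` in `I` centralise `V'`
  have hcen : ∀ w ∈ zl (S : Subgroup G) P, (∀ i ∈ I, M.e w i 1 = 0) → ∀ a ∈ zl (S' : Subgroup G) P', w * a = a * w := by
    intro w hw h0 a ha
    by_contra hne
    obtain ⟨i, hi, h1⟩ := Sym.exists_coord hI hVP hw ha hne
    exact h1 (h0 i hi)
  have hcen' : ∀ w ∈ zl (S : Subgroup G) P, (∀ a ∈ zl (S' : Subgroup G) P', w * a = a * w) → ∀ i ∈ I, M.e w i 1 = 0 := by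
    intro w hw h0 i hi
    by_contra hne
    obtain ⟨a, ha, -, h2, -⟩ := Sym.exists_root hI hVP hw hi (1 : F)
    exact Sym.root_ne one_ne_zero hne h2 (commutatorElement_eq_one_iff_mul_comm.2 (h0 a ha))
  -- elements of `V'` which centralise `V`
  have hcV : ∀ a ∈ zl (S' : Subgroup G) P', (∀ v ∈ zl (S : Subgroup G) P, v * a = a * v) → M'.e a 0 1 = 0 := by
    intro a ha h0
    obtain ⟨v, hv, h1⟩ := r2 1
    have h2 := h1.comm0 (hP' (hVS' hv)) ha
    rw [commutatorElement_eq_one_iff_mul_comm.2 (h0 v hv), e_one M', one_mul] at h2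
    exact h2.symm
  let X := {b : Fin k → F // ∀ i, i ∉ I → b i = 0}
  choose vv hv1 hv2 using fun b : X => M.surj fun i => ![0, b.1 i]
  choose cc hcc using r1
  choose aa ha1 ha2 using fun b : X => hI.ex b.1 b.2
  -- `X ≃ F'` from the action of `V` on `V'`
  have hg : Function.Bijective fun b : X => cc (vv b) (hv1 b) := by
    constructor
    · intro b b' hbb
      have h1 := Up.same hc hp (hVS' (hv1 b)) (hVS' (hv1 b')) (hcc _ (hv1 b)) (by
        have h2 := hcc _ (hv1 b')
        have h3 : cc (vv b) (hv1 b) = cc (vv b') (hv1 b') := hbb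
        rw [h3]; exact h2)
      have h2 := hcen' _ (mul_mem (inv_mem (hv1 b')) (hv1 b)) (fun a ha => by
        have h3 := h1 a ha
        calc (vv b')⁻¹ * vv b * a = (vv b')⁻¹ * (vv b * a * (vv b)⁻¹) * vv b := by group
          _ = (vv b')⁻¹ * (vv b' * a * (vv b')⁻¹) * vv b := by rw [h3]
          _ = a * ((vv b')⁻¹ * vv b) := by group)
      apply Subtype.ext
      funext i
      by_cases hi : i ∈ I
      · have h3 := h2 i hi
        rw [M.mul _ (inv_mem (hv1 b')) _ (hv1 b), IId.e_inv M (hv1 b'), hv2, hv2, Pi.add_apply, Pi.add_apply, Pi.neg_apply,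
          Pi.neg_apply] at h3
        have h4 : -b'.1 i + b.1 i = 0 := by simpa using h3
        exact (neg_add_eq_zero.1 h4).symm
      · rw [b.2 i hi, b'.2 i hi]
    · intro c
      obtain ⟨v, hv, h1⟩ := r2 c
      let b : X := ⟨fun i => if i ∈ I then M.e v i 1 else 0, fun i hi => if_neg hi⟩
      refine ⟨b, ?_⟩
      have h2 := hcen _ (mul_mem (inv_mem (hv1 b)) hv) (by
        intro i hi
        rw [M.mul _ (inv_mem (hv1 b)) _ hv, IId.e_inv M (hv1 b), hv2, Pi.add_apply, Pi.add_apply, Pi.neg_apply,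
          Pi.neg_apply]
        have h3 : b.1 i = M.e v i 1 := if_pos hi
        simp [h3])
      refine Up.unique (hcc _ (hv1 b)) h1 fun a ha => ?_
      have h3 := h2 a ha
      calc vv b * a * (vv b)⁻¹ = vv b * (a * ((vv b)⁻¹ * v)) * v⁻¹ := by group
        _ = vv b * ((vv b)⁻¹ * v * a) * v⁻¹ := by rw [h3]
        _ = v * a * v⁻¹ := by group
  have hcard : Nat.card X = Nat.card F' := Nat.card_congr (Equiv.ofBijective _ hg)
  have hX : Finite X := inferInstance
  have hcomm : ∀ a ∈ zl (S' : Subgroup G) P', ∀ b : X, ActsSL M.e (zl (S : Subgroup G) P) ⊥ a (fun i => up (b.1 i)) →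
      ∀ v ∈ zl (S : Subgroup G) P, v * (a * (aa b)⁻¹) = a * (aa b)⁻¹ * v := by
    intro a ha b hab v hv
    have hw : (aa b)⁻¹ * v * (aa b) ∈ zl (S : Subgroup G) P := by
      have h1 := conj_mem_zl (inv_mem (hVP (ha1 b))) hv
      rwa [inv_inv] at h1
    set w := (aa b)⁻¹ * v * aa b with hwd
    have h1 : aa b * w * (aa b)⁻¹ = v := by rw [hwd]; group
    have h2 : a * w * a⁻¹ = v := by
      rw [← h1]
      refine IId.e_inj M (conj_mem_zl (hVP ha) hw) (conj_mem_zl (hVP (ha1 b)) hw) (funext fun i => ?_)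
      rw [hab.1 w hw i, (ha2 b).1 w hw i]
    calc v * (a * (aa b)⁻¹) = a * w * a⁻¹ * (a * (aa b)⁻¹) := by rw [h2]
      _ = a * w * (aa b)⁻¹ := by group
      _ = a * (aa b)⁻¹ * v := by rw [← h1]; group
  -- `X ≃ F'` from the action of `V'` on `V`
  have hf : Function.Surjective fun b : X => M'.e (aa b) 0 1 := by
    intro c
    obtain ⟨a, ha, h1⟩ := M'.surj fun _ => ![0, c]
    obtain ⟨b, hb, h2⟩ := hI.act a ha
    refine ⟨⟨b, hb⟩, ?_⟩
    have h3 := hcV _ (mul_mem ha (inv_mem (ha1 ⟨b, hb⟩))) (hcomm a ha ⟨b, hb⟩ h2)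
    rw [e_div M' ha (ha1 _), Pi.sub_apply, Pi.sub_apply, h1, sub_eq_zero] at h3
    exact h3.symm
  have hf' : Function.Bijective fun b : X => M'.e (aa b) 0 1 := hf.bijective_of_nat_card_le hcard.le
  have hIne : I.Nonempty := by
    by_contra h0
    rw [Set.not_nonempty_iff_eq_empty] at h0
    apply hp.ne
    rw [commutator_eq_bot_iff_le_centralizer]
    intro v hv
    rw [mem_centralizer_iff]
    intro a ha
    exact (hcen v hv (by rw [h0]; intro i hi; exact hi.elim) a ha).symm
  obtain ⟨i, hi⟩ := hIne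
  have hIi : I = {i} := by
    ext j
    rw [Set.mem_singleton_iff]
    refine ⟨fun hj => ?_, fun h => h ▸ hi⟩
    by_contra hji
    -- `|F'| ≤ |F|`
    let b : X := ⟨Pi.single i 1, fun l hl => Pi.single_eq_of_ne (fun h => hl (by rw [h]; exact hi)) 1⟩
    let b0 : X := ⟨0, fun l _ => rfl⟩
    have h0 : M'.e (aa b0) 0 1 = 0 := by
      refine hcV _ (ha1 b0) fun v hv => ?_
      have h1 := hcomm 1 (one_mem _) b0 ⟨fun v hv l => by
        have e : (1 : G) * v * 1⁻¹ = v := by group
        have e2 : up (b0.1 l) = (1 : Matrix.SpecialLinearGroup (Fin 2) F) := up_zero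
        rw [e]
        change M.e v l = ap (up (b0.1 l)) (M.e v l)
        rw [e2, NatPair.ap_one], fun d hd => by rw [mem_bot.1 hd]⟩ v hv
      rw [one_mul] at h1
      calc v * aa b0 = aa b0 * ((aa b0)⁻¹ * v) * aa b0 := by group
        _ = aa b0 * (v * (aa b0)⁻¹) * aa b0 := by rw [h1]
        _ = aa b0 * v := by group
    have hm : M'.e (aa b) 0 1 ≠ 0 := by
      intro h1
      have h2 := hf'.1 (h1.trans h0.symm)
      have h3 := congrFun (congrArg Subtype.val h2) i
      change (Pi.single i 1 : Fin k → F) i = 0 at h3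
      rw [Pi.single_eq_same] at h3
      exact one_ne_zero h3
    choose v1 v2 v3 using r2
    have hinj : Function.Injective fun c : F' => M.e ⁅v1 c, aa b⁆ i 0 := by
      intro c c' h1
      have h2 : ⁅v1 c, aa b⁆ = ⁅v1 c', aa b⁆ := by
        have e1 := fun l => e_comm (v2 c) (hVP (ha1 b)) (ha2 b) l
        have e2 := fun l => e_comm (v2 c') (hVP (ha1 b)) (ha2 b) l
        refine IId.e_inj M (e1 i).1 (e2 i).1 (funext fun l => ?_)
        by_cases hl : l = i
        · subst hl
          apply ext2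
          · exact h1
          · rw [(e1 l).2.2, (e2 l).2.2]
        · apply ext2
          · rw [(e1 l).2.1, (e2 l).2.1]
            have h3 : b.1 l = 0 := Pi.single_eq_of_ne hl 1
            rw [h3, zero_mul, zero_mul]
          · rw [(e1 l).2.2, (e2 l).2.2]
      have h3 := (v3 c).comm0 (hP' (hVS' (v2 c))) (ha1 b)
      have h4 := (v3 c').comm0 (hP' (hVS' (v2 c'))) (ha1 b)
      rw [h2, h4] at h3
      exact (mul_right_cancel₀ hm h3).symm
    have hle : Nat.card F' ≤ Nat.card F := Nat.card_le_card_of_injective _ hinj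
    -- `|F|² ≤ |X|`
    have hinj2 : Function.Injective fun p : F × F => (⟨Pi.single i p.1 + Pi.single j p.2, fun l hl => by
        rw [Pi.add_apply, Pi.single_eq_of_ne (fun h => hl (by rw [h]; exact hi)),
          Pi.single_eq_of_ne (fun h => hl (by rw [h]; exact hj)), add_zero]⟩ : X) := by
      rintro ⟨x, y⟩ ⟨x', y'⟩ h1
      have h2 := congrArg Subtype.val h1
      have h3 := congrFun h2 i
      have h4 := congrFun h2 j
      change (Pi.single i x + Pi.single j y : Fin k → F) i = (Pi.single i x' + Pi.single j y' : Fin k → F) i at h3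
      change (Pi.single i x + Pi.single j y : Fin k → F) j = (Pi.single i x' + Pi.single j y' : Fin k → F) j at h4
      simp only [Pi.add_apply, Pi.single_eq_same, Pi.single_eq_of_ne (Ne.symm hji), Pi.single_eq_of_ne hji, add_zero,
        zero_add] at h3 h4
      rw [h3, h4]
    have hle2 : Nat.card F * Nat.card F ≤ Nat.card X := by
      rw [← Nat.card_prod]
      exact Nat.card_le_card_of_injective _ hinj2
    have hF1 : 1 < Nat.card F := Finite.one_lt_card
    rw [hcard] at hle2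
    have h5 := hle2.trans hle
    have h6 : Nat.card F * 2 ≤ Nat.card F * Nat.card F := Nat.mul_le_mul_left _ hF1
    omega
  refine ⟨i, ?_⟩
  rw [hIi] at hI
  exact hI.commutator_eq hVP

end Nat1

/-- **`P` free with two natural factors: there is no partner with one natural factor** (any `C_{V'}(O²(P'))`, all `q`):
`S'` would be a Sylow 2-subgroup of `N_G(line M i)`. -/
theorem nat1_false {G : Type u} [Group G] [Finite G] {S S' : Sylow 2 G} {P P' : Subgroup G} {F F' : Type}
    [Field F] [Finite F] [CharP F 2] [Field F'] [Finite F'] [CharP F' 2]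
    (M : NatK F (S : Subgroup G) P (zl (S : Subgroup G) P) ⊥ 2)
    (M' : NatK F' (S' : Subgroup G) P' (zl (S' : Subgroup G) P') (cv (S' : Subgroup G) P') 1)
    (hc : IsCharacteristicTwoType G) (hp : Pair S S' P P')
    (hN : NoOver (zl (S : Subgroup G) P) P) (hN' : NoOver (zl (S' : Subgroup G) P') P') : False := by
  obtain ⟨i, hi⟩ := Nat1.exists_line M M' hc hp hN hN'
  have h1 := Nat1.le_normalizer M' hc hp hN
  rw [hi] at h1
  have h2 := TriFalse.not_dvd hc hp.star M i
  have hSP := hp.star.le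
  have hT : stab M i ≤ normalizer (line M i : Set G) := stab_normalizes_line M hSP i
  have h3 := card_stab M hSP i
  have h4 : Nat.card (S' : Subgroup G) = Nat.card (S : Subgroup G) := by
    rw [S.card_eq_multiplicity, S'.card_eq_multiplicity]
  have h5 := Lib.SylowNormalInf.card_mul_relIndex (stab M i) (normalizer (line M i : Set G)) hT
  have h6 : Nat.card (S' : Subgroup G) ∣ Nat.card (normalizer (line M i : Set G)) := card_dvd_of_le h1
  rw [h4, h3, ← h5, mul_comm, Nat.mul_dvd_mul_iff_left Nat.card_pos] at h6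
  exact h2 h6

end Cfsg.Agent.Omega.IId.Cv
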