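import Cfsg.Agent.Omega.IId.Cv.MixSide

/-!
# THEOREM MIX2: the side of a four-group (helper994)

`V` a four-group with `N_G(V)` transitive on `V#`, `n ∈ V#`; `A`, `C₀` elementary abelian, normalised by `C_G(n)`,
`n ∈ A`, `V ≤ C₀`, `[C₀, A] ≤ ⟨n⟩`, `A` moves `V`.  `tr A n x` is the conjugate `A^g`, `x = n^g`.

* `Node.side` : `SideW V R B C` with the three points `⟨x⟩`, `x ∈ V#`, `B x = A^g`, `C x = C₀^g`.
-/

set_option autoImplicit false
set_option linter.unusedSectionVars false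

namespace Cfsg.Agent.Omega.IId.MixAny

open Subgroup Cfsg.Agent.Omega.BTwo Cfsg.Agent.Omega.Mix Cfsg.Agent.Omega.MixOne

variable {G : Type*} [Group G]

/-- the nontrivial elements of `V` -/
abbrev Pt (V : Subgroup G) := {x : G // x ∈ V ∧ x ≠ 1}

/-- the conjugates `A^g`, `n^g = x` -/
def tr (A : Subgroup G) (n x : G) : Subgroup G :=
  closure {y | ∃ g a, g * n * g⁻¹ = x ∧ a ∈ A ∧ y = g * a * g⁻¹}

theorem tr_eq {A : Subgroup G} {n : G} (hA : ∀ c, c * n = n * c → ∀ a ∈ A, c * a * c⁻¹ ∈ A) {g x : G}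
    (e : g * n * g⁻¹ = x) : tr A n x = cj g A := by
  apply le_antisymm
  · rw [tr, closure_le]
    rintro _ ⟨h, a, e', ha, rfl⟩
    change h * a * h⁻¹ ∈ cj g A
    rw [mem_cj]
    have h1 : (g⁻¹ * h) * n = n * (g⁻¹ * h) := by
      have e1 : h * n * h⁻¹ = g * n * g⁻¹ := by rw [e', e]
      calc (g⁻¹ * h) * n = g⁻¹ * (h * n * h⁻¹) * h := by group
        _ = n * (g⁻¹ * h) := by rw [e1]; group
    have h2 := hA _ h1 a ha
    have e2 : g⁻¹ * h * a * (g⁻¹ * h)⁻¹ = g⁻¹ * (h * a * h⁻¹) * g := by group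
    rwa [e2] at h2
  · rw [cj_le_iff]
    intro a ha
    exact subset_closure ⟨g, a, e, ha, rfl⟩

theorem cj_tr_le (A : Subgroup G) (n x g : G) : cj g (tr A n x) ≤ tr A n (g * x * g⁻¹) := by
  rw [cj, map_le_iff_le_comap, tr, closure_le]
  rintro _ ⟨h, a, e, ha, rfl⟩
  change (MulAut.conj g) (h * a * h⁻¹) ∈ tr A n (g * x * g⁻¹)
  rw [MulAut.conj_apply]
  refine subset_closure ⟨g * h, a, ?_, ha, ?_⟩
  · rw [← e]; group
  · group

theorem cj_tr (A : Subgroup G) (n x g : G) : cj g (tr A n x) = tr A n (g * x * g⁻¹) := by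
  refine le_antisymm (cj_tr_le A n x g) ?_
  have h1 := cj_tr_le A n (g * x * g⁻¹) g⁻¹
  have e : g⁻¹ * (g * x * g⁻¹) * g⁻¹⁻¹ = x := by group
  rw [e] at h1
  have h2 := cj_mono (g := g) h1
  rwa [cj_cj_inv] at h2

theorem mem_zp {x : G} (hx : x * x = 1) {y : G} : y ∈ zpowers x ↔ y = 1 ∨ y = x := by
  constructor
  · rintro ⟨m, rfl⟩
    change x ^ m = 1 ∨ x ^ m = x
    have h2 : x ^ (2 : ℤ) = 1 := by
      rw [zpow_two]; exact hx
    rcases Int.even_or_odd' m with ⟨k, rfl | rfl⟩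
    · left; rw [zpow_mul, h2, one_zpow]
    · right; rw [zpow_add, zpow_mul, h2, one_zpow, one_mul, zpow_one]
  · rintro (rfl | rfl)
    · exact one_mem _
    · exact mem_zpowers _

/-- `cj g ⟨x⟩ = ⟨y⟩` for involutions -/
theorem cj_zp {x y : G} (hx : x * x = 1) (hy : y * y = 1) {g : G} :
    cj g (zpowers x) = zpowers y ↔ g * x * g⁻¹ = y := by
  have e : cj g (zpowers x) = zpowers (g * x * g⁻¹) := by
    rw [cj, MonoidHom.map_zpowers]
    rfl
  rw [e]
  have hx' : g * x * g⁻¹ * (g * x * g⁻¹) = 1 := by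
    calc g * x * g⁻¹ * (g * x * g⁻¹) = g * (x * x) * g⁻¹ := by group
      _ = 1 := by rw [hx]; group
  constructor
  · intro h
    have h1 : g * x * g⁻¹ ∈ zpowers y := by rw [← h]; exact mem_zpowers _
    rcases (mem_zp hy).1 h1 with h2 | h2
    · have h3 : y ∈ zpowers (g * x * g⁻¹) := by rw [h]; exact mem_zpowers _
      rcases (mem_zp hx').1 h3 with h4 | h4
      · rw [h2, h4]
      · exact h4.symm
    · exact h2
  · intro h
    rw [h]

/-- the situation at a four-group -/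
structure Node (V A C₀ : Subgroup G) (n : G) : Prop where
  card : Nat.card V = 4
  sq : ∀ v ∈ V, v * v = 1
  n_mem : n ∈ V
  n_ne : n ≠ 1
  trans : ∀ v ∈ V, v ≠ 1 → ∃ g ∈ normalizer (V : Set G), g * n * g⁻¹ = v
  nA : ∀ c, c * n = n * c → ∀ a ∈ A, c * a * c⁻¹ ∈ A
  nC : ∀ c, c * n = n * c → ∀ a ∈ C₀, c * a * c⁻¹ ∈ C₀
  A_comm : ∀ a ∈ A, ∀ b ∈ A, a * b = b * a
  A_sq : ∀ a ∈ A, a * a = 1
  C_comm : ∀ a ∈ C₀, ∀ b ∈ C₀, a * b = b * a
  C_sq : ∀ a ∈ C₀, a * a = 1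
  n_A : n ∈ A
  V_C : V ≤ C₀
  CA : ∀ c ∈ C₀, ∀ a ∈ A, c * a * c⁻¹ * a⁻¹ = 1 ∨ c * a * c⁻¹ * a⁻¹ = n
  move : ∃ a ∈ A, ∃ v ∈ V, a * v ≠ v * a

namespace Node

variable {V A C₀ : Subgroup G} {n : G} (N : Node V A C₀ n)
include N

theorem comm {v w : G} (hv : v ∈ V) (hw : w ∈ V) : v * w = w * v := N.C_comm v (N.V_C hv) w (N.V_C hw)

theorem all [Finite G] {i j : G} (hi : i ∈ V) (hj : j ∈ V) (hi1 : i ≠ 1) (hj1 : j ≠ 1) (hij : i ≠ j) :
    ∀ v ∈ V, v = 1 ∨ v = i ∨ v = j ∨ v = i * j := by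
  classical
  have h1 : ({1, i, j, i * j} : Finset G).card = 4 := by
    rw [Finset.card_insert_of_notMem, Finset.card_insert_of_notMem, Finset.card_insert_of_notMem,
      Finset.card_singleton]
    · simp only [Finset.mem_singleton]
      intro h
      exact hi1 (by simpa using h)
    · simp only [Finset.mem_insert, Finset.mem_singleton, not_or]
      exact ⟨hij, fun h => hj1 (by simpa using h)⟩
    · simp only [Finset.mem_insert, Finset.mem_singleton, not_or]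
      refine ⟨Ne.symm hi1, Ne.symm hj1, fun h => hij ?_⟩
      have h2 : i = j⁻¹ := eq_inv_of_mul_eq_one_left h.symm
      rw [h2]
      exact inv_eq_of_mul_eq_one_left (N.sq j hj)
  have h2 : (({1, i, j, i * j} : Finset G) : Set G) ⊆ (V : Set G) := by
    intro x hx
    simp only [Finset.coe_insert, Finset.coe_singleton, Set.mem_insert_iff, Set.mem_singleton_iff] at hx
    rcases hx with rfl | rfl | rfl | rfl
    · exact one_mem _
    · exact hi
    · exact hj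
    · exact mul_mem hi hj
  have h3 : (({1, i, j, i * j} : Finset G) : Set G) = (V : Set G) := by
    refine Set.eq_of_subset_of_ncard_le h2 ?_ (Set.toFinite _)
    rw [Set.ncard_coe_finset, h1]
    have h4 : (V : Set G).ncard = Nat.card V := rfl
    rw [h4, N.card]
  intro v hv
  have h5 : v ∈ (({1, i, j, i * j} : Finset G) : Set G) := by rw [h3]; exact hv
  simpa using h5

theorem exists_move {x : G} (hx : x ∈ V) (hx1 : x ≠ 1) : ∃ b ∈ tr A n x, ∃ v ∈ V, b * v ≠ v * b := by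
  obtain ⟨g, hg, e⟩ := N.trans x hx hx1
  obtain ⟨a, ha, v, hv, hne⟩ := N.move
  refine ⟨g * a * g⁻¹, ?_, g * v * g⁻¹, conj_mem_of_normalizer hg hv, fun h => hne ?_⟩
  · rw [tr_eq N.nA e]
    exact conj_mem_cj ha
  · calc a * v = g⁻¹ * (g * a * g⁻¹ * (g * v * g⁻¹)) * g := by group
      _ = g⁻¹ * (g * v * g⁻¹ * (g * a * g⁻¹)) * g := by rw [h]
      _ = v * a := by group

theorem x_mem {x : G} (hx : x ∈ V) (hx1 : x ≠ 1) : x ∈ tr A n x := by
  obtain ⟨g, hg, e⟩ := N.trans x hx hx1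
  rw [tr_eq N.nA e, ← e]
  exact conj_mem_cj N.n_A

theorem B_comm {x : G} (hx : x ∈ V) (hx1 : x ≠ 1) {a b : G} (ha : a ∈ tr A n x) (hb : b ∈ tr A n x) :
    a * b = b * a := by
  obtain ⟨g, hg, e⟩ := N.trans x hx hx1
  rw [tr_eq N.nA e] at ha hb
  obtain ⟨a, ha, rfl⟩ := ha
  obtain ⟨b, hb, rfl⟩ := hb
  have := N.A_comm a ha b hb
  change (MulAut.conj g) a * (MulAut.conj g) b = (MulAut.conj g) b * (MulAut.conj g) a
  rw [← map_mul, this, map_mul]

theorem B_sq {x : G} (hx : x ∈ V) (hx1 : x ≠ 1) {a : G} (ha : a ∈ tr A n x) : a * a = 1 := by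
  obtain ⟨g, hg, e⟩ := N.trans x hx hx1
  rw [tr_eq N.nA e] at ha
  obtain ⟨a, ha, rfl⟩ := ha
  have := N.A_sq a ha
  change (MulAut.conj g) a * (MulAut.conj g) a = 1
  rw [← map_mul, this, map_one]

theorem CC_comm {x : G} (hx : x ∈ V) (hx1 : x ≠ 1) {a b : G} (ha : a ∈ tr C₀ n x) (hb : b ∈ tr C₀ n x) :
    a * b = b * a := by
  obtain ⟨g, hg, e⟩ := N.trans x hx hx1
  rw [tr_eq N.nC e] at ha hb
  obtain ⟨a, ha, rfl⟩ := ha
  obtain ⟨b, hb, rfl⟩ := hb
  have := N.C_comm a ha b hb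
  change (MulAut.conj g) a * (MulAut.conj g) b = (MulAut.conj g) b * (MulAut.conj g) a
  rw [← map_mul, this, map_mul]

theorem CC_sq {x : G} (hx : x ∈ V) (hx1 : x ≠ 1) {a : G} (ha : a ∈ tr C₀ n x) : a * a = 1 := by
  obtain ⟨g, hg, e⟩ := N.trans x hx hx1
  rw [tr_eq N.nC e] at ha
  obtain ⟨a, ha, rfl⟩ := ha
  have := N.C_sq a ha
  change (MulAut.conj g) a * (MulAut.conj g) a = 1
  rw [← map_mul, this, map_one]

theorem V_CC {x : G} (hx : x ∈ V) (hx1 : x ≠ 1) : V ≤ tr C₀ n x := by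
  obtain ⟨g, hg, e⟩ := N.trans x hx hx1
  rw [tr_eq N.nC e]
  calc V = cj g V := (cj_eq_self_iff.2 hg).symm
    _ ≤ cj g C₀ := cj_mono N.V_C

theorem CCA {x : G} (hx : x ∈ V) (hx1 : x ≠ 1) {c a : G} (hc : c ∈ tr C₀ n x) (ha : a ∈ tr A n x) :
    c * a * c⁻¹ * a⁻¹ = 1 ∨ c * a * c⁻¹ * a⁻¹ = x := by
  obtain ⟨g, hg, e⟩ := N.trans x hx hx1
  rw [tr_eq N.nA e] at ha
  rw [tr_eq N.nC e] at hc
  obtain ⟨a, ha, rfl⟩ := ha
  obtain ⟨c, hc, rfl⟩ := hc
  have h1 : (MulAut.conj g) c * (MulAut.conj g) a * ((MulAut.conj g) c)⁻¹ * ((MulAut.conj g) a)⁻¹ =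
    g * (c * a * c⁻¹ * a⁻¹) * g⁻¹ := by
    simp only [MulAut.conj_apply]
    group
  change (MulAut.conj g) c * (MulAut.conj g) a * ((MulAut.conj g) c)⁻¹ * ((MulAut.conj g) a)⁻¹ = 1 ∨
    (MulAut.conj g) c * (MulAut.conj g) a * ((MulAut.conj g) c)⁻¹ * ((MulAut.conj g) a)⁻¹ = x
  rw [h1]
  rcases N.CA c hc a ha with h | h
  · left; rw [h]; group
  · right; rw [h, e]

/-- `b ∈ B i` centralising a second point centralises `V` -/
theorem cent_of [Finite G] {i j : G} (hi : i ∈ V) (hi1 : i ≠ 1) (hj : j ∈ V) (hj1 : j ≠ 1) (hij : i ≠ j)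
    {b : G} (hb : b ∈ tr A n i) (h : b * j = j * b) : ∀ v ∈ V, b * v = v * b := by
  have h1 : b * i = i * b := N.B_comm hi hi1 hb (N.x_mem hi hi1)
  intro v hv
  rcases N.all hi hj hi1 hj1 hij v hv with rfl | rfl | rfl | rfl
  · rw [mul_one, one_mul]
  · exact h1
  · exact h
  · calc b * (i * j) = (b * i) * j := by group
      _ = i * (b * j) := by rw [h1]; group
      _ = i * j * b := by rw [h]; group

theorem conj_B [Finite G] {i j : G} (hi : i ∈ V) (hi1 : i ≠ 1) (hj : j ∈ V)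
    {b : G} (hb : b ∈ tr A n i) : b * j * b⁻¹ = j ∨ b * j * b⁻¹ = i * j := by
  have h1 := N.CCA hi hi1 (N.V_CC hi hi1 hj) hb
  have hii := N.sq i hi
  rcases h1 with h1 | h1
  · left
    calc b * j * b⁻¹ = (j * b * j⁻¹ * b⁻¹)⁻¹ * j := by group
      _ = j := by rw [h1]; group
  · right
    calc b * j * b⁻¹ = (j * b * j⁻¹ * b⁻¹)⁻¹ * j := by group
      _ = i * j := by rw [h1, inv_eq_of_mul_eq_one_left hii]

/-- the side -/
theorem side [Finite G] : SideW V (fun x : Pt V => zpowers x.1) (fun x => tr A n x.1) (fun x => tr C₀ n x.1) where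
  third := by
    rintro ⟨i, hi, hi1⟩ ⟨j, hj, hj1⟩
    by_cases hij : i = j
    · subst hij
      by_contra hcon
      push Not at hcon
      have h1 : ∀ v ∈ V, v = 1 ∨ v = i := by
        intro v hv
        by_contra h
        rw [not_or] at h
        have h2 := hcon ⟨v, hv, h.1⟩ (fun e => h.2 (congrArg Subtype.val e))
        exact h.2 (congrArg Subtype.val h2)
      obtain ⟨a, ha, v, hv, hne⟩ := N.exists_move hi hi1
      rcases h1 v hv with rfl | rfl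
      · exact hne (by rw [mul_one, one_mul])
      · exact hne (N.B_comm hi hi1 ha (N.x_mem hi hi1))
    · refine ⟨⟨i * j, mul_mem hi hj, fun h => hij ?_⟩, fun h => hj1 ?_, fun h => hi1 ?_⟩
      · have h2 : i = j⁻¹ := eq_inv_of_mul_eq_one_left h
        rw [h2]
        exact inv_eq_of_mul_eq_one_left (N.sq j hj)
      · have := congrArg Subtype.val h
        change i * j = i at this
        simpa using this
      · have := congrArg Subtype.val h
        change i * j = j at this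
        simpa using this
  V_C := fun x => N.V_CC x.2.1 x.2.2
  R_V := fun x => by
    rw [zpowers_le]
    exact x.2.1
  R_B := fun x => by
    rw [zpowers_le]
    exact N.x_mem x.2.1 x.2.2
  R_ne := fun x => by
    rw [Ne, zpowers_eq_bot]
    exact x.2.2
  R_inf := by
    rintro ⟨i, hi, hi1⟩ ⟨j, hj, hj1⟩ hij
    rw [eq_bot_iff]
    rintro y ⟨h1, h2⟩
    rw [mem_bot]
    rcases (mem_zp (N.sq i hi)).1 h1 with h3 | h3
    · exact h3
    rcases (mem_zp (N.sq j hj)).1 h2 with h4 | h4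
    · exact h4
    · exact absurd (Subtype.ext (h3.symm.trans h4)) hij
  B_comm := fun x a ha b hb => N.B_comm x.2.1 x.2.2 ha hb
  B_sq := fun x a ha => N.B_sq x.2.1 x.2.2 ha
  C_comm := fun x a ha b hb => N.CC_comm x.2.1 x.2.2 ha hb
  C_sq := fun x a ha => N.CC_sq x.2.1 x.2.2 ha
  CB := fun x c hc b hb => (mem_zp (N.sq _ x.2.1)).2 (N.CCA x.2.1 x.2.2 hc hb)
  B_NV := by
    intro x b hb
    refine mem_normalizer_of_conj fun v hv => ?_
    rcases N.conj_B x.2.1 x.2.2 hv hb with h | h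
    · rw [h]; exact hv
    · rw [h]; exact mul_mem x.2.1 hv
  nB := by
    intro x g hg
    have h1 : g * x.1 * g⁻¹ = x.1 := (cj_zp (N.sq _ x.2.1) (N.sq _ x.2.1)).1 (cj_eq_self_iff.2 hg)
    rw [← cj_eq_self_iff, cj_tr, h1]
  nC := by
    intro x g hg
    have h1 : g * x.1 * g⁻¹ = x.1 := (cj_zp (N.sq _ x.2.1) (N.sq _ x.2.1)).1 (cj_eq_self_iff.2 hg)
    rw [← cj_eq_self_iff, cj_tr, h1]
  perm := by
    intro m g hg i
    have h1 : g * i.1 * g⁻¹ ∈ V := by
      rcases N.conj_B m.2.1 m.2.2 i.2.1 hg with h | h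
      · rw [h]; exact i.2.1
      · rw [h]; exact mul_mem m.2.1 i.2.1
    refine ⟨⟨g * i.1 * g⁻¹, h1, fun h => i.2.2 ?_⟩, ?_⟩
    · calc i.1 = g⁻¹ * (g * i.1 * g⁻¹) * g := by group
        _ = 1 := by rw [h]; group
    · exact (cj_zp (N.sq _ i.2.1) (N.sq _ h1)).2 rfl
  cB := by
    intro g i j e
    rw [cj_tr, (cj_zp (N.sq _ i.2.1) (N.sq _ j.2.1)).1 e]
  cC := by
    intro g i j e
    rw [cj_tr, (cj_zp (N.sq _ i.2.1) (N.sq _ j.2.1)).1 e]
  trans := by
    intro i j k hji hki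
    by_cases hjk : j = k
    · subst hjk
      exact ⟨1, one_mem _, cj_one _⟩
    · obtain ⟨b, hb, v, hv, hne⟩ := N.exists_move i.2.1 i.2.2
      have hij : i.1 ≠ j.1 := fun h => hji (Subtype.ext h.symm)
      refine ⟨b, hb, (cj_zp (N.sq _ j.2.1) (N.sq _ k.2.1)).2 ?_⟩
      rcases N.conj_B i.2.1 i.2.2 j.2.1 hb with h | h
      · exfalso
        apply hne
        exact N.cent_of i.2.1 i.2.2 j.2.1 j.2.2 hij hb (mul_inv_eq_iff_eq_mul.1 h) v hv
      · rw [h]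
        rcases N.all i.2.1 j.2.1 i.2.2 j.2.2 hij k.1 k.2.1 with h1 | h1 | h1 | h1
        · exact absurd h1 k.2.2
        · exact absurd (Subtype.ext h1) hki
        · exact absurd (Subtype.ext h1.symm) hjk
        · exact h1.symm
  free := by
    intro i j hji b hb e
    have h1 := (cj_zp (N.sq _ j.2.1) (N.sq _ j.2.1)).1 e
    exact N.cent_of i.2.1 i.2.2 j.2.1 j.2.2 (fun h => hji (Subtype.ext h.symm)) hb (mul_inv_eq_iff_eq_mul.1 h1)
  VB := by
    intro i v hv h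
    rw [mem_zp (N.sq _ i.2.1)]
    by_contra hcon
    rw [not_or] at hcon
    obtain ⟨b, hb, w, hw, hne⟩ := N.exists_move i.2.1 i.2.2
    exact hne (N.cent_of i.2.1 i.2.2 hv hcon.1 (Ne.symm hcon.2) hb (h b hb) w hw)

theorem ST_eq [Finite G] : ST V (fun x : Pt V => zpowers x.1) = normalizer (V : Set G) := by
  refine le_antisymm (ST_le _ _) fun g hg => ⟨cj_eq_self_iff.2 hg, fun i => ?_, fun i => ?_⟩
  · have h1 : g * i.1 * g⁻¹ ∈ V := conj_mem_of_normalizer hg i.2.1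
    refine ⟨⟨g * i.1 * g⁻¹, h1, fun h => i.2.2 ?_⟩, ?_⟩
    · calc i.1 = g⁻¹ * (g * i.1 * g⁻¹) * g := by group
        _ = 1 := by rw [h]; group
    · exact (cj_zp (N.sq _ i.2.1) (N.sq _ h1)).2 rfl
  · have h1 : g⁻¹ * i.1 * g⁻¹⁻¹ ∈ V := conj_mem_of_normalizer (inv_mem hg) i.2.1
    refine ⟨⟨g⁻¹ * i.1 * g⁻¹⁻¹, h1, fun h => i.2.2 ?_⟩, ?_⟩
    · calc i.1 = g * (g⁻¹ * i.1 * g⁻¹⁻¹) * g⁻¹ := by group
        _ = 1 := by rw [h]; group
    · exact (cj_zp (N.sq _ i.2.1) (N.sq _ h1)).2 rfl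

theorem tr_n : tr A n n = A := by
  rw [tr_eq N.nA (g := 1) (by group), cj_one]

theorem tr_n' : tr C₀ n n = C₀ := by
  rw [tr_eq N.nC (g := 1) (by group), cj_one]

theorem norm_zp : normalizer (zpowers n : Set G) = centralizer ({n} : Set G) := by
  ext g
  rw [← cj_eq_self_iff, cj_zp (N.sq n N.n_mem) (N.sq n N.n_mem), mem_centralizer_singleton_iff,
    mul_inv_eq_iff_eq_mul]

end Node

end Cfsg.Agent.Omega.IId.MixAny
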