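import Cfsg.Agent.Omega.IId.Cv.MixCount
import Cfsg.Agent.Omega.IId.Cv.EThree
import Cfsg.Agent.Omega.IId.Cv.MixAny
import Cfsg.Agent.Omega.F4Leaf.Pos

/-!
# THEOREM MIX-S (helper994): a mixed pair with a member of type `S_{2^m+1}` is impossible

`hs : Sit S P m A ε`, `V = V_P = V₀ × A`, `n = r_ij`, some element of `S` induces `(i j)`, `C = NN ε i j = C_G(n)`,
`Q = O₂(C)`.  `V₁ ≤ Q` a four-group, `n ∈ V₁`, `N_G(V₁)` transitive on `V₁#`, `[V₁, V] ≠ 1`.  Then `⟨V₁^C⟩` and `⟨V^C⟩` are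
not both abelian (`V₀ ≠ 1` or `m = 2`): `mix_sym`.
-/

set_option autoImplicit false
set_option linter.unusedSectionVars false

namespace Cfsg.Agent.Omega.IId.MixS

open Subgroup Cfsg Cfsg.Agent.ZN.ChoiceBase
open Cfsg.Agent.ZN (o2 zc zl)
open Cfsg.Agent.Omega.MinPar
open Cfsg.Agent.Omega.FrameFF (cv)
open Cfsg.Agent.Omega.S5.Def
open Cfsg.Agent.Omega.NSix.Base Cfsg.Agent.Omega.NSix.Basic Cfsg.Agent.Omega.NSix.FixApp
open Cfsg.Agent.Omega.F4Leaf.Pos
open Cfsg.Agent.Omega.IId.NV (clC le_clC clC_conj clC_le clC_comm clC_sq conj_mem_clC)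
open Cfsg.Agent.Omega.IId.Cv (E3 mem_E3 card_E3 norm_E3 le_of_E3)
open Cfsg.Agent.Omega.BTwo (mem_normalizer_of_conj)
open Cfsg.Agent.MinSimple.VModule (o2_isPGroup o2_le le_normalizer_o2)

universe u

variable {G : Type u} [Group G] [Finite G] {S : Sylow 2 G} {P : Subgroup G} {m : ℕ} {A : Subgroup G}
  {ε : (Fin (2 ^ m + 1) → ZMod 2) → G} (hs : Sit S P m A ε) {i j : Fin (2 ^ m + 1)} (hij : i ≠ j)
include hs hij

/-- `2^m ∤ |C_G(n) : C_S(n)|` -/
theorem not_pow_dvd (hsw : ∃ a ∈ (S : Subgroup G), Acts ε a (Equiv.swap i j)) :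
    ¬ 2 ^ m ∣ ((S : Subgroup G) ⊓ NN ε i j).relIndex (NN ε i j) := by
  have hf : Fact (Nat.Prime 2) := ⟨Nat.prime_two⟩
  have hyp : NSix.CosetAct.Hyp A P (S : Subgroup G) (o2 (NN ε i j)) ε i j :=
    { even := hs.split.even
      VP := hs.A_le_P
      two_le := hs.m2
      le := hs.par.le
      isP := S.isPGroup'
      max := fun T hT => by
        obtain ⟨R, hR⟩ := hT.exists_le_sylow
        have h1 : Nat.card (R : Subgroup G) = Nat.card (S : Subgroup G) := by
          rw [R.card_eq_multiplicity, S.card_eq_multiplicity]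
        rw [← h1]
        exact Subgroup.card_le_of_le hR
      fix0 := hs.split.fix0
      ne := hij
      swap := hsw
      isPW := o2_isPGroup _
      leW := o2_le _
      norm := le_normalizer_o2 _ }
  have h1 := hyp.relIndex_S_le
  set T := (S : Subgroup G) ⊓ NN ε i j with hT
  have h1' : T.relIndex (S : Subgroup G) ≤ 2 ^ (m - 1) := h1
  have hTN : T ≤ NN ε i j := inf_le_right
  have hT2 : IsPGroup 2 T := S.isPGroup'.to_le inf_le_left
  obtain ⟨X, h2, h3, h4, h5⟩ := Half.exists_sylow_le hT2 hTN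
  have h6 : T.relIndex X ≤ 2 ^ (m - 1) := by
    have h7 := Half.card_mul_relIndex h2
    have h8 : Nat.card T * T.relIndex (S : Subgroup G) = Nat.card (S : Subgroup G) :=
      Half.card_mul_relIndex inf_le_left
    have h9 : Nat.card X ≤ Nat.card (S : Subgroup G) := Half.card_le_sylow S h4
    rw [← h7, ← h8] at h9
    exact (Nat.le_of_mul_le_mul_left h9 Nat.card_pos).trans h1'
  intro hd
  rw [← relIndex_mul_relIndex _ _ _ h2 h3] at hd
  have hc : Nat.Coprime (2 ^ m) (X.relIndex (NN ε i j)) :=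
    Nat.Coprime.pow_left _ ((Nat.Prime.coprime_iff_not_dvd Nat.prime_two).2 h5)
  have hd' : 2 ^ m ∣ T.relIndex X := hc.dvd_of_dvd_mul_right hd
  have h7 : T.relIndex X ≠ 0 := Subgroup.index_ne_zero_of_finite
  have h8 := Nat.le_of_dvd (Nat.pos_of_ne_zero h7) hd'
  have h9 : 2 ^ (m - 1) < 2 ^ m := Nat.pow_lt_pow_right (by norm_num) (by have := hs.m2; omega)
  omega

omit hij in
theorem five_le : 5 ≤ 2 ^ m + 1 := S5.Syl.five_le hs.m2

/-- a fifth point -/
theorem exists_fifth {k l : Fin (2 ^ m + 1)} : ∃ p, p ≠ i ∧ p ≠ j ∧ p ≠ k ∧ p ≠ l := by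
  classical
  have hn := five_le hs
  by_contra hc
  push Not at hc
  have h1 : (Finset.univ : Finset (Fin (2 ^ m + 1))).card ≤ ({i, j, k, l} : Finset (Fin (2 ^ m + 1))).card := by
    refine Finset.card_le_card fun x _ => ?_
    simp only [Finset.mem_insert, Finset.mem_singleton]
    by_cases hx : x = i
    · exact Or.inl hx
    by_cases hx' : x = j
    · exact Or.inr (Or.inl hx')
    by_cases hx'' : x = k
    · exact Or.inr (Or.inr (Or.inl hx''))
    · exact Or.inr (Or.inr (Or.inr (hc x hx hx' hx'')))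
  have h2 : ({i, j, k, l} : Finset (Fin (2 ^ m + 1))).card ≤ 4 := Finset.card_le_four
  rw [Finset.card_univ, Fintype.card_fin] at h1
  omega

/-- **THEOREM MIX-S** -/
theorem mix_sym (hsw : ∃ a ∈ (S : Subgroup G), Acts ε a (Equiv.swap i j))
    (hD : cv (S : Subgroup G) P ≠ ⊥ ∨ m = 2) {V₁ : Subgroup G} (hV4 : Nat.card V₁ = 4)
    (hVsq : ∀ v ∈ V₁, v * v = 1) (hnV : rr ε i j ∈ V₁)
    (hVt : ∀ v ∈ V₁, v ≠ 1 → ∃ g ∈ normalizer (V₁ : Set G), g * rr ε i j * g⁻¹ = v)
    (hVQ : V₁ ≤ o2 (NN ε i j)) (hmove : ∃ v ∈ V₁, Acts ε v (Equiv.swap i j))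
    (hW₁ : ∀ g ∈ NN ε i j, ∀ v ∈ V₁, ∀ w ∈ V₁, v * (g * w * g⁻¹) = g * w * g⁻¹ * v)
    (hW : ∀ g ∈ NN ε i j, ∀ v ∈ zl (S : Subgroup G) P, ∀ w ∈ zl (S : Subgroup G) P,
      v * (g * w * g⁻¹) = g * w * g⁻¹ * v) : False := by
  have hf : Fact (Nat.Prime 2) := ⟨Nat.prime_two⟩
  have hev := hs.split.even
  have hn5 := five_le hs
  set n := rr ε i j with hn
  set C := NN ε i j with hC
  set V := zl (S : Subgroup G) P with hVdef
  have hnn : n * n = 1 := rr_sq hev i j
  have hn1 : n ≠ 1 := rr_ne_one hev (by omega) hij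
  have hAV : A ≤ V := hs.split.A_le
  have hVle : V ≤ o2 C := hs.V_le hij
  have hCn : ∀ g : G, g * n = n * g → g ∈ C := fun g hg => mem_NN.2 hg
  -- `W` (of `V₁`), `W'` (of `V`)
  set W₁ := clC C V₁ with hW₁def
  set W' := clC C V with hW'def
  have hCQ : C ≤ normalizer (o2 C : Set G) := le_normalizer_o2 _
  have hW₁Q : W₁ ≤ o2 C := clC_le hCQ hVQ
  have hW'Q : W' ≤ o2 C := clC_le hCQ hVle
  have hW'WW : ∀ w ∈ W', ∀ q ∈ o2 C, w * q * w⁻¹ = q ∨ w * q * w⁻¹ = q * n := by
    intro w hw q hq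
    exact hs.ww_conj hij hw hq
  have W₁_comm : ∀ x ∈ W₁, ∀ y ∈ W₁, x * y = y * x := clC_comm hW₁
  have W₁_sq : ∀ x ∈ W₁, x * x = 1 := clC_sq hW₁ hVsq
  have Vsq : ∀ v ∈ V, v * v = 1 := fun v hv => by rw [← pow_two]; exact hs.V_sq hv
  have W'_comm : ∀ x ∈ W', ∀ y ∈ W', x * y = y * x := clC_comm hW
  have W'_sq : ∀ x ∈ W', x * x = 1 := clC_sq hW Vsq
  have hV₁W : V₁ ≤ W₁ := le_clC
  have hVW : V ≤ W' := le_clC
  have hnW' : n ∈ W' := hVW (hAV (rr_mem hev i j))
  have hQn : ∀ q ∈ o2 C, q * n = n * q := fun q hq => mem_NN.1 (o2_le C hq)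
  have comm1 : ∀ c ∈ o2 C, ∀ a ∈ W', c * a * c⁻¹ * a⁻¹ = 1 ∨ c * a * c⁻¹ * a⁻¹ = n := by
    intro c hc a ha
    rcases hW'WW a ha c hc with h | h
    · left
      calc c * a * c⁻¹ * a⁻¹ = c * (a * c * a⁻¹)⁻¹ := by group
        _ = 1 := by rw [h]; group
    · right
      calc c * a * c⁻¹ * a⁻¹ = c * (a * c * a⁻¹)⁻¹ := by group
        _ = c * n⁻¹ * c⁻¹ := by rw [h]; group
        _ = n := by
          rw [inv_eq_of_mul_eq_one_left hnn, hQn c hc, mul_inv_cancel_right]
  have comm2 : ∀ c ∈ o2 C, ∀ a ∈ W', a * c * a⁻¹ * c⁻¹ = 1 ∨ a * c * a⁻¹ * c⁻¹ = n := by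
    intro c hc a ha
    rcases hW'WW a ha c hc with h | h
    · left
      rw [h, mul_inv_cancel]
    · right
      rw [h, hQn c hc, mul_inv_cancel_right]
  obtain ⟨v₀, hv₀, hvs⟩ := hmove
  -- elements of `V` moving `V₁`
  have move : ∀ p, p ≠ i → p ≠ j → ¬ ∀ v ∈ V₁, rr ε i p * v = v * rr ε i p := by
    intro p hpi hpj hall
    have h1 := hall v₀ hv₀
    have h2 := rr_conj hvs i p
    rw [← h1, mul_inv_cancel_right, Equiv.swap_apply_left, Equiv.swap_apply_of_ne_of_ne hpi hpj] at h2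
    exact NSix.TkPair.rr_ne hev hn5 hpi.symm hij.symm hpi h2
  have hrW' : ∀ p, rr ε i p ∈ W' := fun p => hVW (hAV (rr_mem hev i p))
  obtain ⟨p₁, hp1, hp2, -, -⟩ := exists_fifth hs hij (k := i) (l := i)
  -- the node at `V₁`
  have N1 : MixAny.Node V₁ W' W₁ n :=
    { card := hV4
      sq := hVsq
      n_mem := hnV
      n_ne := hn1
      trans := hVt
      nA := fun g hg y hy => clC_conj (hCn g hg) hy
      nC := fun g hg y hy => clC_conj (hCn g hg) hy
      A_comm := W'_comm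
      A_sq := W'_sq
      C_comm := W₁_comm
      C_sq := W₁_sq
      n_A := hnW'
      V_C := hV₁W
      CA := fun c hc y hy => comm1 c (hW₁Q hc) y hy
      move := by
        by_contra hcon
        push Not at hcon
        exact move p₁ hp1 hp2 fun v hv => hcon _ (hrW' p₁) v hv }
  have s := N1.side
  let i₀ : MixAny.Pt V₁ := ⟨n, hnV, hn1⟩
  have hB : MixAny.tr W' n n = W' := N1.tr_n
  have hC₁ : MixAny.tr W₁ n n = W₁ := N1.tr_n'
  have hzn : normalizer (zpowers n : Set G) = C := N1.norm_zp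
  -- `T`, `b`
  set T := (S : Subgroup G) ⊓ NN ε i j with hT
  have hTn : ∀ t ∈ T, t * n = n * t := fun t ht => mem_NN.1 (mem_inf.1 ht).2
  have h0i : (0 : Fin (2 ^ m + 1)) ≠ i := by
    rintro rfl
    obtain ⟨a, ha, hσ⟩ := hsw
    have h1 := hs.split.fix0 a ha _ hσ
    rw [Equiv.swap_apply_left] at h1
    exact hij h1.symm
  have h0j : (0 : Fin (2 ^ m + 1)) ≠ j := by
    rintro rfl
    obtain ⟨a, ha, hσ⟩ := hsw
    have h1 := hs.split.fix0 a ha _ hσ
    rw [Equiv.swap_apply_right] at h1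
    exact hij h1
  have hbT : ∀ t ∈ T, rr ε i 0 * t * (rr ε i 0)⁻¹ * t⁻¹ ∈ zpowers n := by
    intro t ht
    obtain ⟨ht1, ht2⟩ := mem_inf.1 ht
    obtain ⟨σ, hσ⟩ := hev.perm t (hs.par.le ht1)
    have h0 := hs.split.fix0 t ht1 σ hσ
    have h1 := rr_conj hσ i j
    rw [mem_NN'.1 ht2] at h1
    have h2 : σ i = i ∨ σ i = j := by
      by_contra hcon
      push Not at hcon
      exact NSix.TkPair.rr_ne hev hn5 (fun e => hij (σ.injective e)) (Ne.symm hcon.1) (Ne.symm hcon.2) h1.symm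
    have h3 : t * rr ε i 0 * t⁻¹ = rr ε (σ i) 0 := by
      rw [rr_conj hσ, h0]
    have h4 : rr ε i 0 * t * (rr ε i 0)⁻¹ * t⁻¹ = rr ε i 0 * rr ε (σ i) 0 := by
      rw [← h3, rr_inv hev]; group
    rw [h4, MixAny.mem_zp hnn]
    rcases h2 with h2 | h2
    · left; rw [h2]; exact rr_sq hev _ _
    · right
      rw [h2, rr_symm hev j 0]
      exact rr_add hev i 0 j
  have hTR : T ≤ normalizer (zpowers n : Set G) := by
    rw [hzn]; exact inf_le_right
  have h2m : ¬ 2 ^ m ∣ T.relIndex (normalizer (zpowers n : Set G)) := by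
    rw [hzn]; exact not_pow_dvd hs hij hsw
  have hbV := move 0 h0i h0j
  -- elements of `I`
  have hI : ∀ u ∈ W', (∀ q ∈ o2 C, u * q = q * u) →
      u ∈ MixAny.tr W' n n ⊓ Mix.YY (MixAny.tr W' n n) (MixAny.tr W₁ n n) := by
    intro u hu hc
    rw [hB, hC₁]
    refine mem_inf.2 ⟨hu, ?_⟩
    rw [Mix.mem_YY]
    exact ⟨fun y hy => hc y (hW'Q hy), fun y hy => hc y (hW₁Q hy)⟩
  have hz : ∀ k, k ≠ i → k ≠ j → zz ε k ∈ W' ∧ ∀ q ∈ o2 C, zz ε k * q = q * zz ε k := by
    intro k hki hkj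
    refine ⟨hVW (hAV (zz_mem hev k)), ?_⟩
    have h1 : zz ε k ∈ centralizer (o2 C : Set G) := by
      refine NSix.CosetAct.zz_mem_of_rr hev (NSix.CosetAct.odd_n (by have := hs.m2; omega)) hij ⟨hki, hkj⟩
        (mem_centralizer_iff.2 fun q hq => hQn q hq) fun b hbi hbj _ => ?_
      exact mem_centralizer_iff.2 fun q hq => ((hs.vn_cen hij (rr_mem_Vn ⟨hki, hkj⟩ ⟨hbi, hbj⟩)).2 q hq).symm
    exact fun q hq => (mem_centralizer_iff.1 h1 q hq).symm
  -- the good elements
  set B₀ := ⨅ x : MixAny.Pt V₁, MixAny.tr W' n x.1 with hB₀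
  have hmemR : ∀ g, g ∈ zpowers n ↔ g = 1 ∨ g = n := fun g => MixAny.mem_zp hnn
  have good_kl : ∀ k l, k ≠ i → k ≠ j → l ≠ i → l ≠ j → k ≠ l → rr ε k l ∉ B₀ := by
    intro k l hki hkj hli hlj hkl hz
    obtain ⟨p, q1, q2, q3, q4⟩ := exists_fifth hs hij (k := k) (l := l)
    have h1 := hs.vn_cen hkl (rr_mem_Vn ⟨hki.symm, hli.symm⟩ ⟨hkj.symm, hlj.symm⟩)
    have h2 := hs.vn_cen hkl (rr_mem_Vn ⟨hki.symm, hli.symm⟩ ⟨q3, q4⟩)
    exact MixAny.false_of_goodPt s (i := i₀) hmemR (b := rr ε i p) (z := rr ε k l) (hB.symm ▸ hrW' p) (move p q1 q2) hz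
      h1.1 h2.2
  have good_V : ∀ z, V ≤ o2 (centralizer ({z} : Set G)) → o2 (centralizer ({z} : Set G)) ≤ centralizer (V : Set G) →
      z ∉ B₀ := by
    intro z h1 h2 hz
    refine MixAny.false_of_goodPt s (i := i₀) hmemR (b := rr ε i p₁) (z := z) (hB.symm ▸ hrW' p₁) (move p₁ hp1 hp2) hz
      (h1 (hAV (rr_mem hev i j))) fun q hq => ?_
    exact mem_centralizer_iff.1 (h2 hq) _ (hAV (rr_mem hev i p₁))
  by_cases hm : m = 2
  · -- `m = 2`
    have hr0 : rr ε i j ∈ E3 hev i j 0 := mem_E3.2 (Or.inr (Or.inl rfl))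
    have m2 : rr ε i 0 ∈ E3 hev i j 0 := mem_E3.2 (Or.inr (Or.inr (Or.inl rfl)))
    have m3 : rr ε j 0 ∈ E3 hev i j 0 := mem_E3.2 (Or.inr (Or.inr (Or.inr rfl)))
    have hEA : E3 hev i j 0 ≤ A := by
      intro x hx
      rcases mem_E3.1 hx with rfl | rfl | rfl | rfl
      · exact one_mem _
      · exact rr_mem hev _ _
      · exact rr_mem hev _ _
      · exact rr_mem hev _ _
    have N2 : MixAny.Node (E3 hev i j 0) W₁ W' n :=
      { card := card_E3 hev hn5 hij h0i.symm h0j.symm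
        sq := fun v hv => hev.sq_mem (hEA hv)
        n_mem := hr0
        n_ne := hn1
        trans := by
          intro v hv hv1
          rcases mem_E3.1 hv with rfl | rfl | rfl | rfl
          · exact absurd rfl hv1
          · exact ⟨1, one_mem _, by rw [hn]; group⟩
          · obtain ⟨g, hg, hσ⟩ := hev.full (Equiv.swap j 0)
            have e1 : Equiv.swap j 0 i = i := Equiv.swap_apply_of_ne_of_ne hij h0i.symm
            have e2 : Equiv.swap j 0 j = 0 := Equiv.swap_apply_left _ _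
            have e3 : Equiv.swap j 0 0 = j := Equiv.swap_apply_right _ _
            refine ⟨g, norm_E3 hev hσ ?_ ?_ ?_, ?_⟩
            · rw [e1, e2]; exact m2
            · rw [e1, e3]; exact hr0
            · rw [e2, e3, rr_symm hev]; exact m3
            · rw [hn, rr_conj hσ, e1, e2]
          · obtain ⟨g, hg, hσ⟩ := hev.full (Equiv.swap i 0)
            have e1 : Equiv.swap i 0 j = j := Equiv.swap_apply_of_ne_of_ne hij.symm h0j.symm
            have e2 : Equiv.swap i 0 i = 0 := Equiv.swap_apply_left _ _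
            have e3 : Equiv.swap i 0 0 = i := Equiv.swap_apply_right _ _
            refine ⟨g, norm_E3 hev hσ ?_ ?_ ?_, ?_⟩
            · rw [e1, e2, rr_symm hev]; exact m3
            · rw [e2, e3, rr_symm hev]; exact m2
            · rw [e1, e3, rr_symm hev]; exact hr0
            · rw [hn, rr_conj hσ, e1, e2, rr_symm hev]
        nA := fun g hg y hy => clC_conj (hCn g hg) hy
        nC := fun g hg y hy => clC_conj (hCn g hg) hy
        A_comm := W₁_comm
        A_sq := W₁_sq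
        C_comm := W'_comm
        C_sq := W'_sq
        n_A := hV₁W hnV
        V_C := (hEA.trans hAV).trans hVW
        CA := fun c hc y hy => comm2 y (hW₁Q hy) c hc
        move := by
          refine ⟨v₀, hV₁W hv₀, rr ε i 0, m2, fun h1 => ?_⟩
          have h2 := rr_conj hvs i 0
          rw [h1, mul_inv_cancel_right, Equiv.swap_apply_left, Equiv.swap_apply_of_ne_of_ne h0i h0j] at h2
          exact NSix.TkPair.rr_ne hev hn5 h0i.symm hij.symm h0i h2 }
    let j₀ : MixAny.Pt (E3 hev i j 0) := ⟨n, hr0, hn1⟩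
    have t : MixAny.TwoS V₁ (E3 hev i j 0) (fun x : MixAny.Pt V₁ => zpowers x.1)
        (fun x => MixAny.tr W' n x.1) (fun x => MixAny.tr W₁ n x.1) (fun x : MixAny.Pt (E3 hev i j 0) => zpowers x.1)
        (fun x => MixAny.tr W₁ n x.1) (fun x => MixAny.tr W' n x.1) i₀ j₀ :=
      { s₁ := N1.side
        s₂ := N2.side
        hR := rfl
        hB := rfl
        hC := rfl
        ch := by
          intro y hy hyc
          change y ∈ o2 (normalizer (zpowers n : Set G))
          have hy' : y ∈ normalizer (zpowers n : Set G) := hy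
          have hyc' : ∀ q ∈ o2 (normalizer (zpowers n : Set G)), y * q = q * y := hyc
          rw [hzn] at hy' hyc' ⊢
          exact Sit.char2 hij hs ⟨hy', mem_centralizer_iff.2 fun q hq => (hyc' q hq).symm⟩
        NL := by
          intro K hK h1 h2 h3
          by_contra hK1
          rw [N1.ST_eq] at h1
          rw [N2.ST_eq] at h2
          have h3' : C ≤ normalizer (K : Set G) := hzn ▸ h3
          have hP : P ≤ normalizer (K : Set G) :=
            le_of_E3 hev hij h0i.symm h0j.symm (inf_le_right.trans h3') (inf_le_right.trans h2)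
          have hloc := isLoc_normalizer S hK hK1 (hs.par.le.trans hP)
          have h4 := NV.zl_le_of_loc hs.c2 S hloc hP
          have h5 : n ∈ o2 (normalizer (K : Set G)) :=
            MinSimple.VModule.zc_le _ (h4 (hAV (rr_mem hev i j)))
          have hv1 : v₀ ≠ 1 := by
            rintro rfl
            have h6 := hev.acts_unique (by omega : 3 ≤ 2 ^ m + 1) hvs Acts.one
            have h7 := congrArg (fun τ : Equiv.Perm (Fin (2 ^ m + 1)) => τ i) h6
            simp only [Equiv.swap_apply_left, Equiv.Perm.coe_one, id_eq] at h7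
            exact hij h7.symm
          obtain ⟨g, hg, hgv⟩ := hVt v₀ hv₀ hv1
          have h6 : v₀ ∈ o2 (normalizer (K : Set G)) := by
            rw [← hgv]
            exact (mem_normalizer_iff.1 (le_normalizer_o2 _ (h1 hg)) n).1 h5
          have h7 := (MinSimple.VModule.mem_zc.1 (h4 (hAV (rr_mem hev i p₁)))).2.1 v₀ h6
          have h2 := rr_conj hvs i p₁
          rw [h7, mul_inv_cancel_right, Equiv.swap_apply_left, Equiv.swap_apply_of_ne_of_ne hp1 hp2] at h2
          exact NSix.TkPair.rr_ne hev hn5 hp1.symm hij.symm hp1 h2 }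
    have h4 : ¬ 4 ∣ T.relIndex (normalizer (zpowers n : Set G)) := by
      have e : 2 ^ m = 4 := by rw [hm]; norm_num
      rw [e] at h2m
      exact h2m
    have hII := MixAny.II_le s (i := i₀) (T := T) (b := rr ε i 0) (fun y hy => t.Y_sq hy) (by
      intro q hq w hw
      have hq' : q ∈ o2 (normalizer (zpowers n : Set G)) := hq
      rw [hzn] at hq'
      have hw' : w ∈ W' := hB ▸ hw
      exact (MixAny.mem_zp hnn).2 (comm2 q hq' w hw')) hTR h4 (hB.symm ▸ hrW' 0) hbV hbT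
    obtain ⟨l, hl1, hl2, hl3, -⟩ := exists_fifth hs hij (k := p₁) (l := p₁)
    obtain ⟨q, hq1, hq2, hq3, hq4⟩ := exists_fifth hs hij (k := p₁) (l := l)
    have hx : ∀ k l, k ≠ i → k ≠ j → l ≠ i → l ≠ j →
        rr ε k l ∈ MixAny.tr W' n n ⊓ Mix.YY (MixAny.tr W' n n) (MixAny.tr W₁ n n) := by
      intro k l hki hkj hli hlj
      refine hI _ (mul_mem (hz k hki hkj).1 (hz l hli hlj).1) fun q hq => ?_
      exact (hs.vn_cen hij (rr_mem_Vn ⟨hki, hkj⟩ ⟨hli, hlj⟩)).2 q hq
    obtain ⟨r, hr, x', hx', ex⟩ := hII _ (hx p₁ l hp1 hp2 hl1 hl2)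
    obtain ⟨r', hr', y', hy', ey⟩ := hII _ (hx p₁ q hp1 hp2 hq1 hq2)
    rcases (hmemR r).1 hr with rfl | rfl
    · rw [one_mul] at ex
      exact good_kl p₁ l hp1 hp2 hl1 hl2 hl3.symm (ex ▸ hx')
    rcases (hmemR r').1 hr' with rfl | rfl
    · rw [one_mul] at ey
      exact good_kl p₁ q hp1 hp2 hq1 hq2 hq3.symm (ey ▸ hy')
    refine good_kl l q hl1 hl2 hq1 hq2 hq4.symm ?_
    have h1 : n * x' = x' * n := s.B0_comm hx' i₀ n (s.R_B i₀ hr')
    have e : rr ε l q = x' * y' := by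
      rw [← rr_add hev l p₁ q, rr_symm hev l p₁, ex, ey]
      calc n * x' * (n * y') = (n * x') * n * y' := by group
        _ = x' * (n * n) * y' := by rw [h1]; group
        _ = x' * y' := by rw [hnn, mul_one]
    rw [e]
    exact mul_mem hx' hy'
  · -- `m ≥ 3`
    have hm3 : 3 ≤ m := by have := hs.m2; omega
    obtain ⟨d, hd, hd1⟩ := (Subgroup.bot_or_exists_ne_one (cv (S : Subgroup G) P)).resolve_left
      (hD.resolve_right hm)
    have hdV : d ∈ V := hs.V0_le hd
    have hdd : d⁻¹ = d := inv_eq_of_mul_eq_one_left (Vsq d hdV)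
    have nd : d ∉ B₀ := good_V d (hs.cen_V hd hd1).1 (hs.cen_V hd hd1).2
    have ndz : ∀ v ∈ cv (S : Subgroup G) P, ∀ k, v * zz ε k ∉ B₀ := fun v hv k =>
      good_V _ (hs.cen_pt hm3 hv k).1 (hs.cen_pt hm3 hv k).2
    have nz : ∀ k, zz ε k ∉ B₀ := fun k => by
      have := ndz 1 (one_mem _) k
      rwa [one_mul] at this
    classical
    let f : Fin (2 ^ m + 1) → G := fun k => if k = i then 1 else if k = j then d else zz ε k
    obtain ⟨j₁, hj₁, -⟩ := s.third i₀ i₀
    have hidx : B₀.relIndex (MixAny.tr W' n n ⊓ Mix.YY (MixAny.tr W' n n) (MixAny.tr W₁ n n)) ≤ 2 ^ (m - 1 + 1) := by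
      refine MixAny.relIndex_B0_le s (i := i₀) (j := j₁) hj₁.symm ?_ hTR ?_ (hB.symm ▸ hrW' 0) hbV hbT
      · change Nat.card (zpowers j₁.1) = 2
        rw [Nat.card_zpowers]
        exact orderOf_eq_prime (by rw [pow_two]; exact hVsq _ j₁.2.1) j₁.2.2
      · rw [show m - 1 + 1 = m by omega]
        exact h2m
    obtain ⟨a, b, hab, hmem⟩ := MixAny.exists_pigeon (B₀ := B₀)
        (I := MixAny.tr W' n n ⊓ Mix.YY (MixAny.tr W' n n) (MixAny.tr W₁ n n)) f (fun k => by
      by_cases h1 : k = i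
      · simp only [f, if_pos h1]; exact one_mem _
      by_cases h2 : k = j
      · simp only [f, if_neg h1, if_pos h2]
        exact hI d (hVW hdV) fun q hq => (hs.comm_V0 hij hq hd).symm
      · simp only [f, if_neg h1, if_neg h2]
        exact hI _ (hz k h1 h2).1 (hz k h1 h2).2) (by
      rw [Nat.card_fin]
      rw [show m - 1 + 1 = m by omega] at hidx
      omega)
    by_cases ha1 : a = i
    · by_cases hb1 : b = i
      · exact hab (ha1.trans hb1.symm)
      by_cases hb2 : b = j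
      · simp only [f, if_pos ha1, if_neg hb1, if_pos hb2, inv_one, one_mul] at hmem
        exact nd hmem
      · simp only [f, if_pos ha1, if_neg hb1, if_neg hb2, inv_one, one_mul] at hmem
        exact nz b hmem
    by_cases ha2 : a = j
    · by_cases hb1 : b = i
      · simp only [f, if_neg ha1, if_pos ha2, if_pos hb1, mul_one] at hmem
        exact nd (inv_mem_iff.1 hmem)
      by_cases hb2 : b = j
      · exact hab (ha2.trans hb2.symm)
      · simp only [f, if_neg ha1, if_pos ha2, if_neg hb1, if_neg hb2] at hmem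
        rw [hdd] at hmem
        exact ndz d hd b hmem
    · by_cases hb1 : b = i
      · simp only [f, if_neg ha1, if_neg ha2, if_pos hb1, mul_one] at hmem
        exact nz a (inv_mem_iff.1 hmem)
      by_cases hb2 : b = j
      · simp only [f, if_neg ha1, if_neg ha2, if_neg hb1, if_pos hb2] at hmem
        have h1 := inv_mem hmem
        rw [mul_inv_rev, inv_inv, hdd] at h1
        exact ndz d hd a h1
      · simp only [f, if_neg ha1, if_neg ha2, if_neg hb1, if_neg hb2] at hmem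
        rw [zz_inv hev] at hmem
        exact good_kl a b ha1 ha2 hb1 hb2 hab hmem

end Cfsg.Agent.Omega.IId.MixS
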