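import Cfsg.Agent.Omega.IId.M4.TwoT
import Cfsg.Agent.Omega.IId.Cv.SylIdx

/-!
# THEOREM MIX2 (helper994): mixed pairs, the orbit argument (abstract part)

`s : MixOne.SideW V R B C`: the line `V` with points `R k`, `B k`, `C k` elementary abelian.  `I k = B k ∩ C_G(B k C k)`,
`B₀ = ⨅ B k`, `InK R B k x` : `x ∈ (R k) B₀`.

* `inK_of_comm` : (2) `u ∈ I j`, `[u, I i] = 1` imply `u ∈ (R j) B₀`;
* `two_of_index` : (3) a 2-group `T ≤ N(R i)` with `4 ∤ |N(R i) : T|` and `[b, T] ≤ R i`, `b ∈ B i` moves `V`, implies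
  `|I j : (R j) B₀| ≤ 2`;
* `II_le` : `I i = (R i) B₀`;
* `TwoS` : two sides without a common 2-group; `TwoS.false_of` : the contradiction (4).
-/

set_option autoImplicit false
set_option linter.unusedSectionVars false

namespace Cfsg.Agent.Omega.IId.MixAny

open Subgroup Cfsg.Agent.Omega.BTwo Cfsg.Agent.Omega.Mix Cfsg.Agent.Omega.MixOne
open Cfsg.Agent.Omega.MixOne.TwoW (Sq cj_Sq Sq_eq)
open Cfsg.Agent.Omega.IId.SylIdx

variable {G : Type*} [Group G] {ι κ : Type*}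

/-- `x ∈ (R k) B₀` -/
def InK (R B : ι → Subgroup G) (k : ι) (x : G) : Prop := ∃ r ∈ R k, ∃ y ∈ ⨅ m, B m, x = r * y

section side

variable {V : Subgroup G} {R B C : ι → Subgroup G} (s : SideW V R B C)
include s

/-- `[B i, I j] ≤ I i` -/
theorem comm_II {i j : ι} {b u : G} (hb : b ∈ B i) (hu : u ∈ YY (B j) (C j)) :
    b * u * b⁻¹ * u⁻¹ ∈ B i ⊓ YY (B i) (C i) :=
  ⟨TT_le _ _ (s.comm_mem_T' (s.Y_V hu) hb), s.comm_B_Y hb hu⟩

theorem nII (i : ι) : normalizer (R i : Set G) ≤ normalizer ((B i ⊓ YY (B i) (C i) : Subgroup G) : Set G) := by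
  intro g hg
  rw [← cj_eq_self_iff, cj_inf, cj_eq_self_iff.2 (s.nB i hg), cj_eq_self_iff.2 (s.nY i hg)]

/-- `t ∈ T i` commutes with `[c, t]`, `c ∈ B j` -/
theorem alt {i j : ι} {c t : G} (hc : c ∈ B j) (ht : t ∈ B i) (htV : ∀ v ∈ V, t * v = v * t) :
    t * (c * t * c⁻¹ * t⁻¹) = (c * t * c⁻¹ * t⁻¹) * t := by
  have h1 : c * t * c⁻¹ * t⁻¹ ∈ B j := TT_le _ _ (s.comm_mem_T' htV hc)
  have h2 := s.B_sq j _ h1
  have h3 : t * t = 1 := s.B_sq i t ht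
  set x := c * t * c⁻¹ * t⁻¹ with hx
  have e : x * t = c * t * c⁻¹ := by rw [hx]; group
  have h4 : x * t * (x * t) = 1 := by
    rw [e]
    calc c * t * c⁻¹ * (c * t * c⁻¹) = c * (t * t) * c⁻¹ := by group
      _ = 1 := by rw [h3]; group
  have h5 : (x * t)⁻¹ = x * t := inv_eq_of_mul_eq_one_left h4
  have h6 : x⁻¹ = x := inv_eq_of_mul_eq_one_left h2
  have h7 : t⁻¹ = t := inv_eq_of_mul_eq_one_left h3
  rw [mul_inv_rev, h6, h7] at h5
  exact h5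

/-- for `b ∈ B i` outside `C(V)`, `t ∈ B j`, `[b, t] ∈ (R i) B₀` : `t ∈ (R j) B₀` -/
theorem mem_RB [Finite G] {i j : ι} (hij : i ≠ j) {b : G} (hb : b ∈ B i)
    (hbV : ¬ ∀ v ∈ V, b * v = v * b) {t : G} (ht : t ∈ B j) (h : InK R B i (b * t * b⁻¹ * t⁻¹)) :
    InK R B j t := by
  obtain ⟨r, hr, y, hy, e⟩ := h
  have key : ∀ r ∈ R j, b * r * b⁻¹ * r⁻¹ ∈ R i := by
    intro r hr
    have h1 := s.CB i r (s.V_C i (s.R_V j hr)) b hb
    have e : b * r * b⁻¹ * r⁻¹ = (r * b * r⁻¹ * b⁻¹)⁻¹ := by group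
    rw [e]; exact inv_mem h1
  let f : R j → R i := fun r => ⟨b * (r : G) * b⁻¹ * (r : G)⁻¹, key r r.2⟩
  have hf : Function.Injective f := by
    intro x y hxy
    have h1 : b * (x : G) * b⁻¹ * (x : G)⁻¹ = b * (y : G) * b⁻¹ * (y : G)⁻¹ := congrArg Subtype.val hxy
    have h2 : b * ((y : G)⁻¹ * x) = (y : G)⁻¹ * x * b := comm_of_comm_eq h1
    have h4 := s.inj hij hb hbV (mul_mem (inv_mem (s.R_B j y.2)) (s.R_B j x.2)) h2
    have h5 := s.D_R (i := j) (s.B0_le_D h4) (mul_mem (inv_mem y.2) x.2)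
    exact Subtype.ext (inv_mul_eq_one.1 h5).symm
  have hfs : Function.Surjective f := (Nat.bijective_iff_injective_and_card f).2 ⟨hf, s.card_R j i⟩ |>.2
  obtain ⟨r0, hr0⟩ := hfs ⟨r, hr⟩
  have h1 : b * (r0 : G) * b⁻¹ * (r0 : G)⁻¹ = r := congrArg Subtype.val hr0
  have hyr : y * (r0 : G) = r0 * y := (s.B0_comm hy j _ (s.R_B j r0.2)).symm
  have h2 : b * ((r0 : G)⁻¹ * t) * b⁻¹ * ((r0 : G)⁻¹ * t)⁻¹ = y := by
    have e1 : b * t * b⁻¹ = r * y * t := by rw [← e]; group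
    have e2 : b * (r0 : G) * b⁻¹ = r * r0 := by rw [← h1]; group
    calc b * ((r0 : G)⁻¹ * t) * b⁻¹ * ((r0 : G)⁻¹ * t)⁻¹
        = (b * (r0 : G) * b⁻¹)⁻¹ * (b * t * b⁻¹) * t⁻¹ * r0 := by group
      _ = (r0 : G)⁻¹ * (y * r0) := by rw [e1, e2]; group
      _ = y := by rw [hyr]; group
  have h3 := s.inj0 hij hb hbV (mul_mem (inv_mem (s.R_B j r0.2)) ht) (by rw [h2]; exact hy)
  exact ⟨r0, r0.2, _, h3, by group⟩

/-- an element of `I i` commutes with `(R j) B₀` -/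
theorem comm_InK {i j : ι} {t x : G} (ht : t ∈ YY (B i) (C i)) (hx : InK R B j x) : t * x = x * t := by
  obtain ⟨r, hr, y, hy, rfl⟩ := hx
  have h1 := s.Y_V ht r (s.R_V j hr)
  have h2 := SideW.Y_B0 ht hy
  calc t * (r * y) = (t * r) * y := by group
    _ = r * (t * y) := by rw [h1]; group
    _ = r * y * t := by rw [h2]; group

/-- if `|I j : (R j) B₀| ≤ 2`, then `[I i, I j] = 1` -/
theorem comm_of_two [Finite G] {i j : ι} (hij : i ≠ j)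
    (h2 : ∀ u ∈ B j ⊓ YY (B j) (C j), ∀ w ∈ B j ⊓ YY (B j) (C j), InK R B j u ∨ InK R B j w ∨ InK R B j (u * w))
    {u t : G} (hu : u ∈ B j ⊓ YY (B j) (C j)) (ht : t ∈ B i ⊓ YY (B i) (C i)) : t * u = u * t := by
  obtain ⟨c, hc, hcV⟩ := s.exists_move (Ne.symm hij)
  have hs := comm_II s hc ht.2
  have ha := alt s hc ht.1 (s.Y_V ht.2)
  rcases h2 u hu _ hs with h | h | h
  · exact comm_InK s ht.2 h
  · have h3 := mem_RB s (Ne.symm hij) hc hcV ht.1 h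
    exact (comm_InK s hu.2 h3).symm
  · have h3 := comm_InK s ht.2 h
    set x := c * t * c⁻¹ * t⁻¹ with hx
    have h4 : t * u * x = u * t * x := by
      calc t * u * x = t * (u * x) := by group
        _ = u * (x * t) := by rw [h3]; group
        _ = u * t * x := by rw [← ha]; group
    exact mul_right_cancel h4

/-- **(2)** `u ∈ I j`, `[u, I i] = 1` imply `u ∈ (R j) B₀` -/
theorem inK_of_comm [Finite G] {i j : ι} (hij : i ≠ j) (hY2 : ∀ y ∈ YY (B i) (C i), y * y = 1)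
    (hQ : ∀ q ∈ O2 (normalizer (R i : Set G)), ∀ b ∈ B i, b * q * b⁻¹ * q⁻¹ ∈ R i)
    {u : G} (hu : u ∈ B j ⊓ YY (B j) (C j)) (hc : ∀ t ∈ B i ⊓ YY (B i) (C i), t * u = u * t) :
    InK R B j u := by
  set Y := YY (B i) (C i) with hYdef
  set H := normalizer (R i : Set G) with hH
  have hnB : H ≤ normalizer (B i : Set G) := s.nB i
  have hnC : H ≤ normalizer (C i : Set G) := s.nC i
  have hnY : H ≤ normalizer (Y : Set G) := s.nY i
  have inv_aux : ∀ (A : Subgroup G), H ≤ normalizer (A : Set G) → ∀ a ∈ H, (∀ w ∈ A, a * w * a⁻¹ * w⁻¹ ∈ Y) →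
      ∀ w ∈ A, a⁻¹ * w * a⁻¹⁻¹ * w⁻¹ ∈ Y := by
    intro A hA a ha h w hw
    have h1 : a⁻¹ * w * a ∈ A := conj_inv_mem_of_normalizer (hA ha) hw
    have h2 := inv_mem (h _ h1)
    have e : (a * (a⁻¹ * w * a) * a⁻¹ * (a⁻¹ * w * a)⁻¹)⁻¹ = a⁻¹ * w * a⁻¹⁻¹ * w⁻¹ := by group
    rwa [e] at h2
  have mul_aux : ∀ a b w : G, (∀ y ∈ Y, a * y = y * a) → a * w * a⁻¹ * w⁻¹ ∈ Y → b * w * b⁻¹ * w⁻¹ ∈ Y →
      a * b * w * (a * b)⁻¹ * w⁻¹ ∈ Y := by
    intro a b w ha h1 h2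
    have e : a * b * w * (a * b)⁻¹ * w⁻¹ = (b * w * b⁻¹ * w⁻¹) * (a * w * a⁻¹ * w⁻¹) := by
      calc a * b * w * (a * b)⁻¹ * w⁻¹ = (a * (b * w * b⁻¹ * w⁻¹)) * w * a⁻¹ * w⁻¹ := by group
        _ = (b * w * b⁻¹ * w⁻¹) * (a * w * a⁻¹ * w⁻¹) := by rw [ha _ h2]; group
    rw [e]
    exact mul_mem h2 h1
  let Ω : Subgroup G :=
    { carrier := {g | g ∈ H ∧ (∀ w ∈ B i, g * w * g⁻¹ * w⁻¹ ∈ Y) ∧ (∀ w ∈ C i, g * w * g⁻¹ * w⁻¹ ∈ Y) ∧
        ∀ y ∈ Y, g * y = y * g}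
      one_mem' := by
        refine ⟨one_mem _, fun w _ => ?_, fun w _ => ?_, fun y _ => by rw [one_mul, mul_one]⟩ <;>
        · have e : 1 * w * 1⁻¹ * w⁻¹ = 1 := by group
          rw [e]; exact one_mem _
      mul_mem' := by
        rintro a b ⟨a1, a2, a3, a4⟩ ⟨b1, b2, b3, b4⟩
        refine ⟨mul_mem a1 b1, fun w hw => mul_aux a b w a4 (a2 w hw) (b2 w hw),
          fun w hw => mul_aux a b w a4 (a3 w hw) (b3 w hw), fun y hy => ?_⟩
        calc a * b * y = a * (b * y) := by group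
          _ = (a * y) * b := by rw [b4 y hy]; group
          _ = y * (a * b) := by rw [a4 y hy]; group
      inv_mem' := by
        rintro a ⟨a1, a2, a3, a4⟩
        refine ⟨inv_mem a1, inv_aux _ hnB a a1 a2, inv_aux _ hnC a a1 a3, fun y hy => ?_⟩
        have h1 := a4 y hy
        calc a⁻¹ * y = a⁻¹ * (y * a) * a⁻¹ := by group
          _ = a⁻¹ * (a * y) * a⁻¹ := by rw [h1]
          _ = y * a⁻¹ := by group }
  have hΩ2 : IsPGroup 2 Ω := by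
    rintro ⟨g, g1, g2, g3, g4⟩
    have sq_comm : ∀ w : G, g * w * g⁻¹ * w⁻¹ ∈ Y → (g * g) * w = w * (g * g) := by
      intro w hw
      have h1 := g4 _ hw
      have h2 := hY2 _ hw
      set y := g * w * g⁻¹ * w⁻¹ with hy
      have e1 : g * w * g⁻¹ = y * w := by rw [hy]; group
      have e2 : g * g * w * (g * g)⁻¹ = w := by
        calc g * g * w * (g * g)⁻¹ = g * (g * w * g⁻¹) * g⁻¹ := by group
          _ = (g * y) * w * g⁻¹ := by rw [e1]; group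
          _ = y * (g * w * g⁻¹) := by rw [h1]; group
          _ = (y * y) * w := by rw [e1]; group
          _ = w := by rw [h2, one_mul]
      exact mul_inv_eq_iff_eq_mul.1 e2
    have h5 : g * g ∈ Y := by
      rw [hYdef, mem_YY]
      exact ⟨fun w hw => sq_comm w (g2 w hw), fun w hw => sq_comm w (g3 w hw)⟩
    have h6 := hY2 _ h5
    refine ⟨2, ?_⟩
    apply Subtype.ext
    change g ^ 2 ^ 2 = 1
    have e4 : g ^ 2 ^ 2 = g * g * (g * g) := by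
      rw [show (2 : ℕ) ^ 2 = 2 + 2 from rfl, pow_add, pow_two]
    rw [e4]
    exact h6
  have hΩH : Ω ≤ H := fun g hg => hg.1
  have hΩn : ∀ h ∈ H, ∀ a ∈ Ω, h * a * h⁻¹ ∈ Ω := by
    rintro h hh a ⟨a1, a2, a3, a4⟩
    have aux : ∀ (A : Subgroup G), H ≤ normalizer (A : Set G) → (∀ w ∈ A, a * w * a⁻¹ * w⁻¹ ∈ Y) →
        ∀ w ∈ A, h * a * h⁻¹ * w * (h * a * h⁻¹)⁻¹ * w⁻¹ ∈ Y := by
      intro A hA hw w hwA
      have h1 := conj_mem_of_normalizer (hnY hh) (hw _ (conj_inv_mem_of_normalizer (hA hh) hwA))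
      have e : h * (a * (h⁻¹ * w * h) * a⁻¹ * (h⁻¹ * w * h)⁻¹) * h⁻¹ =
          h * a * h⁻¹ * w * (h * a * h⁻¹)⁻¹ * w⁻¹ := by group
      rwa [e] at h1
    refine ⟨H.mul_mem (H.mul_mem hh a1) (H.inv_mem hh), aux _ hnB a2, aux _ hnC a3, fun y hy => ?_⟩
    have h1 := a4 _ (conj_inv_mem_of_normalizer (hnY hh) hy)
    calc h * a * h⁻¹ * y = h * (a * (h⁻¹ * y * h)) * h⁻¹ := by group
      _ = h * (h⁻¹ * y * h * a) * h⁻¹ := by rw [h1]
      _ = y * (h * a * h⁻¹) := by group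
  have huΩ : u ∈ Ω := by
    refine ⟨s.cV_le_NR (s.Y_V hu.2) i, fun w hw => ?_, fun w hw => ?_, fun y hy => ?_⟩
    · have h1 := (YY (B i) (C i)).inv_mem (comm_II s hw hu.2).2
      have e : (w * u * w⁻¹ * u⁻¹)⁻¹ = u * w * u⁻¹ * w⁻¹ := by group
      rwa [e] at h1
    · exact mem_iInf.1 (s.B0_le_D (s.Y_C0 hu.2 hw)) i
    · obtain ⟨u', h1, h2, d, hd, rfl⟩ := s.exists_D hy
      have h3 := hc u' ⟨TT_le _ _ h1, h2⟩
      have h4 := SideW.D_comm hd j u hu.1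
      calc u * (u' * d) = (u * u') * d := by group
        _ = u' * (u * d) := by rw [← h3]; group
        _ = u' * d * u := by rw [← h4]; group
  have huQ : u ∈ O2 H := le_O2_of_normal hΩH hΩ2 hΩn huΩ
  obtain ⟨b, hb, hbV⟩ := s.exists_move hij
  exact s.mem_R_of_comm hij hb hbV hu.1 (hQ u huQ b hb)

/-- **(3)** `|I j : (R j) B₀| ≤ 2` -/
theorem two_of_index [Finite G] {i j : ι} (hij : i ≠ j) {T : Subgroup G} (hTR : T ≤ normalizer (R i : Set G))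
    (h4 : ¬ 4 ∣ T.relIndex (normalizer (R i : Set G))) {b : G} (hb : b ∈ B i)
    (hbV : ¬ ∀ v ∈ V, b * v = v * b) (hbT : ∀ t ∈ T, b * t * b⁻¹ * t⁻¹ ∈ R i) :
    ∀ u ∈ B j ⊓ YY (B j) (C j), ∀ w ∈ B j ⊓ YY (B j) (C j), InK R B j u ∨ InK R B j w ∨ InK R B j (u * w) := by
  set H := normalizer (R i : Set G) with hH
  set I := B i ⊓ YY (B i) (C i) with hI
  have hnB : H ≤ normalizer (B i : Set G) := s.nB i
  have hnI : H ≤ normalizer (I : Set G) := nII s i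
  let O : Subgroup G :=
    { carrier := {g | g ∈ H ∧ ∀ w ∈ B i, g * w * g⁻¹ * w⁻¹ ∈ I}
      one_mem' := ⟨one_mem _, fun w _ => by
        have e : 1 * w * 1⁻¹ * w⁻¹ = 1 := by group
        rw [e]; exact one_mem _⟩
      mul_mem' := by
        rintro a c ⟨a1, a2⟩ ⟨c1, c2⟩
        refine ⟨mul_mem a1 c1, fun w hw => ?_⟩
        have e : a * c * w * (a * c)⁻¹ * w⁻¹ = (a * (c * w * c⁻¹ * w⁻¹) * a⁻¹) * (a * w * a⁻¹ * w⁻¹) := by group
        rw [e]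
        exact mul_mem (conj_mem_of_normalizer (hnI a1) (c2 w hw)) (a2 w hw)
      inv_mem' := by
        rintro a ⟨a1, a2⟩
        refine ⟨inv_mem a1, fun w hw => ?_⟩
        have h1 : a⁻¹ * w * a ∈ B i := conj_inv_mem_of_normalizer (hnB a1) hw
        have h2 := inv_mem (a2 _ h1)
        have e : (a * (a⁻¹ * w * a) * a⁻¹ * (a⁻¹ * w * a)⁻¹)⁻¹ = a⁻¹ * w * a⁻¹⁻¹ * w⁻¹ := by group
        rwa [e] at h2 }
  let A : Subgroup G :=
    { carrier := {g | g ∈ O ∧ g * b * g⁻¹ * b⁻¹ ∈ R i}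
      one_mem' := ⟨one_mem _, by
        have e : 1 * b * 1⁻¹ * b⁻¹ = 1 := by group
        rw [e]; exact one_mem _⟩
      mul_mem' := by
        rintro a c ⟨a1, a2⟩ ⟨c1, c2⟩
        refine ⟨mul_mem a1 c1, ?_⟩
        have e : a * c * b * (a * c)⁻¹ * b⁻¹ = (a * (c * b * c⁻¹ * b⁻¹) * a⁻¹) * (a * b * a⁻¹ * b⁻¹) := by group
        rw [e]
        exact mul_mem (conj_mem_of_normalizer a1.1 c2) a2
      inv_mem' := by
        rintro a ⟨a1, a2⟩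
        refine ⟨inv_mem a1, ?_⟩
        have h1 := conj_inv_mem_of_normalizer a1.1 (inv_mem a2)
        have e : a⁻¹ * b * a⁻¹⁻¹ * b⁻¹ = a⁻¹ * (a * b * a⁻¹ * b⁻¹)⁻¹ * a := by group
        rw [e]; exact h1 }
  have hOH : O ≤ H := fun g hg => hg.1
  have hAO : A ≤ O := fun g hg => hg.1
  have hOn : H ≤ normalizer (O : Set G) := by
    intro h hh
    refine mem_normalizer_of_conj fun a ha => ?_
    refine ⟨H.mul_mem (H.mul_mem hh ha.1) (H.inv_mem hh), fun w hw => ?_⟩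
    have h1 := conj_mem_of_normalizer (hnI hh) (ha.2 _ (conj_inv_mem_of_normalizer (hnB hh) hw))
    have e : h * (a * (h⁻¹ * w * h) * a⁻¹ * (h⁻¹ * w * h)⁻¹) * h⁻¹ =
        h * a * h⁻¹ * w * (h * a * h⁻¹)⁻¹ * w⁻¹ := by group
    rwa [e] at h1
  have hTA : T ⊓ O ≤ A := by
    rintro t ⟨ht, htO⟩
    refine ⟨htO, ?_⟩
    have h1 := inv_mem (hbT t ht)
    have e : (b * t * b⁻¹ * t⁻¹)⁻¹ = t * b * t⁻¹ * b⁻¹ := by group
    rwa [e] at h1
  have hA4 : ¬ 4 ∣ A.relIndex O := by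
    intro h
    apply h4
    refine h.trans ((relIndex_dvd_of_le_left O hTA).trans ?_)
    rw [inf_relIndex_right, relIndex_sup_of_normalizes (hTR.trans hOn)]
    exact Dvd.intro _ (relIndex_mul_relIndex _ _ _ le_sup_left (sup_le hTR hOH))
  have hJO : B j ⊓ YY (B j) (C j) ≤ O := by
    intro u hu
    refine ⟨s.cV_le_NR (s.Y_V hu.2) i, fun w hw => ?_⟩
    have h1 := inv_mem (comm_II s hw hu.2)
    have e : (w * u * w⁻¹ * u⁻¹)⁻¹ = u * w * u⁻¹ * w⁻¹ := by group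
    rwa [e] at h1
  have hJ2 : IsPGroup 2 (B j ⊓ YY (B j) (C j) : Subgroup G) := fun x => ⟨1, by
    apply Subtype.ext
    change (x : G) ^ 2 ^ 1 = 1
    rw [pow_one, pow_two]
    exact s.B_sq j _ x.2.1⟩
  obtain ⟨g, hg, hidx⟩ := exists_conj hAO hJO hJ2 hA4
  have key : ∀ u ∈ B j ⊓ YY (B j) (C j), u ∈ cj g A → InK R B j u := by
    intro u hu hug
    rw [mem_cj] at hug
    have h1 := conj_mem_of_normalizer hg.1 hug.2
    set b' := g * b * g⁻¹ with hb'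
    have e1 : g * (g⁻¹ * u * g * b * (g⁻¹ * u * g)⁻¹ * b⁻¹) * g⁻¹ = u * b' * u⁻¹ * b'⁻¹ := by rw [hb']; group
    rw [e1] at h1
    have h2 := hg.2 b hb
    have hb'B : b' ∈ B i := conj_mem_of_normalizer (hnB hg.1) hb
    have hb'V : ¬ ∀ v ∈ V, b' * v = v * b' := by
      intro hall
      apply hbV
      intro v hv
      have h3 := s.Y_V h2.2 v hv
      have e : b = (g * b * g⁻¹ * b⁻¹)⁻¹ * b' := by rw [hb']; group
      have h4 : (g * b * g⁻¹ * b⁻¹)⁻¹ * v = v * (g * b * g⁻¹ * b⁻¹)⁻¹ := by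
        rw [inv_mul_eq_iff_eq_mul, ← mul_assoc, h3, mul_inv_cancel_right]
      rw [e]
      calc (g * b * g⁻¹ * b⁻¹)⁻¹ * b' * v = (g * b * g⁻¹ * b⁻¹)⁻¹ * (b' * v) := by group
        _ = ((g * b * g⁻¹ * b⁻¹)⁻¹ * v) * b' := by rw [hall v hv]; group
        _ = v * ((g * b * g⁻¹ * b⁻¹)⁻¹ * b') := by rw [h4]; group
    have h5 := inv_mem h1
    have e2 : (u * b' * u⁻¹ * b'⁻¹)⁻¹ = b' * u * b'⁻¹ * u⁻¹ := by group
    rw [e2] at h5
    exact s.mem_R_of_comm hij hb'B hb'V hu.1 h5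
  intro u hu w hw
  rcases mul_mem_of_le_two hidx hu hw with h | h | h
  · exact Or.inl (key u hu h)
  · exact Or.inr (Or.inl (key w hw h))
  · exact Or.inr (Or.inr (key _ (mul_mem hu hw) h))

/-- **(3)** `I i = (R i) B₀` -/
theorem II_le [Finite G] {i : ι} (hY2 : ∀ y ∈ YY (B i) (C i), y * y = 1)
    (hQ : ∀ q ∈ O2 (normalizer (R i : Set G)), ∀ b ∈ B i, b * q * b⁻¹ * q⁻¹ ∈ R i)
    {T : Subgroup G} (hTR : T ≤ normalizer (R i : Set G))
    (h4 : ¬ 4 ∣ T.relIndex (normalizer (R i : Set G))) {b : G} (hb : b ∈ B i)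
    (hbV : ¬ ∀ v ∈ V, b * v = v * b) (hbT : ∀ t ∈ T, b * t * b⁻¹ * t⁻¹ ∈ R i) :
    ∀ t ∈ B i ⊓ YY (B i) (C i), InK R B i t := by
  obtain ⟨j, hji, -⟩ := s.third i i
  have hij := Ne.symm hji
  have h2 := two_of_index s hij hTR h4 hb hbV hbT
  have hJ : ∀ u ∈ B j ⊓ YY (B j) (C j), InK R B j u := fun u hu =>
    inK_of_comm s hij hY2 hQ hu fun t ht => comm_of_two s hij h2 hu ht
  intro t ht
  obtain ⟨m, -, -, x, hx, e⟩ := s.trans_B i j
  have h3 : x * t * x⁻¹ ∈ B j ⊓ YY (B j) (C j) := by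
    have e1 : B j ⊓ YY (B j) (C j) = cj x (B i ⊓ YY (B i) (C i)) := by
      rw [cj_inf, s.cB x i j e, s.cY e]
    rw [e1]
    exact conj_mem_cj ht
  obtain ⟨r, hr, y, hy, h5⟩ := hJ _ h3
  rw [← e, mem_cj] at hr
  refine ⟨x⁻¹ * r * x, hr, y, hy, ?_⟩
  have h6 := s.B0_comm hy m x hx
  calc t = x⁻¹ * (x * t * x⁻¹) * x := by group
    _ = x⁻¹ * r * (y * x) := by rw [h5]; group
    _ = x⁻¹ * r * x * y := by rw [← h6]; group

end side

/-! ### Two sides -/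

/-- two sides of a mixed pair with `W₁`, `W₂` abelian, without a common 2-group -/
structure TwoS (V₁ V₂ : Subgroup G) (R₁ B₁ C₁ : ι → Subgroup G) (R₂ B₂ C₂ : κ → Subgroup G) (i : ι) (j : κ) :
    Prop where
  s₁ : SideW V₁ R₁ B₁ C₁
  s₂ : SideW V₂ R₂ B₂ C₂
  hR : R₁ i = R₂ j
  hB : B₁ i = C₂ j
  hC : C₁ i = B₂ j
  ch : Char2 (normalizer (R₁ i : Set G))
  NL : ∀ K : Subgroup G, IsPGroup 2 K → ST V₁ R₁ ≤ normalizer (K : Set G) →
    ST V₂ R₂ ≤ normalizer (K : Set G) → normalizer (R₁ i : Set G) ≤ normalizer (K : Set G) → K = ⊥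

namespace TwoS

variable {V₁ V₂ : Subgroup G} {R₁ B₁ C₁ : ι → Subgroup G} {R₂ B₂ C₂ : κ → Subgroup G} {i : ι} {j : κ}
  (t : TwoS V₁ V₂ R₁ B₁ C₁ R₂ B₂ C₂ i j)
include t

theorem YY_eq_YY : YY (B₁ i) (C₁ i) = YY (B₂ j) (C₂ j) := by
  rw [YY, YY, t.hB, t.hC, sup_comm]

/-- `C_G(W₁ W₂)` is a 2-group -/
theorem Y_isPGroup [Finite G] : IsPGroup 2 (YY (B₁ i) (C₁ i)) := by
  set D := OD (YY (B₁ i) (C₁ i)) with hD
  have h1 : ST V₁ R₁ ≤ normalizer (D : Set G) := t.s₁.nOD i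
  have h2 : ST V₂ R₂ ≤ normalizer (D : Set G) := by
    rw [hD, t.YY_eq_YY]; exact t.s₂.nOD j
  have h3 : normalizer (R₁ i : Set G) ≤ normalizer (D : Set G) := by
    intro g hg
    rw [← cj_eq_self_iff, hD, cj_OD, cj_eq_self_iff.2 (t.s₁.nY i hg)]
  have hN : normalizer (D : Set G) ≤ normalizer (O2 D : Set G) := by
    intro g hg
    rw [← cj_eq_self_iff, cj_O2, cj_eq_self_iff.2 hg]
  have h4 : O2 D = ⊥ := t.NL _ (O2_isPGroup D) (h1.trans hN) (h2.trans hN) (h3.trans hN)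
  have hDR : D ≤ normalizer (R₁ i : Set G) := by
    intro x hx
    exact t.s₁.cV_le_NR (t.s₁.Y_V (OD_le _ hx)) i
  set Q := O2 (normalizer (R₁ i : Set G)) with hQ
  have hQR : Q ≤ normalizer (R₁ i : Set G) := O2_le _
  have h5 : D ⊓ Q ≤ O2 D := by
    refine le_O2_of_normal inf_le_left ((O2_isPGroup _).to_le inf_le_right) ?_
    rintro g hg a ⟨haD, haQ⟩
    exact ⟨D.mul_mem (D.mul_mem hg haD) (D.inv_mem hg),
      conj_mem_of_normalizer (le_normalizer_O2 _ (hDR hg)) haQ⟩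
  rw [h4] at h5
  have h6 : D ≤ Q := by
    intro d hd
    refine t.ch d (hDR hd) fun q hq => ?_
    apply comm_of_eq_one
    have : d * q * d⁻¹ * q⁻¹ ∈ D ⊓ Q := by
      refine ⟨?_, Q.mul_mem (conj_mem_of_normalizer (le_normalizer_O2 _ (hDR hd)) hq) (Q.inv_mem hq)⟩
      have e : d * q * d⁻¹ * q⁻¹ = d * (q * d⁻¹ * q⁻¹) := by group
      rw [e]
      exact D.mul_mem hd (conj_mem_of_normalizer (h3 (hQR hq)) (D.inv_mem hd))
    exact mem_bot.1 (h5 this)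
  have h7 : D = ⊥ := by
    rw [eq_bot_iff]
    exact fun d hd => h5 ⟨hd, h6 hd⟩
  exact isPGroup_of_OD h7

/-- `Y` has exponent 2 -/
theorem Y_sq [Finite G] {y : G} (hy : y ∈ YY (B₁ i) (C₁ i)) : y * y = 1 := by
  have h1 : ST V₁ R₁ ≤ normalizer (Sq (YY (B₁ i) (C₁ i)) : Set G) := by
    intro g hg
    rw [Sq_eq t.s₁ i, ← cj_eq_self_iff, cj_Sq, cj_eq_self_iff.2 (t.s₁.nD hg)]
  have h2 : ST V₂ R₂ ≤ normalizer (Sq (YY (B₁ i) (C₁ i)) : Set G) := by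
    intro g hg
    rw [t.YY_eq_YY, Sq_eq t.s₂ j, ← cj_eq_self_iff, cj_Sq, cj_eq_self_iff.2 (t.s₂.nD hg)]
  have h3 : normalizer (R₁ i : Set G) ≤ normalizer (Sq (YY (B₁ i) (C₁ i)) : Set G) := by
    intro g hg
    rw [← cj_eq_self_iff, cj_Sq, cj_eq_self_iff.2 (t.s₁.nY i hg)]
  have h4 : Sq (YY (B₁ i) (C₁ i)) ≤ YY (B₁ i) (C₁ i) := by
    rw [Sq, closure_le]
    rintro _ ⟨y, hy, rfl⟩
    exact mul_mem hy hy
  have h5 := t.NL _ (t.Y_isPGroup.to_le h4) h1 h2 h3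
  have h6 : y * y ∈ Sq (YY (B₁ i) (C₁ i)) := subset_closure ⟨y, hy, rfl⟩
  rw [h5] at h6
  exact mem_bot.1 h6

/-- **THEOREM MIX2, abstract form.** -/
theorem false_of [Finite G] {n : G} (mem_R : ∀ g, g ∈ R₂ j ↔ g = 1 ∨ g = n)
    (hQ : ∀ q ∈ O2 (normalizer (R₂ j : Set G)), ∀ b ∈ B₂ j, b * q * b⁻¹ * q⁻¹ ∈ R₂ j)
    {T : Subgroup G} (hTR : T ≤ normalizer (R₂ j : Set G))
    (h4 : ¬ 4 ∣ T.relIndex (normalizer (R₂ j : Set G))) {b : G} (hb : b ∈ B₂ j)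
    (hbV : ¬ ∀ v ∈ V₂, b * v = v * b) (hbT : ∀ t ∈ T, b * t * b⁻¹ * t⁻¹ ∈ R₂ j)
    {x y : G} (hx : x ∈ B₂ j ⊓ YY (B₂ j) (C₂ j)) (hy : y ∈ B₂ j ⊓ YY (B₂ j) (C₂ j))
    (good : ∀ z : G, z = x ∨ z = y ∨ z = x * y → n ∈ O2 (centralizer ({z} : Set G)) ∧
      ∀ q ∈ O2 (centralizer ({z} : Set G)), b * q = q * b) : False := by
  have hY2 : ∀ y ∈ YY (B₂ j) (C₂ j), y * y = 1 := by
    intro y hy
    rw [← t.YY_eq_YY] at hy
    exact t.Y_sq hy
  have hI := II_le t.s₂ hY2 hQ hTR h4 hb hbV hbT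
  -- `z ∈ B₀`
  obtain ⟨z, hz, hzB⟩ : ∃ z, (z = x ∨ z = y ∨ z = x * y) ∧ z ∈ ⨅ k, B₂ k := by
    obtain ⟨r, hr, x', hx', ex⟩ := hI x hx
    obtain ⟨r', hr', y', hy', ey⟩ := hI y hy
    rcases (mem_R r).1 hr with rfl | rfl
    · exact ⟨x, Or.inl rfl, by rw [ex, one_mul]; exact hx'⟩
    rcases (mem_R r').1 hr' with rfl | rfl
    · exact ⟨y, Or.inr (Or.inl rfl), by rw [ey, one_mul]; exact hy'⟩
    refine ⟨x * y, Or.inr (Or.inr rfl), ?_⟩
    have h1 : r' * x' = x' * r' := t.s₂.B0_comm hx' j r' (t.s₂.R_B j hr')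
    have h2 : r' * r' = 1 := t.s₂.B_sq j r' (t.s₂.R_B j hr')
    have e : x * y = x' * y' := by
      calc x * y = (r' * x') * r' * y' := by rw [ex, ey]; group
        _ = x' * (r' * r') * y' := by rw [h1]; group
        _ = x' * y' := by rw [h2, mul_one]
    rw [e]
    exact mul_mem hx' hy'
  obtain ⟨g1, g2⟩ := good z hz
  have hBz : ∀ k, ∀ c ∈ B₂ k, c ∈ centralizer ({z} : Set G) := fun k c hc =>
    mem_centralizer_singleton_iff.2 (t.s₂.B0_comm hzB k c hc)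
  obtain ⟨k, hkj, -⟩ := t.s₂.third j j
  obtain ⟨m, -, -, w, hw, e⟩ := t.s₂.trans_B j k
  have hRk : ∀ r ∈ R₂ k, b * r = r * b := by
    intro r hr
    rw [← e, mem_cj] at hr
    apply g2
    rcases (mem_R _).1 hr with h | h
    · have h1 : r = 1 := by
        calc r = w * (w⁻¹ * r * w) * w⁻¹ := by group
          _ = 1 := by rw [h]; group
      rw [h1]; exact one_mem _
    · have h1 : r = w * n * w⁻¹ := by
        calc r = w * (w⁻¹ * r * w) * w⁻¹ := by group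
          _ = w * n * w⁻¹ := by rw [h]
      rw [h1]
      exact conj_mem_of_normalizer (le_normalizer_O2 _ (hBz m w hw)) g1
  apply hbV
  refine t.s₂.free j k hkj b hb ?_
  rw [cj_eq_self_iff]
  refine mem_normalizer_of_conj fun r hr => ?_
  rw [hRk r hr, mul_inv_cancel_right]
  exact hr

end TwoS

end Cfsg.Agent.Omega.IId.MixAny
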