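import Cfsg.Agent.Omega.IId.Cv.Main
import Cfsg.Agent.Omega.IId.TriFalse
import Cfsg.Agent.Omega.F4Leaf.Split

/-!
# II.d, `WrCv K`: the sub-leaf `CvMixSym` is void (helper592)

* `card_zc_le` : `P` free with `k` natural factors over `F`: `|Ω₁(Z(S))| ≤ |F|`;
* `card_two_split` : a partner with one factor `S_{2^m'+1}` (any `C_{V'}(O²(P'))`) gives `|F| = 2`;
* `cvMixSym : CvMixSym K`.
-/

set_option autoImplicit false
set_option linter.unusedSectionVars false

namespace Cfsg.Agent.Omega.IId.Cv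

open Subgroup Pointwise Cfsg Cfsg.Agent.ZN.ChoiceBase
open Cfsg.Agent.ZN (o2 zc zl)
open Cfsg.Agent.Omega.MinPar Cfsg.Agent.Omega.Frame Cfsg.Agent.Omega.FFThm Cfsg.Agent.Omega.FrameMulti
open Cfsg.Agent.Omega.FrameFF (cv Free)
open Cfsg.Agent.Omega.S5.Def
open scoped commutatorElement

universe u

section mix

variable {G : Type u} [Group G] [Finite G] {S S' : Sylow 2 G} {P P' : Subgroup G}

/-- `P` free: `|Ω₁(Z(S))| ≤ |F|`. -/
theorem card_zc_le {F : Type} [Field F] [Finite F] {k : ℕ} (M : NatK F (S : Subgroup G) P (zl (S : Subgroup G) P) ⊥ k)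
    (i : Fin k) : Nat.card (zc (S : Subgroup G)) ≤ Nat.card F := by
  have hz : zc (S : Subgroup G) ≤ zl (S : Subgroup G) P := Cfsg.Agent.ZN.ChoiceSit.zc_le_zl _ _
  have hex : ∀ z : zc (S : Subgroup G), M.e z i 1 = 0 := by
    intro z
    obtain ⟨t, ht, h2⟩ := M.unip fun _ => 1
    have h3 := h2.1 z (hz z.2) i
    have h4 : t * (z : G) * t⁻¹ = z := by
      rw [(MinSimple.VModule.mem_zc.1 z.2).2.1 t ht, mul_inv_cancel_right]
    rw [h4] at h3
    have h5 := congrFun h3 0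
    rw [NatPair.ap_zero', Lib.SL2Mat.up_00, Lib.SL2Mat.up_01, one_mul, one_mul, left_eq_add] at h5
    exact h5
  refine Nat.card_le_card_of_injective (fun z : zc (S : Subgroup G) => M.e z i 0) ?_
  intro z w hzw
  have h2 : M.e ((z : G) * (w : G)⁻¹) i = 0 := by
    apply NatPair.ext2
    · rw [M.mul _ (hz z.2) _ (inv_mem (hz w.2)), IId.e_inv M (hz w.2), Pi.add_apply, Pi.add_apply, Pi.neg_apply, Pi.neg_apply]
      have h3 : M.e (z : G) i 0 = M.e (w : G) i 0 := hzw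
      rw [h3, add_neg_cancel]
      rfl
    · rw [M.mul _ (hz z.2) _ (inv_mem (hz w.2)), IId.e_inv M (hz w.2), Pi.add_apply, Pi.add_apply, Pi.neg_apply, Pi.neg_apply,
        hex z, hex w, neg_zero, add_zero]
      rfl
  have h3 : (z : G) * (w : G)⁻¹ = 1 := by
    refine IId.eq_one_of_cent M (mul_mem (hz z.2) (inv_mem (hz w.2))) (fun s hs => ?_) h2
    exact (MinSimple.VModule.mem_zc.1 (mul_mem z.2 (inv_mem w.2))).2.1 s hs
  exact Subtype.ext (mul_inv_eq_one.1 h3)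

/-- `V` does not centralise the even-subset module `A'`. -/
theorem not_le_cent (hc : IsCharacteristicTwoType G) (hp : Pair S S' P P') {m' : ℕ} {A : Subgroup G}
    {ε : (Fin (2 ^ m' + 1) → ZMod 2) → G} (h : F4Leaf.Def.Split (S' : Subgroup G) P' m' A ε) :
    ¬ zl (S : Subgroup G) P ≤ centralizer (A : Set G) := by
  intro h1
  apply hp.ne
  rw [commutator_eq_bot_iff_le_centralizer]
  intro v hv
  rw [mem_centralizer_iff]
  intro x hx
  obtain ⟨d, hd, a, ha, rfl⟩ := h.mul_eq hc hp.star' hx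
  have h2 := h.comm (hp.star'.le (hp.le' hv)) hd
  have h3 := mem_centralizer_iff.1 (h1 hv) a ha
  calc d * a * v = d * (a * v) := by group
    _ = d * v * a := by rw [h3, mul_assoc]
    _ = v * (d * a) := by rw [← h2, mul_assoc]

/-- The commutators of an element which induces a transposition of the labels. -/
theorem comm_swap (hc : IsCharacteristicTwoType G) (hP' : IsParS (S' : Subgroup G) P') {m' : ℕ} {A : Subgroup G}
    {ε : (Fin (2 ^ m' + 1) → ZMod 2) → G} (h : F4Leaf.Def.Split (S' : Subgroup G) P' m' A ε) {b : G} (hb : b ∈ P')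
    {i j : Fin (2 ^ m' + 1)} (hbs : Acts ε b (Equiv.swap i j)) {a : G} (ha : a ∈ zl (S' : Subgroup G) P') :
    ⁅b, a⁆ = 1 ∨ ⁅b, a⁆ = ε (Pi.single i 1 + Pi.single j 1) := by
  have e := elem_zl hc S' hP'.isLoc
  obtain ⟨d, hd, a, ha', rfl⟩ := h.mul_eq hc hP' ha
  obtain ⟨u, rfl⟩ := h.even.surj a ha'
  have h2 := h.comm hb hd
  have hda : ∀ x ∈ A, d * x = x * d := fun x hx =>
    congrArg Subtype.val (e.1.1.comm ⟨d, Cfsg.Agent.Omega.HOne.cv_le _ _ hd⟩ ⟨x, h.A_le hx⟩)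
  have h4 : ⁅b, d * ε u⁆ = ⁅b, ε u⁆ := by
    rw [commutatorElement_def, commutatorElement_def]
    have h5 : b * ε u * b⁻¹ * (ε u)⁻¹ ∈ A := by
      refine mul_mem ?_ (inv_mem (h.even.mem u))
      rw [hbs u]
      exact h.even.mem _
    calc b * (d * ε u) * b⁻¹ * (d * ε u)⁻¹ = (b * d) * ε u * b⁻¹ * (ε u)⁻¹ * d⁻¹ := by group
      _ = d * (b * ε u * b⁻¹ * (ε u)⁻¹) * d⁻¹ := by rw [h2]; group
      _ = b * ε u * b⁻¹ * (ε u)⁻¹ := by rw [hda _ h5]; group
  rw [h4, commutatorElement_def]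
  by_cases hu : u i = u j
  · left
    rw [(S5.Pair.acts_swap h.even hbs u).1 hu]
    group
  · right
    rw [(S5.Pair.acts_swap h.even hbs u).2 hu, h.even.comm]
    group

/-- **`|F| = 2`** (`P` free, `P'` with one factor `S_{2^m'+1}`). -/
theorem card_two_split (hc : IsCharacteristicTwoType G) (hp : Pair S S' P P')
    (hN : NoOver (zl (S : Subgroup G) P) P) (hN' : NoOver (zl (S' : Subgroup G) P') P') {F : Type} [Field F]
    [Finite F] {k : ℕ} (M : NatK F (S : Subgroup G) P (zl (S : Subgroup G) P) ⊥ k) {m' : ℕ} (hm' : 2 ≤ m')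
    {A : Subgroup G} {ε : (Fin (2 ^ m' + 1) → ZMod 2) → G} (h : F4Leaf.Def.Split (S' : Subgroup G) P' m' A ε) :
    Nat.card F = 2 := by
  have o1 := hp.off hc hN'
  have o2 := hp.symm.off hc hN
  have hn : 3 ≤ 2 ^ m' + 1 := (by norm_num : 3 ≤ 5).trans (S5.Syl.five_le hm')
  obtain ⟨b, hb, i, j, hij, hbs⟩ := S5.Nat.exists_swap h.even (h.side _ hp.le' o2) (not_le_cent hc hp h)
  obtain ⟨I, hI⟩ := exists_ind M hp.le o1
  have hVP : zl (S' : Subgroup G) P' ≤ P := hp.le.trans hp.star.isLoc.le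
  refine Sym.card_two_of hI hVP hb (a := ε (Pi.single i 1)) (h.A_le (h.even.mem _))
    (n := ε (Pi.single i 1 + Pi.single j 1)) ?_ ?_
  · intro h1
    have h2 := (S5.Pair.swap_comm_iff h.even hn hij hbs _).1 h1
    rw [Pi.single_eq_same, Pi.single_eq_of_ne hij.symm] at h2
    exact one_ne_zero h2
  · intro a ha
    exact comm_swap hc hp.star' h (hp.star'.le (hp.le' hb)) hbs ha

end mix

/-- `P` free with `k` natural factors, `P'` with one factor `S_{2^m'+1}`, `C_{V'}(O²(P')) ≠ 1`. -/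
def CvMixSym (K : Cls.{u}) : Prop :=
  ∀ (G : Type u) [Group G] [Finite G] (S S' : Sylow 2 G), Hyp K S → ∀ (P P' : Subgroup G), Pair S S' P P' →
    ∀ (F : Type) [Field F] [Finite F] [CharP F 2] (k m' : ℕ)
      (_ : NatK F (S : Subgroup G) P (zl (S : Subgroup G) P) ⊥ k)
      (_ : SymK (S' : Subgroup G) P' (zl (S' : Subgroup G) P') (cv (S' : Subgroup G) P') 1 m'), 2 ≤ k → 2 ≤ m' →
      cv (S' : Subgroup G) P' ≠ ⊥ → IsKnownSimple' G

/-- **`CvMixSym K` is void**: `|Ω₁(Z(S))| = 2`, but `|Ω₁(Z(S'))| = 2 |C_{V'}(O²(P'))|`. -/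
theorem cvMixSym (K : Cls.{u}) : CvMixSym K := by
  intro G _ _ S S' hH P P' hp F i1 i2 i3 k m' M M' hk hm' hcv
  exfalso
  have hc := hH.ctx.char2
  obtain ⟨t1, t2⟩ := Sym.typed_of hH.typed hp
  obtain ⟨A, ε, h⟩ := F4Leaf.Split.exists_split hc hp.star' (by omega) M'
  have hF := card_two_split hc hp t1.noOver t2.noOver M hm' h
  have h1 := card_zc_le M ⟨0, by omega⟩
  have h2 := h.card_zc hc hp.star' (by omega : 1 ≤ m')
  have h3 : Nat.card (zc (S' : Subgroup G)) = Nat.card (zc (S : Subgroup G)) := by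
    refine Half.card_zc_of_card_eq S S'.isPGroup' ?_
    rw [S.card_eq_multiplicity, S'.card_eq_multiplicity]
  have h4 : 1 < Nat.card (cv (S' : Subgroup G) P') := (Subgroup.one_lt_card_iff_ne_bot _).2 hcv
  omega

/-- `CvSymOne`, `C_V(O²(P)) ≠ 1`. -/
def CvSymNat (K : Cls.{u}) : Prop :=
  ∀ (G : Type u) [Group G] [Finite G] (S S' : Sylow 2 G), HypN K S → ∀ (P P' : Subgroup G), Pair S S' P P' →
    ∀ (F : Type) [Field F] [Finite F] [CharP F 2] (k m' : ℕ)
      (_ : NatK F (S : Subgroup G) P (zl (S : Subgroup G) P) (cv (S : Subgroup G) P) k)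
      (_ : SymK (S' : Subgroup G) P' (zl (S' : Subgroup G) P') (cv (S' : Subgroup G) P') 1 m'), 2 ≤ k → 2 ≤ m' →
      cv (S : Subgroup G) P ≠ ⊥ → IsKnownSimple' G

/-- `CvSymOne` from its part `C_V(O²(P)) ≠ 1`. -/
theorem cvSymOne_of {K : Cls.{u}} (h : CvSymNat K) : CvSymOne K := by
  intro G _ _ S S' hH P P' hp F _ _ _ k m' M M' hk hm' hf
  by_cases hD : cv (S : Subgroup G) P = ⊥
  · refine cvMixSym K G S S' hH.toHyp P P' hp F k m' (hD ▸ M) M' hk hm' fun hD' => hf ⟨hD, hD'⟩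
  · exact h G S S' hH P P' hp F k m' M M' hk hm' hD

end Cfsg.Agent.Omega.IId.Cv
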