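import Cfsg.Agent.Omega.IId.Cv.SymPos
import Cfsg.Agent.Omega.IId.Cv.MixPlug

/-!
# II.d, `CvSymNat K`: the cut for two factors (helper592)

`M : NatD F S P V D 2`, `D ≠ 1`, `P'` of type `S_{2^m'+1}`: `SPos` (`|F| = 2`, `[V_P, V_{P'}] = line M l = ⟨n⟩`):

* `V_l` unmixed: `unM_known`;
* `V_{P'}` does not commute with all its conjugates under `C_G(n)`: a mutual pair of members of type `S_{2^m'+1}`, one
  factor, not free: `TTPair K` (= `LeafF4`, both members of type `S_{2^m+1}`, without `NoWr`);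
* otherwise: `CvSymMix` (helper994, MIX2).

`cvSymNat_of : CvOneA2 K → CvOneA4 K → CvTwoA K → CvTwoB K → TTPair K → CvSymMix → CvSymBig K → CvSymNat K`,
`CvSymBig K` : more than two factors.
-/

set_option autoImplicit false
set_option linter.unusedSectionVars false

namespace Cfsg.Agent.Omega.IId.Cv

open Subgroup Pointwise Cfsg Cfsg.Agent.ZN.ChoiceBase
open Cfsg.Agent.ZN (o2 zc zl)
open Cfsg.Agent.Omega.MinPar Cfsg.Agent.Omega.Frame Cfsg.Agent.Omega.FFThm Cfsg.Agent.Omega.FrameMulti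
open Cfsg.Agent.Omega.FrameFF (cv Free)
open Cfsg.Agent.Omega.FrameLE (AllIn)
open Cfsg.Agent.Omega.S5.Def
open Cfsg.Agent.Omega.NSix.Base Cfsg.Agent.Omega.NSix.Basic
open Cfsg.Agent.Omega.HOne.Main (vx SplitPar)
open scoped commutatorElement

universe u

/-- Two members of type `S_{2^m+1}` with one factor, not free (`LeafF4` without `NoWr`). -/
def TTPair (K : Cls.{u}) : Prop :=
  ∀ (G : Type u) [Group G] [Finite G], Ctx G → K G → ∀ (S : Sylow 2 G), Full (S : Subgroup G) →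
    AllIn (S : Subgroup G) → AllTyped (S : Subgroup G) →
    ∀ (P₁ P₂ : Subgroup G) (x : G), Mutual (S : Subgroup G) P₁ P₂ x →
      ¬ (Free (S : Subgroup G) P₁ ∧ Free (S : Subgroup G) P₂) →
      ∀ m m', 2 ≤ m → 2 ≤ m' → IsSym (S : Subgroup G) P₁ 1 m → IsSym (S : Subgroup G) P₂ 1 m' → IsKnownSimple' G

/-- **Both mixed** (MIX2, #19502 helper994). -/
def CvSymMix : Prop :=
  ∀ (G : Type u) [Group G] [Finite G] (S S' : Sylow 2 G) (P P' V D : Subgroup G) (F : Type) [Field F] [Finite F]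
    [CharP F 2] (M : NatD F S P V D 2) (m' : ℕ) (A : Subgroup G) (ε : (Fin (2 ^ m' + 1) → ZMod 2) → G) (l : Fin 2)
    (i j : Fin (2 ^ m' + 1)), SymD.SPos M S' P' m' A ε l i j → D ≠ ⊥ → ¬ UnM M l →
      (∀ g ∈ NN ε i j, ∀ v ∈ zl (S' : Subgroup G) P', ∀ w ∈ zl (S' : Subgroup G) P',
        v * (g * w * g⁻¹) = g * w * g⁻¹ * v) → False

/-- `CvSymNat`, more than two factors. -/
def CvSymBig (K : Cls.{u}) : Prop :=
  ∀ (G : Type u) [Group G] [Finite G] (S S' : Sylow 2 G), HypN K S → ∀ (P P' : Subgroup G), Pair S S' P P' →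
    ∀ (F : Type) [Field F] [Finite F] [CharP F 2] (k m' : ℕ)
      (_ : NatD F S P (vx (S : Subgroup G) P) (cv (S : Subgroup G) P) k) (A : Subgroup G)
      (ε : (Fin (2 ^ m' + 1) → ZMod 2) → G), 2 < k → Nat.card F = 2 → cv (S : Subgroup G) P ≠ ⊥ →
      F4Leaf.Pos.Sit S' P' m' A ε → cv (S' : Subgroup G) P' ≠ ⊥ → IsKnownSimple' G

section plug

variable {G : Type u} [Group G] [Finite G] {S S' : Sylow 2 G} {P P' V D : Subgroup G} {F : Type} [Field F]
  [Finite F] [CharP F 2] {k m' : ℕ} {A : Subgroup G} {ε : (Fin (2 ^ m' + 1) → ZMod 2) → G}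

/-- `D ≠ 1` implies `D' ≠ 1`. -/
theorem cv_ne_bot_of (M : NatD F S P V D k) (hk : 0 < k) (hD : D ≠ ⊥) (hs : F4Leaf.Pos.Sit S' P' m' A ε) :
    cv (S' : Subgroup G) P' ≠ ⊥ := by
  intro h0
  have h1 := NV.four_le_zc M ⟨0, hk⟩ hD
  have h2 := hs.split.card_zc hs.c2 hs.par (by have := hs.m2; omega)
  have h3 : Nat.card (zc (S' : Subgroup G)) = Nat.card (zc (S : Subgroup G)) := by
    refine Half.card_zc_of_card_eq S S'.isPGroup' ?_
    rw [S.card_eq_multiplicity, S'.card_eq_multiplicity]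
  rw [h0, Subgroup.card_bot] at h2
  omega

/-- `V_{P'}` and a conjugate under `C_G(n)` which do not commute: a mutual pair. -/
theorem mutual_of_NN (hs : F4Leaf.Pos.Sit S' P' m' A ε) {i j : Fin (2 ^ m' + 1)} (hij : i ≠ j) {g : G}
    (hg : g ∈ NN ε i j) {v w : G} (hv : v ∈ zl (S' : Subgroup G) P') (hw : w ∈ zl (S' : Subgroup G) P')
    (hne : v * (g * w * g⁻¹) ≠ g * w * g⁻¹ * v) : Mutual (S' : Subgroup G) P' P' g := by
  have hle : zl (S' : Subgroup G) P' ≤ o2 (NN ε i j) := hs.V_le hij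
  have hQ : o2 (NN ε i j) ≤ P' := hs.o2_le_P hij
  have hz : P' ≤ normalizer (zl (S' : Subgroup G) P' : Set G) := MinSimple.VModule.le_normalizer_zl _ _
  have hgQ : cj g (o2 (NN ε i j)) = o2 (NN ε i j) :=
    cj_eq_of_mem_normalizer (MinSimple.VModule.le_normalizer_o2 _ hg)
  refine ⟨hs.par, hs.par, ?_, ?_, ?_⟩
  · change _ ≤ normalizer ((cj g (zl (S' : Subgroup G) P') : Subgroup G) : Set G)
    rw [← cj_normalizer]
    refine hle.trans ?_
    rw [← hgQ]
    exact cj_mono g (hQ.trans hz)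
  · change cj g (zl (S' : Subgroup G) P') ≤ _
    have := cj_mono g hle
    rw [hgQ] at this
    exact this.trans (hQ.trans hz)
  · intro h0
    rw [commutator_eq_bot_iff_le_centralizer] at h0
    have h1 : g * w * g⁻¹ ∈ cj g (zl (S' : Subgroup G) P') := by
      rw [mem_cj_iff]
      have e : g⁻¹ * (g * w * g⁻¹) * g = w := by group
      rw [e]
      exact hw
    exact hne (mem_centralizer_iff.1 (h0 hv) _ h1).symm

end plug

/-- **`CvSymNat` from its inputs.** -/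
theorem cvSymNat_of {K : Cls.{u}} (h1 : CvOneA2 K) (h2 : CvOneA4 K) (h3 : CvTwoA K) (h4 : CvTwoB K)
    (hTT : TTPair K) (hM : CvSymMix.{u}) (hB : CvSymBig K) : CvSymNat K := by
  intro G _ _ S S' hH P P' hp F _ _ _ k m' M₀ M' hk hm' hD
  have hc := hH.ctx.char2
  obtain ⟨t1, t2⟩ := Sym.typed_of hH.typed hp
  obtain ⟨A, ε, h⟩ := F4Leaf.Split.exists_split hc hp.star' (by omega) M'
  have hF := SymD.card_two hc hp t1.noOver t2.noOver M₀ (by omega) hm' h
  have M := NatD.ofSplit hc hp.star M₀ (splitPar_two hc S hp.star M₀ (by omega) hF)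
  have hs : F4Leaf.Pos.Sit S' P' m' A ε := ⟨hc, hp.star', hm', h⟩
  have hD' := cv_ne_bot_of M (by omega) hD hs
  by_cases hk2 : 2 < k
  · exact hB G S S' hH P P' hp F k m' M A ε hk2 hF hD hs hD'
  obtain rfl : k = 2 := by omega
  obtain ⟨l, i, j, hpos⟩ := SymD.exists_spos hp t2.noOver hF hs M
  by_cases hu : UnM M l
  · exact unM_known h1 h2 h3 h4 hH M l hD hu
  by_cases hw : ∃ g ∈ NN ε i j, ∃ v ∈ zl (S' : Subgroup G) P', ∃ w ∈ zl (S' : Subgroup G) P',
      v * (g * w * g⁻¹) ≠ g * w * g⁻¹ * v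
  · obtain ⟨g, hg, v, hv, w, hw, hne⟩ := hw
    have hmu := mutual_of_NN hs hpos.ne hg hv hw hne
    have hH' := hH.toHyp.conj S'
    exact hTT G hH'.ctx hH'.cls S' hH'.full hH'.allIn hH'.typed P' P' g hmu (fun hf => hD' hf.1) m' m' hm' hm'
      ⟨M'⟩ ⟨M'⟩
  · push Not at hw
    exact (hM G S S' P P' _ _ F M m' A ε l i j hpos hD hu fun g hg v hv w hw' => hw g hg v hv w hw').elim

end Cfsg.Agent.Omega.IId.Cv
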