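import Cfsg.Agent.Omega.IId.Cv.Cut
import Cfsg.Agent.Omega.IId.Cv.Center
import Cfsg.Agent.Omega.IId.Cv.Syl
import Cfsg.Agent.Omega.IId.Cv.BtsOne
import Cfsg.Agent.Omega.IId.M4.Graph
import Cfsg.Agent.Omega.HOne.CutT

/-!
# II.d, `V_P = V × D`, an unmixed factor, `q ≥ 4`: `CvOneA4`, `CvTwoB`, `CvOne` from the chain over `T`

* `ChainT` : the chain SAME4 over a 2-group `T` (`TLift.SitT`, `TLift.OutT`: helper400, `HOne/CutT.lean`);
  `IdT` : the identification with the K-facts `M4.SpK`, `M4.FK`;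
* `cvOneA4_of : ChainT → IdT → CvOneA4 K`;
* `known_four` : `BTS` over a Sylow 2-subgroup of `G`, `q ≥ 4`, from `ChainT`, `EndL`.
-/

set_option autoImplicit false
set_option linter.unusedSectionVars false

namespace Cfsg.Agent.Omega.IId.Cv

open Subgroup Pointwise Cfsg Cfsg.Agent.ZN Cfsg.Agent.ZN.ChoiceBase
open Cfsg.Agent.Omega.MinPar Cfsg.Agent.Omega.Frame Cfsg.Agent.Omega.FFThm Cfsg.Agent.Omega.FrameMulti
open Cfsg.Agent.Omega.FrameLE (AllIn)
open Cfsg.Agent.Omega.NatPair (ap NatMod exists_ap)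
open Cfsg.Agent.Omega.HOneEnd (EndIn)
open Cfsg.Agent.Omega.HOne.Cut (TS0 Three0 More0 EndL known_of_pos)
open Cfsg.Agent.Omega.HTwo.Entry (Pos)
open Cfsg.Agent.Omega.IId.M4 (FK SpK SylN mem_other swap_false swap_X)
open Cfsg.Agent.Omega.HOne.TLift (SitT OutT FrT RsT NVT ResT GaT)
open Cfsg.Agent.Omega.HOneQ.SylIOf (TSyl)
open Cfsg.Agent.Omega.Lie.LayerMain (KRows)
open Cfsg.Agent.MinSimple

universe u

/-! ### The sockets -/

/-- **The chain SAME4 over `T`** (helper400, 441, 811, 835): `HOne/CutT.lean`. -/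
def ChainT : Prop :=
  ∀ (G : Type u) [Group G] [Finite G] (T : Subgroup G) (F : Type) [Field F] [Finite F] [CharP F 2] (V : Subgroup G)
    (N : NatMod F V), SitT T N → ∀ o : BTwo.Pt N, TSyl V (BTwo.pt N) o T →
      ∃ (G₀ U : Subgroup G) (v : G), OutT T N o G₀ U v

/-- the chain from the sockets of `HOne/CutT.lean` -/
theorem chainT_of (KR : KRows.{u}) (hF : FrT.{u}) (hD : HOne.TLift.DT.{u}) (hRs : RsT.{u}) (hNV : NVT.{u})
    (hRes : ResT.{u}) (hGa : GaT.{u}) : ChainT.{u} :=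
  fun _ _ _ _ _ _ _ _ _ _ h _ hi => h.out (h.layS KR) hF hD hRs hNV hRes hGa hi

/-- **THEOREM ID with the K-facts over `T`** (helper124, 384, 38, 588, 866). -/
def IdT : Prop :=
  ∀ (G : Type u) [Group G] [Finite G], IsCharacteristicTwoType G → ∀ (T G₀ U R : Subgroup G) (v : G),
    EndIn T G₀ U R v → 4 ≤ Nat.card R →
      (∃ Xb Ca Cb Qa Qb Ua : Subgroup G, SpK T G₀ R Xb Ca Cb Qa Qb Ua) ∨
        ∃ Xb Ca Cb Qa Qb Ua Ub : Subgroup G, FK T G₀ R Xb Ca Cb Qa Qb Ua Ub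

theorem compl_two {i j : Fin 2} (h : i ≠ j) : ({i}ᶜ : Set (Fin 2)) = {j} := by
  ext x
  simp only [Set.mem_compl_iff, Set.mem_singleton_iff]
  omega

theorem vec_one_ne {F : Type} [Field F] : (![1, 0] : Fin 2 → F) ≠ 0 := by
  intro h
  have := congrFun h 0
  simp at this

/-! ### Elements of `Z(T ∩ G₀)` -/

section bts

variable {G : Type u} [Group G] {F : Type} [Field F] {V : Subgroup G} {N : NatMod F V} {o : BTwo.Pt N}

/-- `X` moves every point. -/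
theorem X_not (b : BTwo.BTS V (BTwo.pt N)) (o : BTwo.Pt N) :
    ¬ BTwo.XX V (BTwo.pt N) ≤ normalizer (BTwo.pt N o : Set G) := by
  intro h0
  obtain ⟨l, hl, -⟩ := b.third o o
  obtain ⟨x, hx, h1⟩ := b.toBT.trans_X_one o l
  have h2 : cj x (BTwo.pt N o) = BTwo.pt N o := cj_eq_of_mem_normalizer (h0 hx)
  have h3 : BTwo.pt N l = BTwo.pt N o := by
    rw [← h1]
    exact h2
  have h4 := b.R_inf l o hl
  rw [h3, inf_idem] at h4
  exact b.R_ne o h4

/-- an element of `Z(T)` in `G₀` which centralises `X` and is not in `R` lies in `X_b` -/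
theorem mem_b (b : BTwo.BTS V (BTwo.pt N)) {T G₀ Xb : Subgroup G}
    (zU : ∀ z ∈ T ⊓ G₀, T ⊓ G₀ ≤ centralizer ({z} : Set G) → ∃ x ∈ BTwo.pt N o, ∃ y ∈ Xb, z = x * y)
    (mix : ∀ x ∈ BTwo.pt N o, ∀ y ∈ Xb, x ≠ 1 → y ≠ 1 →
      G₀ ⊓ centralizer ({x * y} : Set G) ≤ normalizer (BTwo.pt N o : Set G))
    (hX : BTwo.XX V (BTwo.pt N) ≤ G₀) {z : G} (hz : z ∈ zc T) (hG : z ∈ G₀)
    (hc : z ∈ BTwo.CenX V (BTwo.pt N)) (hn : z ∉ BTwo.pt N o) : z ∈ Xb := by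
  obtain ⟨h1, h2, -⟩ := VModule.mem_zc.1 hz
  refine mem_other zU mix ⟨h1, hG⟩ ?_ hn ?_
  · rintro t ⟨ht, -⟩
    exact mem_centralizer_singleton_iff.2 (h2 t ht)
  · intro h3
    apply X_not b o
    refine le_trans (le_inf hX fun x hx => ?_) h3
    rw [mem_centralizer_singleton_iff]
    exact mem_centralizer_iff.1 hc x hx

end bts

/-! ### `CvOneA4` -/

section four

variable {G : Type u} [Group G] [Finite G] {F : Type} [Field F] [CharP F 2] {S : Sylow 2 G} {P V D : Subgroup G}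

/-- CASE 1: `stab M i` is Sylow in `N_G(line M i)`. -/
theorem sylN_of (M : NatD F S P V D 2) {i : Fin 2}
    (hd : ¬ 2 ∣ (NV.stab M.toNatV i).relIndex (normalizer (NV.line M.toNatV i : Set G))) :
    SylN (S : Subgroup G) (NV.stab M.toNatV i) (NV.line M.toNatV i) where
  le := NV.stab_le _ _
  card := ((NV.blk_two M i).card).le
  max K hK hTK hKX := by
    have h1 := SideOf.card_dvd_of (NV.stab_normalizes_line M.toNatV (NV.SP M) i) hd hK hKX
    exact (Subgroup.eq_of_le_of_card_ge hTK (Nat.le_of_dvd Nat.card_pos h1)).ge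

/-- `s r s⁻¹ ∈ V_j ∩ Ω₁(Z(T))`, not in `R`, for `s ∈ S`, `s ∉ T = stab M i`, `1 ≠ r ∈ C_R(T)` -/
theorem swap_r (M : NatD F S P V D 2) {i j : Fin 2} (hij : i ≠ j) {s r : G} (hs : s ∈ (S : Subgroup G))
    (hs1 : s ∉ NV.stab M.toNatV i) (hsT : s ∈ normalizer (NV.stab M.toNatV i : Set G))
    (hr : r ∈ NV.line M.toNatV i) (hrz : r ∈ zc (NV.stab M.toNatV i)) (hr1 : r ≠ 1) :
    s * r * s⁻¹ ∈ NV.fac M.toNatV j ∧ s * r * s⁻¹ ∈ zc (NV.stab M.toNatV i) ∧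
      s * r * s⁻¹ ∉ NV.line M.toNatV i := by
  obtain ⟨h1, h2, h3⟩ := VModule.mem_zc.1 hrz
  have hj : s * r * s⁻¹ ∈ NV.fac M.toNatV j := by
    have h4 := (NV.blk_two M i).swap hs hs1 (NV.line_le M.toNatV i hr)
    rwa [compl_two hij] at h4
  refine ⟨hj, VModule.mem_zc.2 ⟨(mem_normalizer_iff.1 hsT r).1 h1, fun t ht => ?_, ?_⟩, fun h4 => ?_⟩
  · have h4 : s⁻¹ * t * s ∈ NV.stab M.toNatV i := by
      have := (mem_normalizer_iff.1 (inv_mem hsT) t).1 ht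
      rwa [inv_inv] at this
    have h5 := h2 _ h4
    calc t * (s * r * s⁻¹) = s * ((s⁻¹ * t * s) * r) * s⁻¹ := by group
      _ = s * r * s⁻¹ * t := by rw [h5]; group
  · rw [pow_two] at h3 ⊢
    calc s * r * s⁻¹ * (s * r * s⁻¹) = s * (r * r) * s⁻¹ := by group
      _ = 1 := by rw [h3]; group
  · have h5 : s * r * s⁻¹ ∈ NV.fac M.toNatV i ⊓ NV.fac M.toNatV j := ⟨NV.line_le _ _ h4, hj⟩
    rw [NV.fac_inf M.toNatV hij, mem_bot] at h5
    apply hr1
    have e1 : r = s⁻¹ * (s * r * s⁻¹) * s := by group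
    rw [e1, h5]; group

end four

/-- **`CvOneA4`** from the chain over `T` and the identification. -/
theorem cvOneA4_of {K : Cls.{u}} (hC : ChainT.{u}) (hI : IdT.{u}) : CvOneA4 K := by
  intro G _ _ S hH P F _ _ _ V D M i hD hu hd h4
  obtain ⟨j, hji⟩ := exists_ne i
  obtain ⟨N, e⟩ := NV.bts_four M hji.symm (NV.syl_fac_one M hd) hu
  have hG := hH.ctx.char2
  have hSP := NV.SP M
  have hB2 := NV.blk_two M i
  have hTR := NV.stab_normalizes_line M.toNatV hSP i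
  have N1 := sylN_of M hd
  obtain ⟨o, ho⟩ : ∃ o, BTwo.pt N o = NV.line M.toNatV i := ⟨⟨N.line ![1, 0], _, vec_one_ne, rfl⟩, e.line⟩
  obtain ⟨d, hd1⟩ := (Subgroup.ne_bot_iff_exists_ne_one).1 hD
  have hd0 : (d : G) ≠ 1 := fun h => hd1 (Subtype.ext h)
  rw [← ho] at hd hTR N1
  have hodd : Odd ((NV.stab M.toNatV i).relIndex (normalizer (BTwo.pt N o : Set G))) := by
    rw [← Nat.not_even_iff_odd, even_iff_two_dvd]
    exact hd
  have hX0 : BTwo.CenX (NV.fac M.toNatV i) (BTwo.pt N) ≠ ⊥ := fun h => hD (le_bot_iff.1 (e.cenD.trans h.le))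
  obtain ⟨G₀, U, v, O⟩ := hC G (NV.stab M.toNatV i) F (NV.fac M.toNatV i) N
    { ctx := hH.ctx
      two := N1.isPGroup
      le_N := NV.stab_normalizes _ _
      exists_pt := ⟨o, hTR, hodd⟩
      bts := e.bts
      four := h4
      CenX_ne := hX0 } o ⟨N1.isPGroup, NV.stab_normalizes _ _, hTR, hodd⟩
  have hE := O.endIn
  have hX := O.X_le
  have hQ := O.Q_le
  have hQ' : ZN.o2 (normalizer (NV.line M.toNatV i : Set G)) ≤ G₀ := by
    rw [← ho]; exact hQ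
  have hR4 : 4 ≤ Nat.card (BTwo.pt N o) := by
    rw [ho, ← e.line, N.card_line vec_one_ne]
    exact h4
  -- `s`, `r`
  obtain ⟨s, hs, hs1⟩ := hB2.exists_swap
  have hsT : s ∈ normalizer (NV.stab M.toNatV i : Set G) :=
    M4.swap_norm_T (NV.stab_le _ _) (Two.two_cosets (NV.stab_le _ _) hB2.card) hs
  -- `d`
  have hdz : (d : G) ∈ zc (NV.stab M.toNatV i) := ((NV.mem_DT M (i := i)).1 (NV.D_le_DT M d.2)).1
  have hdn : (d : G) ∉ BTwo.pt N o := by
    intro h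
    rw [ho] at h
    have h1 : (d : G) ∈ V ⊓ D := ⟨NV.fac_le _ _ (NV.line_le _ _ h), d.2⟩
    rw [M.inf, mem_bot] at h1
    exact hd0 h1
  rcases hI G hG _ G₀ U _ v hE hR4 with ⟨Xb, Ca, Cb, Qa, Qb, Ua, k⟩ | ⟨Xb, Ca, Cb, Qa, Qb, Ua, Ub, k⟩
  · obtain ⟨r, hrz, hr, hr1⟩ := N1.exists_z k.side_a
    obtain ⟨h1, h2, h3⟩ := swap_r M hji.symm hs hs1 hsT (ho ▸ hr) hrz hr1
    have h5 := mem_b e.bts k.zU k.mix hX h2 (hQ' (NV.zc_stab_le_o2_line M hji.symm h2).1) (e.cen h1)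
      (by rw [ho]; exact h3)
    exact swap_false N1 k.side_a k.C_Qa hG hsT hr hr1 h5 k.C_X k.T_C k.Q_max k.fld k.abel
  · obtain ⟨r, hrz, hr, hr1⟩ := N1.exists_z k.side_a
    obtain ⟨h1, h2, h3⟩ := swap_r M hji.symm hs hs1 hsT (ho ▸ hr) hrz hr1
    have h5 := mem_b e.bts k.zU k.mix hX h2 (hQ' (NV.zc_stab_le_o2_line M hji.symm h2).1) (e.cen h1)
      (by rw [ho]; exact h3)
    have h6 := swap_X N1 k.side_a k.C_Qa hG hsT hr hr1 h5 k.side_b
    have h7 : (d : G) ∈ Xb := mem_b e.bts k.zU k.mix hX hdz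
      (hQ' (NV.zc_stab_le_o2_line M hji.symm hdz).1) (e.cenD d.2) hdn
    rw [← h6, mem_cj_iff] at h7
    apply hdn
    have h8 : s * (d : G) = d * s := (mem_centralizer_iff.1 (M.cD (hSP hs)) d d.2).symm
    have e1 : s⁻¹ * (d : G) * s = d := by
      calc s⁻¹ * (d : G) * s = s⁻¹ * (d * s) := by group
        _ = d := by rw [← h8]; group
    rwa [e1] at h7

/-! ### `BTS` over a Sylow 2-subgroup of `G` -/

/-- `q ≥ 4` -/
theorem known_four {K : Cls.{u}} (hC : ChainT.{u}) (hE : EndL.{u}) {G : Type u} [Group G] [Finite G] {T : Sylow 2 G}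
    (hH : Hyp K T) {F : Type} [Field F] [Finite F] [CharP F 2] (h4 : 4 ≤ Nat.card F) {V : Subgroup G}
    (N : NatMod F V) (b : BTwo.BTS V (BTwo.pt N)) {o : BTwo.Pt N} (hTV : (T : Subgroup G) ≤ normalizer (V : Set G))
    (hTR : (T : Subgroup G) ≤ normalizer (BTwo.pt N o : Set G)) (hX : BTwo.CenX V (BTwo.pt N) ≠ ⊥) :
    IsKnownSimple' G := by
  have h := TSyl.of_sylow T hTV hTR
  obtain ⟨G₀, U, v, O⟩ := hC G (T : Subgroup G) F V N
    { ctx := hH.ctx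
      two := T.isPGroup'
      le_N := hTV
      exists_pt := ⟨o, hTR, h.odd⟩
      bts := b
      four := h4
      CenX_ne := hX } o h
  exact hE G hH.ctx T hH.full hH.allIn G₀ U _ v O.endIn

end Cfsg.Agent.Omega.IId.Cv

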