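import Cfsg.Agent.Omega.IId.Cv.Split

/-!
# II.d: `|F| = 2`, `k` natural factors: `[V, O²(P)] ∩ C_V(O²(P)) = 1` (helper592)

* `mem_of_odd` : the elements of odd order of `P ≤ N S` lie in `N`;
* `comm_three` : an element of `SL₂(2)` of odd order commutes with `three F`;
* `splitPar_two` : `|F| = 2` implies `SplitPar S P`, any number `k` of factors.
-/

set_option autoImplicit false
set_option linter.unusedSectionVars false

namespace Cfsg.Agent.Omega.IId.Cv

open Subgroup Cfsg Cfsg.Agent.ZN Cfsg.Agent.ZN.ChoiceSit Cfsg.Agent.ZN.ChoiceBase Cfsg.Agent.Omega.MinPar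
open Cfsg.Agent.Omega.FrameFF Cfsg.Agent.Omega.FFThm Cfsg.Agent.Lib.SL2Mat
open Cfsg.Agent.Omega.NatPair (ap ap_add ap_mul ap_one ap_inj ext2 ap_zero' ap_one')
open Cfsg.Agent.MinSimple.VModule (oddGen oddGen_le mem_oddGen zl_comm zl_sq le_normalizer_zl le_normalizer_oddGen)
open Cfsg.Agent.MinSimple
open Cfsg.Agent.Omega.HOne (cv_le conj_mem_zl conj_mem_cv le_normalizer_vx conj_mem_vx vx_le comm_mem_vx three
  exists_ap_three_sub three_pow)
open Cfsg.Agent.Omega.HOne.Main (vx SplitPar)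
open Cfsg.Agent.Omega.SQT.Rank (pAct)
open scoped commutatorElement

universe u

section gen

variable {G : Type u} [Group G]

/-- The elements of odd order of `P ≤ N S` lie in `N`. -/
theorem mem_of_odd [Finite G] {N S P : Subgroup G} (hN : P ≤ normalizer (N : Set G)) (hSP : S ≤ P)
    (hP : P ≤ N ⊔ S) (hS : IsPGroup 2 S) {g : G} (hg : g ∈ P) (ho : Odd (orderOf g)) : g ∈ N := by
  have hSn : S ≤ normalizer (N : Set G) := hSP.trans hN
  have h4 : g ∈ ((N ⊔ S : Subgroup G) : Set G) := hP hg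
  rw [coe_mul_of_right_le_normalizer_left _ _ hSn] at h4
  obtain ⟨c, hc, s, hs, hcs⟩ := h4
  have key : ∀ n : ℕ, ∃ c' ∈ N, g ^ n = c' * s ^ n := by
    intro n
    induction n with
    | zero => exact ⟨1, one_mem _, by simp⟩
    | succ n ih =>
      obtain ⟨c', hc', h5⟩ := ih
      refine ⟨c' * (s ^ n * c * (s ^ n)⁻¹), mul_mem hc' ?_, ?_⟩
      · exact (mem_normalizer_iff.1 (hSn (pow_mem hs n)) c).1 hc
      · rw [pow_succ, h5, ← hcs]
        group
  obtain ⟨r, hr⟩ := hS ⟨s, hs⟩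
  have hs' : s ^ 2 ^ r = 1 := congrArg Subtype.val hr
  obtain ⟨c', hc', h5⟩ := key (2 ^ r)
  rw [hs', mul_one] at h5
  have h6 : g ^ 2 ^ r ∈ N := by rw [h5]; exact hc'
  obtain ⟨n, hn⟩ : ∃ n : ℕ, (g ^ 2 ^ r) ^ n = g := by
    have hco : Nat.Coprime (orderOf g) (2 ^ r) :=
      Nat.Coprime.pow_right r (Nat.Coprime.symm (Nat.coprime_two_left.2 ho))
    exact exists_pow_eq_self_of_coprime hco.symm
  rw [← hn]
  exact pow_mem h6 n

end gen

section sl

variable {F : Type*} [Field F] [CharP F 2]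

/-- `|F| = 2`: every element of `SL₂(F)` is an involution, `1`, or commutes with `three F` -/
theorem sq_or_comm (hF : Nat.card F = 2) (A : Matrix.SpecialLinearGroup (Fin 2) F) :
    A * A = 1 ∨ A * three F = three F * A := by
  have : Finite F := Nat.finite_of_card_ne_zero (by rw [hF]; norm_num)
  have h01 : ∀ x : F, x = 0 ∨ x = 1 := by
    intro x
    by_contra hcon
    push Not at hcon
    have h1 := (Nat.card_eq_two_iff' (0 : F)).1 hF
    exact hcon.2 (h1.unique hcon.1 one_ne_zero)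
  have two : (1 : F) + 1 = 0 := CharTwo.add_self_eq_zero 1
  have hdet := det_eq A
  have n1 : (-1 : F) = 1 := CharTwo.neg_eq 1
  rcases h01 (ent A 0 0) with a | a <;> rcases h01 (ent A 0 1) with b | b <;> rcases h01 (ent A 1 0) with c | c <;>
    rcases h01 (ent A 1 1) with d | d <;> rw [a, b, c, d] at hdet
  all_goals first
    | (exfalso; simp at hdet; done)
    | (left; refine ext_ent ?_ ?_ ?_ ?_ <;> simp [ent_mul, a, b, c, d, two]; done)
    | (right; refine ext_ent ?_ ?_ ?_ ?_ <;> simp [ent_mul, a, b, c, d, two, three])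

/-- an element of odd order of `SL₂(2)` commutes with `three F` -/
theorem comm_three (hF : Nat.card F = 2) {A : Matrix.SpecialLinearGroup (Fin 2) F} {n : ℕ} (hn : Odd n)
    (hA : A ^ n = 1) : A * three F = three F * A := by
  rcases sq_or_comm hF A with h | h
  · obtain ⟨j, rfl⟩ := hn
    rw [pow_succ, pow_mul, pow_two, h, one_pow, one_mul] at hA
    rw [hA, one_mul, mul_one]
  · exact h

theorem ap_three (x : Fin 2 → F) : ap (three F) x = ![x 1, x 0 + x 1] := by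
  refine ext2 ?_ ?_
  · simp [ap, three]
  · simp [ap, three]

/-- `1 + t + t² = 0` for `t = (three F)^(2^a)` -/
theorem ap_norm (a : ℕ) (x : Fin 2 → F) :
    ap ((three F) ^ 2 ^ a) (ap ((three F) ^ 2 ^ a) x) + ap ((three F) ^ 2 ^ a) x + x = 0 := by
  have h2 : (1 : F) + 1 = 0 := CharTwo.add_self_eq_zero 1
  have h2' : (2 : F) = 0 := by rw [← one_add_one_eq_two]; exact h2
  rcases three_pow (F := F) a with h | h
  · rw [h, ap_three, ap_three]
    refine ext2 ?_ ?_
    · simp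
      linear_combination (x 0 + x 1) * h2'
    · simp
      linear_combination (x 0 + 2 * x 1) * h2'
  · rw [h, ap_mul, ap_mul]
    simp only [ap_three]
    refine ext2 ?_ ?_
    · simp
      linear_combination (2 * x 0 + 2 * x 1) * h2'
    · simp
      linear_combination (2 * x 0 + 4 * x 1) * h2'

/-- an element of odd order of `SL₂(2)` commutes with the powers of `three F` -/
theorem comm_three_pow (hF : Nat.card F = 2) {A : Matrix.SpecialLinearGroup (Fin 2) F} {n : ℕ} (hn : Odd n)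
    (hA : A ^ n = 1) (m : ℕ) : A * three F ^ m = three F ^ m * A :=
  (Commute.pow_right (comm_three hF hn hA) m)

end sl

section split

variable {G : Type u} [Group G] [Finite G] (hG : IsCharacteristicTwoType G) (S : Sylow 2 G) {P : Subgroup G}
  (h : IsParS (S : Subgroup G) P) {F : Type} [Field F] [CharP F 2] {k : ℕ}
  (M : NatK F (S : Subgroup G) P (zl (S : Subgroup G) P) (cv (S : Subgroup G) P) k)

/-- the elements of `P` which act on `V` as elements of `SL₂(F)^k` are normalised by `P` -/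
theorem X_normal : P ≤ normalizer ((pAct M).X : Set G) := by
  have key : ∀ g ∈ P, ∀ x ∈ (pAct M).X, g * x * g⁻¹ ∈ (pAct M).X := by
    rintro g hg x ⟨hx, A, hA⟩
    obtain ⟨B, hB⟩ := M.norm g hg x hx A hA.1
    refine ⟨mul_mem (mul_mem hg hx) (inv_mem hg), B, hB, fun d hd => ?_⟩
    have h1 := conj_mem_cv (inv_mem hg) hd
    rw [inv_inv] at h1
    have h2 := hA.2 _ h1
    calc g * x * g⁻¹ * d = g * (x * (g⁻¹ * d * g)) * g⁻¹ := by group
      _ = d * (g * x * g⁻¹) := by rw [h2]; group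
  intro g hg
  rw [mem_normalizer_iff]
  intro x
  refine ⟨key g hg x, fun hx => ?_⟩
  have h1 := key g⁻¹ (inv_mem hg) _ hx
  have e : g⁻¹ * (g * x * g⁻¹) * g⁻¹⁻¹ = x := by group
  rwa [e] at h1

include h in
/-- the elements of odd order of `P` act on `V` as elements of `SL₂(F)^k` -/
theorem odd_mem_X {g : G} (hg : g ∈ P) (ho : Odd (orderOf g)) : g ∈ (pAct M).X := by
  refine mem_of_odd (X_normal S M) h.le ?_ S.isPGroup' hg ho
  refine M.gen _ le_sup_right fun x hx A hA => ?_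
  exact le_sup_left (a := (pAct M).X) ⟨hx, A, hA⟩

include hG h in
/-- two elements of odd order of `P` commute on `V` if one of them acts as a power of `three F` -/
theorem odd_comm (hk : 0 < k) (hF : Nat.card F = 2) {g x : G} (hg : g ∈ P) (hgo : g ∈ oddGen P) {a : ℕ}
    (hgA : ActsSL M.e (zl (S : Subgroup G) P) (cv (S : Subgroup G) P) g fun _ => three F ^ 2 ^ a)
    (hx : x ∈ P) (hxo : Odd (orderOf x)) {v : G} (hv : v ∈ zl (S : Subgroup G) P) :
    g * (x * v * x⁻¹) * g⁻¹ = x * (g * v * g⁻¹) * x⁻¹ := by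
  obtain ⟨-, A, hA⟩ := odd_mem_X S h M hx hxo
  have hAo : A ^ orderOf x = 1 := by
    have key : ∀ n : ℕ, ActsSL M.e (zl (S : Subgroup G) P) (cv (S : Subgroup G) P) (x ^ n) (A ^ n) := by
      intro n
      induction n with
      | zero =>
        simp only [pow_zero]
        exact (pAct M).one 1 (one_mem _) (one_mem _)
      | succ n ih =>
        rw [pow_succ, pow_succ]
        exact (pAct M).mul _ (pow_mem hx n) x hx _ _ ih hA
    have h1 := key (orderOf x)
    rw [pow_orderOf_eq_one] at h1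
    exact (pAct M).uniq 1 (one_mem _) _ _ h1 ((pAct M).one 1 (one_mem _) (one_mem _))
  have hcom : ∀ i, A i * three F ^ 2 ^ a = three F ^ 2 ^ a * A i := fun i =>
    comm_three_pow hF hxo (by have := congrFun hAo i; simpa using this) _
  -- `x⁻¹ g⁻¹ x g` centralises `V`
  have h1 : M.e (g * (x * v * x⁻¹) * g⁻¹) = M.e (x * (g * v * g⁻¹) * x⁻¹) := by
    funext i
    rw [hgA.1 _ (conj_mem_zl hx hv) i, hA.1 v hv i, hA.1 _ (conj_mem_zl hg hv) i, hgA.1 v hv i, ← ap_mul, ← ap_mul,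
      hcom i]
  have hk1 : x⁻¹ * g⁻¹ * x * g ∈ kern M := by
    refine ⟨mul_mem (mul_mem (mul_mem (inv_mem hx) (inv_mem hg)) hx) hg, fun w hw => ?_⟩
    have h2 : M.e (g * (x * w * x⁻¹) * g⁻¹) = M.e (x * (g * w * g⁻¹) * x⁻¹) := by
      funext i
      rw [hgA.1 _ (conj_mem_zl hx hw) i, hA.1 w hw i, hA.1 _ (conj_mem_zl hg hw) i, hgA.1 w hw i, ← ap_mul, ← ap_mul,
        hcom i]
    have h3 := e_conj_congr M (mul_mem (inv_mem hx) (inv_mem hg)) (conj_mem_zl hx (conj_mem_zl hg hw))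
      (conj_mem_zl hg (conj_mem_zl hx hw)) h2.symm
    have e1 : x⁻¹ * g⁻¹ * (x * (g * w * g⁻¹) * x⁻¹) * (x⁻¹ * g⁻¹)⁻¹ = x⁻¹ * g⁻¹ * x * g * w * (x⁻¹ * g⁻¹ * x * g)⁻¹ := by
      group
    have e2 : x⁻¹ * g⁻¹ * (g * (x * w * x⁻¹) * g⁻¹) * (x⁻¹ * g⁻¹)⁻¹ = w := by group
    rwa [e1, e2] at h3
  have hcx : ∀ d ∈ cv (S : Subgroup G) P, ∀ y ∈ oddGen P, y * d = d * y := fun d hd y hy =>
    mem_centralizer_iff.1 hd.2 y hy
  have hxg := mem_oddGen hx hxo
  have h4 := comm_of_kern hG S h M hk hk1 (fun d hd => hcx d hd _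
    (mul_mem (mul_mem (mul_mem (inv_mem hxg) (inv_mem hgo)) hxg) hgo)) v hv
  calc g * (x * v * x⁻¹) * g⁻¹ = g * x * (v * (x⁻¹ * g⁻¹ * x * g)) * (x⁻¹ * g⁻¹ * x * g)⁻¹ * x⁻¹ * g⁻¹ := by group
    _ = g * x * (x⁻¹ * g⁻¹ * x * g * v) * (x⁻¹ * g⁻¹ * x * g)⁻¹ * x⁻¹ * g⁻¹ := by rw [h4]
    _ = x * (g * v * g⁻¹) * x⁻¹ := by group

/-- `v v^g v^(g²)` -/
def nu (g v : G) : G := v * (g * v * g⁻¹) * (g * (g * v * g⁻¹) * g⁻¹)

include hG h M in
/-- **`|F| = 2` is always split** (`k` natural factors) -/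
theorem splitPar_two (hk : 0 < k) (hF : Nat.card F = 2) : SplitPar (S : Subgroup G) P := by
  obtain ⟨g, hg, ho, a, hI⟩ := exists_odd M
  have hgo : g ∈ oddGen P := mem_oddGen hg ho
  have hVc : ∀ x ∈ zl (S : Subgroup G) P, ∀ y ∈ zl (S : Subgroup G) P, x * y = y * x := fun x hx y hy =>
    VModule.zc_comm _ _ (h.isLoc.zl_le S hG hx) _ (h.isLoc.zl_le S hG hy)
  have hcx : ∀ d ∈ cv (S : Subgroup G) P, ∀ y ∈ oddGen P, y * d = d * y := fun d hd y hy =>
    mem_centralizer_iff.1 hd.2 y hy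
  have hc1 : ∀ v ∈ zl (S : Subgroup G) P, g * v * g⁻¹ ∈ zl (S : Subgroup G) P := fun v hv => conj_mem_zl hg hv
  have hnV : ∀ v ∈ zl (S : Subgroup G) P, nu g v ∈ zl (S : Subgroup G) P := fun v hv =>
    mul_mem (mul_mem hv (hc1 v hv)) (hc1 _ (hc1 v hv))
  -- `ν(v) ∈ D`
  have hnD : ∀ v ∈ zl (S : Subgroup G) P, nu g v ∈ cv (S : Subgroup G) P := by
    intro v hv
    rw [← M.ker _ (hnV v hv)]
    unfold nu
    rw [M.mul _ (mul_mem hv (hc1 v hv)) _ (hc1 _ (hc1 v hv)), M.mul _ hv _ (hc1 v hv)]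
    funext i
    rw [Pi.add_apply, Pi.add_apply, hI.1 _ (hc1 v hv) i, hI.1 v hv i]
    have := ap_norm a (M.e v i)
    rw [Pi.zero_apply, ← this]
    abel
  -- multiplicative
  have hnm : ∀ v ∈ zl (S : Subgroup G) P, ∀ w ∈ zl (S : Subgroup G) P, nu g (v * w) = nu g v * nu g w := by
    intro v hv w hw
    have a1 := hVc w hw (g * v * g⁻¹) (hc1 v hv)
    have a2 := hVc (w * (g * w * g⁻¹)) (mul_mem hw (hc1 w hw)) (g * (g * v * g⁻¹) * g⁻¹) (hc1 _ (hc1 v hv))
    unfold nu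
    calc v * w * (g * (v * w) * g⁻¹) * (g * (g * (v * w) * g⁻¹) * g⁻¹)
        = v * (w * (g * v * g⁻¹)) * (g * w * g⁻¹) * (g * (g * v * g⁻¹) * g⁻¹) * (g * (g * w * g⁻¹) * g⁻¹) := by group
      _ = v * ((g * v * g⁻¹) * w) * (g * w * g⁻¹) * (g * (g * v * g⁻¹) * g⁻¹) * (g * (g * w * g⁻¹) * g⁻¹) := by rw [a1]
      _ = v * (g * v * g⁻¹) * ((w * (g * w * g⁻¹)) * (g * (g * v * g⁻¹) * g⁻¹)) * (g * (g * w * g⁻¹) * g⁻¹) := by group
      _ = v * (g * v * g⁻¹) * ((g * (g * v * g⁻¹) * g⁻¹) * (w * (g * w * g⁻¹))) * (g * (g * w * g⁻¹) * g⁻¹) := by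
          rw [a2]
      _ = _ := by group
  have hn1 : nu g 1 = 1 := by unfold nu; group
  -- identity on `D`
  have hnd : ∀ d ∈ cv (S : Subgroup G) P, nu g d = d := by
    intro d hd
    have h1 : g * d * g⁻¹ = d := by rw [hcx d hd g hgo, mul_inv_cancel_right]
    unfold nu
    rw [h1, h1, sq_zl hG S h (cv_le _ _ hd), one_mul]
  -- invariant under `O²(P)`
  let C : Subgroup G :=
    { carrier := {x | x ∈ P ∧ ∀ v ∈ zl (S : Subgroup G) P, nu g (x * v * x⁻¹) = nu g v}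
      one_mem' := ⟨one_mem _, fun v _ => by
        have e : (1 : G) * v * 1⁻¹ = v := by group
        rw [e]⟩
      mul_mem' := by
        rintro x y ⟨hx, hx'⟩ ⟨hy, hy'⟩
        refine ⟨mul_mem hx hy, fun v hv => ?_⟩
        have e : x * y * v * (x * y)⁻¹ = x * (y * v * y⁻¹) * x⁻¹ := by group
        rw [e, hx' _ (conj_mem_zl hy hv), hy' v hv]
      inv_mem' := by
        rintro x ⟨hx, hx'⟩
        refine ⟨inv_mem hx, fun v hv => ?_⟩
        have h1 := hx' _ (conj_mem_zl (inv_mem hx) hv)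
        have e : x * (x⁻¹ * v * x⁻¹⁻¹) * x⁻¹ = v := by group
        rw [e] at h1
        exact h1.symm }
  have hC : oddGen P ≤ C := by
    rw [VModule.oddGen_def, closure_le]
    rintro x ⟨hx, hxo⟩
    refine ⟨hx, fun v hv => ?_⟩
    have h1 : nu g (x * v * x⁻¹) = x * nu g v * x⁻¹ := by
      unfold nu
      rw [odd_comm hG S h M hk hF hg hgo hI hx hxo hv, odd_comm hG S h M hk hF hg hgo hI hx hxo (hc1 v hv)]
      group
    rw [h1, hcx _ (hnD v hv) x (mem_oddGen hx hxo), mul_inv_cancel_right]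
  have hvx : ∀ x ∈ vx (S : Subgroup G) P, nu g x = 1 := by
    let K : Subgroup G :=
      { carrier := {x | x ∈ zl (S : Subgroup G) P ∧ nu g x = 1}
        one_mem' := ⟨one_mem _, hn1⟩
        mul_mem' := by
          rintro x y ⟨hx, hx'⟩ ⟨hy, hy'⟩
          exact ⟨mul_mem hx hy, by rw [hnm x hx y hy, hx', hy', one_mul]⟩
        inv_mem' := by
          rintro x ⟨hx, hx'⟩
          refine ⟨inv_mem hx, ?_⟩
          have h1 := hnm x hx x⁻¹ (inv_mem hx)
          rw [mul_inv_cancel, hn1, hx', one_mul] at h1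
          exact h1.symm }
    have h1 : vx (S : Subgroup G) P ≤ K := by
      unfold vx
      rw [commutator_le]
      intro v hv x hx
      have hx1 := hC hx
      have e : ⁅v, x⁆ = v * (x * v⁻¹ * x⁻¹) := by rw [commutatorElement_def]; group
      have h2 := conj_mem_zl hx1.1 (inv_mem hv)
      refine ⟨by rw [e]; exact mul_mem hv h2, ?_⟩
      rw [e, hnm v hv _ h2, hx1.2 _ (inv_mem hv), ← hnm v hv _ (inv_mem hv), mul_inv_cancel, hn1]
    exact fun x hx => (h1 hx).2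
  unfold SplitPar
  rw [eq_bot_iff]
  rintro x ⟨hx, hx'⟩
  rw [mem_bot, ← hnd x hx', hvx x hx]

end split

end Cfsg.Agent.Omega.IId.Cv
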