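import Cfsg.Agent.Omega.IId.Cv.SymBigMix
import Cfsg.Agent.Omega.IId.CvBig.Line

/-!
# `CvSymNat K` from the sockets of `CvBig/Cut.lean` (helper184)

* `unMBig_of : Big2A2 K → BigU2 K → BigUS2 K → UnMBig K`;
* `cvSymNat_of_in : CvOneA2 K → CvOneA4 K → CvTwoA K → CvTwoB K → TTPair K → BigIn K → CvSymNat K`
  (no socket `CvSymBig K`).
-/

set_option autoImplicit false
set_option linter.unusedSectionVars false

namespace Cfsg.Agent.Omega.IId.Cv

open Subgroup Pointwise Cfsg Cfsg.Agent.ZN.ChoiceBase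
open Cfsg.Agent.ZN (o2 zc zl)
open Cfsg.Agent.Omega.MinPar Cfsg.Agent.Omega.Frame Cfsg.Agent.Omega.FFThm Cfsg.Agent.Omega.FrameMulti

universe u

/-- The one-sided unmixed socket, `q = 2`, `k > 2`, from the sockets of the cut of `CvBig`. -/
theorem unMBig_of {K : Cls.{u}} (ha : Big2A2 K) (hu : BigU2 K) (hs : BigUS2 K) : UnMBig K := by
  intro G _ _ S hH P F _ _ _ k V D M i hk hF hD hM
  have hC := CvBig.hC_all M
  obtain ⟨T₁, hT⟩ := ha G S hH P F V D k M hk hC hD i (mv_of_unM M hC hM) hF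
  by_cases hS : ∀ S₁ : Sylow 2 G, (S₁ : Subgroup G) ≠ T₁
  · exact (hu G S hH P F V D k M hk hC hD i hM T₁ hT hS hF).elim
  · push Not at hS
    obtain ⟨S₁, rfl⟩ := hS
    exact hs G S hH P F V D k M hk hC hD i hM S₁ hT hF

/-- **`CvSymNat K`** from `TTPair K` and the sockets `BigIn K` of `CvBigN K`. -/
theorem cvSymNat_of_in {K : Cls.{u}} (h1 : CvOneA2 K) (h2 : CvOneA4 K) (h3 : CvTwoA K) (h4 : CvTwoB K)
    (hTT : TTPair K) (I : BigIn K) : CvSymNat K :=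
  cvSymNat_of_unM h1 h2 h3 h4 hTT (unMBig_of I.a2 I.u2 I.us2)

end Cfsg.Agent.Omega.IId.Cv
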