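import Cfsg.Agent.Omega.IId.Cv.SymPlug
import Cfsg.Agent.Omega.IId.Cv.MixAny
import Cfsg.Agent.Omega.IId.Cv.EThree

/-!
# `CvSymMix` is proved: MIX2 for a partner of type `S_{2^m'+1}` (helper994)

`E' = {1, r_ij, r_ip, r_jp}`, `p ≠ i, j` (even subsets of `{i, j, p}`).
-/

set_option autoImplicit false
set_option linter.unusedSectionVars false

namespace Cfsg.Agent.Omega.IId.Cv

open Subgroup Pointwise Cfsg Cfsg.Agent.ZN.ChoiceBase
open Cfsg.Agent.ZN (o2 zc zl)
open Cfsg.Agent.Omega.MinPar Cfsg.Agent.Omega.Frame Cfsg.Agent.Omega.FFThm Cfsg.Agent.Omega.FrameMulti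
open Cfsg.Agent.Omega.FrameFF (cv Free)
open Cfsg.Agent.Omega.S5.Def
open Cfsg.Agent.Omega.NSix.Base Cfsg.Agent.Omega.NSix.Basic
open Cfsg.Agent.Omega.IId.NV (KX mem_KX)

universe u


/-- **`CvSymMix`** -/
theorem cvSymMix : CvSymMix.{u} := by
  intro G _ _ S S' P P' V D F _ _ _ M m' A ε l i j hp hD hu hw
  have hs := hp.sit
  have hij := hp.ne
  have hev := hs.split.even
  have hn : 5 ≤ 2 ^ m' + 1 := S5.Syl.five_le hs.m2
  obtain ⟨p, hpi, hpj⟩ : ∃ p : Fin (2 ^ m' + 1), p ≠ i ∧ p ≠ j := by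
    by_contra hc
    push Not at hc
    have h1 : (Finset.univ : Finset (Fin (2 ^ m' + 1))).card ≤ ({i, j} : Finset (Fin (2 ^ m' + 1))).card := by
      refine Finset.card_le_card fun x _ => ?_
      rw [Finset.mem_insert, Finset.mem_singleton]
      by_cases hx : x = i
      · exact Or.inl hx
      · exact Or.inr (hc x hx)
    have h2 : ({i, j} : Finset (Fin (2 ^ m' + 1))).card ≤ 2 := Finset.card_le_two
    rw [Finset.card_univ, Fintype.card_fin] at h1
    omega
  obtain ⟨l', hl'⟩ := exists_ne l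
  have hn1 : rr ε i j ≠ 1 := rr_ne_one hev (by omega) hij
  have hrl : rr ε i j ∈ NV.line M.toNatV l := (hp.mem _).2 (Or.inr rfl)
  have hN : normalizer (NV.line M.toNatV l : Set G) = NN ε i j :=
    NV.normalizer_line_eq M hp.two hrl hn1
  have hEA : E3 hev i j p ≤ A := by
    intro x hx
    rcases mem_E3.1 hx with rfl | rfl | rfl | rfl
    · exact one_mem _
    · exact rr_mem hev _ _
    · exact rr_mem hev _ _
    · exact rr_mem hev _ _
  have hEV : E3 hev i j p ≤ zl (S' : Subgroup G) P' := hEA.trans hs.split.A_le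
  have m1 : rr ε i j ∈ E3 hev i j p := mem_E3.2 (Or.inr (Or.inl rfl))
  have m2 : rr ε i p ∈ E3 hev i j p := mem_E3.2 (Or.inr (Or.inr (Or.inl rfl)))
  have m3 : rr ε j p ∈ E3 hev i j p := mem_E3.2 (Or.inr (Or.inr (Or.inr rfl)))
  refine NV.mix_two M hp.two hl'.symm (E := E3 hev i j p) ?_ (card_E3 hev hn hij hpi.symm hpj.symm) ?_ ?_ ?_ ?_ ?_ ?_
  · -- `V_l` is mixed
    intro g hg v hv w hw'
    by_contra hne
    exact hu ⟨g, hg, v, hv, w, hw', hne⟩
  · intro e he
    exact hev.sq_mem (hEA he)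
  · intro x hx
    rcases (hp.mem x).1 hx with rfl | rfl
    · exact one_mem _
    · exact m1
  · -- transitivity
    intro u hu' hu1 v hv hv1
    rcases (hp.mem u).1 hu' with rfl | rfl
    · exact absurd rfl hu1
    rcases mem_E3.1 hv with rfl | rfl | rfl | rfl
    · exact absurd rfl hv1
    · exact ⟨1, one_mem _, by group⟩
    · obtain ⟨g, hg, hσ⟩ := hev.full (Equiv.swap j p)
      have e1 : Equiv.swap j p i = i := Equiv.swap_apply_of_ne_of_ne hij hpi.symm
      have e2 : Equiv.swap j p j = p := Equiv.swap_apply_left _ _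
      have e3 : Equiv.swap j p p = j := Equiv.swap_apply_right _ _
      refine ⟨g, norm_E3 hev hσ ?_ ?_ ?_, ?_⟩
      · rw [e1, e2]; exact m2
      · rw [e1, e3]; exact m1
      · rw [e2, e3, rr_symm hev]; exact m3
      · rw [rr_conj hσ, e1, e2]
    · obtain ⟨g, hg, hσ⟩ := hev.full (Equiv.swap i p)
      have e1 : Equiv.swap i p j = j := Equiv.swap_apply_of_ne_of_ne hij.symm hpj.symm
      have e2 : Equiv.swap i p i = p := Equiv.swap_apply_left _ _
      have e3 : Equiv.swap i p p = i := Equiv.swap_apply_right _ _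
      refine ⟨g, norm_E3 hev hσ ?_ ?_ ?_, ?_⟩
      · rw [e1, e2, rr_symm hev]; exact m3
      · rw [e2, e3, rr_symm hev]; exact m2
      · rw [e1, e3, rr_symm hev]; exact m1
      · rw [rr_conj hσ, e1, e2, rr_symm hev]
  · -- `E3 ≤ KX`
    intro e he
    rw [mem_KX]
    refine ⟨fun y hy => ?_, fun q hq => ?_⟩
    · rcases (hp.mem y).1 hy with rfl | rfl
      · rw [mul_one, one_mul]
      · exact hev.comm_mem (hEA he) (rr_mem hev _ _)
    · rw [hN] at hq
      rw [hp.mem]
      have hee : e⁻¹ = e := inv_eq_of_mul_eq_one_left (hev.sq_mem (hEA he))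
      rcases hs.conj_V hij hq (hEV he) with h1 | h1
      · left
        calc e * q * e⁻¹ * q⁻¹ = e * (q * e⁻¹ * q⁻¹) := by group
          _ = 1 := by rw [hee, h1]; exact hev.sq_mem (hEA he)
      · right
        calc e * q * e⁻¹ * q⁻¹ = e * (q * e⁻¹ * q⁻¹) := by group
          _ = e * (e * rr ε i j) := by rw [hee, h1]
          _ = rr ε i j := by rw [← mul_assoc, hev.sq_mem (hEA he), one_mul]
  · -- `move`
    obtain ⟨v, hv, he⟩ := NV.exists_fac M.toNatV l ![0, 1]
    have h1 := hp.fac v hv (by rw [he]; exact one_ne_zero)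
    refine ⟨rr ε i p, m2, v, hv, fun h2 => ?_⟩
    have h3 := rr_conj h1 i p
    rw [← h2, mul_inv_cancel_right, Equiv.swap_apply_left, Equiv.swap_apply_of_ne_of_ne hpi hpj] at h3
    exact NSix.TkPair.rr_ne hev hn hpi.symm hij.symm hpi h3
  · intro g hg v hv w hw'
    rw [hN] at hg
    exact hw g hg v (hEV hv) w (hEV hw')

end Cfsg.Agent.Omega.IId.Cv
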