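import Cfsg.Agent.Omega.IId.Cv.SymBigPlug
import Cfsg.Agent.Omega.IId.Cv.MixThree
import Cfsg.Agent.Omega.IId.Cv.SymMix

/-!
# `CvSymMixBig` is proved (helper184, over helper747's MIX3)

`cvSymMixBig : CvSymMixBig`; `cvSymNat_of_unM : CvOneA2 K → CvOneA4 K → CvTwoA K → CvTwoB K → TTPair K → UnMBig K →
CvSymNat K`.
-/

set_option autoImplicit false
set_option linter.unusedSectionVars false

namespace Cfsg.Agent.Omega.IId.Cv

open Subgroup Pointwise Cfsg Cfsg.Agent.ZN.ChoiceBase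
open Cfsg.Agent.ZN (o2 zc zl)
open Cfsg.Agent.Omega.MinPar Cfsg.Agent.Omega.Frame Cfsg.Agent.Omega.FFThm Cfsg.Agent.Omega.FrameMulti
open Cfsg.Agent.Omega.FrameFF (cv Free)
open Cfsg.Agent.Omega.S5.Def
open Cfsg.Agent.Omega.NSix.Base Cfsg.Agent.Omega.NSix.Basic

universe u

/-- **Both mixed is dead**, any number of factors. -/
theorem mix_false {G : Type u} [Group G] [Finite G] {S S' : Sylow 2 G} {P P' V D : Subgroup G} {F : Type} [Field F]
    [Finite F] [CharP F 2] {k : ℕ} {M : NatD F S P V D k} {m' : ℕ} {A : Subgroup G}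
    {ε : (Fin (2 ^ m' + 1) → ZMod 2) → G} {l : Fin k} {i j : Fin (2 ^ m' + 1)}
    (hp : SymD.SPos M S' P' m' A ε l i j) (hD : D ≠ ⊥) (hu : ¬ UnM M l)
    (hw : ∀ g ∈ NN ε i j, ∀ v ∈ zl (S' : Subgroup G) P', ∀ w ∈ zl (S' : Subgroup G) P',
      v * (g * w * g⁻¹) = g * w * g⁻¹ * v) : False := by
  refine MixThree.mix_three hp (cv_ne_bot_of M l.pos hD hp.sit) ?_ hu hw
  have h1 := NV.fac_le_QL_self M (SymD.hC_two M hp.two) l
  rwa [NV.QL, SymD.nor_line_eq M hp.sit hp.ne hp.mem] at h1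

/-- **`CvSymMixBig`** -/
theorem cvSymMixBig : CvSymMixBig.{u} := by
  intro G _ _ S S' P P' V D F _ _ _ k M m' A ε l i j _ hp hD hu hw
  exact mix_false hp hD hu hw

/-- **`CvSymNat` from the unmixed sockets and `TTPair`**. -/
theorem cvSymNat_of_unM {K : Cls.{u}} (h1 : CvOneA2 K) (h2 : CvOneA4 K) (h3 : CvTwoA K) (h4 : CvTwoB K)
    (hTT : TTPair K) (hU : UnMBig K) : CvSymNat K :=
  cvSymNat_of_all h1 h2 h3 h4 hTT cvSymMix hU cvSymMixBig

end Cfsg.Agent.Omega.IId.Cv
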