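import Cfsg.Agent.Omega.IId.Cv.SymPos
import Cfsg.Agent.Omega.IId.ThmCD.Of
import Cfsg.Agent.Omega.IId.ThmCD.Cor

/-!
# II.d, `CvSymBig`: the position, any number of factors (helper184)

`exists_spos_all` : helper592's `exists_spos` for `M : NatD F S P V D k`, every `k`: THEOREM C with an arbitrary `D`
(`NV.thmCD`, helper653, helper131) in place of `fac_le_o2_line`.
-/

set_option autoImplicit false
set_option linter.unusedSectionVars false

namespace Cfsg.Agent.Omega.IId.Cv.SymD

open Subgroup Pointwise Cfsg Cfsg.Agent.ZN.ChoiceBase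
open Cfsg.Agent.ZN (o2 zc zl)
open Cfsg.Agent.Omega.MinPar Cfsg.Agent.Omega.Frame Cfsg.Agent.Omega.FFThm Cfsg.Agent.Omega.FrameMulti
open Cfsg.Agent.Omega.FrameFF (cv Free)
open Cfsg.Agent.Omega.S5.Def Cfsg.Agent.Lib.SL2Mat
open Cfsg.Agent.Omega.NSix.Base Cfsg.Agent.Omega.NSix.Basic Cfsg.Agent.Omega.NSix.FixApp
open scoped commutatorElement

universe u

variable {G : Type u} [Group G] [Finite G] {S S' : Sylow 2 G} {P P' V D : Subgroup G} {F : Type} [Field F] [Finite F]
  [CharP F 2] {k m' : ℕ} {A : Subgroup G} {ε : (Fin (2 ^ m' + 1) → ZMod 2) → G}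

/-- THEOREM C in the form `QL M i ≤ S` -/
theorem hC_two (M : NatD F S P V D k) (hF : Nat.card F = 2) (i : Fin k) : NV.QL M i ≤ (S : Subgroup G) := by
  obtain ⟨z, hz, hz1, -⟩ := NV.exists_z M.toNatV i
  rw [NV.QL_eq M hF hz hz1]
  exact (NV.thmCD M hF hz hz1).1

/-- `N_G(line) = NN ε i j` -/
theorem nor_line_eq (M : NatD F S P V D k) (hs : F4Leaf.Pos.Sit S' P' m' A ε) {l : Fin k} {i j : Fin (2 ^ m' + 1)}
    (hij : i ≠ j) (hm : ∀ x, x ∈ NV.line M.toNatV l ↔ x = 1 ∨ x = rr ε i j) :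
    normalizer (NV.line M.toNatV l : Set G) = NN ε i j := by
  have hn : 5 ≤ 2 ^ m' + 1 := S5.Syl.five_le hs.m2
  ext g
  rw [mem_NN']
  constructor
  · intro hg
    have h8 : g * rr ε i j * g⁻¹ ∈ NV.line M.toNatV l :=
      (mem_normalizer_iff.1 hg _).1 ((hm _).2 (Or.inr rfl))
    rcases (hm _).1 h8 with h9 | h9
    · exfalso
      have h10 : rr ε i j = 1 := by
        have h11 : rr ε i j = g⁻¹ * (g * rr ε i j * g⁻¹) * g := by group
        rw [h11, h9]; group
      exact rr_ne_one hs.split.even (by omega) hij h10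
    · exact h9
  · intro hg
    rw [mem_normalizer_iff]
    intro x
    have hg' : g⁻¹ * rr ε i j * g = rr ε i j := by
      calc g⁻¹ * rr ε i j * g = g⁻¹ * (g * rr ε i j * g⁻¹) * g := by rw [hg]
        _ = rr ε i j := by group
    change x ∈ NV.line M.toNatV l ↔ g * x * g⁻¹ ∈ NV.line M.toNatV l
    rw [hm, hm]
    constructor
    · rintro (rfl | rfl)
      · left; group
      · right; exact hg
    · rintro (h8 | h8)
      · left
        have h9 : x = g⁻¹ * (g * x * g⁻¹) * g := by group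
        rw [h9, h8]; group
      · right
        have h9 : x = g⁻¹ * (g * x * g⁻¹) * g := by group
        rw [h9, h8, hg']

/-- **The position, any number of factors.** -/
theorem exists_spos_all (hp : Pair S S' P P')
    (hN' : NoOver (zl (S' : Subgroup G) P') P') (hF : Nat.card F = 2) (hs : F4Leaf.Pos.Sit S' P' m' A ε)
    (M : NatD F S P V D k) : ∃ l i j, SPos M S' P' m' A ε l i j := by
  have hn : 5 ≤ 2 ^ m' + 1 := S5.Syl.five_le hs.m2
  have hVP : zl (S' : Subgroup G) P' ≤ P := hp.le.trans hp.star.le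
  obtain ⟨I, hI⟩ := NV.exists_ind M.toNatV hp.le (NV.off_V M hVP (hp.off M.hG hN'))
  obtain ⟨l, hl⟩ : I.Nonempty := by
    refine NV.lines_ne_bot' (M := M.toNatV) ?_
    rw [← hI.commutator_eq hVP, ← NV.commutator_V M hVP]
    exact hp.ne
  have hIl : I = {l} := by
    by_contra hcon
    obtain ⟨y, hy, hyl⟩ : ∃ y ∈ I, y ≠ l := by
      by_contra h0
      push Not at h0
      apply hcon
      ext x
      exact ⟨fun hx => h0 x hx, fun hx => by rw [show x = l from hx]; exact hl⟩
    obtain ⟨i, j, hij, hm, hf⟩ := exists_swap_of_ind hp hF hs M hI hl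
    obtain ⟨i', j', hij', hm', hf'⟩ := exists_swap_of_ind hp hF hs M hI hy
    obtain ⟨v, hv, he⟩ := NV.exists_fac M.toNatV l ![0, 1]
    obtain ⟨w, hw, he'⟩ := NV.exists_fac M.toNatV y ![0, 1]
    have hsv := hf v hv (by rw [he]; exact one_ne_zero)
    have hsw := hf' w hw (by rw [he']; exact one_ne_zero)
    have hvw : v * w = w * v := by
      have h1 := MinSimple.VModule.zc_comm _ _ (NV.V_le_zz M hv.1) _ (NV.V_le_zz M hw.1)
      exact h1
    rcases NSix.TkPair.disj_of_comm hs.split.even (by omega) hij hij' hsv hsw hvw with h1 | ⟨h1, h2, h3, h4⟩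
    · -- the same duad: the same line
      have h2 := NSix.TkPair.rr_of_swap hs.split.even hij h1
      apply hyl
      refine NV.line_inj (M := M.toNatV) fun x hx => ?_
      rw [hm', ← h2, ← hm] at hx
      exact hx
    · -- `fac y ≤ O₂(C_G(n))`, `n^⊥ ≤ Z(O₂(C_G(n)))`
      have h5 : NV.fac M.toNatV y ≤ o2 (NN ε i j) := by
        have h6 := NV.fac_le_QL_of_ne M (hC_two M hF) hyl
        rwa [NV.QL, nor_line_eq M hs hij hm] at h6
      obtain ⟨q, hq⟩ : ∃ q : Fin (2 ^ m' + 1), q ∉ ({i, j, i', j'} : Finset (Fin (2 ^ m' + 1))) := by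
        by_contra hc
        push Not at hc
        have h1 : (Finset.univ : Finset (Fin (2 ^ m' + 1))).card ≤ ({i, j, i', j'} : Finset _).card :=
          Finset.card_le_card fun x _ => hc x
        have h2 : ({i, j, i', j'} : Finset (Fin (2 ^ m' + 1))).card ≤ 4 := Finset.card_le_four
        rw [Finset.card_univ, Fintype.card_fin] at h1
        omega
      simp only [Finset.mem_insert, Finset.mem_singleton, not_or] at hq
      obtain ⟨q1, q2, q3, q4⟩ := hq
      have h6 : rr ε i' q ∈ Vn ε i j := rr_mem_Vn ⟨h1, h2⟩ ⟨q1, q2⟩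
      have h7 := (hs.vn_cen hij h6).2 w (h5 hw)
      have h8 := (S5.Pair.swap_comm_iff hs.split.even (by omega) hij' hsw (Pi.single i' 1 + Pi.single q 1)).1
        (by rw [← NSix.TkPair.rr_eq hs.split.even]; exact h7.symm)
      rw [Pi.add_apply, Pi.add_apply, Pi.single_eq_same, Pi.single_eq_of_ne (Ne.symm q3), Pi.single_eq_of_ne hij'.symm,
        Pi.single_eq_of_ne (Ne.symm q4), add_zero, add_zero] at h8
      exact one_ne_zero h8
  subst hIl
  obtain ⟨i, j, h⟩ := SPos.of_ind hp hF hs M hI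
  exact ⟨l, i, j, h⟩

end Cfsg.Agent.Omega.IId.Cv.SymD
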