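import Cfsg.Agent.Omega.IId.Cv.SymPlug
import Cfsg.Agent.Omega.IId.Cv.SymBigPos

/-!
# II.d, `CvSymNat K`: the cut for any number of factors (helper184)

`M : NatD F S P V D k`, `2 < k`, `|F| = 2`, `D ≠ 1`, `P'` of type `S_{2^m'+1}`; `SPos` exists (`exists_spos_all`):

* `V_l` unmixed: `UnMBig K` (one-sided, no partner);
* `V_{P'}` does not commute with all its conjugates under `C_G(n)`: `TTPair K`;
* otherwise `CvSymMixBig`.

`cvSymNat_of_all : CvOneA2 K → CvOneA4 K → CvTwoA K → CvTwoB K → TTPair K → CvSymMix → UnMBig K → CvSymMixBig →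
CvSymNat K` (replaces `cvSymNat_of`; the socket `CvSymBig K` is not used).
-/

set_option autoImplicit false
set_option linter.unusedSectionVars false

namespace Cfsg.Agent.Omega.IId.Cv

open Subgroup Pointwise Cfsg Cfsg.Agent.ZN.ChoiceBase
open Cfsg.Agent.ZN (o2 zc zl)
open Cfsg.Agent.Omega.MinPar Cfsg.Agent.Omega.Frame Cfsg.Agent.Omega.FFThm Cfsg.Agent.Omega.FrameMulti
open Cfsg.Agent.Omega.FrameFF (cv Free)
open Cfsg.Agent.Omega.FrameLE (AllIn)
open Cfsg.Agent.Omega.S5.Def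
open Cfsg.Agent.Omega.NSix.Base Cfsg.Agent.Omega.NSix.Basic
open Cfsg.Agent.Omega.HOne.Main (vx SplitPar)
open scoped commutatorElement

universe u

/-- **One-sided socket**: an unmixed factor, more than two factors, `q = 2`, `D ≠ 1`. -/
def UnMBig (K : Cls.{u}) : Prop :=
  ∀ (G : Type u) [Group G] [Finite G] (S : Sylow 2 G), HypN K S → ∀ (P : Subgroup G) (F : Type) [Field F] [Finite F]
    [CharP F 2] (k : ℕ) (V D : Subgroup G) (M : NatD F S P V D k) (i : Fin k), 2 < k → Nat.card F = 2 → D ≠ ⊥ →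
      UnM M i → IsKnownSimple' G

/-- **Both mixed**, more than two factors (the form of `CvSymMix`). -/
def CvSymMixBig : Prop :=
  ∀ (G : Type u) [Group G] [Finite G] (S S' : Sylow 2 G) (P P' V D : Subgroup G) (F : Type) [Field F] [Finite F]
    [CharP F 2] (k : ℕ) (M : NatD F S P V D k) (m' : ℕ) (A : Subgroup G) (ε : (Fin (2 ^ m' + 1) → ZMod 2) → G)
    (l : Fin k) (i j : Fin (2 ^ m' + 1)), 2 < k → SymD.SPos M S' P' m' A ε l i j → D ≠ ⊥ → ¬ UnM M l →
      (∀ g ∈ NN ε i j, ∀ v ∈ zl (S' : Subgroup G) P', ∀ w ∈ zl (S' : Subgroup G) P',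
        v * (g * w * g⁻¹) = g * w * g⁻¹ * v) → False

/-- **`CvSymNat` from its inputs**, any number of factors. -/
theorem cvSymNat_of_all {K : Cls.{u}} (h1 : CvOneA2 K) (h2 : CvOneA4 K) (h3 : CvTwoA K) (h4 : CvTwoB K)
    (hTT : TTPair K) (hM : CvSymMix.{u}) (hU : UnMBig K) (hB : CvSymMixBig.{u}) : CvSymNat K := by
  intro G _ _ S S' hH P P' hp F _ _ _ k m' M₀ M' hk hm' hD
  have hc := hH.ctx.char2
  obtain ⟨t1, t2⟩ := Sym.typed_of hH.typed hp
  obtain ⟨A, ε, h⟩ := F4Leaf.Split.exists_split hc hp.star' (by omega) M'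
  have hF := SymD.card_two hc hp t1.noOver t2.noOver M₀ (by omega) hm' h
  have M := NatD.ofSplit hc hp.star M₀ (splitPar_two hc S hp.star M₀ (by omega) hF)
  have hs : F4Leaf.Pos.Sit S' P' m' A ε := ⟨hc, hp.star', hm', h⟩
  have hD' := cv_ne_bot_of M (by omega) hD hs
  obtain ⟨l, i, j, hpos⟩ := SymD.exists_spos_all hp t2.noOver hF hs M
  have hkey : (∃ g ∈ NN ε i j, ∃ v ∈ zl (S' : Subgroup G) P', ∃ w ∈ zl (S' : Subgroup G) P',
      v * (g * w * g⁻¹) ≠ g * w * g⁻¹ * v) → IsKnownSimple' G := by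
    rintro ⟨g, hg, v, hv, w, hw, hne⟩
    have hmu := mutual_of_NN hs hpos.ne hg hv hw hne
    have hH' := hH.toHyp.conj S'
    exact hTT G hH'.ctx hH'.cls S' hH'.full hH'.allIn hH'.typed P' P' g hmu (fun hf => hD' hf.1) m' m' hm' hm'
      ⟨M'⟩ ⟨M'⟩
  by_cases hw : ∃ g ∈ NN ε i j, ∃ v ∈ zl (S' : Subgroup G) P', ∃ w ∈ zl (S' : Subgroup G) P',
      v * (g * w * g⁻¹) ≠ g * w * g⁻¹ * v
  · exact hkey hw
  push Not at hw
  by_cases hk2 : 2 < k
  · by_cases hu : UnM M l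
    · exact hU G S hH P F k _ _ M l hk2 hF hD hu
    · exact (hB G S S' P P' _ _ F k M m' A ε l i j hk2 hpos hD hu
        fun g hg v hv w hw' => hw g hg v hv w hw').elim
  · obtain rfl : k = 2 := by omega
    by_cases hu : UnM M l
    · exact unM_known h1 h2 h3 h4 hH M l hD hu
    · exact (hM G S S' P P' _ _ F M m' A ε l i j hpos hD hu fun g hg v hv w hw' => hw g hg v hv w hw').elim

end Cfsg.Agent.Omega.IId.Cv
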