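import Cfsg.Agent.Omega.IId.Cv.MixSym
import Cfsg.Agent.Omega.IId.Cv.SplitTwo
import Cfsg.Agent.Omega.IId.Cv.Entry

/-!
# II.d, `CvSymNat`: `P` natural with `k` factors, `D = C_V(O²(P))` arbitrary, `P'` with one factor `S_{2^m'+1}` (helper592)

* `card_two` : `|F| = 2`; so `P` is split (`splitPar_two`);
* `Pos M S' P' m' A ε l i j` : the position `[V_P, V_{P'}] = line M l = ⟨n⟩`, `n = ε (i) + ε (j)` a duad;
* `exists_pos` : for two factors.
-/

set_option autoImplicit false
set_option linter.unusedSectionVars false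

namespace Cfsg.Agent.Omega.IId.Cv.SymD

open Subgroup Pointwise Cfsg Cfsg.Agent.ZN.ChoiceBase
open Cfsg.Agent.ZN (o2 zc zl)
open Cfsg.Agent.Omega.MinPar Cfsg.Agent.Omega.Frame Cfsg.Agent.Omega.FFThm Cfsg.Agent.Omega.FrameMulti
open Cfsg.Agent.Omega.FrameFF (cv Free)
open Cfsg.Agent.Omega.S5.Def Cfsg.Agent.Lib.SL2Mat
open Cfsg.Agent.Omega.NatPair (ap ap_zero' ap_one' ext2)
open Cfsg.Agent.Omega.HOne (conj_mem_zl)
open scoped commutatorElement

universe u

variable {G : Type u} [Group G] [Finite G] {S S' : Sylow 2 G} {P P' : Subgroup G} {F : Type} [Field F] [Finite F]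
  [CharP F 2] {k m' : ℕ} {A : Subgroup G} {ε : (Fin (2 ^ m' + 1) → ZMod 2) → G}

/-- coordinates of a commutator, `V / D` natural -/
theorem e_comm (M : NatK F (S : Subgroup G) P (zl (S : Subgroup G) P) (cv (S : Subgroup G) P) k) {v a : G}
    (hv : v ∈ zl (S : Subgroup G) P) (ha : a ∈ P) {b : Fin k → F}
    (h : ActsSL M.e (zl (S : Subgroup G) P) (cv (S : Subgroup G) P) a fun i => up (b i)) (i : Fin k) :
    M.e ⁅v, a⁆ i 0 = - (b i * M.e v i 1) := by
  have e : ⁅v, a⁆ = v * (a * v⁻¹ * a⁻¹) := by rw [commutatorElement_def]; group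
  have h1 : a * v⁻¹ * a⁻¹ ∈ zl (S : Subgroup G) P := conj_mem_zl ha (inv_mem hv)
  have h2 := h.1 _ (inv_mem hv) i
  rw [e, M.mul v hv _ h1, Pi.add_apply, Pi.add_apply, h2, e_inv M hv, ap_zero', up_00, up_01, Pi.neg_apply,
    Pi.neg_apply, Pi.neg_apply]
  ring

section two

variable (hc : IsCharacteristicTwoType G) (hp : Pair S S' P P')
  (hN : NoOver (zl (S : Subgroup G) P) P) (hN' : NoOver (zl (S' : Subgroup G) P') P')
  (M : NatK F (S : Subgroup G) P (zl (S : Subgroup G) P) (cv (S : Subgroup G) P) k) (hk : 0 < k) (hm' : 2 ≤ m')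
  (h : F4Leaf.Def.Split (S' : Subgroup G) P' m' A ε)
include hc hp hN hN' hk hm' h

include M in
/-- **`|F| = 2`**, any `C_V(O²(P))`, any number of factors. -/
theorem card_two : Nat.card F = 2 := by
  classical
  have hP' := hp.star'.le
  obtain ⟨I, i1, i2⟩ := M.off _ hp.le (hp.off hc hN')
  have hside : S5.Pair.Side (zl (S : Subgroup G) P) ε := h.side _ hp.le' (hp.symm.off hc hN)
  have hVP : zl (S' : Subgroup G) P' ≤ P := hp.le.trans hp.star.le
  -- elements which centralise `A` centralise `V'`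
  have hcA : ∀ v ∈ zl (S : Subgroup G) P, Acts ε v 1 → ∀ x ∈ zl (S' : Subgroup G) P', v * x = x * v := by
    intro v hv hv1 x hx
    obtain ⟨d, hd, a, ha, rfl⟩ := h.mul_eq hc hp.star' hx
    have h1 := mem_centralizer_iff.1 (h.even.acts_one_iff.1 hv1) a ha
    have h2 := h.comm (hP' (hp.le' hv)) hd
    calc v * (d * a) = (v * d) * a := by group
      _ = d * (v * a) := by rw [h2]; group
      _ = d * a * v := by rw [← h1]; group
  -- some swap has a nonempty support
  obtain ⟨b, hb, i, j, hij, hbs, l, hl, hbl⟩ : ∃ b ∈ zl (S : Subgroup G) P, ∃ i j, i ≠ j ∧ Acts ε b (Equiv.swap i j) ∧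
      ∃ l ∈ I, M.e b l 1 ≠ 0 := by
    by_contra hcon
    push Not at hcon
    have key : ∀ n : ℕ, ∀ v ∈ zl (S : Subgroup G) P, ∀ τ, Acts ε v τ → τ.support.card = n →
        ∀ l ∈ I, M.e v l 1 = 0 := by
      intro n
      induction n using Nat.strong_induction_on with
      | _ n ih =>
        intro v hv τ hτ hn l hl
        by_cases h1 : τ = 1
        · subst h1
          obtain ⟨a, ha, hA⟩ := i2 (Pi.single l 1) fun x hx => Pi.single_eq_of_ne (fun e : x = l => hx (by rw [e]; exact hl)) 1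
          have h2 := e_comm M hv (hVP ha) hA l
          rw [commutatorElement_eq_one_iff_mul_comm.2 (hcA v hv hτ a ha), e_one M, Pi.single_eq_same, one_mul] at h2
          exact (neg_eq_zero.1 h2.symm)
        · obtain ⟨x, hx⟩ : ∃ x, τ x ≠ x := by
            by_contra h2
            push Not at h2
            exact h1 (Equiv.ext h2)
          obtain ⟨τ', hτ', hτ2⟩ := hside v hv
          have e1 := h.even.acts_unique (S5.Syl.three_le (by omega)) hτ hτ'
          subst e1
          obtain ⟨-, b, hb, hbs⟩ := hτ2 x hx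
          have h3 := ih _ (hn ▸ Equiv.Perm.card_support_swap_mul hx) (b * v) (mul_mem hb hv) _ (hbs.mul hτ) rfl l hl
          have h4 := hcon b hb x (τ x) (Ne.symm hx) hbs l hl
          rw [M.mul b hb v hv, Pi.add_apply, Pi.add_apply, h4, zero_add] at h3
          exact h3
    obtain ⟨l, hl⟩ : I.Nonempty := by
      by_contra h0
      rw [Set.not_nonempty_iff_eq_empty] at h0
      apply hp.ne
      rw [commutator_eq_bot_iff_le_centralizer]
      intro v hv
      rw [mem_centralizer_iff]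
      intro a ha
      obtain ⟨b, hb, hA⟩ := i1 a ha
      refine comm_of_quot hc S hp.star M hk (hp.le ha) ?_ v hv
      refine ⟨hVP ha, fun w hw => funext fun x => ?_⟩
      have h1 : up (b x) = (1 : Matrix.SpecialLinearGroup (Fin 2) F) := by
        rw [hb x (by rw [h0]; exact Set.notMem_empty x), up_zero]
      have h2 := hA.1 w hw x
      change _ = ap (up (b x)) _ at h2
      rw [h2, h1, NatPair.ap_one]
    obtain ⟨v, hv, he⟩ := M.surj fun _ => ![0, 1]
    obtain ⟨τ, hτ⟩ := h.even.perm v (hP' (hp.le' hv))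
    have h1 := key _ v hv τ hτ rfl l hl
    rw [he] at h1
    exact one_ne_zero h1
  have hex : ∀ c : F, ∃ a ∈ zl (S' : Subgroup G) P',
      ActsSL M.e (zl (S : Subgroup G) P) (cv (S : Subgroup G) P) a fun x => up ((Pi.single l c : Fin k → F) x) :=
    fun c => i2 (Pi.single l c) fun x hx => by
      rw [Pi.single_eq_of_ne (fun e : x = l => hx (by rw [e]; exact hl))]
  choose a ha hA using hex
  have hinj : Function.Injective fun c : F => ⁅b, a c⁆ := by
    intro c c' h1
    have h2 := e_comm M hb (hVP (ha c)) (hA c) l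
    have h3 := e_comm M hb (hVP (ha c')) (hA c') l
    have h4 : ⁅b, a c⁆ = ⁅b, a c'⁆ := h1
    rw [h4, h3, Pi.single_eq_same, Pi.single_eq_same, neg_inj] at h2
    exact (mul_right_cancel₀ hbl h2).symm
  have hval : ∀ c : F, ⁅b, a c⁆ = 1 ∨ ⁅b, a c⁆ = ε (Pi.single i 1 + Pi.single j 1) := fun c =>
    comm_swap hc hp.star' h (hP' (hp.le' hb)) hbs (ha c)
  have h1 : Nat.card F ≤ 2 := by
    have h2 : Function.Injective fun c : F =>
        (⟨⁅b, a c⁆, hval c⟩ : {x : G // x = 1 ∨ x = ε (Pi.single i 1 + Pi.single j 1)}) := by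
      intro c c' h3
      exact hinj (congrArg Subtype.val h3)
    refine (Nat.card_le_card_of_injective _ h2).trans ?_
    have h5 : Nat.card {x : G // x = 1 ∨ x = ε (Pi.single i 1 + Pi.single j 1)} ≤ Nat.card (Fin 2) := by
      refine Nat.card_le_card_of_surjective
        (fun x : Fin 2 => if x = 0 then (⟨1, Or.inl rfl⟩ : {x : G // x = 1 ∨ x = ε (Pi.single i 1 + Pi.single j 1)})
          else ⟨_, Or.inr rfl⟩) ?_
      rintro ⟨x, rfl | rfl⟩
      · exact ⟨0, rfl⟩
      · exact ⟨1, rfl⟩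
    simpa using h5
  have h2 : 1 < Nat.card F := Finite.one_lt_card
  omega

end two

end Cfsg.Agent.Omega.IId.Cv.SymD
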