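import Cfsg.Agent.Omega.IId.Cv.TwoFourK

/-!
# `WrCv`, CASE 2a: two nodes `V ≠ V^w` over one line `R i`, K-free and field-free, all `q` (helper796, #18009)

`V` with its lines `R i` and root groups `K i` (`KT V L R K`), `T` a 2-group of index 2 in a Sylow 2-subgroup `T₁ = T⟨w⟩` of `G`,
`T ≤ L ≤ N(V)`, `O₂(C(V)) ≤ T`, `T₁ ≤ N(R i)`, `V' = V^w ≠ V`; `x ∈ Z(T₁) ∩ C(X)` with `V ≤ Z(O₂(C_G(x)))`.

* `lemA` : a 2-element `g ∈ N(V)` trivial on `R i` is `u⁻¹ c`, `u ∈ W i`, `c ∈ C(V)`;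
* `Hyp.le_CC` : `V' ≤ ⋂ Q j`;
* `Hyp.cen_UU` : `C_{W j}(V)` centralises `V'`;
* `Hyp.split` : `V' ≤ V C(X)`;
* `Hyp.cen_T` : `T ∩ C(V) = T ∩ C(V')`.
-/

set_option autoImplicit false

namespace Cfsg.Agent.Omega.IId.Cv.TwoFour

open Subgroup Cfsg.Agent.Omega.BTwo
open Cfsg.Agent.MinSimple.VModule (mem_zc zc_le)

variable {G : Type*} [Group G] {ι : Type*}

/-! ### Lemma A -/

/-- a 2-element of `N(V)` which centralises `R i` acts on `V` as an element of `W i` -/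
theorem lemA [Finite G] {V L : Subgroup G} {R K : ι → Subgroup G} (b : KT V L R K) {i : ι} {g : G}
    (hg : g ∈ L) (h2 : IsPGroup 2 (zpowers g)) (hR : ∀ r ∈ R i, g * r = r * g) :
    ∃ u ∈ K i, u * g ∈ centralizer (V : Set G) := by
  have hfact : Fact (Nat.Prime 2) := ⟨Nat.prime_two⟩
  have hgR : g ∈ normalizer (R i : Set G) := by
    apply centralizer_le_normalizer
    rw [mem_centralizer_iff]
    exact fun r hr => (hR r hr).symm
  obtain ⟨j, hj, -⟩ := b.third i i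
  obtain ⟨k, hk⟩ := b.perm g hg j
  have hki : k ≠ i := by
    rintro rfl
    have h1 : cj g (R k) = R k := cj_eq_self_iff.2 hgR
    exact hj (b.R_index (cj_injective (hk.trans h1.symm)))
  obtain ⟨u, hu, e⟩ := b.tr i k j hki hj
  refine ⟨u, hu, ?_⟩
  set g₁ := u * g with hg₁
  have hg₁V : g₁ ∈ L := mul_mem (b.K_le_L i hu) hg
  have hg₁R : ∀ r ∈ R i, g₁ * r * g₁⁻¹ = r := by
    intro r hr
    have h1 := b.conj_R (b.K_Q i hu) hr
    calc g₁ * r * g₁⁻¹ = u * (g * r * g⁻¹) * u⁻¹ := by rw [hg₁]; group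
      _ = u * r * u⁻¹ := by rw [hR r hr]; group
      _ = r := h1
  have hg₁j : cj g₁ (R j) = R j := by rw [hg₁, cj_mul, hk, e]
  -- `g₁` is a 2-element
  have hg₁2 : IsPGroup 2 (zpowers g₁) := by
    have h3 : zpowers g ≤ normalizer (K i : Set G) := by
      rw [zpowers_le]
      exact b.N_K i hgR
    have h4 : IsPGroup 2 ↥(zpowers g ⊔ K i) := h2.to_sup_of_normal_right' (b.K_isPGroup i) h3
    refine h4.to_le ?_
    rw [zpowers_le]
    exact mul_mem ((le_sup_right : K i ≤ zpowers g ⊔ K i) hu)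
      ((le_sup_left : zpowers g ≤ zpowers g ⊔ K i) (mem_zpowers g))
  -- a fixed vector in `R j`
  have hRj2 : IsPGroup 2 (R j) := (O2_isPGroup (normalizer (R j : Set G))).to_le ((b.R_le j).trans (b.V_Q j))
  have hnj : zpowers g₁ ≤ normalizer (R j : Set G) := by
    rw [zpowers_le, ← cj_eq_self_iff]
    exact hg₁j
  have hS2 : IsPGroup 2 ↥(zpowers g₁ ⊔ R j) := hg₁2.to_sup_of_normal_right' hRj2 hnj
  obtain ⟨c, hc, hc1, hcz⟩ := exists_mem_zc (T := R j) hS2 (b.R_ne j) le_sup_right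
    (sup_le hnj le_normalizer)
  have hcg : g₁ * c * g₁⁻¹ = c := by
    have h5 := (mem_zc.1 hcz).2.1 g₁ ((le_sup_left : zpowers g₁ ≤ zpowers g₁ ⊔ R j) (mem_zpowers g₁))
    rw [h5, mul_inv_cancel_right]
  -- `g₁` fixes all lines
  have hall : ∀ k, k ≠ i → cj g₁ (R k) = R k := by
    intro k hk
    obtain ⟨a, ha, d, hd, hcd⟩ := b.exists_mul (Ne.symm hk) (b.R_le j hc)
    have hd1 : d ≠ 1 := by
      rintro rfl
      rw [mul_one] at hcd
      exact hc1 (b.eq_one hj hc (hcd ▸ ha))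
    have hdf : g₁ * d * g₁⁻¹ = d := by
      have h6 : d = a⁻¹ * c := by rw [hcd]; group
      calc g₁ * d * g₁⁻¹ = (g₁ * a⁻¹ * g₁⁻¹) * (g₁ * c * g₁⁻¹) := by rw [h6]; group
        _ = a⁻¹ * c := by rw [hg₁R _ (inv_mem ha), hcg]
        _ = d := h6.symm
    obtain ⟨k', hk'⟩ := b.perm g₁ hg₁V k
    have h7 : d ∈ R k' := by
      rw [← hk', ← hdf]
      exact conj_mem_cj hd
    have h8 : k = k' := by
      by_contra hne
      exact hd1 (b.eq_one hne hd h7)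
    rw [h8] at hk'
    rw [h8]
    exact hk'
  -- so it centralises `R j`
  obtain ⟨r₀, hr₀, hr₁⟩ := b.exists_ne i
  have hcj : ∀ v ∈ R j, g₁ * v * g₁⁻¹ = v := by
    intro v hv
    by_cases hv1 : v = 1
    · rw [hv1]; group
    obtain ⟨l, hl⟩ := b.R_cov (v * r₀) (mul_mem (b.R_le j hv) (b.R_le i hr₀))
    have hli : l ≠ i := by
      intro hli
      rw [hli] at hl
      have h8 : v ∈ R i := by
        have h9 : v = v * r₀ * r₀⁻¹ := by group
        rw [h9]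
        exact mul_mem hl (inv_mem hr₀)
      exact hv1 (b.eq_one hj hv h8)
    have hlj : l ≠ j := by
      intro hlj
      rw [hlj] at hl
      have h8 : r₀ ∈ R j := by
        have h9 : r₀ = v⁻¹ * (v * r₀) := by group
        rw [h9]
        exact mul_mem (inv_mem hv) hl
      exact hr₁ (b.eq_one (Ne.symm hj) hr₀ h8)
    have h10 : g₁ * (v * r₀) * g₁⁻¹ ∈ R l := by
      have := conj_mem_cj (g := g₁) hl
      rwa [hall l hli] at this
    have h11 : g₁ * v * g₁⁻¹ ∈ R j := by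
      have := conj_mem_cj (g := g₁) hv
      rwa [hg₁j] at this
    have h12 : g₁ * v * g₁⁻¹ * v⁻¹ ∈ R l := by
      have h13 : g₁ * v * g₁⁻¹ * v⁻¹ = (g₁ * (v * r₀) * g₁⁻¹) * (v * r₀)⁻¹ := by
        have h14 : g₁ * (v * r₀) * g₁⁻¹ = g₁ * v * g₁⁻¹ * r₀ := by
          calc g₁ * (v * r₀) * g₁⁻¹ = g₁ * v * g₁⁻¹ * (g₁ * r₀ * g₁⁻¹) := by group
            _ = _ := by rw [hg₁R r₀ hr₀]
        rw [h14]
        group
      rw [h13]
      exact mul_mem h10 (inv_mem hl)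
    have h15 := b.eq_one hlj h12 (mul_mem h11 (inv_mem hv))
    rwa [mul_inv_eq_one] at h15
  rw [mem_centralizer_iff]
  intro v hv
  obtain ⟨a, ha, d, hd, rfl⟩ := b.exists_mul (Ne.symm hj) hv
  have h16 : g₁ * (a * d) * g₁⁻¹ = a * d := by
    calc g₁ * (a * d) * g₁⁻¹ = (g₁ * a * g₁⁻¹) * (g₁ * d * g₁⁻¹) := by group
      _ = a * d := by rw [hg₁R a ha, hcj d hd]
  rw [mul_inv_eq_iff_eq_mul] at h16
  exact h16.symm

/-- ... in particular `[V, g] ≤ R i` -/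
theorem lemA' [Finite G] {V L : Subgroup G} {R K : ι → Subgroup G} (b : KT V L R K) {i : ι} {g : G}
    (hg : g ∈ L) (h2 : IsPGroup 2 (zpowers g)) (hR : ∀ r ∈ R i, g * r = r * g) :
    ∀ v ∈ V, g * v * g⁻¹ * v⁻¹ ∈ R i := by
  obtain ⟨u, hu, hc⟩ := lemA b hg h2 hR
  intro v hv
  have h1 : g * v * g⁻¹ = u⁻¹ * v * u := by
    have h3 := mem_centralizer_iff.1 hc v hv
    calc g * v * g⁻¹ = u⁻¹ * (u * g * v) * g⁻¹ := by group
      _ = u⁻¹ * (v * (u * g)) * g⁻¹ := by rw [← h3]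
      _ = u⁻¹ * v * u := by group
  rw [h1]
  have h4 := b.QV i _ (inv_mem (b.K_Q i hu)) v hv
  rwa [inv_inv] at h4

/-! ### The setting -/

structure Hyp (V L : Subgroup G) (R K : ι → Subgroup G) (i : ι) (T₁ T : Subgroup G) (w x : G) : Prop where
  bt : KT V L R K
  cenQ : normalizer (R i : Set G) ⊓ centralizer (QQ (R i) : Set G) ≤ QQ (R i)
  T₁p : IsPGroup 2 T₁
  /-- `T₁` is a Sylow 2-subgroup of `G` -/
  T₁max : ∀ P : Subgroup G, IsPGroup 2 P → T₁ ≤ P → P ≤ T₁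
  le : T ≤ T₁
  idx : ∀ a ∈ T₁, a ∉ T → ∀ c ∈ T₁, c ∉ T → a * c ∈ T
  T₁R : T₁ ≤ normalizer (R i : Set G)
  TL : T ≤ L
  OC : O2 (centralizer (V : Set G)) ≤ T
  QT : QQ (R i) ≤ T
  wT₁ : w ∈ T₁
  wV : cj w V ≠ V
  xm : x ∈ T₁
  xT₁ : ∀ t ∈ T₁, t * x = x * t
  xX : x ∈ centralizer (XK K : Set G)
  VO : V ≤ O2 (centralizer ({x} : Set G))
  Vc : ∀ v ∈ V, ∀ u ∈ O2 (centralizer ({x} : Set G)), v * u = u * v

namespace Hyp

variable {V L : Subgroup G} {R K : ι → Subgroup G} {i : ι} {T₁ T : Subgroup G} {w x : G}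
  (h : Hyp V L R K i T₁ T w x)
include h

theorem TV : T ≤ normalizer (V : Set G) := h.TL.trans h.bt.L_V

theorem w_not : w ∉ T := fun hw => h.wV (cj_eq_self_iff.2 (h.TV hw))

/-- `T` is normal in `T₁` -/
theorem conj_T {a t : G} (ha : a ∈ T₁) (ht : t ∈ T) : a * t * a⁻¹ ∈ T := by
  by_cases haT : a ∈ T
  · exact mul_mem (mul_mem haT ht) (inv_mem haT)
  · refine h.idx _ (mul_mem ha (h.le ht)) (fun h1 => haT ?_) _ (inv_mem ha) (fun h1 => haT ?_)
    · have e : a = a * t * t⁻¹ := by group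
      rw [e]
      exact mul_mem h1 (inv_mem ht)
    · have := inv_mem h1
      rwa [inv_inv] at this

theorem conj_T' {a t : G} (ha : a ∈ T₁) (ht : t ∈ T) : a⁻¹ * t * a ∈ T := by
  have := h.conj_T (inv_mem ha) ht
  rwa [inv_inv] at this

/-- `T` normalises `V' = V^w` -/
theorem TV' : T ≤ normalizer (cj w V : Set G) := by
  intro t ht
  rw [normalizer_cj, mem_cj]
  exact h.TV (h.conj_T' h.wT₁ ht)

theorem cj_R : cj w (R i) = R i := cj_eq_self_iff.2 (h.T₁R h.wT₁)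

theorem ww : w * w ∈ T := h.idx w h.wT₁ h.w_not w h.wT₁ h.w_not

theorem cj_V' : cj w (cj w V) = V := by
  rw [← cj_mul]
  exact cj_eq_self_iff.2 (h.TV h.ww)

theorem cj_inv_V : cj w⁻¹ V = cj w V := by
  have h1 := congrArg (cj w⁻¹) h.cj_V'
  rw [cj_inv_cj] at h1
  exact h1.symm

theorem cj_inv_R : cj w⁻¹ (R i) = R i := by
  have h1 := congrArg (cj w⁻¹) h.cj_R
  rw [cj_inv_cj] at h1
  exact h1.symm

theorem T₁C : T₁ ≤ centralizer ({x} : Set G) := by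
  intro t ht
  rw [mem_centralizer_singleton_iff]
  exact h.xT₁ t ht

theorem XC : XK K ≤ centralizer ({x} : Set G) := by
  intro g hg
  rw [mem_centralizer_singleton_iff]
  exact mem_centralizer_iff.1 h.xX g hg

/-- `V' ≤ O₂(C(x))` -/
theorem V'O : cj w V ≤ O2 (centralizer ({x} : Set G)) := by
  have h1 := cj_mono (g := w) h.VO
  rwa [cj_eq_self_iff.2 (le_normalizer_O2 _ (h.T₁C h.wT₁))] at h1

theorem V'c : ∀ v ∈ cj w V, ∀ u ∈ O2 (centralizer ({x} : Set G)), v * u = u * v := by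
  intro v hv u hu
  rw [mem_cj] at hv
  have h1 := conj_inv_mem_of_normalizer (le_normalizer_O2 _ (h.T₁C h.wT₁)) hu
  have h2 := h.Vc _ hv _ h1
  calc v * u = w * ((w⁻¹ * v * w) * (w⁻¹ * u * w)) * w⁻¹ := by group
    _ = w * ((w⁻¹ * u * w) * (w⁻¹ * v * w)) * w⁻¹ := by rw [h2]
    _ = u * v := by group

theorem VV' : ∀ v ∈ V, ∀ v' ∈ cj w V, v * v' = v' * v := fun v hv v' hv' => h.Vc v hv v' (h.V'O hv')

theorem V'_le_cen : cj w V ≤ centralizer (V : Set G) := fun v' hv' => by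
  rw [mem_centralizer_iff]
  exact fun v hv => h.VV' v hv v' hv'

theorem R_le_V' : R i ≤ cj w V := by
  have h1 := cj_mono (g := w) (h.bt.R_le i)
  rwa [h.cj_R] at h1

theorem V'_comm : ∀ a ∈ cj w V, ∀ c ∈ cj w V, a * c = c * a := fun a ha c hc => h.V'c a ha c (h.V'O hc)

theorem V'_sq {a : G} (ha : a ∈ cj w V) : a * a = 1 := by
  rw [mem_cj] at ha
  have h1 := h.bt.V_sq _ ha
  calc a * a = w * ((w⁻¹ * a * w) * (w⁻¹ * a * w)) * w⁻¹ := by group
    _ = 1 := by rw [h1]; group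

theorem T_zp {t : G} (ht : t ∈ T) : IsPGroup 2 (zpowers t) :=
  (h.T₁p.to_le h.le).to_le (by rw [zpowers_le]; exact ht)

/-- `t ∈ T` centralising `R i`: `[V, t] ≤ R i` -/
theorem TR [Finite G] {t : G} (ht : t ∈ T) (hR : ∀ r ∈ R i, t * r = r * t) : ∀ v ∈ V, t * v * t⁻¹ * v⁻¹ ∈ R i :=
  lemA' h.bt (h.TL ht) (h.T_zp ht) hR

/-- `t ∈ T` centralising `R i`: `[V', t] ≤ R i` -/
theorem TR' [Finite G] {t : G} (ht : t ∈ T) (hR : ∀ r ∈ R i, t * r = r * t) :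
    ∀ v ∈ cj w V, t * v * t⁻¹ * v⁻¹ ∈ R i := by
  intro v hv
  have h1 : ∀ r ∈ R i, w⁻¹ * t * w * r = r * (w⁻¹ * t * w) := by
    intro r hr
    have h2 : w * r * w⁻¹ ∈ R i := conj_mem_of_normalizer (h.T₁R h.wT₁) hr
    have h3 := hR _ h2
    calc w⁻¹ * t * w * r = w⁻¹ * (t * (w * r * w⁻¹)) * w := by group
      _ = w⁻¹ * (w * r * w⁻¹ * t) * w := by rw [h3]
      _ = r * (w⁻¹ * t * w) := by group
  rw [mem_cj] at hv
  have h4 := h.TR (h.conj_T' h.wT₁ ht) h1 _ hv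
  have h5 := conj_mem_of_normalizer (h.T₁R h.wT₁) h4
  have e : w * (w⁻¹ * t * w * (w⁻¹ * v * w) * (w⁻¹ * t * w)⁻¹ * (w⁻¹ * v * w)⁻¹) * w⁻¹ = t * v * t⁻¹ * v⁻¹ := by
    group
  rwa [e] at h5

/-! ### `V' ≤ Q j` -/

/-- `R i ∩ C(Q j) = 1` -/
theorem R_cen_Q {j : ι} (hj : j ≠ i) {a : G} (ha : a ∈ R i) (hc : a ∈ centralizer (QQ (R j) : Set G)) : a = 1 := by
  have b := h.bt
  by_contra ha1
  obtain ⟨v, hv, hvU⟩ := b.exists_mover hj.symm
  have h1 : a ∉ R j := b.not_mem hj.symm ha ha1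
  have h2 : v * a = a * v := mem_centralizer_iff.1 hc v (b.K_Q j hv)
  have h3 := b.reg (b.K_Q j hv) (b.R_le i ha) h1 h2
  apply hvU
  rw [mem_centralizer_iff]
  exact fun c hc => (h3 c hc).symm

/-- `x ∈ Z(Q j)` -/
theorem x_Q (j : ι) : x ∈ QQ (R j) ⊓ centralizer (QQ (R j) : Set G) := by
  have b := h.bt
  have h0 : x ∈ centralizer (QQ (R i) : Set G) := by
    rw [mem_centralizer_iff]
    exact fun q hq => h.xT₁ q (h.le (h.QT hq))
  have h1 : x ∈ QQ (R i) := h.cenQ (mem_inf.2 ⟨h.T₁R h.xm, h0⟩)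
  obtain ⟨g, hg, e⟩ := b.trans_X_one i j
  have h2 : g * x * g⁻¹ = x := by
    rw [mem_centralizer_iff.1 h.xX g hg, mul_inv_cancel_right]
  have h3 : g * x * g⁻¹ ∈ cj g (QQ (R i) ⊓ centralizer (QQ (R i) : Set G)) := conj_mem_cj (mem_inf.2 ⟨h1, h0⟩)
  rwa [h2, cj_inf, ← centralizer_cj, b.cj_QQ e] at h3

/-- `Z(Q j)` is normalised by `N(R j)` -/
theorem norm_ZQ (j : ι) : normalizer (R j : Set G) ≤
    normalizer ((QQ (R j) ⊓ centralizer (QQ (R j) : Set G) : Subgroup G) : Set G) := by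
  intro g hg
  have h1 := le_normalizer_O2 _ hg
  rw [← cj_eq_self_iff, cj_inf, ← centralizer_cj, cj_eq_self_iff.2 h1]

/-- `N j = ⟨x^{N(R j)}⟩ ≤ Z(Q j)` -/
theorem NN_le (j : ι) : WW (zpowers x) (R j) ≤ QQ (R j) ⊓ centralizer (QQ (R j) : Set G) := by
  refine iSup_le fun g => ?_
  have h1 : zpowers x ≤ QQ (R j) ⊓ centralizer (QQ (R j) : Set G) := by
    rw [zpowers_le]
    exact h.x_Q j
  have h2 := cj_mono (g := (g : G)) h1
  rwa [cj_eq_self_iff.2 (h.norm_ZQ j g.2)] at h2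

/-- a 2-subgroup of `C(V)` normalised by `C(V)` is in `T` -/
theorem le_T_of {A : Subgroup G} (hA : A ≤ centralizer (V : Set G)) (h2 : IsPGroup 2 A)
    (hn : ∀ g ∈ centralizer (V : Set G), ∀ a ∈ A, g * a * g⁻¹ ∈ A) : A ≤ T := by
  exact (le_O2_of_normal hA h2 hn).trans h.OC

/-- `Z(Q j) ≤ T ∩ C(V)` -/
theorem ZQ_le (j : ι) : QQ (R j) ⊓ centralizer (QQ (R j) : Set G) ≤ T ⊓ centralizer (V : Set G) := by
  have b := h.bt
  have h1 : QQ (R j) ⊓ centralizer (QQ (R j) : Set G) ≤ centralizer (V : Set G) :=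
    inf_le_right.trans (centralizer_le (b.V_Q j))
  refine le_inf (h.le_T_of h1 ((O2_isPGroup _).to_le inf_le_left) ?_) h1
  exact fun g hg a ha => conj_mem_of_normalizer (h.norm_ZQ j (b.cen_le_N j hg)) ha

/-- `Z(O₂(C(x))) ∩ C(N j) ≤ Q j` -/
theorem cen_NN_le (j : ι) {u : G} (hu : u ∈ O2 (centralizer ({x} : Set G)))
    (hcu : u ∈ centralizer (O2 (centralizer ({x} : Set G)) : Set G))
    (hN : u ∈ centralizer (WW (zpowers x) (R j) : Set G)) : u ∈ QQ (R j) := by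
  have b := h.bt
  set U : Subgroup G := O2 (centralizer ({x} : Set G)) ⊓ centralizer (O2 (centralizer ({x} : Set G)) : Set G)
    with hU
  set B : Subgroup G := normalizer (R j : Set G) ⊓ centralizer (WW (zpowers x) (R j) : Set G) with hB
  have hUC : U ≤ centralizer (V : Set G) := inf_le_right.trans (centralizer_le h.VO)
  have hUN : U ≤ normalizer (R j : Set G) := hUC.trans (b.cen_le_N j)
  have hxN : x ∈ WW (zpowers x) (R j) := V_le_WW (zpowers x) (R j) (mem_zpowers x)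
  have hBC : B ≤ centralizer ({x} : Set G) := by
    intro g hg
    rw [mem_centralizer_singleton_iff]
    exact (mem_centralizer_iff.1 (mem_inf.1 hg).2 x hxN).symm
  have hCU : centralizer ({x} : Set G) ≤ normalizer (U : Set G) := by
    intro g hg
    have h1 := le_normalizer_O2 _ hg
    rw [← cj_eq_self_iff, hU, cj_inf, ← centralizer_cj, cj_eq_self_iff.2 h1]
  have hBn : ∀ g ∈ normalizer (R j : Set G), ∀ c ∈ B, g * c * g⁻¹ ∈ B := by
    intro g hg c hc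
    obtain ⟨hc1, hc2⟩ := mem_inf.1 hc
    refine mem_inf.2 ⟨mul_mem (mul_mem hg hc1) (inv_mem hg), ?_⟩
    exact conj_mem_of_normalizer (normalizer_le_normalizer_centralizer _ (normalizer_le_WW _ _ hg)) hc2
  have h3 : U ⊓ B ≤ O2 (normalizer (R j : Set G)) := by
    refine le_O2_of_chain inf_le_right le_rfl inf_le_left ((O2_isPGroup _).to_le (inf_le_left.trans inf_le_left))
      ?_ (fun c hc g hg => mul_mem (mul_mem hc hg) (inv_mem hc)) hBn
    intro c hc a ha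
    exact mem_inf.2 ⟨conj_mem_of_normalizer (hCU (hBC hc)) ha.1, mul_mem (mul_mem hc ha.2) (inv_mem hc)⟩
  have huU : u ∈ U := mem_inf.2 ⟨hu, hcu⟩
  exact h3 (mem_inf.2 ⟨huU, mem_inf.2 ⟨hUN huU, hN⟩⟩)

/-- **(2)** `V' ≤ ⋂ Q j` -/
theorem le_CC [Finite G] : cj w V ≤ CC R := by
  have b := h.bt
  obtain ⟨j, hj, -⟩ := b.third i i
  rw [b.C_eq hj]
  refine le_inf ?_ ?_
  · intro v hv
    have hu := h.V'O hv
    have hcu : v ∈ centralizer (O2 (centralizer ({x} : Set G)) : Set G) := by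
      rw [mem_centralizer_iff]
      exact fun u hu => (h.V'c v hv u hu).symm
    refine h.cen_NN_le j hu hcu ?_
    rw [mem_centralizer_iff]
    intro n hn
    have hnZ := h.NN_le j hn
    obtain ⟨hnT, hnV⟩ := mem_inf.1 (h.ZQ_le j hnZ)
    have h1 := h.TR' hnT (fun r hr => (mem_centralizer_iff.1 hnV r (b.R_le i hr)).symm) v hv
    have hvN : v ∈ normalizer (R j : Set G) := b.cen_le_N j (h.V'_le_cen hv)
    have h2 : n * v * n⁻¹ * v⁻¹ ∈ WW (zpowers x) (R j) := by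
      have e : n * v * n⁻¹ * v⁻¹ = n * (v * n⁻¹ * v⁻¹) := by group
      rw [e]
      exact mul_mem hn (conj_mem_of_normalizer (normalizer_le_WW _ _ hvN) (inv_mem hn))
    have h3 := h.R_cen_Q hj h1 (mem_inf.1 (h.NN_le j h2)).2
    rwa [mul_inv_eq_one, mul_inv_eq_iff_eq_mul] at h3
  · have h1 := cj_mono (g := w) (b.V_Q i)
    rwa [cj_eq_self_iff.2 (le_normalizer_O2 _ (h.T₁R h.wT₁))] at h1

/-- `[X, V'] ≤ V` -/
theorem XV' [Finite G] {g v : G} (hg : g ∈ XK K) (hv : v ∈ cj w V) : g * v * g⁻¹ * v⁻¹ ∈ V :=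
  h.bt.CX hg (h.le_CC hv)

/-- **(3)** `C_{W j}(V)` centralises `V'` -/
theorem cen_UU [Finite G] (j : ι) {u v : G} (hu : u ∈ UK V K j) (hv : v ∈ cj w V) : u * v = v * u := by
  have b := h.bt
  have key : ∀ j, j ≠ i → ∀ u ∈ UK V K j, ∀ v ∈ cj w V, u * v = v * u := by
    intro j hj u hu v hv
    have hUT : UK V K j ≤ T := by
      refine h.le_T_of (UK_le_cen V K j) ((b.K_isPGroup j).to_le inf_le_left) fun g hg a ha => ?_
      exact conj_mem_of_normalizer (b.cen_le_NU j hg) ha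
    have h1 := h.TR' (hUT hu) (fun r hr => (mem_centralizer_iff.1 (UK_le_cen V K j hu) r (b.R_le i hr)).symm) v hv
    have h2 : u * v * u⁻¹ * v⁻¹ ∈ R j := by
      have h3 := b.KQ j _ (mem_iInf.1 (h.le_CC hv) j) _ (mem_inf.1 hu).1
      have e : u * v * u⁻¹ * v⁻¹ = (v * u * v⁻¹ * u⁻¹)⁻¹ := by group
      rw [e]
      exact inv_mem h3
    have h4 := b.eq_one hj h2 h1
    rwa [mul_inv_eq_one, mul_inv_eq_iff_eq_mul] at h4
  by_cases hj : j = i
  · subst hj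
    obtain ⟨k, hk, -⟩ := b.third j j
    obtain ⟨g, hg, e⟩ := b.trans_X_one j k
    -- `cj g (R j) = R k`
    have h1 : g * u * g⁻¹ ∈ UK V K k := by
      have h2 : cj g (UK V K j) = UK V K k := by
        rw [UK, UK, cj_inf, b.cj_K g j k e, ← centralizer_cj, cj_eq_self_iff.2 (b.X_le_NV hg)]
      rw [← h2]
      exact conj_mem_cj hu
    set c := g * v * g⁻¹ * v⁻¹ with hc
    have h3 : c ∈ V := h.XV' hg hv
    have h4 := key k hk _ h1 v hv
    have h5 : g * u * g⁻¹ * c = c * (g * u * g⁻¹) :=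
      (mem_centralizer_iff.1 (UK_le_cen V K k h1) c h3).symm
    have h6 : g * v * g⁻¹ = c * v := by rw [hc]; group
    have h7 : (g * u * g⁻¹) * (g * v * g⁻¹) = (g * v * g⁻¹) * (g * u * g⁻¹) := by
      rw [h6]
      calc g * u * g⁻¹ * (c * v) = (g * u * g⁻¹ * c) * v := by group
        _ = c * (g * u * g⁻¹ * v) := by rw [h5]; group
        _ = c * v * (g * u * g⁻¹) := by rw [h4]; group
    calc u * v = g⁻¹ * ((g * u * g⁻¹) * (g * v * g⁻¹)) * g := by group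
      _ = g⁻¹ * ((g * v * g⁻¹) * (g * u * g⁻¹)) * g := by rw [h7]
      _ = v * u := by group
  · exact key j hj u hu v hv

/-- **(4)** `V' ≤ V C(X)` -/
theorem split [Finite G] {v : G} (hv : v ∈ cj w V) : ∃ a ∈ V, a⁻¹ * v ∈ centralizer (XK K : Set G) := by
  have b := h.bt
  obtain ⟨j, k, hjk⟩ := b.exists_pair
  have h1 : ∀ l, ∃ a ∈ V, a⁻¹ * v ∈ centralizer (K l : Set G) := fun l =>
    b.cenU l _ (mem_iInf.1 (h.le_CC hv) l) fun u hu hu' => (h.cen_UU l (mem_inf.2 ⟨hu, hu'⟩) hv).symm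
  obtain ⟨a, ha, h2⟩ := h1 j
  obtain ⟨c, hc, h3⟩ := h1 k
  obtain ⟨p, hp, q, hq, e⟩ := b.exists_mul hjk (mul_mem (inv_mem ha) hc)
  refine ⟨a * p, mul_mem ha (b.R_le j hp), b.mem_cen_X hjk ?_ ?_⟩
  · have e1 : (a * p)⁻¹ * v = p⁻¹ * (a⁻¹ * v) := by group
    rw [e1]
    exact mul_mem (inv_mem (b.R_cen_K j hp)) h2
  · have e1 : (a * p)⁻¹ * v = q * (c⁻¹ * v) := by
      have e2 : c = a * (p * q) := by rw [← e]; group
      rw [e2]
      group
    rw [e1]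
    exact mul_mem (b.R_cen_K k hq) h3

/-- **(5)** `T ∩ C(V) ≤ C(V')` -/
theorem cen_T [Finite G] {t : G} (ht : t ∈ T) (hc : t ∈ centralizer (V : Set G)) :
    t ∈ centralizer (cj w V : Set G) := by
  have b := h.bt
  rw [mem_centralizer_iff]
  intro v hv
  obtain ⟨a, ha, hf⟩ := h.split hv
  have h1 := h.TR' ht (fun r hr => (mem_centralizer_iff.1 hc r (b.R_le i hr)).symm) v hv
  have hta := mem_centralizer_iff.1 hc a ha
  have hX := normalizer_le_normalizer_centralizer _ (b.L_le_NX (h.TL ht))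
  have h2 : t * (a⁻¹ * v) * t⁻¹ * (a⁻¹ * v)⁻¹ ∈ centralizer (XK K : Set G) :=
    mul_mem (conj_mem_of_normalizer hX hf) (inv_mem hf)
  have h3 : t * (a⁻¹ * v) * t⁻¹ * (a⁻¹ * v)⁻¹ = t * v * t⁻¹ * v⁻¹ := by
    have h4 := b.V_comm a ha _ (b.R_le i h1)
    calc t * (a⁻¹ * v) * t⁻¹ * (a⁻¹ * v)⁻¹ = (t * a * t⁻¹)⁻¹ * (t * v * t⁻¹ * v⁻¹) * a := by group
      _ = a⁻¹ * (t * v * t⁻¹ * v⁻¹) * a := by rw [← hta]; group
      _ = a⁻¹ * ((t * v * t⁻¹ * v⁻¹) * a) := by group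
      _ = a⁻¹ * (a * (t * v * t⁻¹ * v⁻¹)) := by rw [h4]
      _ = t * v * t⁻¹ * v⁻¹ := by group
  rw [h3] at h2
  have h5 := b.cen_VX (b.R_le i h1) h2
  rw [mul_inv_eq_one, mul_inv_eq_iff_eq_mul] at h5
  exact h5.symm

/-- `T ∩ C(V') ≤ C(V)` -/
theorem cen_T' [Finite G] {t : G} (ht : t ∈ T) (hc : t ∈ centralizer (cj w V : Set G)) :
    t ∈ centralizer (V : Set G) := by
  have h1 : w * t * w⁻¹ ∈ centralizer (V : Set G) := by
    have h2 : w * t * w⁻¹ ∈ centralizer (cj w (cj w V) : Set G) := by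
      rw [centralizer_cj]
      exact conj_mem_cj hc
    rwa [h.cj_V'] at h2
  have h3 := h.cen_T (h.conj_T h.wT₁ ht) h1
  rw [centralizer_cj, mem_cj] at h3
  have e : w⁻¹ * (w * t * w⁻¹) * w = t := by group
  rwa [e] at h3

end Hyp

end Cfsg.Agent.Omega.IId.Cv.TwoFour
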