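import Cfsg.Agent.Omega.IId.Cv.TwoFourA

/-!
# `WrCv`, CASE 2a, `q ≥ 4` : the end (helper796, #18009)

`PP = ⟨V, V^w⟩ > CP = PP ∩ C(K i) > R i`; `b ∈ X` and `b' ∈ X^w` with the same `(e, e')`; `δ = b⁻¹ b'` is in the
stability group of `PP > CP > R i > 1`, so `δ ∈ T₁ C(PP)`; then `[PP, δ] ≤ R i` and `V = V^w`.

* `Hyp.false_four`.
-/

set_option autoImplicit false

namespace Cfsg.Agent.Omega.IId.Cv.TwoFour

open Subgroup Cfsg.Agent.Omega.BTwo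

variable {G : Type*} [Group G] {ι : Type*}

/-! ### A Sylow argument -/

theorem relIndex_sup_norm [Finite G] {S K : Subgroup G} (hK : S ≤ normalizer (K : Set G)) :
    S.relIndex K = S.relIndex (K ⊔ S) := by
  have hKH : K ≤ K ⊔ S := le_sup_left
  have hn : (K.subgroupOf (K ⊔ S)).Normal := (normal_subgroupOf_iff_le_normalizer hKH).2 (sup_le le_normalizer hK)
  have h1 : K.relIndex (K ⊔ S) = K.relIndex S := by
    have h := Subgroup.relIndex_sup_left (K := K.subgroupOf (K ⊔ S)) (H := S.subgroupOf (K ⊔ S))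
    rw [← Subgroup.subgroupOf_sup hKH le_sup_right, Subgroup.relIndex_subgroupOf le_rfl,
      Subgroup.relIndex_subgroupOf le_sup_right] at h
    exact h
  have h2 := Subgroup.relIndex_mul_relIndex (K ⊓ S) K (K ⊔ S) inf_le_left le_sup_left
  have h3 := Subgroup.relIndex_mul_relIndex (K ⊓ S) S (K ⊔ S) inf_le_right le_sup_right
  have h4 : (K ⊓ S).relIndex S = K.relIndex S := Subgroup.inf_relIndex_right K S
  have h4' : (K ⊓ S).relIndex K = S.relIndex K := Subgroup.inf_relIndex_left K S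
  rw [h1, h4'] at h2
  rw [h4, ← h2, mul_comm] at h3
  exact (Nat.eq_of_mul_eq_mul_right (Nat.pos_of_ne_zero (Subgroup.index_ne_zero_of_finite
      (H := K.subgroupOf S))) h3).symm

theorem mem_sup_norm {A B : Subgroup G} (h : A ≤ normalizer (B : Set G)) {x : G} (hx : x ∈ A ⊔ B) :
    ∃ a ∈ A, a⁻¹ * x ∈ B := by
  let T : Subgroup G :=
    { carrier := {x | ∃ a ∈ A, a⁻¹ * x ∈ B}
      one_mem' := ⟨1, one_mem _, by rw [inv_one, one_mul]; exact one_mem _⟩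
      mul_mem' := by
        rintro x y ⟨a, ha, h1⟩ ⟨c, hc, h2⟩
        refine ⟨a * c, mul_mem ha hc, ?_⟩
        have e : (a * c)⁻¹ * (x * y) = (c⁻¹ * (a⁻¹ * x) * c) * (c⁻¹ * y) := by group
        rw [e]
        exact mul_mem (conj_inv_mem_of_normalizer (h hc) h1) h2
      inv_mem' := by
        rintro x ⟨a, ha, h1⟩
        refine ⟨a⁻¹, inv_mem ha, ?_⟩
        have e : a⁻¹⁻¹ * x⁻¹ = a * (a⁻¹ * x)⁻¹ * a⁻¹ := by group
        rw [e]
        exact conj_mem_of_normalizer (h ha) (inv_mem h1) }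
  have h1 : A ⊔ B ≤ T := sup_le
    (fun a ha => ⟨a, ha, by rw [inv_mul_cancel]; exact one_mem _⟩)
    (fun c hc => ⟨1, one_mem _, by rw [inv_one, one_mul]; exact hc⟩)
  exact h1 hx

/-- `T₁` Sylow, `K` normalised by `T₁`, the elements of odd order of `K` in `K₀ ⊴ K`: `K = (T₁ ∩ K) K₀` -/
theorem exists_sylow_mul [Finite G] {T₁ K K₀ : Subgroup G} (hT : IsPGroup 2 T₁)
    (hmax : ∀ P : Subgroup G, IsPGroup 2 P → T₁ ≤ P → P ≤ T₁) (hTK : T₁ ≤ normalizer (K : Set G))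
    (hK₀ : K₀ ≤ K) (hn : K ≤ normalizer (K₀ : Set G)) (hodd : ∀ c ∈ K, Odd (orderOf c) → c ∈ K₀) {k : G}
    (hk : k ∈ K) : ∃ t ∈ T₁, t ∈ K ∧ t⁻¹ * k ∈ K₀ := by
  have hfact : Fact (Nat.Prime 2) := ⟨Nat.prime_two⟩
  let S : Sylow 2 G := ⟨T₁, hT, fun {Q} hQ hle => le_antisymm (hmax Q hQ hle) hle⟩
  have hS : ¬ 2 ∣ T₁.index := S.not_dvd_index
  have h1 : T₁.relIndex K ∣ T₁.index := by
    rw [relIndex_sup_norm hTK]
    exact relIndex_dvd_index_of_le le_sup_right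
  have h2 : ¬ 2 ∣ T₁.relIndex K := fun h => hS (h.trans h1)
  have hnorm : (K₀.subgroupOf K).Normal := (normal_subgroupOf_iff_le_normalizer hK₀).2 hn
  have hq : IsPGroup 2 (K ⧸ K₀.subgroupOf K) := by
    intro y
    obtain ⟨⟨c, hc⟩, rfl⟩ := QuotientGroup.mk_surjective y
    obtain ⟨n, m, hm, hnm⟩ := Nat.exists_eq_two_pow_mul_odd (orderOf_pos c).ne'
    refine ⟨n, ?_⟩
    rw [← QuotientGroup.mk_pow, QuotientGroup.eq_one_iff, mem_subgroupOf]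
    change c ^ 2 ^ n ∈ K₀
    refine hodd _ (pow_mem hc _) ?_
    have h3 : orderOf (c ^ 2 ^ n) = m := by
      rw [orderOf_pow' _ (by positivity), hnm, Nat.gcd_mul_right_left, Nat.mul_div_cancel_left _ (by positivity)]
    rw [h3]
    exact hm
  obtain ⟨n, hn'⟩ := IsPGroup.iff_card.mp hq
  have h3 : K₀.relIndex K = 2 ^ n := hn'
  set M : Subgroup G := (T₁ ⊓ K) ⊔ K₀ with hM
  have h4 : M.relIndex K ∣ 2 ^ n := by
    rw [← h3]
    exact relIndex_dvd_of_le_left K le_sup_right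
  have h5 : M.relIndex K ∣ T₁.relIndex K := by
    rw [← inf_relIndex_right T₁ K]
    exact relIndex_dvd_of_le_left K le_sup_left
  have h6 : (2 ^ n).Coprime (T₁.relIndex K) :=
    Nat.Coprime.pow_left n ((Nat.Prime.coprime_iff_not_dvd Nat.prime_two).mpr h2)
  have h7 : K ≤ M := by
    rw [← relIndex_eq_one]
    exact Nat.eq_one_of_dvd_coprimes h6 h4 h5
  obtain ⟨t, ht, h8⟩ := mem_sup_norm (inf_le_right.trans hn : T₁ ⊓ K ≤ normalizer (K₀ : Set G)) (h7 hk)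
  exact ⟨t, ht.1, ht.2, h8⟩

/-! ### Movers -/

/-- `b` moves `e` to `e'` -/
structure Mv (P C A U : Subgroup G) (e e' b : G) : Prop where
  bN : b ∈ normalizer (P : Set G)
  bR : b ∈ normalizer (A : Set G)
  c1 : ∀ y ∈ P, e' * (b * y * b⁻¹) * e'⁻¹ * (b * y * b⁻¹)⁻¹ = e * y * e⁻¹ * y⁻¹
  c2 : ∀ y ∈ P, b * (e * y * e⁻¹ * y⁻¹) * b⁻¹ = e' * y * e'⁻¹ * y⁻¹
  bC : ∀ y ∈ C, b * y * b⁻¹ * y⁻¹ ∈ A
  bU : ∀ y ∈ P, b * y * b⁻¹ * y⁻¹ ∈ U

theorem Mv.conj {P C A U : Subgroup G} {e e' b w : G} (m : Mv P C A U (w⁻¹ * e * w) (w⁻¹ * e' * w) b)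
    (hP : w ∈ normalizer (P : Set G)) (hC : w ∈ normalizer (C : Set G)) (hA : w ∈ normalizer (A : Set G)) :
    Mv P C A (cj w U) e e' (w * b * w⁻¹) where
  bN := mul_mem (mul_mem hP m.bN) (inv_mem hP)
  bR := mul_mem (mul_mem hA m.bR) (inv_mem hA)
  c1 := by
    intro y hy
    have h1 := m.c1 _ (conj_inv_mem_of_normalizer hP hy)
    have h2 := congrArg (fun z => w * z * w⁻¹) h1
    calc e' * (w * b * w⁻¹ * y * (w * b * w⁻¹)⁻¹) * e'⁻¹ * (w * b * w⁻¹ * y * (w * b * w⁻¹)⁻¹)⁻¹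
        = w * (w⁻¹ * e' * w * (b * (w⁻¹ * y * w) * b⁻¹) * (w⁻¹ * e' * w)⁻¹ * (b * (w⁻¹ * y * w) * b⁻¹)⁻¹) * w⁻¹ := by
          group
      _ = w * (w⁻¹ * e * w * (w⁻¹ * y * w) * (w⁻¹ * e * w)⁻¹ * (w⁻¹ * y * w)⁻¹) * w⁻¹ := h2
      _ = e * y * e⁻¹ * y⁻¹ := by group
  c2 := by
    intro y hy
    have h1 := m.c2 _ (conj_inv_mem_of_normalizer hP hy)
    have h2 := congrArg (fun z => w * z * w⁻¹) h1
    calc w * b * w⁻¹ * (e * y * e⁻¹ * y⁻¹) * (w * b * w⁻¹)⁻¹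
        = w * (b * (w⁻¹ * e * w * (w⁻¹ * y * w) * (w⁻¹ * e * w)⁻¹ * (w⁻¹ * y * w)⁻¹) * b⁻¹) * w⁻¹ := by
          group
      _ = w * (w⁻¹ * e' * w * (w⁻¹ * y * w) * (w⁻¹ * e' * w)⁻¹ * (w⁻¹ * y * w)⁻¹) * w⁻¹ := h2
      _ = e' * y * e'⁻¹ * y⁻¹ := by group
  bC := by
    intro y hy
    have h1 := conj_mem_of_normalizer hA (m.bC _ (conj_inv_mem_of_normalizer hC hy))
    have e : w * (b * (w⁻¹ * y * w) * b⁻¹ * (w⁻¹ * y * w)⁻¹) * w⁻¹ = w * b * w⁻¹ * y * (w * b * w⁻¹)⁻¹ * y⁻¹ := by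
      group
    rwa [e] at h1
  bU := by
    intro y hy
    have h1 : w * (b * (w⁻¹ * y * w) * b⁻¹ * (w⁻¹ * y * w)⁻¹) * w⁻¹ ∈ cj w U :=
      conj_mem_cj (m.bU _ (conj_inv_mem_of_normalizer hP hy))
    have e : w * (b * (w⁻¹ * y * w) * b⁻¹ * (w⁻¹ * y * w)⁻¹) * w⁻¹ = w * b * w⁻¹ * y * (w * b * w⁻¹)⁻¹ * y⁻¹ := by
      group
    rwa [e] at h1

/-- `⟨V, V^w⟩` -/
def PP (V : Subgroup G) (w : G) : Subgroup G := V ⊔ cj w V

/-- `⟨V, V^w⟩ ∩ C(K i)` -/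
def CP (V B : Subgroup G) (w : G) : Subgroup G := PP V w ⊓ centralizer (B : Set G)

/-- the stability group -/
def AA (V A B : Subgroup G) (w : G) : Subgroup G :=
  cenMod (CP V B w) (PP V w) ⊓ cenMod A (CP V B w) ⊓ centralizer (A : Set G)

theorem V_le_P (V : Subgroup G) (w : G) : V ≤ PP V w := le_sup_left
theorem V'_le_P (V : Subgroup G) (w : G) : cj w V ≤ PP V w := le_sup_right
theorem CP_le (V B : Subgroup G) (w : G) : CP V B w ≤ PP V w := inf_le_left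

namespace Hyp

variable {V L : Subgroup G} {R K : ι → Subgroup G} {i : ι} {T₁ T : Subgroup G} {w x : G}
  (h : Hyp V L R K i T₁ T w x)
include h

theorem mem_P {y : G} : y ∈ PP V w ↔ ∃ v ∈ V, ∃ v' ∈ cj w V, v * v' = y := by
  constructor
  · intro hy
    have h1 : V ≤ normalizer (cj w V : Set G) := fun v hv =>
      centralizer_le_normalizer _ (mem_centralizer_iff.2 fun v' hv' => (h.VV' v hv v' hv').symm)
    obtain ⟨a, ha, hc⟩ := mem_sup_norm h1 hy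
    exact ⟨a, ha, _, hc, by group⟩
  · rintro ⟨v, hv, v', hv', rfl⟩
    exact mul_mem (V_le_P V w hv) (V'_le_P V w hv')

theorem P_le_O : PP V w ≤ O2 (centralizer ({x} : Set G)) := sup_le h.VO h.V'O

theorem P_c : ∀ a ∈ PP V w, ∀ u ∈ O2 (centralizer ({x} : Set G)), a * u = u * a := by
  intro a ha u hu
  obtain ⟨v, hv, v', hv', rfl⟩ := h.mem_P.1 ha
  calc v * v' * u = v * (v' * u) := by group
    _ = (v * u) * v' := by rw [h.V'c v' hv' u hu]; group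
    _ = u * (v * v') := by rw [h.Vc v hv u hu]; group

theorem P_comm : ∀ a ∈ PP V w, ∀ c ∈ PP V w, a * c = c * a := fun a ha c hc => h.P_c a ha c (h.P_le_O hc)

theorem P_two : IsPGroup 2 (PP V w) := (O2_isPGroup _).to_le h.P_le_O

theorem R_le_P : R i ≤ PP V w := (h.bt.R_le i).trans (V_le_P V w)

theorem R_le_C : R i ≤ CP V (K i) w := le_inf h.R_le_P (h.bt.R_cen_K i)

theorem wP : w ∈ normalizer (PP V w : Set G) := by
  rw [← cj_eq_self_iff, PP, cj_sup, h.cj_V', sup_comm]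

theorem T_P : T ≤ normalizer (PP V w : Set G) := by
  intro t ht
  rw [← cj_eq_self_iff, PP, cj_sup, cj_eq_self_iff.2 (h.TV ht), cj_eq_self_iff.2 (h.TV' ht)]

theorem T₁_P : T₁ ≤ normalizer (PP V w : Set G) := by
  intro t ht
  by_cases hT : t ∈ T
  · exact h.T_P hT
  · have h1 : w⁻¹ * t ∈ T := h.idx _ (inv_mem h.wT₁) (fun h1 => h.w_not (by
      have := inv_mem h1
      rwa [inv_inv] at this)) _ ht hT
    have e : t = w * (w⁻¹ * t) := by group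
    rw [e]
    exact mul_mem h.wP (h.T_P h1)

theorem mem_T {t : G} (ht : t ∈ T₁) (hV : t ∈ normalizer (V : Set G)) : t ∈ T := by
  by_contra hT
  have h1 : t⁻¹ * w ∈ T := h.idx _ (inv_mem ht) (fun h1 => hT (by
    have := inv_mem h1
    rwa [inv_inv] at this)) _ h.wT₁ h.w_not
  apply h.wV
  rw [cj_eq_self_iff]
  have e : w = t * (t⁻¹ * w) := by group
  rw [e]
  exact mul_mem hV (h.TV h1)

theorem bP [Finite G] {g : G} (hg : g ∈ XK K) : g ∈ normalizer (PP V w : Set G) := by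
  refine mem_normalizer_of_conj fun y hy => ?_
  obtain ⟨v, hv, v', hv', rfl⟩ := h.mem_P.1 hy
  have e : g * (v * v') * g⁻¹ = (g * v * g⁻¹) * ((g * v' * g⁻¹ * v'⁻¹) * v') := by group
  rw [e]
  exact mul_mem (V_le_P V w (conj_mem_of_normalizer (h.bt.X_le_NV hg) hv))
    (mul_mem (V_le_P V w (h.XV' hg hv')) (V'_le_P V w hv'))

theorem dec [Finite G] {y : G} (hy : y ∈ PP V w) :
    ∃ v ∈ V, ∃ f ∈ PP V w, f ∈ centralizer (XK K : Set G) ∧ y = v * f := by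
  obtain ⟨v, hv, v', hv', rfl⟩ := h.mem_P.1 hy
  obtain ⟨a, ha, hf⟩ := h.split hv'
  exact ⟨v * a, mul_mem hv ha, a⁻¹ * v', mul_mem (inv_mem (V_le_P V w ha)) (V'_le_P V w hv'), hf, by group⟩

theorem R_of_cen {v : G} (hv : v ∈ V) (hc : v ∈ centralizer (K i : Set G)) : v ∈ R i := by
  have b := h.bt
  by_contra hR
  obtain ⟨j, hj, -⟩ := b.third i i
  obtain ⟨v₀, hv₀, hU⟩ := b.exists_mover hj
  apply hU
  rw [mem_centralizer_iff]
  intro a ha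
  exact (b.reg (b.K_Q i hv₀) hv hR (mem_centralizer_iff.1 hc v₀ hv₀) a ha).symm

theorem dec_C [Finite G] {y : G} (hy : y ∈ CP V (K i) w) :
    ∃ r ∈ R i, ∃ f ∈ PP V w, f ∈ centralizer (XK K : Set G) ∧ y = r * f := by
  obtain ⟨v, hv, f, hf, hfX, rfl⟩ := h.dec (CP_le _ _ _ hy)
  refine ⟨v, h.R_of_cen hv ?_, f, hf, hfX, rfl⟩
  have e : v = v * f * f⁻¹ := by group
  rw [e]
  exact mul_mem (mem_inf.1 hy).2 (inv_mem (cen_XK_le K i hfX))

theorem norm_C {g : G} (hg : g ∈ normalizer (PP V w : Set G)) (hgR : g ∈ normalizer (R i : Set G)) :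
    g ∈ normalizer (CP V (K i) w : Set G) := by
  rw [← cj_eq_self_iff, CP, cj_inf, cj_eq_self_iff.2 hg, ← centralizer_cj,
    cj_eq_self_iff.2 (h.bt.N_K i hgR)]

/-- an element of `PP` commuting with `e ∈ W i`, `e ∉ C(V)`, is in `CP` -/
theorem mem_C [Finite G] {e y : G} (he : e ∈ K i) (hn : e ∉ centralizer (V : Set G)) (hy : y ∈ PP V w)
    (hc : e * y = y * e) : y ∈ CP V (K i) w := by
  have b := h.bt
  obtain ⟨v, hv, f, hf, hfX, rfl⟩ := h.dec hy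
  have hfW : f ∈ centralizer (K i : Set G) := cen_XK_le K i hfX
  refine mem_inf.2 ⟨hy, mul_mem (b.R_cen_K i ?_) hfW⟩
  by_contra hR
  apply hn
  have h1 : e * v = v * e := by
    have h2 := mem_centralizer_iff.1 hfW e he
    calc e * v = e * (v * f) * f⁻¹ := by group
      _ = v * (f * e) * f⁻¹ := by rw [hc]; group
      _ = v * (e * f) * f⁻¹ := by rw [h2]
      _ = v * e := by group
  rw [mem_centralizer_iff]
  exact fun a ha => (b.reg (b.K_Q i he) hv hR h1 a ha).symm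

/-! ### The stability group -/

theorem norm_A {g y : G} (hg : g ∈ normalizer (PP V w : Set G)) (hgR : g ∈ normalizer (R i : Set G))
    (hy : y ∈ AA V (R i) (K i) w) : g * y * g⁻¹ ∈ AA V (R i) (K i) w := by
  have h1 := h.norm_C hg hgR
  exact mem_inf.2 ⟨mem_inf.2 ⟨conj_cenMod h1 hg hy.1.1, conj_cenMod hgR h1 hy.1.2⟩,
    conj_mem_of_normalizer (normalizer_le_normalizer_centralizer _ hgR) hy.2⟩

theorem A_P : AA V (R i) (K i) w ≤ normalizer (PP V w : Set G) := by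
  have _ := h
  exact (inf_le_left.trans inf_le_left).trans (cenMod_normalizes (CP_le _ _ _))

theorem cen_le_A : centralizer (PP V w : Set G) ≤ AA V (R i) (K i) w := by
  intro c hc
  have h1 : centralizer (PP V w : Set G) ≤ centralizer (CP V (K i) w : Set G) := centralizer_le (CP_le _ _ _)
  have h2 : centralizer (PP V w : Set G) ≤ centralizer (R i : Set G) := centralizer_le h.R_le_P
  have key : ∀ y ∈ PP V w, c * y * c⁻¹ * y⁻¹ = 1 := by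
    intro y hy
    rw [← mem_centralizer_iff.1 hc y hy]
    group
  refine mem_inf.2 ⟨mem_inf.2 ⟨⟨centralizer_le_normalizer _ (h1 hc), fun y hy => ?_⟩,
    ⟨centralizer_le_normalizer _ (h2 hc), fun y hy => ?_⟩⟩, h2 hc⟩
  · rw [key y hy]; exact one_mem _
  · rw [key y (CP_le _ _ _ hy)]; exact one_mem _

theorem A_odd {c : G} (hc : c ∈ AA V (R i) (K i) w) (ho : Odd (orderOf c)) : c ∈ centralizer (PP V w : Set G) := by
  have hR : ∀ r ∈ R i, c * r = r * c := fun r hr => (mem_centralizer_iff.1 hc.2 r hr).symm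
  have hC : ∀ y ∈ CP V (K i) w, c * y = y * c := by
    intro y hy
    have h1 := hc.1.2.2 y hy
    exact comm_of_odd ho (h.P_two.to_le h.R_le_P) h1 (hR _ h1)
  rw [mem_centralizer_iff]
  intro y hy
  have h1 := hc.1.1.2 y hy
  exact (comm_of_odd ho (h.P_two.to_le (CP_le _ _ _)) h1 (hC _ h1)).symm

theorem A_fac [Finite G] {δ : G} (hδ : δ ∈ AA V (R i) (K i) w) :
    ∃ t ∈ T₁, t ∈ AA V (R i) (K i) w ∧ t⁻¹ * δ ∈ centralizer (PP V w : Set G) :=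
  exists_sylow_mul h.T₁p h.T₁max
    (fun _ ht => mem_normalizer_of_conj fun _ hy => h.norm_A (h.T₁_P ht) (h.T₁R ht) hy)
    h.cen_le_A (h.A_P.trans (normalizer_le_normalizer_centralizer _)) (fun _ hc ho => h.A_odd hc ho) hδ

/-- `[PP, t] ≤ R i` for `t ∈ T ∩ A` -/
theorem T_A [Finite G] {t y : G} (ht : t ∈ T) (hA : t ∈ AA V (R i) (K i) w) (hy : y ∈ PP V w) :
    t * y * t⁻¹ * y⁻¹ ∈ R i := by
  have hR : ∀ r ∈ R i, t * r = r * t := fun r hr => (mem_centralizer_iff.1 hA.2 r hr).symm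
  obtain ⟨v, hv, v', hv', rfl⟩ := h.mem_P.1 hy
  have h1 := h.TR ht hR v hv
  have h2 := h.TR' ht hR v' hv'
  have h3 := h.bt.V_comm v hv _ (h.bt.R_le i h2)
  have e : t * (v * v') * t⁻¹ * (v * v')⁻¹ = (t * v * t⁻¹ * v⁻¹) * (t * v' * t⁻¹ * v'⁻¹) := by
    calc t * (v * v') * t⁻¹ * (v * v')⁻¹ = (t * v * t⁻¹ * v⁻¹) * (v * (t * v' * t⁻¹ * v'⁻¹)) * v⁻¹ := by group
      _ = (t * v * t⁻¹ * v⁻¹) * (t * v' * t⁻¹ * v'⁻¹) := by rw [h3]; group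
  rw [e]
  exact mul_mem h1 h2

/-- (F2) -/
theorem A_NV [Finite G] {δ y : G} (hδ : δ ∈ AA V (R i) (K i) w) (hV : δ ∈ normalizer (V : Set G)) (hy : y ∈ PP V w) :
    δ * y * δ⁻¹ * y⁻¹ ∈ R i := by
  obtain ⟨t, ht, htA, hc⟩ := h.A_fac hδ
  set c := t⁻¹ * δ with hc'
  have e : δ = t * c := by rw [hc']; group
  have hcV : c ∈ normalizer (V : Set G) := centralizer_le_normalizer _ (centralizer_le (V_le_P V w) hc)
  have htV : t ∈ normalizer (V : Set G) := by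
    have e' : t = δ * c⁻¹ := by rw [hc']; group
    rw [e']
    exact mul_mem hV (inv_mem hcV)
  have h1 := h.T_A (h.mem_T ht htV) htA hy
  have h2 := mem_centralizer_iff.1 hc y hy
  have e2 : δ * y * δ⁻¹ * y⁻¹ = t * y * t⁻¹ * y⁻¹ := by
    calc δ * y * δ⁻¹ * y⁻¹ = t * (c * y) * c⁻¹ * t⁻¹ * y⁻¹ := by rw [e]; group
      _ = t * y * t⁻¹ * y⁻¹ := by rw [← h2]; group
  rwa [e2]

/-- (F3) -/
theorem A_two [Finite G] {δ₁ δ₂ y : G} (h₁ : δ₁ ∈ AA V (R i) (K i) w) (hV₁ : δ₁ ∉ normalizer (V : Set G))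
    (h₂ : δ₂ ∈ AA V (R i) (K i) w) (hV₂ : δ₂ ∉ normalizer (V : Set G)) (hy : y ∈ PP V w) :
    (δ₁⁻¹ * δ₂) * y * (δ₁⁻¹ * δ₂)⁻¹ * y⁻¹ ∈ R i := by
  have key : ∀ δ ∈ AA V (R i) (K i) w, δ ∉ normalizer (V : Set G) → ∃ t ∈ T₁, t ∉ T ∧ t ∈ AA V (R i) (K i) w ∧
      ∃ c ∈ centralizer (PP V w : Set G), δ = t * c := by
    intro δ hδ hδV
    obtain ⟨t, ht, htA, hc⟩ := h.A_fac hδ
    refine ⟨t, ht, fun hT => hδV ?_, htA, t⁻¹ * δ, hc, by group⟩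
    have e : δ = t * (t⁻¹ * δ) := by group
    rw [e]
    exact mul_mem (h.TV hT) (centralizer_le_normalizer _ (centralizer_le (V_le_P V w) hc))
  obtain ⟨t₁, ht₁, hn₁, hA₁, c₁, hc₁, rfl⟩ := key δ₁ h₁ hV₁
  obtain ⟨t₂, ht₂, hn₂, hA₂, c₂, hc₂, rfl⟩ := key δ₂ h₂ hV₂
  have hT : t₁⁻¹ * t₂ ∈ T := h.idx _ (inv_mem ht₁) (fun h1 => hn₁ (by
    have := inv_mem h1
    rwa [inv_inv] at this)) _ ht₂ hn₂
  have hA : t₁⁻¹ * t₂ ∈ AA V (R i) (K i) w := mul_mem (inv_mem hA₁) hA₂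
  set s := t₁⁻¹ * t₂ with hs
  have h1 := h.T_A hT hA hy
  have hsy : s * y * s⁻¹ ∈ PP V w := conj_mem_of_normalizer (h.A_P hA) hy
  have h2 := mem_centralizer_iff.1 hc₂ y hy
  have h3 := mem_centralizer_iff.1 hc₁ _ hsy
  have e : ((t₁ * c₁)⁻¹ * (t₂ * c₂)) * y * ((t₁ * c₁)⁻¹ * (t₂ * c₂))⁻¹ * y⁻¹ = s * y * s⁻¹ * y⁻¹ := by
    calc ((t₁ * c₁)⁻¹ * (t₂ * c₂)) * y * ((t₁ * c₁)⁻¹ * (t₂ * c₂))⁻¹ * y⁻¹
        = c₁⁻¹ * (s * (c₂ * y) * c₂⁻¹ * s⁻¹ * c₁) * y⁻¹ := by rw [hs]; group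
      _ = c₁⁻¹ * ((s * y * s⁻¹) * c₁) * y⁻¹ := by rw [← h2]; group
      _ = c₁⁻¹ * (c₁ * (s * y * s⁻¹)) * y⁻¹ := by rw [h3]
      _ = s * y * s⁻¹ * y⁻¹ := by group
  rwa [e]

/-! ### The two movers -/

omit h in
theorem comm_mul {g v f : G} (hf : g * f = f * g) : g * (v * f) * g⁻¹ * (v * f)⁻¹ = g * v * g⁻¹ * v⁻¹ := by
  have e : f * g⁻¹ = g⁻¹ * f := by
    calc f * g⁻¹ = g⁻¹ * (g * f) * g⁻¹ := by group
      _ = g⁻¹ * f := by rw [hf]; group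
  calc g * (v * f) * g⁻¹ * (v * f)⁻¹ = g * v * (f * g⁻¹) * f⁻¹ * v⁻¹ := by group
    _ = g * v * g⁻¹ * v⁻¹ := by rw [e]; group

omit h in
theorem conj_mul_cen {g v f : G} (hf : g * f = f * g) : g * (v * f) * g⁻¹ = g * v * g⁻¹ * f := by
  calc g * (v * f) * g⁻¹ = g * v * g⁻¹ * (g * f) * g⁻¹ := by group
    _ = g * v * g⁻¹ * f := by rw [hf]; group

theorem mover [Finite G] {e e' b : G} (he : e ∈ K i) (he' : e' ∈ K i) (hb : b ∈ XK K)
    (hR : b ∈ normalizer (R i : Set G))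
    (c1 : ∀ v ∈ V, e' * (b * v * b⁻¹) * e'⁻¹ * (b * v * b⁻¹)⁻¹ = e * v * e⁻¹ * v⁻¹)
    (c2 : ∀ v ∈ V, b * (e * v * e⁻¹ * v⁻¹) * b⁻¹ = e' * v * e'⁻¹ * v⁻¹) :
    Mv (PP V w) (CP V (K i) w) (R i) V e e' b where
  bN := h.bP hb
  bR := hR
  c1 := by
    intro y hy
    obtain ⟨v, hv, f, -, hf, rfl⟩ := h.dec hy
    have h1 := mem_centralizer_iff.1 hf b hb
    have h2 := mem_centralizer_iff.1 hf e (K_le_X K i he)
    have h3 := mem_centralizer_iff.1 hf e' (K_le_X K i he')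
    rw [conj_mul_cen h1, comm_mul h3, comm_mul h2]
    exact c1 v hv
  c2 := by
    intro y hy
    obtain ⟨v, hv, f, -, hf, rfl⟩ := h.dec hy
    have h2 := mem_centralizer_iff.1 hf e (K_le_X K i he)
    have h3 := mem_centralizer_iff.1 hf e' (K_le_X K i he')
    rw [comm_mul h3, comm_mul h2]
    exact c2 v hv
  bC := by
    intro y hy
    obtain ⟨r, hr, f, -, hf, rfl⟩ := h.dec_C hy
    rw [comm_mul (mem_centralizer_iff.1 hf b hb)]
    exact mul_mem (conj_mem_of_normalizer hR hr) (inv_mem hr)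
  bU := by
    intro y hy
    obtain ⟨v, hv, f, -, hf, rfl⟩ := h.dec hy
    rw [comm_mul (mem_centralizer_iff.1 hf b hb)]
    exact mul_mem (conj_mem_of_normalizer (h.bt.X_le_NV hb) hv) (inv_mem hv)

/-- `b⁻¹ b'` is in the stability group -/
theorem delta_mem [Finite G] {U U' : Subgroup G} {e e' b b' : G} (he : e ∈ K i)
    (hn : e ∉ centralizer (V : Set G)) (m : Mv (PP V w) (CP V (K i) w) (R i) U e e' b)
    (m' : Mv (PP V w) (CP V (K i) w) (R i) U' e e' b') : b⁻¹ * b' ∈ AA V (R i) (K i) w := by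
  have bt := h.bt
  have heT : e ∈ T := h.QT (bt.K_Q i he)
  have hN : b⁻¹ * b' ∈ normalizer (PP V w : Set G) := mul_mem (inv_mem m.bN) m'.bN
  have hR : b⁻¹ * b' ∈ normalizer (R i : Set G) := mul_mem (inv_mem m.bR) m'.bR
  have hC := h.norm_C hN hR
  refine mem_inf.2 ⟨mem_inf.2 ⟨⟨hC, fun y hy => ?_⟩, ⟨hR, fun y hy => ?_⟩⟩, ?_⟩
  · set z := b' * y * b'⁻¹ with hz
    have hzP : z ∈ PP V w := conj_mem_of_normalizer m'.bN hy
    set y' := b⁻¹ * z * b with hy'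
    have hy'P : y' ∈ PP V w := conj_inv_mem_of_normalizer m.bN hzP
    have e1 := m.c1 y' hy'P
    have e2 := m'.c1 y hy
    have e3 : b * y' * b⁻¹ = z := by rw [hy']; group
    rw [e3] at e1
    rw [← hz, e1] at e2
    -- `e2 : [e, y'] = [e, y]`
    have e4 : b⁻¹ * b' * y * (b⁻¹ * b')⁻¹ * y⁻¹ = y' * y⁻¹ := by rw [hy', hz]; group
    rw [e4]
    have hyy : y' * y⁻¹ ∈ PP V w := mul_mem hy'P (inv_mem hy)
    refine h.mem_C he hn hyy ?_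
    set s := e * y * e⁻¹ * y⁻¹ with hs
    have hsP : s ∈ PP V w := mul_mem (conj_mem_of_normalizer (h.T_P heT) hy) (inv_mem hy)
    have h1 := h.P_comm s hsP _ hyy
    calc e * (y' * y⁻¹) = (e * y' * e⁻¹ * y'⁻¹) * (y' * y⁻¹) * s⁻¹ * e := by rw [hs]; group
      _ = (s * (y' * y⁻¹)) * s⁻¹ * e := by rw [e2]
      _ = y' * y⁻¹ * e := by rw [h1]; group
  · have h1 := m'.bC y hy
    have hy1 : b⁻¹ * y * b ∈ CP V (K i) w := conj_inv_mem_of_normalizer (h.norm_C m.bN m.bR) hy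
    have h2 := m.bC _ hy1
    have h3 := conj_inv_mem_of_normalizer m.bR h1
    have e4 : b⁻¹ * b' * y * (b⁻¹ * b')⁻¹ * y⁻¹ =
        (b⁻¹ * (b' * y * b'⁻¹ * y⁻¹) * b) * (b * (b⁻¹ * y * b) * b⁻¹ * (b⁻¹ * y * b)⁻¹)⁻¹ := by group
    rw [e4]
    exact mul_mem h3 (inv_mem h2)
  · rw [mem_centralizer_iff]
    intro r hr
    obtain ⟨j, hj, -⟩ := bt.third i i
    have hn' : ¬ ∀ a ∈ V, e * a = a * e := fun hc => hn (by
      rw [mem_centralizer_iff]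
      exact fun a ha => (hc a ha).symm)
    obtain ⟨v, hv, rfl⟩ := bt.full (bt.K_Q i he) hn' hj r hr
    have hvP := V_le_P V w (bt.R_le j hv)
    have h1 := m.c2 v hvP
    have h2 := m'.c2 v hvP
    set r := e * v * e⁻¹ * v⁻¹ with hr'
    have h3 : b * r * b⁻¹ = b' * r * b'⁻¹ := h1.trans h2.symm
    calc r * (b⁻¹ * b') = b⁻¹ * (b * r * b⁻¹) * b' := by group
      _ = b⁻¹ * b' * r := by rw [h3]; group

omit h in
/-- a fixed point free element of `N(V)` on `V / R i` -/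
theorem surj_of_fpf [Finite G] (b : KT V L R K) {g : G} (hg : g ∈ normalizer (V : Set G))
    (hf : ∀ v ∈ V, g * v * g⁻¹ * v⁻¹ ∈ R i → v ∈ R i) :
    ∀ v ∈ V, ∃ u ∈ V, ∃ r ∈ R i, v = r * (g * u * g⁻¹ * u⁻¹) := by
  obtain ⟨j, hj, -⟩ := b.third i i
  have hV : ∀ u ∈ V, g * u * g⁻¹ * u⁻¹ ∈ V := fun u hu => mul_mem (conj_mem_of_normalizer hg hu) (inv_mem hu)
  have hch : ∀ u : R j, ∃ c : R j, g * u * g⁻¹ * (u : G)⁻¹ * (c : G)⁻¹ ∈ R i := by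
    intro u
    obtain ⟨a, ha, c, hc, e⟩ := b.exists_mul (Ne.symm hj) (hV u (b.R_le j u.2))
    refine ⟨⟨c, hc⟩, ?_⟩
    rw [e, mul_inv_cancel_right]
    exact ha
  choose φ hφ using hch
  have hinj : Function.Injective φ := by
    intro u v huv
    have h1 := hφ u
    have h2 := hφ v
    rw [huv] at h1
    have h3 := mul_mem h1 (inv_mem h2)
    have hu := b.R_le j u.2
    have hv := b.R_le j v.2
    have h4 : g * ((u : G) * (v : G)⁻¹) * g⁻¹ * ((u : G) * (v : G)⁻¹)⁻¹ ∈ R i := by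
      have h5 := b.V_comm _ (mul_mem (inv_mem hu) (hv)) _ (inv_mem (conj_mem_of_normalizer hg hv))
      have e : g * ((u : G) * (v : G)⁻¹) * g⁻¹ * ((u : G) * (v : G)⁻¹)⁻¹ =
          g * u * g⁻¹ * (u : G)⁻¹ * (φ v : G)⁻¹ * (g * v * g⁻¹ * (v : G)⁻¹ * (φ v : G)⁻¹)⁻¹ := by
        have h6 := b.V_comm _ (inv_mem (b.R_le j (φ v).2)) _ (b.R_le j (φ v).2)
        have h7 := b.V_comm _ (inv_mem hu) _ hv
        calc g * ((u : G) * (v : G)⁻¹) * g⁻¹ * ((u : G) * (v : G)⁻¹)⁻¹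
            = (g * u * g⁻¹) * ((g * v * g⁻¹)⁻¹ * (v * (u : G)⁻¹)) := by group
          _ = (g * u * g⁻¹) * ((g * v * g⁻¹)⁻¹ * ((u : G)⁻¹ * v)) := by rw [h7]
          _ = (g * u * g⁻¹) * (((u : G)⁻¹ * v) * (g * v * g⁻¹)⁻¹) := by rw [h5]
          _ = _ := by group
      rw [e]
      exact h3
    have h5 := hf _ (mul_mem hu (inv_mem hv)) h4
    have h6 := b.eq_one hj (mul_mem u.2 (inv_mem v.2)) h5
    rw [mul_inv_eq_one] at h6
    exact Subtype.ext h6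
  have hsurj := Finite.surjective_of_injective hinj
  intro v hv
  obtain ⟨a, ha, c, hc, rfl⟩ := b.exists_mul (Ne.symm hj) hv
  obtain ⟨u, hu⟩ := hsurj ⟨c, hc⟩
  have h1 := hφ u
  rw [hu] at h1
  have hu' := b.R_le j u.2
  refine ⟨u, hu', a * (g * u * g⁻¹ * (u : G)⁻¹ * c⁻¹)⁻¹, mul_mem ha (inv_mem h1), ?_⟩
  group

/-- `V = V'` follows -/
theorem false_of [Finite G] {e e' b b' : G} (he : e ∈ K i) (he' : e' ∈ K i)
    (hn : e ∉ centralizer (V : Set G)) (hee : e⁻¹ * e' ∉ centralizer (V : Set G)) (hb : b ∈ XK K)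
    (m : Mv (PP V w) (CP V (K i) w) (R i) V e e' b)
    (m' : Mv (PP V w) (CP V (K i) w) (R i) (cj w V) e e' b') : False := by
  have bt := h.bt
  have hbV := bt.X_le_NV hb
  -- `b` is fixed point free on `V / R i`
  have hfpf : ∀ v ∈ V, b * v * b⁻¹ * v⁻¹ ∈ R i → v ∈ R i := by
    intro v hv hr
    by_contra hvR
    set r := b * v * b⁻¹ * v⁻¹ with hr'
    have h1 := m.c1 v (V_le_P V w hv)
    have e1 : b * v * b⁻¹ = r * v := by rw [hr']; group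
    have h2 := bt.conj_R (bt.K_Q i he') hr
    have h3 : e' * v * e'⁻¹ * v⁻¹ ∈ V := bt.R_le i (bt.QV i _ (bt.K_Q i he') v hv)
    have h4 := bt.V_comm _ (bt.R_le i hr) _ h3
    have h5 : e' * v * e'⁻¹ * v⁻¹ = e * v * e⁻¹ * v⁻¹ := by
      rw [← h1, e1]
      calc e' * v * e'⁻¹ * v⁻¹ = (r * (e' * v * e'⁻¹ * v⁻¹)) * r⁻¹ := by rw [h4]; group
        _ = ((e' * r * e'⁻¹) * (e' * v * e'⁻¹ * v⁻¹)) * r⁻¹ := by rw [h2]
        _ = e' * (r * v) * e'⁻¹ * (r * v)⁻¹ := by group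
    have h6 : e⁻¹ * e' * v = v * (e⁻¹ * e') := by
      have h7 : e' * v * e'⁻¹ = e * v * e⁻¹ := mul_right_cancel h5
      calc e⁻¹ * e' * v = e⁻¹ * (e' * v * e'⁻¹) * e' := by group
        _ = v * (e⁻¹ * e') := by rw [h7]; group
    apply hee
    rw [mem_centralizer_iff]
    exact fun a ha => (bt.reg (bt.K_Q i (mul_mem (inv_mem he) he')) hv hvR h6 a ha).symm
  have hsurj := surj_of_fpf bt hbV hfpf
  set δ := b⁻¹ * b' with hδ
  have hA : δ ∈ AA V (R i) (K i) w := h.delta_mem he hn m m'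
  have hδR : ∀ r ∈ R i, δ * r * δ⁻¹ = r := by
    intro r hr
    rw [← mem_centralizer_iff.1 hA.2 r hr, mul_inv_cancel_right]
  have hδN : δ ∈ normalizer (V : Set G) := by
    by_contra hδV
    apply hδV
    refine mem_normalizer_of_conj fun v hv => ?_
    have hδ₂ : b * δ * b⁻¹ ∉ normalizer (V : Set G) := by
      intro h1
      apply hδV
      have h2 := mul_mem (mul_mem (inv_mem hbV) h1) hbV
      have e : b⁻¹ * (b * δ * b⁻¹) * b = δ := by group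
      rwa [e] at h2
    obtain ⟨u, hu, r, hr, rfl⟩ := hsurj v hv
    have huP := V_le_P V w hu
    have h1 := h.A_two hA hδV (h.norm_A m.bN m.bR hA) hδ₂ (conj_mem_of_normalizer m.bN huP)
    set ρ := δ⁻¹ * (b * δ * b⁻¹) * (b * u * b⁻¹) * (δ⁻¹ * (b * δ * b⁻¹))⁻¹ * (b * u * b⁻¹)⁻¹ with hρ
    -- `c = [δ, u] ∈ CP`
    set c := δ * u * δ⁻¹ * u⁻¹ with hc
    have hcC : c ∈ CP V (K i) w := hA.1.1.2 u huP
    have h2 := m.bC c hcC
    set σ := b * c * b⁻¹ * c⁻¹ with hσ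
    have h3 : δ * (b * u * b⁻¹) * δ⁻¹ = ρ⁻¹ * (σ * (c * (b * u * b⁻¹))) := by
      have h4 := hδR ρ h1
      calc δ * (b * u * b⁻¹) * δ⁻¹ = (δ * ρ * δ⁻¹)⁻¹ * (δ * (ρ * (b * u * b⁻¹)) * δ⁻¹) := by group
        _ = ρ⁻¹ * (δ * (ρ * (b * u * b⁻¹)) * δ⁻¹) := by rw [h4]
        _ = ρ⁻¹ * (σ * (c * (b * u * b⁻¹))) := by rw [hρ, hσ, hc]; group
    have hbuP : b * u * b⁻¹ ∈ PP V w := conj_mem_of_normalizer m.bN huP
    have h5 := h.P_comm c (CP_le _ _ _ hcC) _ (mul_mem hbuP (inv_mem huP))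
    have h6 : δ * (b * u * b⁻¹ * u⁻¹) * δ⁻¹ = ρ⁻¹ * σ * (b * u * b⁻¹ * u⁻¹) := by
      have h7 := h.P_comm u⁻¹ (inv_mem huP) c⁻¹ (inv_mem (CP_le _ _ _ hcC))
      calc δ * (b * u * b⁻¹ * u⁻¹) * δ⁻¹ = (δ * (b * u * b⁻¹) * δ⁻¹) * (u⁻¹ * c⁻¹) := by rw [hc]; group
        _ = (ρ⁻¹ * (σ * (c * (b * u * b⁻¹)))) * (u⁻¹ * c⁻¹) := by rw [h3]
        _ = ρ⁻¹ * σ * (c * (b * u * b⁻¹ * u⁻¹)) * c⁻¹ := by group
        _ = ρ⁻¹ * σ * (b * u * b⁻¹ * u⁻¹) := by rw [h5]; group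
    have h8 : δ * (r * (b * u * b⁻¹ * u⁻¹)) * δ⁻¹ = r * (ρ⁻¹ * σ * (b * u * b⁻¹ * u⁻¹)) := by
      calc δ * (r * (b * u * b⁻¹ * u⁻¹)) * δ⁻¹ = (δ * r * δ⁻¹) * (δ * (b * u * b⁻¹ * u⁻¹) * δ⁻¹) := by group
        _ = r * (ρ⁻¹ * σ * (b * u * b⁻¹ * u⁻¹)) := by rw [hδR r hr, h6]
    rw [h8]
    exact mul_mem (bt.R_le i hr) (mul_mem (bt.R_le i (mul_mem (inv_mem h1) h2))
      (mul_mem (conj_mem_of_normalizer hbV hu) (inv_mem hu)))
  -- `V ≤ V'`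
  have hle : V ≤ cj w V := by
    intro v hv
    obtain ⟨u, hu, r, hr, rfl⟩ := hsurj v hv
    have huP := V_le_P V w hu
    have h1 := h.A_NV hA hδN huP
    have h2 := m'.bU u huP
    have h3 := conj_mem_of_normalizer m.bR (inv_mem h1)
    have e : r * (b * u * b⁻¹ * u⁻¹) = r * (b * (δ * u * δ⁻¹ * u⁻¹)⁻¹ * b⁻¹) * (b' * u * b'⁻¹ * u⁻¹) := by
      rw [hδ]; group
    rw [e]
    exact mul_mem (mul_mem (h.R_le_V' hr) (h.R_le_V' h3)) h2
  apply h.wV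
  exact (Subgroup.eq_of_le_of_card_ge hle (by rw [card_cj])).symm

end Hyp

/-- the field input: `b ∈ X ∩ N(R i)` moving `e` to `e'` -/
def FQ (V : Subgroup G) (R K : ι → Subgroup G) (i : ι) : Prop :=
  ∀ e ∈ K i, e ∉ centralizer (V : Set G) → ∀ e' ∈ K i, e' ∉ centralizer (V : Set G) →
    ∃ b ∈ XK K, b ∈ normalizer (R i : Set G) ∧
      (∀ v ∈ V, e' * (b * v * b⁻¹) * e'⁻¹ * (b * v * b⁻¹)⁻¹ = e * v * e⁻¹ * v⁻¹) ∧
      ∀ v ∈ V, b * (e * v * e⁻¹ * v⁻¹) * b⁻¹ = e' * v * e'⁻¹ * v⁻¹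

/-- **(2a) is impossible for `q ≥ 4`** -/
theorem Hyp.false_four [Finite G] {V L : Subgroup G} {R K : ι → Subgroup G} {i : ι} {T₁ T : Subgroup G} {w x : G}
    (h : Hyp V L R K i T₁ T w x) (hFQ : FQ V R K i)
    (h4 : ∃ e ∈ K i, e ∉ centralizer (V : Set G) ∧ ∃ e' ∈ K i, e' ∉ centralizer (V : Set G) ∧
      e⁻¹ * e' ∉ centralizer (V : Set G)) : False := by
  obtain ⟨e, he, hn, e', he', hn', hee⟩ := h4
  obtain ⟨b, hb, hbR, c1, c2⟩ := hFQ e he hn e' he' hn'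
  have m := h.mover he he' hb hbR c1 c2
  have hwR := h.T₁R h.wT₁
  have key : ∀ a ∈ K i, a ∉ centralizer (V : Set G) →
      w⁻¹ * a * w ∈ K i ∧ w⁻¹ * a * w ∉ centralizer (V : Set G) := by
    intro a ha han
    refine ⟨conj_inv_mem_of_normalizer (h.bt.N_K i hwR) ha, fun hc => han ?_⟩
    apply h.cen_T' (h.QT (h.bt.K_Q i ha))
    rw [centralizer_cj, mem_cj]
    exact hc
  obtain ⟨k1, k2⟩ := key e he hn
  obtain ⟨k3, k4⟩ := key e' he' hn'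
  obtain ⟨b₀, hb₀, hbR₀, d1, d2⟩ := hFQ _ k1 k2 _ k3 k4
  have m' := (h.mover k1 k3 hb₀ hbR₀ d1 d2).conj h.wP (h.norm_C h.wP hwR) hwR
  exact h.false_of he he' hn hee hb m m'

end Cfsg.Agent.Omega.IId.Cv.TwoFour
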