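import Cfsg.Agent.Omega.BTwo.LemL
import Cfsg.Agent.Omega.BTwo.Key
import Cfsg.Agent.Omega.BTwo.EntryC

/-!
# `V` with its lines `R i` and root groups `K i ≤ Q i` (helper796)

`KT V L R K` : `BTwo.BT` with `WW V (R i)` replaced by a family `K i` (also: mixed partners, `K i = KX (R i)`) and
`N_G(V)` by a subgroup `L` (which permutes the lines; no hypothesis on `N_G(V)`).
-/

set_option autoImplicit false

namespace Cfsg.Agent.Omega.IId.Cv.TwoFour

open Subgroup Cfsg.Agent.Omega.BTwo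

variable {G : Type*} [Group G] {ι : Type*}

structure KT (V L : Subgroup G) (R K : ι → Subgroup G) : Prop where
  V_comm : ∀ a ∈ V, ∀ b ∈ V, a * b = b * a
  V_sq : ∀ a ∈ V, a * a = 1
  R_le : ∀ i, R i ≤ V
  R_inf : ∀ i j, i ≠ j → R i ⊓ R j = ⊥
  R_sup : ∀ i j, i ≠ j → R i ⊔ R j = V
  R_cov : ∀ v ∈ V, ∃ i, v ∈ R i
  R_ne : ∀ i, R i ≠ ⊥
  third : ∀ i j : ι, ∃ k, k ≠ i ∧ k ≠ j
  L_V : L ≤ normalizer (V : Set G)
  perm : ∀ g ∈ L, ∀ i, ∃ j, cj g (R i) = R j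
  V_Q : ∀ i, V ≤ QQ (R i)
  Q_L : ∀ i, QQ (R i) ≤ L
  QV : ∀ i, ∀ g ∈ QQ (R i), ∀ v ∈ V, g * v * g⁻¹ * v⁻¹ ∈ R i
  QR : ∀ i, ∀ g ∈ QQ (R i), ∀ a ∈ R i, g * a = a * g
  K_Q : ∀ i, K i ≤ QQ (R i)
  KQ : ∀ i, ∀ g ∈ QQ (R i), ∀ t ∈ K i, g * t * g⁻¹ * t⁻¹ ∈ R i
  cj_K : ∀ (g : G) (i j : ι), cj g (R i) = R j → cj g (K i) = K j
  tr : ∀ i j k : ι, j ≠ i → k ≠ i → ∃ t ∈ K i, cj t (R j) = R k
  cenU : ∀ i, ∀ x ∈ QQ (R i), (∀ u ∈ K i, u ∈ centralizer (V : Set G) → x * u = u * x) →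
    ∃ v ∈ V, v⁻¹ * x ∈ centralizer (K i : Set G)

/-- `X = ⟨K i⟩` -/
def XK (K : ι → Subgroup G) : Subgroup G := ⨆ i, K i

theorem K_le_X (K : ι → Subgroup G) (i : ι) : K i ≤ XK K := le_iSup K i

/-- `U i = C_{K i}(V)` -/
def UK (V : Subgroup G) (K : ι → Subgroup G) (i : ι) : Subgroup G := K i ⊓ centralizer (V : Set G)

theorem UK_le_K (V : Subgroup G) (K : ι → Subgroup G) (i : ι) : UK V K i ≤ K i := inf_le_left

theorem UK_le_cen (V : Subgroup G) (K : ι → Subgroup G) (i : ι) : UK V K i ≤ centralizer (V : Set G) := inf_le_right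

theorem cen_XK_le (K : ι → Subgroup G) (i : ι) :
    centralizer (XK K : Set G) ≤ centralizer (K i : Set G) := centralizer_le (K_le_X K i)

/-- `BT` gives `KT` -/
theorem KT.ofBT {V : Subgroup G} {R : ι → Subgroup G} (b : BT V R) :
    KT V (normalizer (V : Set G)) R (fun i => WW V (R i)) where
  V_comm := b.V_comm
  V_sq := b.V_sq
  R_le := b.R_le
  R_inf := b.R_inf
  R_sup := b.R_sup
  R_cov := b.R_cov
  R_ne := b.R_ne
  third := b.third
  L_V := le_rfl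
  perm := b.perm
  V_Q := b.V_Q
  Q_L := b.Q_le_NV
  QV := b.QV
  QR := b.QR
  K_Q := b.W_le_Q
  KQ := fun i _ hg _ ht => b.WQ i hg ht
  cj_K := fun _ _ _ h => b.cj_WW h
  tr := fun i _ _ hj hk => b.trans i hj hk
  cenU := fun _ _ hx hu => b.cen_U hx fun u hu' => hu u hu'.1 hu'.2

namespace KT

variable {V L : Subgroup G} {R K : ι → Subgroup G} (b : KT V L R K)
include b

theorem R_index {i j : ι} (h : R i = R j) : i = j := by
  by_contra hne
  have := b.R_inf i j hne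
  rw [h, inf_idem] at this
  exact b.R_ne j this

theorem eq_one {i j : ι} (hij : i ≠ j) {a : G} (h1 : a ∈ R i) (h2 : a ∈ R j) : a = 1 := by
  have : a ∈ R i ⊓ R j := ⟨h1, h2⟩
  rw [b.R_inf i j hij] at this
  exact mem_bot.1 this

theorem exists_ne (i : ι) : ∃ a ∈ R i, a ≠ 1 := by
  by_contra hc
  push Not at hc
  exact b.R_ne i ((eq_bot_iff_forall _).2 hc)

theorem Q_le (i : ι) : QQ (R i) ≤ normalizer (R i : Set G) := by
  have _ := b
  exact O2_le _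

theorem K_le_N (i : ι) : K i ≤ normalizer (R i : Set G) := (b.K_Q i).trans (b.Q_le i)

theorem N_K (i : ι) : normalizer (R i : Set G) ≤ normalizer (K i : Set G) := fun g hg =>
  cj_eq_self_iff.1 (b.cj_K g i i (cj_eq_self_iff.2 hg))

theorem conj_R {i : ι} {g : G} (hg : g ∈ QQ (R i)) {a : G} (ha : a ∈ R i) : g * a * g⁻¹ = a := by
  rw [b.QR i g hg a ha, mul_inv_cancel_right]

theorem Q_le_NV (i : ι) : QQ (R i) ≤ normalizer (V : Set G) := (b.Q_L i).trans b.L_V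

theorem K_le_L (i : ι) : K i ≤ L := (b.K_Q i).trans (b.Q_L i)

theorem X_le_L : XK K ≤ L := iSup_le fun i => b.K_le_L i

theorem K_le_NV (i : ι) : K i ≤ normalizer (V : Set G) := (b.K_Q i).trans (b.Q_le_NV i)

theorem X_le_NV : XK K ≤ normalizer (V : Set G) := iSup_le fun i => b.K_le_NV i

theorem cj_QQ {g : G} {i j : ι} (h : cj g (R i) = R j) : cj g (QQ (R i)) = QQ (R j) := by
  have _ := b
  rw [cj_O2, ← normalizer_cj, h]

theorem X_eq {i j : ι} (hij : i ≠ j) : XK K = K i ⊔ K j := by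
  apply le_antisymm
  · refine iSup_le fun k => ?_
    by_cases hk : k = i
    · subst hk; exact le_sup_left
    obtain ⟨t, ht, e⟩ := b.tr i j k (Ne.symm hij) hk
    rw [← b.cj_K t j k e, cj_le_iff]
    intro x hx
    have h1 : t ∈ K i ⊔ K j := (le_sup_left : K i ≤ _) ht
    exact mul_mem (mul_mem h1 ((le_sup_right : K j ≤ _) hx)) (inv_mem h1)
  · exact sup_le (K_le_X K i) (K_le_X K j)

theorem trans_X_one (i k : ι) : ∃ x ∈ XK K, cj x (R i) = R k := by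
  obtain ⟨m, hm1, hm2⟩ := b.third i k
  obtain ⟨t, ht, e⟩ := b.tr m i k (Ne.symm hm1) (Ne.symm hm2)
  exact ⟨t, K_le_X K m ht, e⟩

theorem trans_X {i j k l : ι} (hij : i ≠ j) (hkl : k ≠ l) :
    ∃ x ∈ XK K, cj x (R i) = R k ∧ cj x (R j) = R l := by
  obtain ⟨x, hx, e1⟩ := b.trans_X_one i k
  obtain ⟨j', e2⟩ := b.perm x (b.X_le_L hx) j
  have hj' : j' ≠ k := by
    rintro rfl
    exact hij (b.R_index (cj_injective (e1.trans e2.symm)))
  obtain ⟨t, ht, e3⟩ := b.tr k j' l hj' (Ne.symm hkl)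
  refine ⟨t * x, mul_mem (K_le_X K k ht) hx, ?_, ?_⟩
  · rw [cj_mul, e1, cj_eq_self_iff.2 (b.K_le_N k ht)]
  · rw [cj_mul, e2, e3]

theorem exists_pair : ∃ i j : ι, i ≠ j := by
  obtain ⟨i, -⟩ := b.R_cov 1 (one_mem V)
  obtain ⟨j, hj, -⟩ := b.third i i
  exact ⟨j, i, hj⟩

theorem eq_one_of_forall {a : G} (h : ∀ i, a ∈ R i) : a = 1 := by
  obtain ⟨i, j, hij⟩ := b.exists_pair
  exact b.eq_one hij (h i) (h j)

theorem cen_le_N (i : ι) : centralizer (V : Set G) ≤ normalizer (R i : Set G) := by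
  refine le_normalizer_of fun k hk v hv => ?_
  rw [← mem_centralizer_iff.1 hk v (b.R_le i hv), mul_inv_cancel_right]
  exact hv

theorem cen_le_NU (i : ι) : centralizer (V : Set G) ≤ normalizer (UK V K i : Set G) := by
  intro g hg
  rw [← cj_eq_self_iff, UK, cj_inf, cj_eq_self_iff.2 (b.N_K i (b.cen_le_N i hg)), cj_of_mem hg]

theorem exists_mul {i j : ι} (hij : i ≠ j) {v : G} (hv : v ∈ V) : ∃ a ∈ R i, ∃ c ∈ R j, v = a * c := by
  let T : Subgroup G :=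
    { carrier := {v | ∃ a ∈ R i, ∃ c ∈ R j, v = a * c}
      one_mem' := ⟨1, one_mem _, 1, one_mem _, by rw [one_mul]⟩
      mul_mem' := by
        rintro _ _ ⟨a, ha, c, hc, rfl⟩ ⟨a', ha', c', hc', rfl⟩
        refine ⟨a * a', mul_mem ha ha', c * c', mul_mem hc hc', ?_⟩
        have := b.V_comm c (b.R_le j hc) a' (b.R_le i ha')
        calc a * c * (a' * c') = a * (c * a') * c' := by group
          _ = a * a' * (c * c') := by rw [this]; group
      inv_mem' := by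
        rintro _ ⟨a, ha, c, hc, rfl⟩
        refine ⟨a⁻¹, inv_mem ha, c⁻¹, inv_mem hc, ?_⟩
        rw [mul_inv_rev]
        exact b.V_comm _ (inv_mem (b.R_le j hc)) _ (inv_mem (b.R_le i ha)) }
  have hT : R i ⊔ R j ≤ T := sup_le (fun a ha => ⟨a, ha, 1, one_mem _, by rw [mul_one]⟩)
    fun c hc => ⟨1, one_mem _, c, hc, by rw [one_mul]⟩
  rw [b.R_sup i j hij] at hT
  exact hT hv

theorem L_le_NX : L ≤ normalizer (XK K : Set G) := by
  refine le_normalizer_of fun g hg y hy => ?_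
  have h : cj g (XK K) ≤ XK K := by
    rw [XK, cj_iSup]
    refine iSup_le fun i => ?_
    obtain ⟨j, hj⟩ := b.perm g hg i
    rw [b.cj_K g i j hj]
    exact K_le_X K j
  exact h (conj_mem_cj hy)

theorem cen_VX {v : G} (hv : v ∈ V) (h : v ∈ centralizer (XK K : Set G)) : v = 1 := by
  obtain ⟨i, hi⟩ := b.R_cov v hv
  refine b.eq_one_of_forall fun j => ?_
  obtain ⟨x, hx, e⟩ := b.trans_X_one i j
  rw [← e]
  have := conj_mem_cj (g := x) hi
  rwa [mem_centralizer_iff.1 h x hx, mul_inv_cancel_right] at this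

theorem mem_cen_X {i j : ι} (hij : i ≠ j) {x : G} (hi : x ∈ centralizer (K i : Set G))
    (hj : x ∈ centralizer (K j : Set G)) : x ∈ centralizer (XK K : Set G) := by
  rw [b.X_eq hij]
  exact mem_cen_sup hi hj

theorem R_cen_K (i : ι) : R i ≤ centralizer (K i : Set G) := fun a ha => by
  rw [mem_centralizer_iff]
  exact fun w hw => b.QR i w (b.K_Q i hw) a ha

theorem QQ_aux {i j : ι} (hij : i ≠ j) : XK K ≤ cenMod V (QQ (R i) ⊓ QQ (R j)) := by
  have key : ∀ k, ∀ w ∈ K k, ∀ d ∈ QQ (R k), w * d * w⁻¹ * d⁻¹ ∈ V := by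
    intro k w hw d hd
    have e : w * d * w⁻¹ * d⁻¹ = (d * w * d⁻¹ * w⁻¹)⁻¹ := by group
    rw [e]
    exact b.R_le k (inv_mem (b.KQ k d hd w hw))
  rw [b.X_eq hij]
  exact sup_le (fun w hw => ⟨b.K_le_NV i hw, fun d hd => key i w hw d hd.1⟩)
    fun w hw => ⟨b.K_le_NV j hw, fun d hd => key j w hw d hd.2⟩

theorem C_eq {i j : ι} (hij : i ≠ j) : CC R = QQ (R i) ⊓ QQ (R j) := by
  have key : ∀ k l, k ≠ l → QQ (R i) ⊓ QQ (R j) = QQ (R k) ⊓ QQ (R l) := by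
    intro k l hkl
    obtain ⟨x, hx, e1, e2⟩ := b.trans_X hij hkl
    have h1 := cj_eq_self_iff.2 (cenMod_normalizes (le_inf (b.V_Q i) (b.V_Q j)) (b.QQ_aux hij hx))
    rw [cj_inf, b.cj_QQ e1, b.cj_QQ e2] at h1
    exact h1.symm
  apply le_antisymm
  · exact le_inf (iInf_le _ i) (iInf_le _ j)
  · refine le_iInf fun k => ?_
    obtain ⟨l, hl, -⟩ := b.third k k
    rw [key k l (Ne.symm hl)]
    exact inf_le_left

theorem CX {x c : G} (hx : x ∈ XK K) (hc : c ∈ CC R) : x * c * x⁻¹ * c⁻¹ ∈ V := by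
  obtain ⟨i, j, hij⟩ := b.exists_pair
  rw [b.C_eq hij] at hc
  exact (b.QQ_aux hij hx).2 c hc

theorem K_isPGroup (i : ι) : IsPGroup 2 (K i) := (O2_isPGroup _).to_le (b.K_Q i)

theorem not_mem {i j : ι} (hij : i ≠ j) {a : G} (h1 : a ∈ R i) (h2 : a ≠ 1) : a ∉ R j :=
  fun h => h2 (b.eq_one hij h1 h)

/-- an element of `Q i` fixing a vector outside `R i` centralises `V` -/
theorem reg {i : ι} {g : G} (hg : g ∈ QQ (R i)) {v : G} (hv : v ∈ V) (hvi : v ∉ R i)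
    (hc : g * v = v * g) : ∀ a ∈ V, g * a = a * g := by
  obtain ⟨j, hj⟩ := b.R_cov v hv
  have hij : i ≠ j := by rintro rfl; exact hvi hj
  have hv1 : v ≠ 1 := by rintro rfl; exact hvi (one_mem _)
  obtain ⟨k, hk⟩ := b.perm g (b.Q_L i hg) j
  have hvk : v ∈ R k := by
    rw [← hk, mem_cj]
    have : g⁻¹ * v * g = v := by rw [mul_assoc, ← hc]; group
    rw [this]; exact hj
  have hjk : j = k := by
    by_contra hne
    exact hv1 (b.eq_one hne hj hvk)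
  subst hjk
  have h1 : ∀ a ∈ R j, g * a = a * g := by
    intro a ha
    have h2 : g * a * g⁻¹ ∈ R j := by
      have := conj_mem_cj (g := g) ha
      rwa [hk] at this
    have h3 : g * a * g⁻¹ * a⁻¹ ∈ R j := mul_mem h2 (inv_mem ha)
    have h4 := b.eq_one hij (b.QV i g hg a (b.R_le j ha)) h3
    rw [mul_inv_eq_one, mul_inv_eq_iff_eq_mul] at h4
    exact h4
  intro a ha
  obtain ⟨x, hx, y, hy, rfl⟩ := b.exists_mul hij ha
  calc g * (x * y) = (g * x) * y := by group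
    _ = x * (g * y) := by rw [b.QR i g hg x hx]; group
    _ = x * y * g := by rw [h1 y hy]; group

theorem card_R (i j : ι) : Nat.card (R i) = Nat.card (R j) := by
  obtain ⟨x, -, h⟩ := b.trans_X_one i j
  rw [← h, card_cj]

theorem comm_V_mul {i : ι} {g v w : G} (hg : g ∈ QQ (R i)) (hv : v ∈ V) (hw : w ∈ V) :
    g * (v * w) * g⁻¹ * (v * w)⁻¹ = (g * v * g⁻¹ * v⁻¹) * (g * w * g⁻¹ * w⁻¹) := by
  have h := b.V_comm v hv _ (b.R_le i (b.QV i g hg w hw))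
  calc g * (v * w) * g⁻¹ * (v * w)⁻¹
      = (g * v * g⁻¹ * v⁻¹) * (v * (g * w * g⁻¹ * w⁻¹)) * v⁻¹ := by group
    _ = (g * v * g⁻¹ * v⁻¹) * (g * w * g⁻¹ * w⁻¹ * v) * v⁻¹ := by rw [h]
    _ = _ := by group

/-- an element of `Q i` not centralising `V` maps `R j` onto `R i` by `v ↦ [g, v]` -/
theorem full [Finite G] {i : ι} {g : G} (hg : g ∈ QQ (R i)) (hn : ¬ ∀ a ∈ V, g * a = a * g)
    {j : ι} (hj : j ≠ i) : ∀ r ∈ R i, ∃ v ∈ R j, g * v * g⁻¹ * v⁻¹ = r := by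
  let f : R j → R i := fun v => ⟨g * v * g⁻¹ * (v : G)⁻¹, b.QV i g hg v (b.R_le j v.2)⟩
  have hf : Function.Injective f := by
    rintro ⟨v, hv⟩ ⟨w, hw⟩ h
    have h1 : g * v * g⁻¹ * v⁻¹ = g * w * g⁻¹ * w⁻¹ := congrArg Subtype.val h
    have h2 : g * (v * w⁻¹) * g⁻¹ * (v * w⁻¹)⁻¹ = 1 := by
      rw [b.comm_V_mul hg (b.R_le j hv) (b.R_le j (inv_mem hw)), h1,
        ← b.comm_V_mul hg (b.R_le j hw) (b.R_le j (inv_mem hw))]
      group
    by_contra hne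
    have hne' : v * w⁻¹ ≠ 1 := fun h3 => hne (Subtype.ext (mul_inv_eq_one.1 h3))
    rw [mul_inv_eq_one, mul_inv_eq_iff_eq_mul] at h2
    have hm : v * w⁻¹ ∈ R j := mul_mem hv (inv_mem hw)
    exact hn (b.reg hg (b.R_le j hm) (b.not_mem hj hm hne') h2)
  have hs := (hf.bijective_of_nat_card_le (b.card_R i j).le).2
  intro r hr
  obtain ⟨v, hv⟩ := hs ⟨r, hr⟩
  exact ⟨v, v.2, congrArg Subtype.val hv⟩

/-- an element of `K j` moving `R i` -/
theorem exists_mover {i j : ι} (hij : i ≠ j) : ∃ v ∈ K j, v ∉ centralizer (V : Set G) := by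
  obtain ⟨k, hkj, hki⟩ := b.third j i
  obtain ⟨v0, hv0, e0⟩ := b.tr j i k hij hkj
  refine ⟨v0, hv0, fun h => ?_⟩
  have h2 := b.cen_le_N i h
  rw [← cj_eq_self_iff, e0] at h2
  exact hki (b.R_index h2)

end KT

/-- `cenU` from a partner `A ≤ K i` : `Q i ≤ V C(A)`, `K i = A C_{K i}(V)` -/
theorem cenU_of {V A Ki Qi : Subgroup G} (hPA : ∀ x ∈ Qi, ∃ v ∈ V, ∀ a ∈ A, v⁻¹ * x * a = a * (v⁻¹ * x))
    (hK : ∀ t ∈ Ki, ∃ a ∈ A, a⁻¹ * t ∈ centralizer (V : Set G)) (hA : A ≤ Ki) :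
    ∀ x ∈ Qi, (∀ u ∈ Ki, u ∈ centralizer (V : Set G) → x * u = u * x) →
      ∃ v ∈ V, v⁻¹ * x ∈ centralizer (Ki : Set G) := by
  intro x hx hU
  obtain ⟨v, hv, h1⟩ := hPA x hx
  refine ⟨v, hv, mem_centralizer_iff.2 fun t ht => ?_⟩
  obtain ⟨a, ha, hc⟩ := hK t ht
  set c := a⁻¹ * t with hc'
  have e : t = a * c := by rw [hc']; group
  have hcK : c ∈ Ki := mul_mem (inv_mem (hA ha)) ht
  have h2 := hU c hcK hc
  have h3 := mem_centralizer_iff.1 hc v⁻¹ (inv_mem hv)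
  rw [e]
  calc a * c * (v⁻¹ * x) = a * (c * v⁻¹) * x := by group
    _ = a * v⁻¹ * (c * x) := by rw [← h3]; group
    _ = a * (v⁻¹ * x) * c := by rw [← h2]; group
    _ = v⁻¹ * x * (a * c) := by rw [← h1 a ha]; group

end Cfsg.Agent.Omega.IId.Cv.TwoFour
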