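import Cfsg.Agent.Omega.IId.Cv.TwoFourB
import Cfsg.Agent.Omega.IId.Cv.Entry
import Cfsg.Agent.Omega.Mix.Entry

/-!
# `WrCv`, CASE 2a, `q ≥ 4` : relative natural modules `RMod F V N` (helper796)

* `AtLine M w` : the data at the line `R = M.line w`: `V ≤ Q = O₂(N_G(R)) ≤ UW w`, `KX R` full on `V`, `cen`;
* `AtLine.kt` : `KT V N (pt M) (KX (pt M ·))`;
* `AtLine.fq`, `AtLine.h4` : the field input of `Hyp.false_four`;
* `full_of_mover` : `KX R` is full if it moves `V`;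
* `Partner` : a natural module `V' ≤ KX R` with the line `R` which does not commute with `V`; `Partner.at10`.
-/

set_option autoImplicit false
set_option linter.unusedSectionVars false

namespace Cfsg.Agent.Omega.IId.Cv.TwoFour

open Subgroup Cfsg.Agent.Lib.SL2Mat Cfsg.Agent.Omega.BTwo
open Cfsg.Agent.Omega.NatPair (dt dt_add dt_smul exists_smul_of_dt exists_comb ap ap_smul ap_add ap_zero' ap_one'
  ap_mul ap_inv_ap ap_ap_inv ap_one exists_ap exists_ap_e ap_up_e ext2)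
open Cfsg.Agent.Omega.Mix (RMod Pt pt Char2)
open Cfsg.Agent.Omega.IId.NV (KX mem_KX normalizer_le_normalizer_KX KX_le)

universe u

/-! ### `KX` and conjugation -/

section kx

variable {G : Type u} [Group G]

theorem cj_KX_le (g : G) (R : Subgroup G) : cj g (KX R) ≤ KX (cj g R) := by
  rintro _ ⟨a, ha, rfl⟩
  change g * a * g⁻¹ ∈ KX (cj g R)
  obtain ⟨h1, h2⟩ := mem_KX.1 ha
  rw [mem_KX]
  refine ⟨fun y hy => ?_, fun q hq => ?_⟩
  · have h3 := h1 _ (mem_cj.1 hy)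
    calc g * a * g⁻¹ * y = g * (a * (g⁻¹ * y * g)) * g⁻¹ := by group
      _ = g * (g⁻¹ * y * g * a) * g⁻¹ := by rw [h3]
      _ = y * (g * a * g⁻¹) := by group
  · have hq' : q ∈ cj g (QQ R) := by
      rw [Mix.cj_QQ]
      exact hq
    have h3 := h2 _ (mem_cj.1 hq')
    rw [mem_cj]
    have e : g⁻¹ * (g * a * g⁻¹ * q * (g * a * g⁻¹)⁻¹ * q⁻¹) * g = a * (g⁻¹ * q * g) * a⁻¹ * (g⁻¹ * q * g)⁻¹ := by
      group
    rw [e]
    exact h3

theorem cj_KX (g : G) (R : Subgroup G) : cj g (KX R) = KX (cj g R) := by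
  apply le_antisymm (cj_KX_le g R)
  have h := cj_mono (g := g) (cj_KX_le g⁻¹ (cj g R))
  rwa [cj_cj_inv, cj_inv_cj] at h

theorem char2_cj {H : Subgroup G} (h : Char2 H) (g : G) : Char2 (cj g H) := by
  intro x hx hq
  rw [← cj_O2] at hq ⊢
  rw [mem_cj]
  refine h _ (mem_cj.1 hx) fun q hq' => ?_
  have h1 := hq _ (conj_mem_cj (g := g) hq')
  calc g⁻¹ * x * g * q = g⁻¹ * (x * (g * q * g⁻¹)) * g := by group
    _ = g⁻¹ * (g * q * g⁻¹ * x) * g := by rw [h1]
    _ = q * (g⁻¹ * x * g) := by group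

end kx

/-! ### The data at a line -/

variable {G : Type u} [Group G] {F : Type*} [Field F] {V N : Subgroup G} {M : RMod F V N}

/-- the data at the line `M.line w` -/
structure AtLine (M : RMod F V N) (w : Fin 2 → F) : Prop where
  ch : Char2 (normalizer (M.line w : Set G))
  VQ : V ≤ QQ (M.line w)
  QU : QQ (M.line w) ≤ M.UW w
  full : M.Full (KX (M.line w)) w
  cen : ∀ x ∈ QQ (M.line w), (∀ u ∈ KX (M.line w), u ∈ centralizer (V : Set G) → x * u = u * x) →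
    ∃ v ∈ V, v⁻¹ * x ∈ centralizer (KX (M.line w) : Set G)

theorem conj_UW {w : Fin 2 → F} {l : G} {A : Matrix.SpecialLinearGroup (Fin 2) F} (hl : M.Ind l A) {x : G}
    (hx : x ∈ M.UW w) : l * x * l⁻¹ ∈ M.UW (ap A w) := by
  obtain ⟨B, hB, hB'⟩ := hx
  refine ⟨A * B * A⁻¹, ?_, fun y => ?_⟩
  · rw [ap_mul, ap_mul, ap_inv_ap, hB]
  · have h1 : l⁻¹ * M.e y * l = M.e (ap A⁻¹ y) := by
      have h2 := hl (ap A⁻¹ y)
      rw [ap_ap_inv] at h2
      rw [← h2]; group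
    calc l * x * l⁻¹ * M.e y * (l * x * l⁻¹)⁻¹ = l * (x * (l⁻¹ * M.e y * l) * x⁻¹) * l⁻¹ := by group
      _ = M.e (ap (A * B * A⁻¹) y) := by rw [h1, hB', hl, ap_mul, ap_mul]

theorem AtLine.cj {w : Fin 2 → F} (a : AtLine M w) {l : G} {A : Matrix.SpecialLinearGroup (Fin 2) F}
    (hl : M.Ind l A) : AtLine M (ap A w) := by
  have e : BTwo.cj l (M.line w) = M.line (ap A w) := M.cj_line_of_ind hl w
  have hV : BTwo.cj l V = V := cj_eq_self_iff.2 (M.le (M.mem_normalizer hl))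
  have eQ : BTwo.cj l (QQ (M.line w)) = QQ (M.line (ap A w)) := by rw [Mix.cj_QQ, e]
  have eK : BTwo.cj l (KX (M.line w)) = KX (M.line (ap A w)) := by rw [cj_KX, e]
  constructor
  · rw [← e, normalizer_cj]
    exact char2_cj a.ch l
  · rw [← eQ]
    have h := cj_mono (g := l) a.VQ
    rwa [hV] at h
  · rw [← eQ]
    rintro _ ⟨x, hx, rfl⟩
    exact conj_UW hl (a.QU hx)
  · intro B hB
    have h1 : ap (A⁻¹ * B * A) w = w := by
      rw [ap_mul, ap_mul, hB, ap_inv_ap]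
    obtain ⟨t, ht, htB⟩ := a.full _ h1
    refine ⟨l * t * l⁻¹, ?_, fun y => ?_⟩
    · rw [← eK]
      exact conj_mem_cj ht
    · have h2 : l⁻¹ * M.e y * l = M.e (ap A⁻¹ y) := by
        have h2 := hl (ap A⁻¹ y)
        rw [ap_ap_inv] at h2
        rw [← h2]; group
      calc l * t * l⁻¹ * M.e y * (l * t * l⁻¹)⁻¹ = l * (t * (l⁻¹ * M.e y * l) * t⁻¹) * l⁻¹ := by group
        _ = M.e (ap B y) := by
          rw [h2, htB, hl, ap_mul, ap_mul, ap_ap_inv, ap_ap_inv]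
  · intro x hx hu
    rw [← eQ] at hx
    rw [← eK] at hu ⊢
    obtain ⟨v, hv, h1⟩ := a.cen _ (mem_cj.1 hx) fun u huK huV => by
      have h2 : l * u * l⁻¹ ∈ centralizer (V : Set G) := by
        have h3 := conj_mem_cj (g := l) huV
        rwa [← centralizer_cj, hV] at h3
      have h3 := hu _ (conj_mem_cj huK) h2
      calc l⁻¹ * x * l * u = l⁻¹ * (x * (l * u * l⁻¹)) * l := by group
        _ = l⁻¹ * (l * u * l⁻¹ * x) * l := by rw [h3]
        _ = u * (l⁻¹ * x * l) := by group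
    refine ⟨l * v * l⁻¹, ?_, ?_⟩
    · have h3 := conj_mem_cj (g := l) hv
      rwa [hV] at h3
    · rw [centralizer_cj, mem_cj]
      have e1 : l⁻¹ * ((l * v * l⁻¹)⁻¹ * x) * l = v⁻¹ * (l⁻¹ * x * l) := by group
      rw [e1]
      exact h1

theorem AtLine.all {w₀ : Fin 2 → F} (hw₀ : w₀ ≠ 0) (a : AtLine M w₀) {w : Fin 2 → F} (hw : w ≠ 0) : AtLine M w := by
  obtain ⟨A, hA⟩ := exists_ap hw₀ hw
  obtain ⟨l, hl⟩ := M.lift A
  have := a.cj hl
  rwa [hA] at this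

variable [Finite G] [Finite F] [CharP F 2]

theorem AtLine.KQ {w : Fin 2 → F} (a : AtLine M w) : KX (M.line w) ≤ QQ (M.line w) := by
  refine KX_le ?_ fun y hy => M.sq (M.line_le w hy)
  rintro x ⟨hx1, hx2⟩
  exact a.ch x hx1 fun q hq => (mem_centralizer_iff.1 hx2 q hq).symm

/-- **`KT`** -/
theorem AtLine.kt {w₀ : Fin 2 → F} (hw₀ : w₀ ≠ 0) (a₀ : AtLine M w₀) :
    KT V N (pt M) (fun i => KX (pt M i)) := by
  have all : ∀ i : Pt M, ∃ w, w ≠ 0 ∧ i.1 = M.line w ∧ AtLine M w := by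
    rintro ⟨_, w, hw, rfl⟩
    exact ⟨w, hw, rfl, a₀.all hw₀ hw⟩
  refine
    { V_comm := fun a ha b hb => M.comm ha hb
      V_sq := fun a ha => M.sq ha
      R_le := M.pt_le
      R_inf := ?_
      R_sup := ?_
      R_cov := ?_
      R_ne := M.pt_ne
      third := M.third
      L_V := M.le
      perm := fun g hg i => M.cj_pt hg i
      V_Q := ?_
      Q_L := ?_
      QV := ?_
      QR := ?_
      K_Q := ?_
      KQ := ?_
      cj_K := fun g i j h => by rw [cj_KX, h]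
      tr := ?_
      cenU := ?_ }
  · intro i j hij
    obtain ⟨w, hw, hi, -⟩ := all i
    obtain ⟨u, hu, hj, -⟩ := all j
    show i.1 ⊓ j.1 = ⊥
    have h1 := M.pt_dt hij hw hu hi hj
    rw [hi, hj]
    exact M.line_inf h1
  · intro i j hij
    apply le_antisymm (sup_le (M.pt_le i) (M.pt_le j))
    intro v hv
    obtain ⟨w, hw, hi, -⟩ := all i
    obtain ⟨u, hu, hj, -⟩ := all j
    have h1 := M.pt_dt hij hw hu hi hj
    obtain ⟨y, rfl⟩ := (M.mem_iff v).1 hv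
    obtain ⟨α, β, rfl⟩ := exists_comb h1 y
    rw [M.e_add]
    refine mul_mem_sup ?_ ?_
    · show _ ∈ i.1
      rw [hi]
      exact ⟨α, rfl⟩
    · show _ ∈ j.1
      rw [hj]
      exact ⟨β, rfl⟩
  · intro v hv
    obtain ⟨y, rfl⟩ := (M.mem_iff v).1 hv
    by_cases hy : y = 0
    · refine ⟨⟨M.line w₀, w₀, hw₀, rfl⟩, ?_⟩
      rw [hy, M.e_zero]
      exact one_mem _
    · exact ⟨⟨M.line y, y, hy, rfl⟩, 1, by rw [one_smul]⟩
  · intro i
    obtain ⟨w, hw, hi, a⟩ := all i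
    show V ≤ QQ i.1
    rw [hi]
    exact a.VQ
  · intro i
    obtain ⟨w, hw, hi, a⟩ := all i
    show QQ i.1 ≤ N
    rw [hi]
    exact a.QU.trans (M.UW_le w)
  · intro i
    obtain ⟨w, hw, hi, a⟩ := all i
    show ∀ g ∈ QQ i.1, ∀ v ∈ V, g * v * g⁻¹ * v⁻¹ ∈ i.1
    rw [hi]
    exact fun g hg v hv => M.UW_comm hw (a.QU hg) hv
  · intro i
    obtain ⟨w, hw, hi, a⟩ := all i
    show ∀ g ∈ QQ i.1, ∀ r ∈ i.1, g * r = r * g
    rw [hi]
    exact fun g hg r hr => M.UW_cent (a.QU hg) hr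
  · intro i
    obtain ⟨w, hw, hi, a⟩ := all i
    show KX i.1 ≤ QQ i.1
    rw [hi]
    exact a.KQ
  · intro i g hg t ht
    have h1 := (mem_KX.1 ht).2 g hg
    have e : g * t * g⁻¹ * t⁻¹ = (t * g * t⁻¹ * g⁻¹)⁻¹ := by group
    rw [e]
    exact inv_mem h1
  · intro i j k hj hk
    obtain ⟨w, hw, hi, a⟩ := all i
    obtain ⟨u, hu, hj'⟩ := j.2
    obtain ⟨u', hu', hk'⟩ := k.2
    have h1 := M.pt_dt hj.symm hw hu hi hj'
    have h2 := M.pt_dt hk.symm hw hu' hi hk'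
    obtain ⟨t, ht, htu⟩ := a.full.move h1 h2
    refine ⟨t, ?_, ?_⟩
    · show t ∈ KX i.1
      rw [hi]
      exact ht
    · show BTwo.cj t j.1 = k.1
      rw [hj', hk']
      exact htu
  · intro i
    obtain ⟨w, hw, hi, a⟩ := all i
    show ∀ x ∈ QQ i.1, (∀ u ∈ KX i.1, u ∈ centralizer (V : Set G) → x * u = u * x) →
      ∃ v ∈ V, v⁻¹ * x ∈ centralizer (KX i.1 : Set G)
    rw [hi]
    exact a.cen

/-! ### The field input -/

omit [Finite G] [Finite F] [CharP F 2] in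
theorem eq_up {B : Matrix.SpecialLinearGroup (Fin 2) F} (hB : ap B ![1, 0] = ![1, 0]) : B = up (ent B 0 1) := by
  have h0 := congrFun hB 0
  have h1 := congrFun hB 1
  rw [ap_zero'] at h0
  rw [ap_one'] at h1
  simp only [Matrix.cons_val_zero, Matrix.cons_val_one, mul_one, mul_zero, add_zero] at h0 h1
  have hd := det_eq B
  rw [h0, h1] at hd
  have h11 : ent B 1 1 = 1 := by
    rw [one_mul, mul_zero, sub_zero] at hd
    exact hd
  refine ext_ent ?_ ?_ ?_ ?_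
  · rw [h0, up_00]
  · rw [up_01]
  · rw [h1, up_10]
  · rw [h11, up_11]

omit [Finite G] [Finite F] [CharP F 2] in
theorem exists_up {x : G} (hx : x ∈ M.UW ![1, 0]) : ∃ β : F, M.Ind x (up β) := by
  obtain ⟨B, hB, hB'⟩ := hx
  refine ⟨ent B 0 1, ?_⟩
  rw [← eq_up hB]
  exact hB'

omit [Finite G] [Finite F] [CharP F 2] in
theorem ind_cen {x : G} (hx : M.Ind x (up 0)) : x ∈ centralizer (V : Set G) := by
  rw [mem_centralizer_iff]
  intro v hv
  obtain ⟨y, rfl⟩ := (M.mem_iff v).1 hv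
  have h1 := hx y
  rw [up_zero, ap_one, mul_inv_eq_iff_eq_mul] at h1
  exact h1.symm

omit [Finite G] [Finite F] [CharP F 2] in
theorem zero_of_cen {x : G} {β : F} (hx : M.Ind x (up β)) (hc : x ∈ centralizer (V : Set G)) : β = 0 := by
  have h1 := hx ![0, 1]
  have h2 := mem_centralizer_iff.1 hc _ (M.e_mem ![0, 1])
  rw [← h2, mul_inv_cancel_right] at h1
  have h3 := congrFun (M.e_inj h1) 0
  rw [ap_zero'] at h3
  simpa using h3.symm

omit [Finite G] [Finite F] [CharP F 2] in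
theorem ap_up_sub (β : F) (y : Fin 2 → F) : ap (up β) y - y = ![β * y 1, 0] := by
  apply ext2
  · rw [Pi.sub_apply, ap_zero']; simp
  · rw [Pi.sub_apply, ap_one']; simp

omit [Finite G] [Finite F] [CharP F 2] in
theorem comm_up {x : G} {β : F} (hx : M.Ind x (up β)) (y : Fin 2 → F) :
    x * M.e y * x⁻¹ * (M.e y)⁻¹ = M.e ![β * y 1, 0] := by
  rw [hx, ← M.e_sub, ap_up_sub]

theorem vec10_ne : (![1, 0] : Fin 2 → F) ≠ 0 := by
  intro h
  have := congrFun h 0
  simp at this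

theorem vec01_ne : (![0, 1] : Fin 2 → F) ≠ 0 := by
  intro h
  have := congrFun h 1
  simp at this

/-- the line of `![1, 0]` as a point -/
def i₀ (M : RMod F V N) : Pt M := ⟨M.line ![1, 0], ![1, 0], vec10_ne, rfl⟩

/-- every element of `SL₂(F)` is induced by an element of `⟨KX (R i)⟩` -/
theorem AtLine.ind_X (a : AtLine M ![1, 0]) (A : Matrix.SpecialLinearGroup (Fin 2) F) :
    ∃ x ∈ XK (fun i : Pt M => KX (pt M i)), M.Ind x A := by
  have hup : ∀ β : F, ∃ x ∈ XK (fun i : Pt M => KX (pt M i)), M.Ind x (up β) := by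
    intro β
    obtain ⟨t, ht, htB⟩ := a.full (up β) (ap_up_e β)
    exact ⟨t, K_le_X (fun i : Pt M => KX (pt M i)) (i₀ M) ht, htB⟩
  have hlo : ∀ β : F, ∃ x ∈ XK (fun i : Pt M => KX (pt M i)), M.Ind x (lo β) := by
    intro β
    have a' := a.all vec10_ne (vec01_ne (F := F))
    obtain ⟨t, ht, htB⟩ := a'.full (lo β) (by
      apply ext2
      · rw [ap_zero']; simp
      · rw [ap_one']; simp)
    exact ⟨t, K_le_X (fun i : Pt M => KX (pt M i)) ⟨M.line ![0, 1], ![0, 1], vec01_ne, rfl⟩ ht, htB⟩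
  have hmul : ∀ {A B : Matrix.SpecialLinearGroup (Fin 2) F}, (∃ x ∈ XK (fun i : Pt M => KX (pt M i)), M.Ind x A) →
      (∃ x ∈ XK (fun i : Pt M => KX (pt M i)), M.Ind x B) →
      ∃ x ∈ XK (fun i : Pt M => KX (pt M i)), M.Ind x (A * B) := by
    rintro A B ⟨x, hx, hA⟩ ⟨y, hy, hB⟩
    refine ⟨x * y, mul_mem hx hy, fun z => ?_⟩
    have e : x * y * M.e z * (x * y)⁻¹ = x * (y * M.e z * y⁻¹) * x⁻¹ := by group
    rw [e, hB, hA, ap_mul]
  obtain ⟨p, q, r, s, rfl⟩ := exists_up_lo A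
  exact hmul (hmul (hmul (hup p) (hlo q)) (hup r)) (hlo s)

/-- the field input of `Hyp.false_four` -/
theorem AtLine.fq (a : AtLine M ![1, 0]) : FQ V (pt M) (fun i => KX (pt M i)) (i₀ M) := by
  intro e he hn e' he' hn'
  have he1 : e ∈ KX (M.line ![1, 0]) := he
  have he1' : e' ∈ KX (M.line ![1, 0]) := he'
  obtain ⟨β, hβ⟩ := exists_up (a.QU (a.KQ he1))
  obtain ⟨β', hβ'⟩ := exists_up (a.QU (a.KQ he1'))
  have h0 : β ≠ 0 := by
    rintro rfl
    exact hn (ind_cen hβ)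
  have h0' : β' ≠ 0 := by
    rintro rfl
    exact hn' (ind_cen hβ')
  have hμ : β' / β ≠ 0 := div_ne_zero h0' h0
  obtain ⟨b, hb, hbI⟩ := a.ind_X (dg (β' / β) hμ)
  refine ⟨b, hb, ?_, ?_, ?_⟩
  · show b ∈ normalizer (M.line ![1, 0] : Set G)
    rw [← cj_eq_self_iff]
    have e1 : ap (dg (β' / β) hμ) ![1, 0] = (β' / β) • ![1, 0] := by
      apply ext2
      · rw [ap_zero']; simp
      · rw [ap_one']; simp
    have e2 := M.cj_line_of_ind hbI ![1, 0]
    rw [e1, M.line_smul hμ] at e2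
    exact e2
  · intro v hv
    obtain ⟨y, rfl⟩ := (M.mem_iff v).1 hv
    rw [hbI, comm_up hβ', comm_up hβ]
    congr 2
    rw [ap_one']
    simp only [dg_10, dg_11, zero_mul, zero_add]
    field_simp
  · intro v hv
    obtain ⟨y, rfl⟩ := (M.mem_iff v).1 hv
    rw [comm_up hβ', comm_up hβ, hbI]
    congr 1
    apply ext2
    · rw [ap_zero']
      simp only [dg_00, dg_01, Matrix.cons_val_zero, Matrix.cons_val_one, mul_zero, add_zero]
      field_simp
    · rw [ap_one']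
      simp

theorem AtLine.h4 (a : AtLine M ![1, 0]) (h4 : 4 ≤ Nat.card F) :
    ∃ e ∈ KX (pt M (i₀ M)), e ∉ centralizer (V : Set G) ∧ ∃ e' ∈ KX (pt M (i₀ M)), e' ∉ centralizer (V : Set G) ∧
      e⁻¹ * e' ∉ centralizer (V : Set G) := by
  classical
  obtain ⟨c, hc0, hc1⟩ : ∃ c : F, c ≠ 0 ∧ c ≠ 1 := by
    have := Fintype.ofFinite F
    by_contra hcon
    push Not at hcon
    have h1 : (Finset.univ : Finset F) ⊆ {0, 1} := by
      intro x _
      rw [Finset.mem_insert, Finset.mem_singleton]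
      by_cases hx : x = 0
      · exact Or.inl hx
      · exact Or.inr (hcon x hx)
    have h2 := Finset.card_le_card h1
    rw [Finset.card_univ, ← Nat.card_eq_fintype_card] at h2
    have h3 : ({0, 1} : Finset F).card ≤ 2 := Finset.card_le_two
    omega
  obtain ⟨e, he, heI⟩ := a.full (up 1) (ap_up_e 1)
  obtain ⟨e', he', heI'⟩ := a.full (up c) (ap_up_e c)
  refine ⟨e, he, fun h => one_ne_zero (zero_of_cen heI h), e', he', fun h => hc0 (zero_of_cen heI' h), fun h => ?_⟩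
  have hI : M.Ind (e⁻¹ * e') (up (c - 1)) := by
    intro z
    have h1 : e⁻¹ * M.e (ap (up c) z) * e = M.e (ap (up (-1)) (ap (up c) z)) := by
      have h2 := heI (ap (up (-1)) (ap (up c) z))
      have h3 : ∀ y : Fin 2 → F, ap (up 1) (ap (up (-1)) y) = y := by
        intro y
        rw [← ap_mul, up_mul, add_neg_cancel, up_zero, ap_one]
      rw [h3] at h2
      rw [← h2]; group
    calc e⁻¹ * e' * M.e z * (e⁻¹ * e')⁻¹ = e⁻¹ * (e' * M.e z * e'⁻¹) * e := by group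
      _ = M.e (ap (up (c - 1)) z) := by rw [heI', h1, ← ap_mul, up_mul]; congr 3; ring
  exact hc1 (sub_eq_zero.1 (zero_of_cen hI h))

/-- `KX R` is full on `V` if it moves `V` -/
theorem full_of_mover (hU : KX (M.line ![1, 0]) ≤ M.UW ![1, 0])
    (hm : ∃ t ∈ KX (M.line ![1, 0]), ∃ v ∈ V, t * v ≠ v * t) : M.Full (KX (M.line ![1, 0])) ![1, 0] := by
  obtain ⟨t, ht, v, hv, hne⟩ := hm
  obtain ⟨β, hβ⟩ := exists_up (hU ht)
  have h0 : β ≠ 0 := by
    rintro rfl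
    exact hne (mem_centralizer_iff.1 (ind_cen hβ) v hv).symm
  intro B hB
  obtain ⟨β', rfl⟩ : ∃ β', B = up β' := ⟨_, eq_up hB⟩
  by_cases h0' : β' = 0
  · refine ⟨1, one_mem _, fun z => ?_⟩
    rw [h0', up_zero, ap_one, one_mul, inv_one, mul_one]
  obtain ⟨μ, hμ⟩ : ∃ μ : F, β' / β = μ * μ := FiniteField.isSquare_of_char_two (ringChar.eq F 2) _
  have hμ0 : μ ≠ 0 := by
    rintro rfl
    rw [mul_zero] at hμ
    exact div_ne_zero h0' h0 hμ
  obtain ⟨l, hl⟩ := M.lift (dg μ hμ0)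
  have hlR : l ∈ normalizer (M.line ![1, 0] : Set G) := by
    rw [← cj_eq_self_iff]
    have e1 : ap (dg μ hμ0) ![1, 0] = μ • ![1, 0] := by
      apply ext2
      · rw [ap_zero']; simp
      · rw [ap_one']; simp
    have e2 := M.cj_line_of_ind hl ![1, 0]
    rw [e1, M.line_smul hμ0] at e2
    exact e2
  refine ⟨l * t * l⁻¹, conj_mem_of_normalizer (normalizer_le_normalizer_KX _ hlR) ht, fun z => ?_⟩
  have h2 : l⁻¹ * M.e z * l = M.e (ap (dg μ hμ0)⁻¹ z) := by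
    have h2 := hl (ap (dg μ hμ0)⁻¹ z)
    rw [ap_ap_inv] at h2
    rw [← h2]; group
  have h3 : dg μ hμ0 * up β = up β' * dg μ hμ0 := by
    rw [dg_up]
    congr 2
    rw [pow_two, ← hμ]
    field_simp
  calc l * t * l⁻¹ * M.e z * (l * t * l⁻¹)⁻¹ = l * (t * (l⁻¹ * M.e z * l) * t⁻¹) * l⁻¹ := by group
    _ = M.e (ap (up β') z) := by
      rw [h2, hβ, hl, ← ap_mul, ← ap_mul, h3, mul_assoc, mul_inv_cancel, mul_one]

/-- an element which commutes with `O₂(N_G(R))` and with a lift of every element of `SL₂(F)` centralises `X` -/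
theorem AtLine.cen_X (a : AtLine M ![1, 0]) {x : G} (h0 : ∀ q ∈ QQ (M.line ![1, 0]), q * x = x * q)
    (hA : ∀ A, ∃ l, M.Ind l A ∧ l * x = x * l) : x ∈ centralizer (XK (fun i : Pt M => KX (pt M i)) : Set G) := by
  have key : XK (fun i : Pt M => KX (pt M i)) ≤ centralizer ({x} : Set G) := by
    refine iSup_le fun i => ?_
    obtain ⟨_, w, hw, rfl⟩ := i
    obtain ⟨A, hAw⟩ := exists_ap vec10_ne hw
    obtain ⟨l, hl, hlx⟩ := hA A
    have e : BTwo.cj l (M.line ![1, 0]) = M.line w := by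
      have := M.cj_line_of_ind hl ![1, 0]
      rw [hAw] at this
      exact this
    show KX (M.line w) ≤ centralizer ({x} : Set G)
    rw [← e, ← cj_KX]
    rintro _ ⟨t, ht, rfl⟩
    change l * t * l⁻¹ ∈ centralizer ({x} : Set G)
    rw [mem_centralizer_singleton_iff]
    have h1 := h0 t (a.KQ ht)
    have h2 : l⁻¹ * x = x * l⁻¹ := by
      calc l⁻¹ * x = l⁻¹ * (x * l) * l⁻¹ := by group
        _ = l⁻¹ * (l * x) * l⁻¹ := by rw [hlx]
        _ = x * l⁻¹ := by group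
    calc l * t * l⁻¹ * x = l * t * (l⁻¹ * x) := by group
      _ = l * (t * x) * l⁻¹ := by rw [h2]; group
      _ = (l * x) * t * l⁻¹ := by rw [h1]; group
      _ = x * (l * t * l⁻¹) := by rw [hlx]; group
  rw [mem_centralizer_iff]
  intro y hy
  exact mem_centralizer_singleton_iff.1 (key hy)

/-! ### Partners -/

section partner

variable {F' : Type*} [Field F'] [Finite F'] [CharP F' 2] {V' N' : Subgroup G} {M' : RMod F' V' N'}

/-- `V' ≤ KX R` is a natural module (relative to `N' ≥ O₂(N_G(R))`) with the line `R`, not commuting with `V`. -/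
structure Partner (R : Subgroup G) (M : RMod F V N) (M' : RMod F' V' N') : Prop where
  K' : V' ≤ KX R
  VQ : V ≤ QQ R
  QN : QQ R ≤ N
  QN' : QQ R ≤ N'
  ne : ∃ v ∈ V, ∃ w ∈ V', v * w ≠ w * v
  line : ∃ w, w ≠ 0 ∧ R = M.line w
  line' : ∃ w, w ≠ 0 ∧ R = M'.line w

/-- **the data from a partner** -/
theorem Partner.atLine {R : Subgroup G} (p : Partner R M M') (ch : Char2 (normalizer (R : Set G))) :
    ∃ w, w ≠ 0 ∧ R = M.line w ∧ AtLine M w := by
  obtain ⟨w₀, hw₀, h1⟩ := p.line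
  obtain ⟨w₀', hw₀', h1'⟩ := p.line'
  have hKQ : KX R ≤ QQ R := by
    refine KX_le ?_ fun y hy => ?_
    · rintro x ⟨hx1, hx2⟩
      exact ch x hx1 fun q hq => (mem_centralizer_iff.1 hx2 q hq).symm
    · rw [h1] at hy
      exact M.sq (M.line_le w₀ hy)
  have hV'Q : V' ≤ QQ R := p.K'.trans hKQ
  have hm : Mix.RMutual V V' N N' := ⟨hV'Q.trans p.QN, p.VQ.trans p.QN', p.ne⟩
  have hR : V ⊓ V' = R := by
    obtain ⟨-, w, w', hw, -, hl, -⟩ := Mix.pair M M' hm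
    refine (eq_of_le_of_card_ge (le_inf ?_ ?_) ?_).symm
    · rw [h1]; exact M.line_le w₀
    · rw [h1']; exact M'.line_le w₀'
    · rw [hl, M.card_line hw.ne, h1, M.card_line hw₀]
  have hR' : V' ⊓ V = R := by rw [inf_comm, hR]
  have hQn : ∀ g ∈ normalizer (R : Set G), ∀ x ∈ QQ R, g * x * g⁻¹ ∈ QQ R := fun g hg x hx =>
    conj_mem_of_normalizer (le_normalizer_O2 _ hg) hx
  obtain ⟨w, hw, hl, hU, hf, -, -⟩ := Mix.bridge M M' hm hV'Q p.QN (by rw [hR]; exact O2_le _) (O2_isPGroup _)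
    (by rw [hR]; exact fun g _ hg x hx => hQn g hg x hx)
  obtain ⟨w', hw', hl', hU', hf', -, -⟩ := Mix.bridge M' M hm.symm p.VQ p.QN' (by rw [hR']; exact O2_le _)
    (O2_isPGroup _) (by rw [hR']; exact fun g _ hg x hx => hQn g hg x hx)
  rw [hR] at hl
  rw [hR'] at hl'
  have hfull : M.Full V' w := hf
  refine ⟨w, hw, hl, ?_⟩
  refine ⟨by rw [← hl]; exact ch, by rw [← hl]; exact p.VQ, by rw [← hl]; exact hU,
    by rw [← hl]; exact hfull.mono p.K', ?_⟩
  rw [← hl]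
  refine cenU_of (A := V') ?_ ?_ p.K'
  · intro x hx
    obtain ⟨B, hB, hB'⟩ := hU' hx
    obtain ⟨v, hv, hvB⟩ := hf' B hB
    refine ⟨v, hv, fun a ha => ?_⟩
    obtain ⟨y, rfl⟩ := (M'.mem_iff a).1 ha
    have h2 : v * M'.e y * v⁻¹ = x * M'.e y * x⁻¹ := by rw [hvB, hB']
    calc v⁻¹ * x * M'.e y = v⁻¹ * (x * M'.e y * x⁻¹) * x := by group
      _ = v⁻¹ * (v * M'.e y * v⁻¹) * x := by rw [h2]
      _ = M'.e y * (v⁻¹ * x) := by group
  · intro t ht
    obtain ⟨B, hB, hB'⟩ := hU (hKQ ht)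
    obtain ⟨a, ha, haB⟩ := hf B hB
    refine ⟨a, ha, mem_centralizer_iff.2 fun v hv => ?_⟩
    obtain ⟨y, rfl⟩ := (M.mem_iff v).1 hv
    have h2 : a * M.e y * a⁻¹ = t * M.e y * t⁻¹ := by rw [haB, hB']
    calc M.e y * (a⁻¹ * t) = a⁻¹ * (a * M.e y * a⁻¹) * t := by group
      _ = a⁻¹ * (t * M.e y * t⁻¹) * t := by rw [h2]
      _ = a⁻¹ * t * M.e y := by group

/-- the same at the line `![1, 0]` -/
theorem Partner.at10 (p : Partner (M.line ![1, 0]) M M') (ch : Char2 (normalizer (M.line ![1, 0] : Set G))) :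
    AtLine M ![1, 0] := by
  obtain ⟨w, hw, -, a⟩ := p.atLine ch
  exact a.all hw vec10_ne

end partner

end Cfsg.Agent.Omega.IId.Cv.TwoFour
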