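import Cfsg.Agent.Omega.F4Leaf.Pos

/-!
# `V_n ≤ Z(O₂(C_G(n d)))`, `n = r_ij`, `d ∈ V₀ = C_{V_P}(O²(P))` (helper747)

The proof of `V_n ≤ Z(O₂(C_G(n)))` (`NSix.CosetAct`, `NSix.FixApp`, `F4Leaf.App.Vn_cen`) with `W = O₂(C_G(n d))`,
`N = C_G(n d)`: only `P ∩ N = C_P(n)` is used.

* `HypD V P S W N ε i j` : the hypotheses; `HypD.exists_phi` : the homomorphism `φ : V_n → Z(W) ∩ Z(Q)`;
* `Vn_cen_mul` : the result for one member;
* `Sit.vn_cen_mul` : for `F4Leaf.Pos.Sit`.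
-/

set_option autoImplicit false
set_option linter.dupNamespace false

namespace Cfsg.Agent.Omega.IId.Cv.VnD

open Subgroup Pointwise Cfsg Cfsg.Agent Cfsg.Agent.Omega.S5.Def Cfsg.Agent.Omega.S5.Syl
open Cfsg.Agent.Omega.NSix.Base Cfsg.Agent.Omega.NSix.Basic Cfsg.Agent.Omega.NSix.FixHom Cfsg.Agent.Omega.NSix.StabPerm
open Cfsg.Agent.Omega.NSix.CosetAct (exists_threeCycle Hyp A conj_cent odd_n)
open Cfsg.Agent.Omega.NSix.FixApp (Vn rr_mem_Vn Vn_le mem_St_of Vn_conj phi_inj full_of AA AA_conj AA_conjW)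

universe u

variable {G : Type u} [Group G]

/-- `[W, e] ≤ C_G(V)` -/
def Good (V W : Subgroup G) (e : G) : Prop := ∀ w ∈ W, w⁻¹ * e * w * e⁻¹ ∈ centralizer (V : Set G)

/-- `W` is a 2-subgroup of `N`, normalised by `N`, `P ∩ N = C_P(r_ij)`. -/
structure HypD {m : ℕ} (V P S W N : Subgroup G) (ε : (Fin (2 ^ m + 1) → ZMod 2) → G)
    (i j : Fin (2 ^ m + 1)) : Prop where
  even : EvenSet (2 ^ m + 1) V P ε
  VP : V ≤ P
  two_le : 2 ≤ m
  le : S ≤ P
  isP : IsPGroup 2 S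
  max : ∀ T : Subgroup G, IsPGroup 2 T → Nat.card T ≤ Nat.card S
  fix0 : Fix0 ε S
  ne : i ≠ j
  swap : ∃ a ∈ S, Acts ε a (Equiv.swap i j)
  isPW : IsPGroup 2 W
  leN : W ≤ N
  nN : N ≤ normalizer (W : Set G)
  PN : P ⊓ N = A P ε i j

namespace HypD

variable {m : ℕ} {V P S W N : Subgroup G} {ε : (Fin (2 ^ m + 1) → ZMod 2) → G} {i j : Fin (2 ^ m + 1)}
  (h : HypD V P S W N ε i j)
include h

theorem base : Hyp V P S ⊥ ε i j where
  even := h.even
  VP := h.VP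
  two_le := h.two_le
  le := h.le
  isP := h.isP
  max := h.max
  fix0 := h.fix0
  ne := h.ne
  swap := h.swap
  isPW := IsPGroup.of_bot
  leW := bot_le
  norm := by
    intro g _
    rw [mem_normalizer_iff]
    intro x
    rw [mem_bot, mem_bot]
    constructor
    · rintro rfl
      group
    · intro hx
      calc x = g⁻¹ * (g * x * g⁻¹) * g := by group
        _ = 1 := by rw [hx]; group

theorem three : 3 ≤ 2 ^ m + 1 := h.base.three

theorem conjW {g w : G} (hg : g ∈ A P ε i j) (hw : w ∈ W) : g * w * g⁻¹ ∈ W :=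
  (mem_normalizer_iff.mp (h.nN (h.PN.symm ▸ hg : g ∈ P ⊓ N).2) w).mp hw

theorem WP_le : W ⊓ P ≤ A P ε i j := fun _ hx => h.PN ▸ (⟨hx.2, h.leN hx.1⟩ : _ ∈ P ⊓ N)

/-- `W ∩ P` fixes the labels `≠ i, j`. -/
theorem fix_of_mem [Finite G] {w : G} (hw : w ∈ W ⊓ P) {k : Fin (2 ^ m + 1)} (hk : k ≠ i ∧ k ≠ j) :
    h.base.phi ⟨w, h.WP_le hw⟩ k = k := by
  classical
  have h2 : Fact (Nat.Prime 2) := ⟨Nat.prime_two⟩
  let f : ↥(W ⊓ P) →* Equiv.Perm {k : Fin (2 ^ m + 1) // k ≠ i ∧ k ≠ j} :=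
    h.base.psi.comp (Subgroup.inclusion h.WP_le)
  let act : MulAction ↥(W ⊓ P) {k : Fin (2 ^ m + 1) // k ≠ i ∧ k ≠ j} := MulAction.compHom _ f
  have hp : IsPGroup 2 ↥(W ⊓ P) := h.isPW.to_le inf_le_left
  have hcard : ¬ 2 ∣ Nat.card {k : Fin (2 ^ m + 1) // k ≠ i ∧ k ≠ j} := by
    rw [Nat.card_eq_fintype_card, h.base.card_Lam]
    have h3 := h.two_le
    have h4 : 2 ∣ 2 ^ m := dvd_pow_self 2 (by omega)
    have h5 : 0 < 2 ^ m := by positivity
    omega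
  obtain ⟨x₀, hx₀⟩ := hp.nonempty_fixed_point_of_prime_not_dvd_card _ hcard
  -- every label is a conjugate of `x₀`
  obtain ⟨g, hg⟩ := h.base.psi_surj (Equiv.swap x₀ ⟨k, hk⟩)
  have hgx : h.base.psi g x₀ = ⟨k, hk⟩ := by rw [hg, Equiv.swap_apply_left]
  have hgP : (g : G) ∈ P := (Hyp.mem_A.mp g.2).1
  have hgC : (g : G) ∈ centralizer ({rr ε i j} : Set G) := g.2.2
  have hw' : (g : G)⁻¹ * w * (g : G) ∈ W ⊓ P := by
    refine ⟨?_, P.mul_mem (P.mul_mem (P.inv_mem hgP) hw.2) hgP⟩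
    have h3 := h.conjW (inv_mem g.2) hw.1
    rwa [inv_inv] at h3
  have h3 : f ⟨_, hw'⟩ x₀ = x₀ := hx₀ ⟨_, hw'⟩
  have h4 : h.base.psi ⟨w, h.WP_le hw⟩ ⟨k, hk⟩ = ⟨k, hk⟩ := by
    have h5 : (⟨w, h.WP_le hw⟩ : A P ε i j) = g * ⟨(g : G)⁻¹ * w * (g : G), h.WP_le hw'⟩ * g⁻¹ := by
      apply Subtype.ext
      change w = (g : G) * ((g : G)⁻¹ * w * (g : G)) * (g : G)⁻¹
      group
    have h6 : h.base.psi ⟨(g : G)⁻¹ * w * (g : G), h.WP_le hw'⟩ x₀ = x₀ := h3
    have h7 : (h.base.psi g)⁻¹ ⟨k, hk⟩ = x₀ := by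
      rw [Equiv.Perm.inv_eq_iff_eq]
      exact hgx.symm
    rw [h5, map_mul, map_mul, map_inv, Equiv.Perm.mul_apply, Equiv.Perm.mul_apply, h7, h6, hgx]
  have h5 := congrArg Subtype.val h4
  exact h5

theorem acts_WP [Finite G] {w : G} (hw : w ∈ W ⊓ P) : Acts ε w 1 ∨ Acts ε w (Equiv.swap i j) := by
  have h1 := h.base.acts_phi ⟨w, h.WP_le hw⟩
  rcases h.base.phi_pair ⟨w, h.WP_le hw⟩ with ⟨h2, h3⟩ | ⟨h2, h3⟩
  · left
    have h4 : h.base.phi ⟨w, h.WP_le hw⟩ = 1 := by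
      ext k
      congr 1
      by_cases hi : k = i
      · rw [hi, h2]; rfl
      · by_cases hj : k = j
        · rw [hj, h3]; rfl
        · exact h.fix_of_mem hw ⟨hi, hj⟩
    rwa [h4] at h1
  · right
    have h4 : h.base.phi ⟨w, h.WP_le hw⟩ = Equiv.swap i j := by
      ext k
      congr 1
      by_cases hi : k = i
      · rw [hi, h2, Equiv.swap_apply_left]
      · by_cases hj : k = j
        · rw [hj, h3, Equiv.swap_apply_right]
        · rw [Equiv.swap_apply_of_ne_of_ne hi hj]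
          exact h.fix_of_mem hw ⟨hi, hj⟩
    rwa [h4] at h1

/-- `C_P(r_ij)` acts on `W / (W ∩ P)`. -/
@[instance_reducible]
noncomputable def act : MulAction (A P ε i j) (W ⧸ P.subgroupOf W) where
  smul g := Quotient.map' (fun w : W => (⟨(g : G) * w * (g : G)⁻¹, h.conjW g.2 w.2⟩ : W)) (by
    intro a b hab
    rw [QuotientGroup.leftRel_apply, mem_subgroupOf] at hab ⊢
    have h1 := P.mul_mem (P.mul_mem g.2.1 hab) (P.inv_mem g.2.1)
    have h2 : (((⟨(g : G) * a * (g : G)⁻¹, h.conjW g.2 a.2⟩ : W)⁻¹ *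
        (⟨(g : G) * b * (g : G)⁻¹, h.conjW g.2 b.2⟩ : W) : W) : G) =
        (g : G) * ((a⁻¹ * b : W) : G) * (g : G)⁻¹ := by
      push_cast
      group
    rw [h2]
    exact h1)
  one_smul := by
    intro x
    refine Quotient.inductionOn' x fun w => ?_
    change (Quotient.mk'' _ : W ⧸ P.subgroupOf W) = _
    congr 1
    apply Subtype.ext
    simp
  mul_smul := by
    intro a b x
    refine Quotient.inductionOn' x fun w => ?_
    change (Quotient.mk'' _ : W ⧸ P.subgroupOf W) = Quotient.mk'' _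
    congr 1
    apply Subtype.ext
    simp [mul_assoc]

theorem exists_good [Finite G] (hidx : P.relIndex W ≤ 2 ^ (m - 1))
    {c : Equiv.Perm {k : Fin (2 ^ m + 1) // k ≠ i ∧ k ≠ j}} (hc : c.IsThreeCycle) :
    ∃ e : A P ε i j, h.base.psi e = c ∧ Good V W (e : G) := by
  classical
  let _ := h.act
  have hX : Nat.card (W ⧸ P.subgroupOf W) ≤ 2 ^ (m - 1) := hidx
  obtain ⟨e, he1, he2⟩ := exists_threeCycle h.base.psi h.base.psi_surj (W ⧸ P.subgroupOf W) h.two_le h.base.card_Lam hX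
    hc.inv
  refine ⟨e * e, ?_, ?_⟩
  · rw [map_mul, he2]
    have h6 : c ^ 3 = 1 := by rw [← hc.orderOf]; exact pow_orderOf_eq_one c
    have h7 : c * (c * c) = 1 := by
      rw [← h6, pow_succ, pow_two]; simp only [mul_assoc]
    have h8 : c⁻¹ = c * c := (eq_inv_of_mul_eq_one_right h7).symm
    calc c⁻¹ * c⁻¹ = c * (c * (c * c)) := by rw [h8]; simp only [mul_assoc]
      _ = c := by rw [h7, mul_one]
  · intro w hw
    have ha : w⁻¹ * (e : G) * w * (e : G)⁻¹ ∈ W ⊓ P := by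
      constructor
      · have h1 := W.mul_mem (W.inv_mem hw) (h.conjW e.2 hw)
        have h2 : w⁻¹ * ((e : G) * w * (e : G)⁻¹) = w⁻¹ * (e : G) * w * (e : G)⁻¹ := by group
        rwa [h2] at h1
      · have h1 := he1 (Quotient.mk'' ⟨w, hw⟩)
        have h2 : (Quotient.mk'' (⟨(e : G) * w * (e : G)⁻¹, h.conjW e.2 hw⟩ : W) : W ⧸ P.subgroupOf W) =
            Quotient.mk'' ⟨w, hw⟩ := h1
        have h3 := Quotient.exact' h2.symm
        rw [QuotientGroup.leftRel_apply, mem_subgroupOf] at h3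
        have h4 : (((⟨w, hw⟩ : W)⁻¹ * (⟨(e : G) * w * (e : G)⁻¹, h.conjW e.2 hw⟩ : W) : W) : G) =
            w⁻¹ * (e : G) * w * (e : G)⁻¹ := by
          push_cast
          group
        rwa [h4] at h3
    set a := w⁻¹ * (e : G) * w * (e : G)⁻¹ with ha'
    have hk : w⁻¹ * ((e * e : A P ε i j) : G) * w * ((e * e : A P ε i j) : G)⁻¹ =
        a * ((e : G) * a * (e : G)⁻¹) := by
      rw [ha']
      push_cast
      group
    rw [hk, ← h.even.acts_one_iff]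
    have hσ := h.base.acts_phi e
    rcases h.acts_WP ha with h1 | h1
    · have h2 := h1.mul (hσ.conj h1)
      simpa using h2
    · have h2 := h1.mul (hσ.conj h1)
      have h3 : Equiv.swap i j * (h.base.phi e * Equiv.swap i j * (h.base.phi e)⁻¹) = 1 := by
        have h4 : h.base.phi e * Equiv.swap i j * (h.base.phi e)⁻¹ = Equiv.swap i j := by
          rw [← Equiv.swap_apply_apply]
          rcases h.base.phi_pair e with ⟨h5, h6⟩ | ⟨h5, h6⟩
          · rw [h5, h6]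
          · rw [h5, h6, Equiv.swap_comm]
        rw [h4, Equiv.swap_mul_self]
      rwa [h3] at h2

/-- A 3-cycle `k → l → a → k` of labels `≠ i, j`. -/
theorem exists_cycle [Finite G] (hidx : P.relIndex W ≤ 2 ^ (m - 1)) {k l a : Fin (2 ^ m + 1)}
    (hk : k ≠ i ∧ k ≠ j) (hl : l ≠ i ∧ l ≠ j) (ha : a ≠ i ∧ a ≠ j) (hkl : k ≠ l) (hka : k ≠ a)
    (hla : l ≠ a) : ∃ e ∈ A P ε i j, Good V W e ∧ e * zz ε k * e⁻¹ = zz ε l ∧ e * zz ε l * e⁻¹ = zz ε a ∧
      e * zz ε a * e⁻¹ = zz ε k := by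
  classical
  have hc := Equiv.Perm.isThreeCycle_swap_mul_swap_same (a := (⟨l, hl⟩ : {k // k ≠ i ∧ k ≠ j}))
    (b := ⟨k, hk⟩) (c := ⟨a, ha⟩) (fun h0 => hkl (congrArg Subtype.val h0).symm)
    (fun h0 => hla (congrArg Subtype.val h0)) (fun h0 => hka (congrArg Subtype.val h0))
  obtain ⟨e, he, hg⟩ := h.exists_good hidx hc
  have key : ∀ x y : {k : Fin (2 ^ m + 1) // k ≠ i ∧ k ≠ j}, h.base.psi e x = y →
      (e : G) * zz ε x * (e : G)⁻¹ = zz ε y := by
    intro x y hxy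
    rw [zz_conj (h.base.acts_phi e), ← h.base.psi_apply, hxy]
  refine ⟨e, e.2, hg, key ⟨k, hk⟩ ⟨l, hl⟩ ?_, key ⟨l, hl⟩ ⟨a, ha⟩ ?_, key ⟨a, ha⟩ ⟨k, hk⟩ ?_⟩
  · have h1 : Equiv.swap (⟨l, hl⟩ : {k // k ≠ i ∧ k ≠ j}) ⟨a, ha⟩ ⟨k, hk⟩ = ⟨k, hk⟩ :=
      Equiv.swap_apply_of_ne_of_ne (fun h0 => hkl (congrArg Subtype.val h0))
        (fun h0 => hka (congrArg Subtype.val h0))
    rw [he, Equiv.Perm.mul_apply, h1, Equiv.swap_apply_right]
  · have h1 : Equiv.swap (⟨l, hl⟩ : {k // k ≠ i ∧ k ≠ j}) ⟨k, hk⟩ ⟨a, ha⟩ = ⟨a, ha⟩ :=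
      Equiv.swap_apply_of_ne_of_ne (fun h0 => hla (congrArg Subtype.val h0).symm)
        (fun h0 => hka (congrArg Subtype.val h0).symm)
    rw [he, Equiv.Perm.mul_apply, Equiv.swap_apply_left, h1]
  · rw [he, Equiv.Perm.mul_apply, Equiv.swap_apply_right, Equiv.swap_apply_left]

/-- `{e ∈ C_P(r_ij) : [W, e] ≤ C_G(V)}` -/
def E : Subgroup G where
  carrier := {e | e ∈ A P ε i j ∧ Good V W e}
  mul_mem' := by
    rintro a b ⟨ha, ha'⟩ ⟨hb, hb'⟩
    refine ⟨mul_mem ha hb, fun w hw => ?_⟩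
    have h1 : w⁻¹ * (a * b) * w * (a * b)⁻¹ = (w⁻¹ * a * w * a⁻¹) * (a * (w⁻¹ * b * w * b⁻¹) * a⁻¹) := by
      group
    rw [h1]
    exact mul_mem (ha' w hw) (conj_cent (h.even.le_normalizer ha.1) (hb' w hw))
  one_mem' := by
    refine ⟨one_mem _, fun w _ => ?_⟩
    have h1 : w⁻¹ * 1 * w * (1 : G)⁻¹ = 1 := by group
    rw [h1]
    exact one_mem _
  inv_mem' := by
    rintro a ⟨ha, ha'⟩
    refine ⟨inv_mem ha, fun w hw => ?_⟩
    have h1 : w⁻¹ * a⁻¹ * w * a⁻¹⁻¹ = a⁻¹ * (w⁻¹ * a * w * a⁻¹)⁻¹ * a⁻¹⁻¹ := by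
      group
    rw [h1]
    exact conj_cent (inv_mem (h.even.le_normalizer ha.1)) (inv_mem (ha' w hw))

theorem mem_E {e : G} : e ∈ h.E ↔ e ∈ A P ε i j ∧ Good V W e := Iff.rfl

theorem conj_E {v e : G} (hv : v ∈ A P ε i j) (he : e ∈ h.E) : v * e * v⁻¹ ∈ h.E := by
  refine ⟨mul_mem (mul_mem hv he.1) (inv_mem hv), fun w hw => ?_⟩
  have h1 : w⁻¹ * (v * e * v⁻¹) * w * (v * e * v⁻¹)⁻¹ =
      v * ((v⁻¹ * w * v)⁻¹ * e * (v⁻¹ * w * v) * e⁻¹) * v⁻¹ := by
    group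
  rw [h1]
  have h2 := h.conjW (inv_mem hv) hw
  rw [inv_inv] at h2
  exact conj_cent (h.even.le_normalizer hv.1) (he.2 _ h2)

theorem rr_mem_E' [Finite G] (hidx : P.relIndex W ≤ 2 ^ (m - 1)) {a b : Fin (2 ^ m + 1)}
    (ha : a ≠ i ∧ a ≠ j) (hb : b ≠ i ∧ b ≠ j) (hab : a ≠ b) : rr ε a b ∈ h.E := by
  obtain ⟨c, hc, hca, hcb⟩ := h.base.exists_third a b
  obtain ⟨e, he1, he2, he3, -, -⟩ := h.exists_cycle hidx ha hb hc hab hca.symm hcb.symm
  have heE : e ∈ h.E := ⟨he1, he2⟩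
  have h1 := h.conj_E (h.base.V_le_A (zz_mem h.even a)) heE
  have h2 := mul_mem h1 (inv_mem heE)
  have h3 : zz ε a * e * (zz ε a)⁻¹ * e⁻¹ = rr ε a b := by
    unfold rr
    rw [← he3, zz_inv h.even a]
    group
  rwa [h3] at h2

/-- `E` commutes with the conjugation by `W` on `V`. -/
theorem equiv [Finite G] {e w v : G} (he : e ∈ h.E) (hw : w ∈ W) (hv : v ∈ V) :
    e * (w * v * w⁻¹) * e⁻¹ = w * (e * v * e⁻¹) * w⁻¹ := by
  have hκ := he.2 w hw
  rw [mem_centralizer_iff] at hκ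
  have h1 := hκ _ ((mem_normalizer_iff.mp (h.even.le_normalizer he.1.1) v).mp hv)
  set κ := w⁻¹ * e * w * e⁻¹ with hκ'
  have h2 : e * w = w * κ * e := by rw [hκ']; group
  calc e * (w * v * w⁻¹) * e⁻¹ = (e * w) * v * (e * w)⁻¹ := by group
    _ = w * (κ * (e * v * e⁻¹)) * κ⁻¹ * w⁻¹ := by rw [h2]; group
    _ = w * (e * v * e⁻¹ * κ) * κ⁻¹ * w⁻¹ := by rw [h1]
    _ = w * (e * v * e⁻¹) * w⁻¹ := by group

/-- If `w` commutes with `v ∈ V`, it commutes with `v ^ e`, `e ∈ E`. -/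
theorem comm_conj [Finite G] {e w v : G} (he : e ∈ h.E) (hw : w ∈ W) (hv : v ∈ V) (hc : w * v = v * w) :
    w * (e * v * e⁻¹) = e * v * e⁻¹ * w := by
  have h1 := h.equiv he hw hv
  have h2 : w * v * w⁻¹ = v := by rw [hc, mul_inv_cancel_right]
  rw [h2] at h1
  calc w * (e * v * e⁻¹) = w * (e * v * e⁻¹) * w⁻¹ * w := by group
    _ = e * v * e⁻¹ * w := by rw [← h1]

/-- `|W : W ∩ P| ≤ 2^(m-1)` -/
theorem relIndex_le [Finite G] : P.relIndex W ≤ 2 ^ (m - 1) := by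
  have h2 : Fact (Nat.Prime 2) := ⟨Nat.prime_two⟩
  set T := S ⊓ centralizer ({rr ε i j} : Set G) with hT
  have hTW : T ≤ normalizer (W : Set G) := fun t ht => h.nN (h.PN.symm ▸ (⟨h.le ht.1, ht.2⟩ : t ∈ A P ε i j) : t ∈ P ⊓ N).2
  have hTp : IsPGroup 2 T := h.isP.to_le inf_le_left
  have h1 : IsPGroup 2 (W ⊔ T : Subgroup G) := by
    have := h.isPW.to_sup_of_normal_left' hTp hTW
    exact this
  have h3 := h.max _ h1
  have h4 := Hyp.card_sup_mul' hTW
  have h5 : Nat.card T * T.relIndex S = Nat.card S := Hyp.card_mul_relIndex' inf_le_left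
  have h6 : Nat.card (W ⊓ T : Subgroup G) * (W ⊓ T).relIndex W = Nat.card W :=
    Hyp.card_mul_relIndex' inf_le_left
  rw [inf_relIndex_left] at h6
  have h7 : T.relIndex W ≤ T.relIndex S := by
    have hTpos : 0 < Nat.card T := Nat.card_pos
    have hWpos : 0 < Nat.card (W ⊓ T : Subgroup G) := Nat.card_pos
    have h8 : Nat.card T * T.relIndex W * Nat.card (W ⊓ T : Subgroup G) ≤
        Nat.card T * T.relIndex S * Nat.card (W ⊓ T : Subgroup G) := by
      calc Nat.card T * T.relIndex W * Nat.card (W ⊓ T : Subgroup G)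
          = Nat.card (W ⊓ T : Subgroup G) * T.relIndex W * Nat.card T := by ring
        _ = Nat.card (W ⊔ T : Subgroup G) * Nat.card (W ⊓ T : Subgroup G) := by rw [h6, h4]
        _ ≤ Nat.card S * Nat.card (W ⊓ T : Subgroup G) := Nat.mul_le_mul_right _ h3
        _ = _ := by rw [← h5]
    have h9 := Nat.le_of_mul_le_mul_right h8 hWpos
    exact Nat.le_of_mul_le_mul_left h9 hTpos
  have h8 : P.relIndex W ≤ T.relIndex W := by
    refine relIndex_le_of_le_left (inf_le_left.trans h.le) ?_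
    rw [relIndex]
    exact FiniteIndex.index_ne_zero
  exact (h8.trans h7).trans h.base.relIndex_S_le

theorem Vn_le_E [Finite G] : Vn ε i j ≤ h.E := by
  rw [Vn, closure_le]
  rintro _ ⟨k, l, hk, hl, rfl⟩
  by_cases hkl : k = l
  · subst hkl
    have h0 : rr ε k k = 1 := zz_sq h.even k
    rw [h0]
    exact one_mem _
  · exact h.rr_mem_E' h.relIndex_le hk hl hkl

/-- `w v w⁻¹` commutes with `V` for `v ∈ V_n`, `w ∈ W`. -/
theorem comm_V [Finite G] {u v w : G} (hu : u ∈ V) (hv : v ∈ Vn ε i j) (hw : w ∈ W) :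
    u * (w * v * w⁻¹) = w * v * w⁻¹ * u := by
  have h1 := (h.Vn_le_E hv).2 w⁻¹ (inv_mem hw)
  rw [inv_inv, mem_centralizer_iff] at h1
  have hvV : v ∈ V := Vn_le h.even hv
  have h2 := h1 u hu
  calc u * (w * v * w⁻¹) = u * (w * v * w⁻¹ * v⁻¹) * v := by group
    _ = w * v * w⁻¹ * v⁻¹ * (u * v) := by rw [h2]; group
    _ = w * v * w⁻¹ * v⁻¹ * (v * u) := by rw [h.even.comm_mem hu hvV]
    _ = w * v * w⁻¹ * u := by group

end HypD

section

variable {m : ℕ} {V P S W N : Subgroup G} {ε : (Fin (2 ^ m + 1) → ZMod 2) → G} {i j : Fin (2 ^ m + 1)}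

/-- `E` induces all 3-cycles off `{i, j}` (and fixes `i` and `j`). -/
theorem cycle3 [Finite G] (h : HypD V P S W N ε i j) {a b c : Fin (2 ^ m + 1)} (ha : a ≠ i ∧ a ≠ j)
    (hb : b ≠ i ∧ b ≠ j) (hc : c ≠ i ∧ c ≠ j) (hab : a ≠ b) (hbc : b ≠ c) (hac : a ≠ c) :
    ∃ e ∈ h.E, Acts ε e (Equiv.swap a b * Equiv.swap b c) := by
  classical
  let τ : Equiv.Perm {k : Fin (2 ^ m + 1) // k ≠ i ∧ k ≠ j} :=
    Equiv.swap ⟨a, ha⟩ ⟨b, hb⟩ * Equiv.swap ⟨b, hb⟩ ⟨c, hc⟩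
  have hτ : τ.IsThreeCycle := by
    have h1 := Equiv.Perm.isThreeCycle_swap_mul_swap_same (a := (⟨b, hb⟩ : {k // k ≠ i ∧ k ≠ j}))
      (b := ⟨a, ha⟩) (c := ⟨c, hc⟩) (fun h0 => hab (congrArg Subtype.val h0).symm)
      (fun h0 => hbc (congrArg Subtype.val h0)) (fun h0 => hac (congrArg Subtype.val h0))
    rwa [Equiv.swap_comm (⟨b, hb⟩ : {k // k ≠ i ∧ k ≠ j}) ⟨a, ha⟩] at h1
  obtain ⟨e, he, heG⟩ := h.exists_good h.relIndex_le hτ.inv
  have heE : (e : G) ∈ h.E := ⟨e.2, heG⟩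
  refine ⟨e * e, mul_mem heE heE, ?_⟩
  have h1 := (h.base.acts_phi e).mul (h.base.acts_phi e)
  have h2 : h.base.phi e * h.base.phi e = Equiv.swap a b * Equiv.swap b c := by
    have h3 : ∀ k : {k : Fin (2 ^ m + 1) // k ≠ i ∧ k ≠ j}, h.base.phi e k = (τ⁻¹ k : {k // k ≠ i ∧ k ≠ j}) := by
      intro k
      rw [← h.base.psi_apply, he]
    have h4 : τ⁻¹ * τ⁻¹ = τ := by
      have h5 : τ ^ 3 = 1 := by
        rw [← hτ.orderOf]
        exact pow_orderOf_eq_one τ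
      calc τ⁻¹ * τ⁻¹ = τ⁻¹ * τ⁻¹ * τ ^ 3 := by rw [h5, mul_one]
        _ = τ := by group
    ext k
    congr 1
    rw [Equiv.Perm.mul_apply]
    by_cases hki : k = i
    · subst hki
      rw [Equiv.Perm.mul_apply, Equiv.swap_apply_of_ne_of_ne hb.1.symm hc.1.symm,
        Equiv.swap_apply_of_ne_of_ne ha.1.symm hb.1.symm]
      rcases h.base.phi_pair e with ⟨h5, -⟩ | ⟨h5, h6⟩
      · rw [h5, h5]
      · rw [h5, h6]
    · by_cases hkj : k = j
      · subst hkj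
        rw [Equiv.Perm.mul_apply, Equiv.swap_apply_of_ne_of_ne hb.2.symm hc.2.symm,
          Equiv.swap_apply_of_ne_of_ne ha.2.symm hb.2.symm]
        rcases h.base.phi_pair e with ⟨-, h5⟩ | ⟨h5, h6⟩
        · rw [h5, h5]
        · rw [h6, h5]
      · have h5 := h3 ⟨k, hki, hkj⟩
        have h6 := h3 (τ⁻¹ ⟨k, hki, hkj⟩)
        change h.base.phi e k = _ at h5
        rw [h5, h6]
        have h7 : τ⁻¹ (τ⁻¹ ⟨k, hki, hkj⟩) = τ ⟨k, hki, hkj⟩ := by
          rw [← Equiv.Perm.mul_apply, h4]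
        rw [h7]
        have h8 : Equiv.Perm.ofSubtype τ = Equiv.swap a b * Equiv.swap b c := by
          change Equiv.Perm.ofSubtype (Equiv.swap _ _ * Equiv.swap _ _) = _
          rw [map_mul, Equiv.Perm.ofSubtype_swap_eq, Equiv.Perm.ofSubtype_swap_eq]
        rw [← h8, Equiv.Perm.ofSubtype_apply_of_mem τ (⟨hki, hkj⟩ : k ≠ i ∧ k ≠ j)]
  rwa [h2] at h1

theorem AA_comm [Finite G] (h : HypD V P S W N ε i j) : ∀ x ∈ AA W ε i j, ∀ y ∈ AA W ε i j, x * y = y * x := by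
  have h1 : IsMulCommutative (AA W ε i j) := by
    refine isMulCommutative_closure ?_
    rintro _ ⟨w, hw, v, hv, rfl⟩ _ ⟨w', hw', v', hv', rfl⟩
    have h2 := h.comm_V (Vn_le h.even hv) hv' (mul_mem (inv_mem hw) hw')
    calc w * v * w⁻¹ * (w' * v' * w'⁻¹) = w * (v * (w⁻¹ * w' * v' * (w⁻¹ * w')⁻¹)) * w⁻¹ := by group
      _ = w * (w⁻¹ * w' * v' * (w⁻¹ * w')⁻¹ * v) * w⁻¹ := by rw [h2]
      _ = _ := by group
  intro x hx y hy
  exact congrArg Subtype.val (h1.is_comm.comm (⟨x, hx⟩ : AA W ε i j) ⟨y, hy⟩)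

theorem AA_sq [Finite G] (h : HypD V P S W N ε i j) {x : G} (hx : x ∈ AA W ε i j) : x * x = 1 := by
  have hc := AA_comm h
  have key : ∀ x (hx : x ∈ closure {x | ∃ w ∈ W, ∃ v ∈ Vn ε i j, x = w * v * w⁻¹}), x * x = 1 := by
    intro x hx
    induction hx using closure_induction with
    | mem x hx =>
      obtain ⟨w, hw, v, hv, rfl⟩ := hx
      calc w * v * w⁻¹ * (w * v * w⁻¹) = w * (v * v) * w⁻¹ := by group
        _ = 1 := by
          rw [h.even.sq_mem (Vn_le h.even hv)]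
          group
    | one => exact one_mul 1
    | mul x y hx' hy' hx hy =>
      calc x * y * (x * y) = x * (y * x) * y := by group
        _ = x * (x * y) * y := by rw [hc y hy' x hx']
        _ = (x * x) * (y * y) := by group
        _ = 1 := by rw [hx, hy, one_mul]
    | inv x _ hx =>
      rw [← mul_inv_rev, hx, inv_one]
  exact key x hx

theorem AA_WE [Finite G] (h : HypD V P S W N ε i j) {w e x : G} (hw : w ∈ W) (he : e ∈ h.E) (hx : x ∈ AA W ε i j) :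
    w * (e * x * e⁻¹) * w⁻¹ = e * (w * x * w⁻¹) * e⁻¹ := by
  unfold AA at hx
  induction hx using closure_induction with
  | mem x hx =>
    obtain ⟨w', hw', v, hv, rfl⟩ := hx
    have h1 := h.equiv he hw' (Vn_le h.even hv)
    have h2 := h.equiv he (mul_mem hw hw') (Vn_le h.even hv)
    calc w * (e * (w' * v * w'⁻¹) * e⁻¹) * w⁻¹ = w * (w' * (e * v * e⁻¹) * w'⁻¹) * w⁻¹ := by rw [h1]
      _ = w * w' * (e * v * e⁻¹) * (w * w')⁻¹ := by group
      _ = e * (w * w' * v * (w * w')⁻¹) * e⁻¹ := h2.symm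
      _ = _ := by group
  | one => group
  | mul x y _ _ hx hy =>
    calc w * (e * (x * y) * e⁻¹) * w⁻¹ = (w * (e * x * e⁻¹) * w⁻¹) * (w * (e * y * e⁻¹) * w⁻¹) := by group
      _ = e * (w * x * w⁻¹) * e⁻¹ * (e * (w * y * w⁻¹) * e⁻¹) := by rw [hx, hy]
      _ = _ := by group
  | inv x _ hx =>
    calc w * (e * x⁻¹ * e⁻¹) * w⁻¹ = (w * (e * x * e⁻¹) * w⁻¹)⁻¹ := by group
      _ = (e * (w * x * w⁻¹) * e⁻¹)⁻¹ := by rw [hx]
      _ = _ := by group

/-- #13864 (A3). -/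
theorem exists_phi [Finite G] (h : HypD V P S W N ε i j) {Q : Subgroup G}
    (hWc : ∀ g ∈ N, (∀ w ∈ W, g * w = w * g) → g ∈ W)
    (hQP : Q ≤ P) (hQ2 : IsPGroup 2 Q) (hQV : Q ≤ centralizer (V : Set G))
    (hQc : ∀ g : G, (∀ q ∈ Q, g * q = q * g) → g ∈ Q) :
    ∃ φ : G → G, (∀ v ∈ Vn ε i j, ∀ v' ∈ Vn ε i j, φ (v * v') = φ v * φ v') ∧
      (∀ v ∈ Vn ε i j, φ v = 1 → v = 1) ∧
      (∀ v ∈ Vn ε i j, φ v ∈ W ∧ (∀ w ∈ W, φ v * w = w * φ v) ∧ φ v ∈ Q ∧ (∀ q ∈ Q, φ v * q = q * φ v) ∧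
        φ v * φ v = 1) ∧
      ∀ σ ∈ St i j, ∃ g ∈ P ⊓ NN ε i j, Acts ε g σ ∧ ∀ v ∈ Vn ε i j, g * v * g⁻¹ ∈ Vn ε i j ∧
        φ (g * v * g⁻¹) = g * φ v * g⁻¹ := by
  classical
  have hf : Fact (Nat.Prime 2) := ⟨Nat.prime_two⟩
  have h5 := h.base.five
  let D : Subgroup G := P ⊓ NN ε i j
  have hQD : Q ≤ D := by
    intro q hq
    exact ⟨hQP hq, mem_NN.mpr (mem_centralizer_iff.mp (hQV hq) _ (rr_mem h.even i j)).symm⟩
  -- a Sylow 2-subgroup of `C_P(n)` containing `Q`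
  obtain ⟨T0, hT0⟩ : ∃ T0 : Sylow 2 D, Q.subgroupOf D ≤ T0 :=
    (hQ2.comap_of_injective D.subtype D.subtype_injective).exists_le_sylow
  let T : Subgroup G := (T0 : Subgroup D).map D.subtype
  have hTD : T ≤ D := map_subtype_le _
  have hT2 : IsPGroup 2 T := T0.isPGroup'.map _
  have hQT : Q ≤ T := by
    intro q hq
    exact ⟨⟨q, hQD hq⟩, hT0 hq, rfl⟩
  have hTodd : ¬ 2 ∣ T.relIndex D := by
    have h1 : T.subgroupOf D = T0 := comap_map_eq_self_of_injective D.subtype_injective _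
    rw [relIndex, h1]
    exact T0.not_dvd_index
  have hSt : ∀ g ∈ D, ∀ v ∈ Vn ε i j, g * v * g⁻¹ ∈ Vn ε i j := by
    intro g hg v hv
    obtain ⟨σ, hσ⟩ := h.even.perm g hg.1
    exact Vn_conj hσ (mem_St_of h5 h.even h.ne hσ hg.2) hv
  have hED : h.E ≤ D := fun e he => he.1
  obtain ⟨k, hk, -, -⟩ := h.base.exists_third i j
  obtain ⟨l, hl, hlk, -⟩ := h.base.exists_third k k
  obtain ⟨φ, f1, f2, f3, f4, f5⟩ := exists_hom (Vn := Vn ε i j) (A := AA W ε i j) (E := h.E) (W := W) (T := T)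
    (fun v hv => subset_closure ⟨1, W.one_mem, v, hv, by group⟩)
    (fun h0 => by
      have h1 : rr ε k l ∈ Vn ε i j := rr_mem_Vn hk hl
      rw [h0, mem_bot] at h1
      exact rr_ne_one h.even h.three hlk.symm h1)
    (AA_comm h) (fun a ha => AA_sq h ha) h.isPW hT2
    (fun e he => hSt e (hED he)) (fun t ht => hSt t (hTD ht))
    (fun w hw a ha => AA_conjW hw ha)
    (fun t ht a ha => AA_conj (fun w hw => h.conjW (hTD ht) hw) (hSt t (hTD ht)) ha)
    (fun t ht w hw => h.conjW (hTD ht) hw)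
    (fun t ht e he => h.conj_E (hTD ht) he)
    (fun w hw e he a ha => AA_WE h hw he ha)
  have hfull : ∀ σ ∈ St i j, ∃ g ∈ h.E ⊔ T, Acts ε g σ := by
    refine full_of h.two_le h.even h.ne (sup_le hED hTD) (fun h0 => hTodd (h0.trans ?_)) ?_
    · exact relIndex_dvd_of_le_left _ le_sup_right
    · intro a b c ha hb hc hab hbc hac
      obtain ⟨e, he, h1⟩ := cycle3 h ha hb hc hab hbc hac
      exact ⟨e, mem_sup_left he, h1⟩
  have hodd : (2 ^ m + 1) % 2 = 1 := by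
    obtain ⟨k, hk⟩ := odd_n (m := m) (by have := h.two_le; omega)
    omega
  refine ⟨φ, f2, fun v hv hv1 => phi_inj hodd h.even h.ne f2 f3 (fun g hg v hv => (f5 g hg v hv).2) hfull hv hv1,
    fun v hv => ?_, fun σ hσ => ?_⟩
  · have hcW : ∀ w ∈ W, φ v * w = w * φ v := by
      intro w hw
      have h1 := f4 w hw v hv
      calc φ v * w = w * φ v * w⁻¹ * w := by rw [h1]
        _ = w * φ v := by group
    have hcQ : ∀ q ∈ Q, φ v * q = q * φ v := by
      intro q hq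
      have h1 := (f5 q (mem_sup_right (hQT hq)) v hv).2
      have h2 : q * v * q⁻¹ = v := by
        rw [← mem_centralizer_iff.mp (hQV hq) v (Vn_le h.even hv), mul_inv_cancel_right]
      rw [h2] at h1
      calc φ v * q = q * φ v * q⁻¹ * q := by rw [← h1]
        _ = q * φ v := by group
    have hAN : AA W ε i j ≤ N := by
      rw [AA, closure_le]
      rintro _ ⟨w, hw, u, hu, rfl⟩
      have hwN : w ∈ N := h.leN hw
      have huN : u ∈ N := (h.PN.symm ▸ h.base.V_le_A (Vn_le h.even hu) : u ∈ P ⊓ N).2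
      exact mul_mem (mul_mem hwN huN) (inv_mem hwN)
    exact ⟨hWc _ (hAN (f1 v hv)) hcW, hcW, hQc _ hcQ, hcQ, AA_sq h (f1 v hv)⟩
  · obtain ⟨g, hg, hgσ⟩ := hfull σ hσ
    exact ⟨g, sup_le hED hTD hg, hgσ, f5 g hg⟩


end


/-! ### `V_n ≤ Z(O₂(C_G(n d)))` -/

open Cfsg.Agent.ZN (o2 zc zl)
open Cfsg.Agent.MinSimple.VModule (o2_le o2_isPGroup le_normalizer_o2 mem_zc)
open Cfsg.Agent.MinSimple.Geo (inf_centralizer_o2_le isTwoLocal_centralizer)
open Cfsg.Agent.Omega.MinPar Cfsg.Agent.Omega.F4Leaf.App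

/-- **`V_n ≤ Z(O₂(C_G(n d)))`**, `d` central in `P`. -/
theorem Vn_cen_mul [Finite G] (hG : IsCharacteristicTwoType G) (S : Sylow 2 G) {P A₀ V₀ : Subgroup G} {m : ℕ}
    (hm : 2 ≤ m) {ε : (Fin (2 ^ m + 1) → ZMod 2) → G} (h : EvenSet (2 ^ m + 1) A₀ P ε)
    (hP : IsParS (S : Subgroup G) P) (h0 : Fix0 ε (S : Subgroup G)) (hV0 : ∀ v ∈ V₀, ∀ g ∈ P, g * v = v * g)
    (hV : ∀ v ∈ zl (S : Subgroup G) P, ∃ c ∈ V₀, ∃ a ∈ A₀, v = c * a) (hA : A₀ ≤ zl (S : Subgroup G) P)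
    {d : G} (hd : ∀ g ∈ P, g * d = d * g) (hd2 : d * d = 1)
    (hne : ∀ i j : Fin (2 ^ m + 1), i ≠ j → rr ε i j * d ≠ 1)
    {i j : Fin (2 ^ m + 1)} (hij : i ≠ j) {v : G} (hv : v ∈ Vn ε i j) :
    v ∈ o2 (centralizer ({rr ε i j * d} : Set G)) ∧
      ∀ x ∈ o2 (centralizer ({rr ε i j * d} : Set G)), v * x = x * v := by
  have hf : Fact (Nat.Prime 2) := ⟨Nat.prime_two⟩
  have hn : 3 ≤ 2 ^ m + 1 := three_le (by omega)
  have hSP : (S : Subgroup G) ≤ P := hP.le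
  have hS2 : ¬ 2 ∣ (S : Subgroup G).relIndex P := MinSimple.Basic.not_dvd_relIndex S hSP
  have hinf := hP.inf_centralizer S hG
  have hQS : o2 P ≤ (S : Subgroup G) := by
    rw [← hinf]
    exact inf_le_left
  have hQz : o2 P ≤ centralizer (zl (S : Subgroup G) P : Set G) := by
    rw [← hinf]
    exact inf_le_right
  -- `C_G(O₂(P)) ≤ O₂(P)`
  have hQc : ∀ g : G, (∀ q ∈ o2 P, g * q = q * g) → g ∈ o2 P := by
    intro g hg
    have h1 := hP.isLoc.normalizer_o2 S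
    have h2 : o2 (normalizer (o2 P : Set G)) ≤ o2 P := o2_le_o2 S hSP (le_normalizer_o2 P)
    have h3 : g ∈ centralizer (o2 P : Set G) := mem_centralizer_iff.mpr fun q hq => (hg q hq).symm
    have h4 : g ∈ centralizer (o2 (normalizer (o2 P : Set G)) : Set G) :=
      mem_centralizer_iff.mpr fun q hq => (hg q (h2 hq)).symm
    exact h2 (h1.char2 S hG ⟨centralizer_le_normalizer _ h3, h4⟩)
  have hSA : ∀ s ∈ (S : Subgroup G), s ∈ centralizer (A₀ : Set G) → s ∈ o2 P := by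
    intro s hs hsA
    rw [← hinf]
    refine ⟨hs, mem_centralizer_iff.mpr fun v hv => ?_⟩
    obtain ⟨c, hc, a, ha, rfl⟩ := hV v hv
    have h1 := mem_centralizer_iff.mp hsA a ha
    calc c * a * s = c * (a * s) := by group
      _ = c * s * a := by rw [h1, mul_assoc]
      _ = s * (c * a) := by rw [← hV0 c hc s (hSP hs), mul_assoc]
  have hB : Big (S : Subgroup G) P V₀ A₀ (zc (o2 P)) ε :=
    { ev := h
      fix0 := h0
      le := hSP
      comm := fun y hy y' hy' => (mem_zc.mp hy').2.1 y (mem_zc.mp hy).1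
      sq := fun y hy => by rw [← pow_two]; exact (mem_zc.mp hy).2.2
      ge := hA.trans (hP.isLoc.zl_le S hG)
      nrm := fun g hg y hy => (mem_normalizer_iff.mp
        (MinSimple.VModule.normalizer_le_normalizer_zc _ (le_normalizer_o2 P hg)) y).mp hy
      syl := fun s hs hsA => by
        rw [mem_centralizer_iff]
        intro y hy
        exact ((mem_zc.mp hy).2.1 s (hSA s hs hsA)).symm
      cz := hV0
      fixed := fun y hy hys => by
        have h1 : y ∈ zc (S : Subgroup G) := mem_zc.mpr ⟨hQS (mem_zc.mp hy).1, hys, (mem_zc.mp hy).2.2⟩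
        obtain ⟨c, hc, a, ha, rfl⟩ := hV y (MinSimple.VModule.zc_le_zl _ _ h1)
        refine ⟨c, hc, ?_⟩
        have h2 : ∀ s ∈ (S : Subgroup G), s * a = a * s := by
          intro s hs
          have h3 := hys s hs
          have h4 := hV0 c hc s (hSP hs)
          have h5 : c * (s * a) = c * (a * s) := by
            calc c * (s * a) = s * (c * a) := by rw [← mul_assoc, ← h4, mul_assoc]
              _ = c * (a * s) := by rw [h3, mul_assoc]
          exact mul_left_cancel h5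
        rcases fixed (by omega) h hSP hS2 h0 ha h2 with h3 | h3
        · left
          rw [h3, mul_one]
        · right
          rw [h3] }
  -- a pair whose transposition is induced by `S`
  obtain ⟨i0, j0, hij0, hsw⟩ := exists_swap (by omega) h hSP hS2 S.isPGroup'
  have hAP : A₀ ≤ P := hA.trans ((hP.isLoc.zl_le S hG).trans ((MinSimple.VModule.zc_le _).trans (hQS.trans hSP)))
  have hyp : HypD A₀ P (S : Subgroup G) (o2 (centralizer ({rr ε i0 j0 * d} : Set G)))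
      (centralizer ({rr ε i0 j0 * d} : Set G)) ε i0 j0 :=
    { even := h
      VP := hAP
      two_le := hm
      le := hSP
      isP := S.isPGroup'
      max := fun T hT => by
        obtain ⟨R, hR⟩ := hT.exists_le_sylow
        have h1 : Nat.card (R : Subgroup G) = Nat.card (S : Subgroup G) := by
          rw [R.card_eq_multiplicity, S.card_eq_multiplicity]
        rw [← h1]
        exact Subgroup.card_le_of_le hR
      fix0 := h0
      ne := hij0
      swap := hsw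
      isPW := o2_isPGroup _
      leN := o2_le _
      nN := le_normalizer_o2 _
      PN := by
        ext g
        rw [A, mem_inf, mem_inf, mem_centralizer_singleton_iff, mem_centralizer_singleton_iff]
        refine and_congr_right fun hg => ?_
        have h1 := hd g hg
        constructor
        · intro h2
          have h3 : g * rr ε i0 j0 * d = rr ε i0 j0 * g * d := by
            calc g * rr ε i0 j0 * d = g * (rr ε i0 j0 * d) := by group
              _ = rr ε i0 j0 * (d * g) := by rw [h2]; group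
              _ = rr ε i0 j0 * g * d := by rw [← h1]; group
          exact mul_right_cancel h3
        · intro h2
          calc g * (rr ε i0 j0 * d) = (g * rr ε i0 j0) * d := by group
            _ = rr ε i0 j0 * (g * d) := by rw [h2]; group
            _ = rr ε i0 j0 * d * g := by rw [h1]; group }
  have hrd : rr ε i0 j0 * d = d * rr ε i0 j0 := hd _ (hAP (rr_mem h i0 j0))
  have hr2 : (rr ε i0 j0 * d) * (rr ε i0 j0 * d) = 1 := by
    calc (rr ε i0 j0 * d) * (rr ε i0 j0 * d) = rr ε i0 j0 * (d * rr ε i0 j0) * d := by group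
      _ = (rr ε i0 j0 * rr ε i0 j0) * (d * d) := by rw [← hrd]; group
      _ = 1 := by rw [rr_sq h, hd2, one_mul]
  have hWc : ∀ g ∈ centralizer ({rr ε i0 j0 * d} : Set G),
      (∀ w ∈ o2 (centralizer ({rr ε i0 j0 * d} : Set G)), g * w = w * g) →
        g ∈ o2 (centralizer ({rr ε i0 j0 * d} : Set G)) := by
    intro g hg hgw
    exact inf_centralizer_o2_le hG (isTwoLocal_centralizer hr2 (hne _ _ hij0))
      ⟨hg, mem_centralizer_iff.mpr fun w hw => (hgw w hw).symm⟩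
  obtain ⟨φ, f1, f2, f3, f4⟩ := exists_phi hyp hWc (Q := o2 P) (o2_le P) (o2_isPGroup P)
    (hQz.trans (centralizer_le hA)) hQc
  have hmain := hB.phi_eq hm hS2 S.isPGroup' hij0 (φ := φ) (fun v hv => by
      obtain ⟨-, -, h3, h4, h5⟩ := f3 v hv
      refine mem_zc.mpr ⟨h3, fun b hb => (h4 b hb).symm, ?_⟩
      rw [pow_two]
      exact h5) f1 (fun σ hσ => by
      obtain ⟨g, hg, hgσ, h3⟩ := f4 σ hσ
      exact ⟨g, hg.1, hgσ, fun v hv => (h3 v hv).2⟩)
  have hid : ∀ v ∈ Vn ε i0 j0, φ v = v := by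
    rcases hmain with h1 | h1
    · exfalso
      obtain ⟨k, hk, -, -⟩ := hyp.base.exists_third i0 j0
      obtain ⟨l, hl, hlk, -⟩ := hyp.base.exists_third k k
      exact rr_ne_one h hn hlk.symm (f2 _ (rr_mem_Vn hk hl) (h1 _ (rr_mem_Vn hk hl)))
    · exact h1
  have hcen : ∀ v ∈ Vn ε i0 j0, v ∈ o2 (centralizer ({rr ε i0 j0 * d} : Set G)) ∧
      ∀ x ∈ o2 (centralizer ({rr ε i0 j0 * d} : Set G)), v * x = x * v := by
    intro v hv
    obtain ⟨h1, h2, -, -, -⟩ := f3 v hv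
    rw [hid v hv] at h1 h2
    exact ⟨h1, h2⟩
  -- all pairs
  obtain ⟨σ, h1, h2, -⟩ := NSix.Basic.exists_perm hij hij0
  obtain ⟨g, hg, hσ⟩ := h.full σ
  have hgv : g * v * g⁻¹ ∈ Vn ε i0 j0 := by
    have key : ∀ v ∈ Vn ε i j, g * v * g⁻¹ ∈ Vn ε (σ i) (σ j) := by
      intro v hv
      unfold Vn at hv
      induction hv using closure_induction with
      | mem x hx =>
        obtain ⟨k, l, hk, hl, rfl⟩ := hx
        rw [rr_conj hσ]
        exact rr_mem_Vn ⟨σ.injective.ne hk.1, σ.injective.ne hk.2⟩ ⟨σ.injective.ne hl.1, σ.injective.ne hl.2⟩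
      | one =>
        rw [mul_one, mul_inv_cancel]
        exact one_mem _
      | mul x y _ _ hx hy =>
        have : g * (x * y) * g⁻¹ = (g * x * g⁻¹) * (g * y * g⁻¹) := by group
        rw [this]
        exact mul_mem hx hy
      | inv x _ hx =>
        have : g * x⁻¹ * g⁻¹ = (g * x * g⁻¹)⁻¹ := by group
        rw [this]
        exact inv_mem hx
    have h3 := key v hv
    rwa [h1, h2] at h3
  have e1 : g * (rr ε i j * d) * g⁻¹ = rr ε i0 j0 * d := by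
    have h3 := rr_conj hσ i j
    rw [h1, h2] at h3
    calc g * (rr ε i j * d) * g⁻¹ = (g * rr ε i j * g⁻¹) * (g * d) * g⁻¹ := by group
      _ = rr ε i0 j0 * d := by rw [h3, hd g hg]; group
  have e2 : g⁻¹ * (rr ε i0 j0 * d) * g⁻¹⁻¹ = rr ε i j * d := by
    rw [← e1]
    group
  obtain ⟨h3, h4⟩ := hcen _ hgv
  refine ⟨?_, fun x hx => ?_⟩
  · have h5 := NSix.PtCen.conj_o2_cent (g := g⁻¹) h3
    rw [e2] at h5
    have h6 : g⁻¹ * (g * v * g⁻¹) * g⁻¹⁻¹ = v := by group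
    rwa [h6] at h5
  · have h5 := NSix.PtCen.conj_o2_cent (g := g) hx
    rw [e1] at h5
    have h6 := h4 _ h5
    calc v * x = g⁻¹ * ((g * v * g⁻¹) * (g * x * g⁻¹)) * g := by group
      _ = g⁻¹ * ((g * x * g⁻¹) * (g * v * g⁻¹)) * g := by rw [h6]
      _ = x * v := by group

open Cfsg.Agent.Omega.FrameFF (cv)

/-- **(F2)** `V_n ≤ Z(O₂(C_G(n d)))`, `d ∈ V₀`. -/
theorem vn_cen_mul [Finite G] {S : Sylow 2 G} {P : Subgroup G} {m : ℕ} {A₀ : Subgroup G}
    {ε : (Fin (2 ^ m + 1) → ZMod 2) → G} (h : F4Leaf.Pos.Sit S P m A₀ ε) {d : G} (hd : d ∈ cv (S : Subgroup G) P)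
    {i j : Fin (2 ^ m + 1)} (hij : i ≠ j) {v : G} (hv : v ∈ Vn ε i j) :
    v ∈ o2 (centralizer ({rr ε i j * d} : Set G)) ∧
      ∀ x ∈ o2 (centralizer ({rr ε i j * d} : Set G)), v * x = x * v := by
  have hd2 : d * d = 1 := by
    have := h.V_sq (h.V0_le hd)
    rwa [pow_two] at this
  refine Vn_cen_mul h.c2 S h.m2 h.split.even h.par h.split.fix0 (fun _ hv _ hg => h.V0_comm hv hg)
    (fun _ hv => h.mul_eq hv) h.split.A_le (fun g hg => h.V0_comm hd hg) hd2 (fun k l hkl h0 => ?_) hij hv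
  have h1 : rr ε k l = d := by
    have h2 : rr ε k l = d⁻¹ := eq_inv_of_mul_eq_one_left h0
    rw [h2]
    exact inv_eq_of_mul_eq_one_left hd2
  have h2 : rr ε k l ∈ (⊥ : Subgroup G) := by
    rw [← h.split.disj]
    exact ⟨h1 ▸ hd, rr_mem h.split.even k l⟩
  exact rr_ne_one h.split.even h.three hkl (mem_bot.1 h2)

end Cfsg.Agent.Omega.IId.Cv.VnD
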